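/-
helper43: CORE definitions for the S5634 project (stabiliser of a decomposition into lines =
monomial group is maximal in SL_n(q), q ≥ 5).
Monomial matrices, diagonal elements `dg`, permutation elements `pm`, the property `NET`
("no elementary transvection"), the corner embedding `embSA` of `GL (Fin k)` into `GL (Fin (k+1))`
and the line-stabiliser section `secSL`.
-/
import Mathlib
import Cfsg.Agent.Lib.Helper93.SLGeneration

set_option autoImplicit false
set_option linter.unusedSectionVars false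
set_option linter.unusedVariables false

namespace Cfsg.Agent.Lib.Helper43

open Matrix Cfsg.Geo Cfsg.Agent.Lib.Helper93

variable {ι : Type} [Fintype ι] [DecidableEq ι] {F : Type*} [Field F]

/-! ### monomial matrices -/

/-- a matrix is monomial along the permutation `σ`: the only possibly non-zero entry of column `j`
is in row `σ j` -/
def IsMono (A : Matrix ι ι F) : Prop := ∃ σ : Equiv.Perm ι, ∀ i j, i ≠ σ j → A i j = 0

theorem IsMono.mul {A B : Matrix ι ι F} (hA : IsMono A) (hB : IsMono B) : IsMono (A * B) := by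
  obtain ⟨σ, hσ⟩ := hA
  obtain ⟨τ, hτ⟩ := hB
  refine ⟨σ * τ, fun i k hik => ?_⟩
  rw [Matrix.mul_apply]
  apply Finset.sum_eq_zero
  intro j _
  by_cases hj : j = τ k
  · subst hj
    rw [hσ i (τ k) (by simpa using hik), zero_mul]
  · rw [hτ j k hj, mul_zero]

theorem isMono_one : IsMono (1 : Matrix ι ι F) :=
  ⟨1, fun i j hij => Matrix.one_apply_ne (by simpa using hij)⟩

/-- the diagonal entry along `σ` of an invertible monomial matrix is non-zero -/
theorem IsMono.ne_zero_of_isUnit {A : Matrix ι ι F} {σ : Equiv.Perm ι}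
    (hσ : ∀ i j, i ≠ σ j → A i j = 0) (hA : IsUnit A.det) (j : ι) : A (σ j) j ≠ 0 := by
  intro h0
  have hcol : ∀ i, A i j = 0 := by
    intro i
    by_cases hi : i = σ j
    · rw [hi, h0]
    · exact hσ i j hi
  have : A.det = 0 := Matrix.det_eq_zero_of_column_eq_zero j hcol
  rw [this] at hA
  exact not_isUnit_zero hA

theorem IsMono.inv {g : GL ι F} (hg : IsMono (g : Matrix ι ι F)) :
    IsMono ((g⁻¹ : GL ι F) : Matrix ι ι F) := by
  obtain ⟨σ, hσ⟩ := hg
  refine ⟨σ⁻¹, fun i j hij => ?_⟩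
  -- (g⁻¹ * g) i (σ⁻¹ j) = g⁻¹ i j * g j (σ⁻¹ j)
  have hdet : IsUnit (g : Matrix ι ι F).det := by
    have := (Matrix.isUnit_iff_isUnit_det (g : Matrix ι ι F)).1 g.isUnit
    exact this
  have hne := IsMono.ne_zero_of_isUnit hσ hdet (σ⁻¹ j)
  have h1 : (((g⁻¹ : GL ι F) : Matrix ι ι F) * (g : Matrix ι ι F)) i (σ⁻¹ j) = 0 := by
    rw [← Units.val_mul, inv_mul_cancel, Units.val_one]
    exact Matrix.one_apply_ne hij
  rw [Matrix.mul_apply, Finset.sum_eq_single j] at h1
  · have hj : σ (σ⁻¹ j) = j := by simp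
    rw [hj] at hne
    exact (mul_eq_zero.1 h1).resolve_right hne
  · intro b _ hb
    rw [hσ b (σ⁻¹ j) (by simpa using hb), mul_zero]
  · intro h; exact absurd (Finset.mem_univ j) h

variable (ι F) in
/-- the monomial subgroup of `GL ι F` -/
def Mono : Subgroup (GL ι F) where
  carrier := {g | IsMono (g : Matrix ι ι F)}
  mul_mem' {a b} ha hb := by
    show IsMono ((a * b : GL ι F) : Matrix ι ι F)
    rw [Units.val_mul]
    exact IsMono.mul ha hb
  one_mem' := by
    show IsMono ((1 : GL ι F) : Matrix ι ι F)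
    rw [Units.val_one]
    exact isMono_one
  inv_mem' {a} ha := IsMono.inv ha

theorem mem_Mono {g : GL ι F} : g ∈ Mono ι F ↔ IsMono (g : Matrix ι ι F) := Iff.rfl

/-! ### diagonal elements -/

/-- the diagonal element with entries `d` -/
def dg (d : ι → Fˣ) : GL ι F where
  val := Matrix.diagonal (fun i => (d i : F))
  inv := Matrix.diagonal (fun i => ((d i)⁻¹ : Fˣ))
  val_inv := by
    rw [Matrix.diagonal_mul_diagonal, ← Matrix.diagonal_one]
    congr 1
    funext i
    simp
  inv_val := by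
    rw [Matrix.diagonal_mul_diagonal, ← Matrix.diagonal_one]
    congr 1
    funext i
    simp

@[simp] theorem dg_val (d : ι → Fˣ) :
    ((dg d : GL ι F) : Matrix ι ι F) = Matrix.diagonal (fun i => (d i : F)) := rfl

theorem dg_apply (d : ι → Fˣ) (i j : ι) :
    ((dg d : GL ι F) : Matrix ι ι F) i j = if i = j then (d i : F) else 0 := by
  rw [dg_val, Matrix.diagonal_apply]

theorem dg_mul (d e : ι → Fˣ) : dg d * dg e = dg (d * e) := by
  apply Units.ext
  rw [Units.val_mul, dg_val, dg_val, dg_val, Matrix.diagonal_mul_diagonal]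
  congr 1

theorem dg_one : dg (1 : ι → Fˣ) = 1 := by
  apply Units.ext
  rw [dg_val, Units.val_one, ← Matrix.diagonal_one]
  rfl

theorem dg_inv (d : ι → Fˣ) : (dg d)⁻¹ = dg d⁻¹ := by
  rw [inv_eq_iff_mul_eq_one, dg_mul, mul_inv_cancel, dg_one]

theorem dg_inv_apply (d : ι → Fˣ) (i j : ι) :
    (((dg d)⁻¹ : GL ι F) : Matrix ι ι F) i j = if i = j then (((d i)⁻¹ : Fˣ) : F) else 0 := by
  rw [dg_inv, dg_apply]
  rfl

theorem dg_mem_Mono (d : ι → Fˣ) : dg d ∈ Mono ι F :=
  ⟨1, fun i j hij => by rw [dg_apply, if_neg (by simpa using hij)]⟩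

theorem det_dg (d : ι → Fˣ) : ((dg d : GL ι F) : Matrix ι ι F).det = ∏ i, (d i : F) := by
  rw [dg_val, Matrix.det_diagonal]

theorem dg_mem_specialLinear {d : ι → Fˣ} (hd : ∏ i, d i = 1) : dg d ∈ specialLinear ι F := by
  rw [mem_specialLinear_iff, det_dg, ← Units.coe_prod, hd, Units.val_one]

/-- entries of `g * dg d` -/
theorem mul_dg_apply (g : GL ι F) (d : ι → Fˣ) (i j : ι) :
    ((g * dg d : GL ι F) : Matrix ι ι F) i j = (g : Matrix ι ι F) i j * (d j : F) := by
  rw [Units.val_mul, dg_val, Matrix.mul_diagonal]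

/-- entries of `dg d * g` -/
theorem dg_mul_apply (g : GL ι F) (d : ι → Fˣ) (i j : ι) :
    ((dg d * g : GL ι F) : Matrix ι ι F) i j = (d i : F) * (g : Matrix ι ι F) i j := by
  rw [Units.val_mul, dg_val, Matrix.diagonal_mul]

/-- entries of `g * dg d * g'` -/
theorem mul_dg_mul_apply (g g' : GL ι F) (d : ι → Fˣ) (i k : ι) :
    ((g * dg d * g' : GL ι F) : Matrix ι ι F) i k =
      ∑ j, (g : Matrix ι ι F) i j * (d j : F) * (g' : Matrix ι ι F) j k := by
  rw [Units.val_mul, Matrix.mul_apply]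
  apply Finset.sum_congr rfl
  intro j _
  rw [mul_dg_apply]

/-- the homology `d_a(c)`: diagonal, entry `c` at `a`, `1` elsewhere -/
def dg1 (a : ι) (c : Fˣ) : GL ι F := dg (Function.update 1 a c)

theorem dg1_apply (a : ι) (c : Fˣ) (i j : ι) :
    ((dg1 a c : GL ι F) : Matrix ι ι F) i j =
      if i = j then (if i = a then (c : F) else 1) else 0 := by
  unfold dg1
  rw [dg_apply]
  by_cases hij : i = j
  · rw [if_pos hij, if_pos hij]
    by_cases hia : i = a
    · rw [if_pos hia, hia, Function.update_self]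
    · rw [if_neg hia, Function.update_of_ne hia]; rfl
  · rw [if_neg hij, if_neg hij]

/-- the bi-homology `d_a(c) d_b(c⁻¹)` -/
def dg2 (a b : ι) (c : Fˣ) : GL ι F := dg1 a c * dg1 b c⁻¹

theorem dg2_eq (a b : ι) (c : Fˣ) :
    dg2 a b c = dg (Function.update (1 : ι → Fˣ) a c * Function.update (1 : ι → Fˣ) b c⁻¹) := by
  unfold dg2 dg1
  rw [dg_mul]

theorem dg2_mem_specialLinear {a b : ι} (hab : a ≠ b) (c : Fˣ) :
    dg2 a b c ∈ specialLinear ι F := by
  rw [dg2_eq]
  apply dg_mem_specialLinear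
  simp only [Pi.mul_apply]
  rw [Finset.prod_mul_distrib, Finset.prod_update_of_mem (Finset.mem_univ a),
    Finset.prod_update_of_mem (Finset.mem_univ b)]
  simp

theorem dg2_mem_Mono (a b : ι) (c : Fˣ) : dg2 a b c ∈ Mono ι F := by
  rw [dg2_eq]; exact dg_mem_Mono _

theorem dg1_mem_Mono (a : ι) (c : Fˣ) : dg1 a c ∈ Mono ι F := dg_mem_Mono _

/-! ### permutation elements -/

/-- the permutation matrix mapping `e_j` to `e_{σ j}` -/
def pmMat (σ : Equiv.Perm ι) : Matrix ι ι F := Matrix.of fun i j => if i = σ j then 1 else 0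

theorem pmMat_apply (σ : Equiv.Perm ι) (i j : ι) :
    (pmMat σ : Matrix ι ι F) i j = if i = σ j then 1 else 0 := rfl

theorem pmMat_mul (σ τ : Equiv.Perm ι) : (pmMat σ : Matrix ι ι F) * pmMat τ = pmMat (σ * τ) := by
  ext i k
  rw [Matrix.mul_apply, Finset.sum_eq_single (τ k)]
  · rw [pmMat_apply, pmMat_apply, pmMat_apply, if_pos rfl, mul_one]
    rfl
  · intro b _ hb
    rw [pmMat_apply (σ := τ), if_neg hb, mul_zero]
  · intro h; exact absurd (Finset.mem_univ _) h

theorem pmMat_one : (pmMat (1 : Equiv.Perm ι) : Matrix ι ι F) = 1 := by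
  ext i j
  rw [pmMat_apply, Matrix.one_apply]
  rfl

/-- the permutation element: `pm σ` maps `e_j` to `e_{σ j}` -/
def pm (σ : Equiv.Perm ι) : GL ι F where
  val := pmMat σ
  inv := pmMat σ⁻¹
  val_inv := by rw [pmMat_mul, mul_inv_cancel, pmMat_one]
  inv_val := by rw [pmMat_mul, inv_mul_cancel, pmMat_one]

theorem pm_apply (σ : Equiv.Perm ι) (i j : ι) :
    ((pm σ : GL ι F) : Matrix ι ι F) i j = if i = σ j then 1 else 0 := rfl

theorem pm_inv_apply (σ : Equiv.Perm ι) (i j : ι) :
    (((pm σ)⁻¹ : GL ι F) : Matrix ι ι F) i j = if i = σ⁻¹ j then 1 else 0 := rfl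

theorem pm_mem_Mono (σ : Equiv.Perm ι) : (pm σ : GL ι F) ∈ Mono ι F :=
  ⟨σ, fun i j hij => by rw [pm_apply, if_neg hij]⟩

/-- entries of `pm σ * g`: the rows are permuted -/
theorem pm_mul_apply (σ : Equiv.Perm ι) (g : GL ι F) (i j : ι) :
    ((pm σ * g : GL ι F) : Matrix ι ι F) i j = (g : Matrix ι ι F) (σ⁻¹ i) j := by
  rw [Units.val_mul, Matrix.mul_apply, Finset.sum_eq_single (σ⁻¹ i)]
  · rw [pm_apply]; simp
  · intro b _ hb
    rw [pm_apply, if_neg, zero_mul]
    intro h; apply hb; rw [h]; simp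
  · intro h; exact absurd (Finset.mem_univ _) h

/-- entries of `g * pm σ`: the columns are permuted -/
theorem mul_pm_apply (σ : Equiv.Perm ι) (g : GL ι F) (i j : ι) :
    ((g * pm σ : GL ι F) : Matrix ι ι F) i j = (g : Matrix ι ι F) i (σ j) := by
  rw [Units.val_mul, Matrix.mul_apply, Finset.sum_eq_single (σ j)]
  · rw [pm_apply]; simp
  · intro b _ hb
    rw [pm_apply, if_neg hb, mul_zero]
  · intro h; exact absurd (Finset.mem_univ _) h

theorem det_pm (σ : Equiv.Perm ι) :
    ((pm σ : GL ι F) : Matrix ι ι F).det = ((Equiv.Perm.sign σ : ℤˣ) : ℤ) := by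
  have h : ((pm σ : GL ι F) : Matrix ι ι F) = (σ⁻¹).permMatrix F := by
    ext i j
    rw [pm_apply, Equiv.Perm.permMatrix, PEquiv.toMatrix_apply]
    simp only [Equiv.toPEquiv_apply, Option.mem_def, Option.some.injEq]
    by_cases h : i = σ j
    · rw [if_pos h, if_pos]; rw [h]; simp
    · rw [if_neg h, if_neg]; intro h'; apply h; rw [← h']; simp
  rw [h, Matrix.det_permutation]
  simp

/-! ### no elementary transvection -/

/-- `Y` contains no non-trivial elementary transvection -/
def NET (Y : Subgroup (GL ι F)) : Prop :=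
  ∀ (i j : ι) (hij : i ≠ j) (b : F), elemTv i j hij b ∈ Y → b = 0

/-- entries of an elementary transvection -/
theorem elemTv_apply (i j : ι) (hij : i ≠ j) (b : F) (r s : ι) :
    ((elemTv i j hij b : GL ι F) : Matrix ι ι F) r s =
      (if r = s then 1 else 0) + (if r = i ∧ s = j then b else 0) := by
  unfold elemTv
  rw [tv_val, tvMat, Matrix.add_apply, Matrix.one_apply, Matrix.vecMulVec_apply,
    Pi.single_apply, Pi.single_apply]
  by_cases hr : r = i <;> by_cases hs : s = j <;> simp [hr, hs]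

theorem elemTv_mem_specialLinear (i j : ι) (hij : i ≠ j) (b : F) :
    elemTv i j hij b ∈ specialLinear ι F := tv_mem_specialLinear _ _ _

/-- hypotheses of the GL-theorem -/
structure GLHyp (Y : Subgroup (GL ι F)) : Prop where
  mono_le : Mono ι F ≤ Y
  net : NET Y

/-- hypotheses of the SL-theorem -/
structure SLHyp (M : Subgroup (GL ι F)) : Prop where
  mono_le : Mono ι F ⊓ specialLinear ι F ≤ M
  le_sl : M ≤ specialLinear ι F
  net : NET M

end Cfsg.Agent.Lib.Helper43
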