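/-
helper43: CORE part 2 for the S5634 project: characterisation of monomial elements by rows and
columns, the corner embedding `embSA i₀ : GL (Fin k) F →* GL (Fin (k+1)) F` (identity at `i₀`).
-/
import Mathlib
import Cfsg.Agent.Lib.Helper43.MonoCore

set_option autoImplicit false
set_option linter.unusedSectionVars false
set_option linter.unusedVariables false

namespace Cfsg.Agent.Lib.Helper43

open Matrix Cfsg.Geo Cfsg.Agent.Lib.Helper93

variable {ι : Type} [Fintype ι] [DecidableEq ι] {F : Type*} [Field F]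

/-- rows and columns of a monomial matrix have at most one non-zero entry -/
theorem IsMono.row_unique {A : Matrix ι ι F} (hA : IsMono A) {i j j' : ι} (h1 : A i j ≠ 0)
    (h2 : A i j' ≠ 0) : j = j' := by
  obtain ⟨σ, hσ⟩ := hA
  have e1 : i = σ j := by by_contra h; exact h1 (hσ i j h)
  have e2 : i = σ j' := by by_contra h; exact h2 (hσ i j' h)
  exact σ.injective (e1.symm.trans e2)

theorem IsMono.col_unique {A : Matrix ι ι F} (hA : IsMono A) {i i' j : ι} (h1 : A i j ≠ 0)
    (h2 : A i' j ≠ 0) : i = i' := by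
  obtain ⟨σ, hσ⟩ := hA
  have e1 : i = σ j := by by_contra h; exact h1 (hσ i j h)
  have e2 : i' = σ j := by by_contra h; exact h2 (hσ i' j h)
  exact e1.trans e2.symm

/-- every column of an invertible matrix has a non-zero entry -/
theorem exists_ne_zero_col (g : GL ι F) (j : ι) : ∃ i, (g : Matrix ι ι F) i j ≠ 0 := by
  by_contra hcon
  push Not at hcon
  have hdet : IsUnit (g : Matrix ι ι F).det :=
    (Matrix.isUnit_iff_isUnit_det (g : Matrix ι ι F)).1 g.isUnit
  rw [Matrix.det_eq_zero_of_column_eq_zero j hcon] at hdet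
  exact not_isUnit_zero hdet

/-- every row of an invertible matrix has a non-zero entry -/
theorem exists_ne_zero_row (g : GL ι F) (i : ι) : ∃ j, (g : Matrix ι ι F) i j ≠ 0 := by
  by_contra hcon
  push Not at hcon
  have hdet : IsUnit (g : Matrix ι ι F).det :=
    (Matrix.isUnit_iff_isUnit_det (g : Matrix ι ι F)).1 g.isUnit
  rw [Matrix.det_eq_zero_of_row_eq_zero i hcon] at hdet
  exact not_isUnit_zero hdet

/-- an invertible matrix whose rows have at most one non-zero entry is monomial -/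
theorem mem_Mono_of_row_unique (g : GL ι F)
    (h : ∀ i j j', (g : Matrix ι ι F) i j ≠ 0 → (g : Matrix ι ι F) i j' ≠ 0 → j = j') :
    g ∈ Mono ι F := by
  classical
  choose ρ hρ using exists_ne_zero_col g
  have hinj : Function.Injective ρ := by
    intro j j' hjj
    have h2 := hρ j'
    rw [← hjj] at h2
    exact h (ρ j) j j' (hρ j) h2
  have hbij : Function.Bijective ρ := (Finite.injective_iff_bijective).1 hinj
  refine ⟨Equiv.ofBijective ρ hbij, fun i j hij => ?_⟩
  by_contra hne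
  obtain ⟨j', hj'⟩ := hbij.2 i
  have h2 := hρ j'
  rw [hj'] at h2
  have := h i j j' hne h2
  apply hij
  rw [Equiv.ofBijective_apply, this, hj']

theorem mem_Mono_iff_row_unique (g : GL ι F) :
    g ∈ Mono ι F ↔
      ∀ i j j', (g : Matrix ι ι F) i j ≠ 0 → (g : Matrix ι ι F) i j' ≠ 0 → j = j' :=
  ⟨fun h _ _ _ h1 h2 => IsMono.row_unique h h1 h2, mem_Mono_of_row_unique g⟩

/-- an invertible matrix whose columns have at most one non-zero entry is monomial -/
theorem mem_Mono_of_col_unique (g : GL ι F)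
    (h : ∀ i i' j, (g : Matrix ι ι F) i j ≠ 0 → (g : Matrix ι ι F) i' j ≠ 0 → i = i') :
    g ∈ Mono ι F := by
  classical
  choose ρ hρ using exists_ne_zero_row g
  have hinj : Function.Injective ρ := by
    intro i i' hii
    have h2 := hρ i'
    rw [← hii] at h2
    exact h i i' (ρ i) (hρ i) h2
  have hbij : Function.Bijective ρ := (Finite.injective_iff_bijective).1 hinj
  refine ⟨(Equiv.ofBijective ρ hbij).symm, fun i j hij => ?_⟩
  by_contra hne
  have h2 := hρ i
  -- column ρ i has non-zero entry at row i; column j has non-zero entry at row i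
  obtain ⟨i', hi'⟩ := hbij.2 j
  have h3 := hρ i'
  rw [hi'] at h3
  have : i = i' := h i i' j hne h3
  apply hij
  rw [this, ← hi']
  exact ((Equiv.ofBijective ρ hbij).symm_apply_apply i').symm

theorem mem_Mono_iff_col_unique (g : GL ι F) :
    g ∈ Mono ι F ↔
      ∀ i i' j, (g : Matrix ι ι F) i j ≠ 0 → (g : Matrix ι ι F) i' j ≠ 0 → i = i' :=
  ⟨fun h _ _ _ h1 h2 => IsMono.col_unique h h1 h2, mem_Mono_of_col_unique g⟩

/-! ### the corner embedding -/

section Emb

variable {k : ℕ}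

/-- the equivalence `Fin k ⊕ PUnit ≃ Fin (k+1)` sending the extra point to `i₀` -/
def saEquiv (i₀ : Fin (k + 1)) : Fin k ⊕ PUnit.{1} ≃ Fin (k + 1) :=
  (Equiv.optionEquivSumPUnit (Fin k)).symm.trans (finSuccEquiv' i₀).symm

theorem saEquiv_inl (i₀ : Fin (k + 1)) (a : Fin k) : saEquiv i₀ (Sum.inl a) = i₀.succAbove a := by
  simp [saEquiv]

theorem saEquiv_inr (i₀ : Fin (k + 1)) (u : PUnit) : saEquiv i₀ (Sum.inr u) = i₀ := by
  simp [saEquiv]

theorem saEquiv_symm_sa (i₀ : Fin (k + 1)) (a : Fin k) :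
    (saEquiv i₀).symm (i₀.succAbove a) = Sum.inl a := by
  rw [Equiv.symm_apply_eq, saEquiv_inl]

theorem saEquiv_symm_self (i₀ : Fin (k + 1)) : (saEquiv i₀).symm i₀ = Sum.inr PUnit.unit := by
  rw [Equiv.symm_apply_eq, saEquiv_inr]

/-- the matrix `diag(C, 1)` with the `1` in position `i₀` -/
def embMat (i₀ : Fin (k + 1)) (C : Matrix (Fin k) (Fin k) F) : Matrix (Fin (k + 1)) (Fin (k + 1)) F :=
  (Matrix.fromBlocks C 0 0 (1 : Matrix PUnit.{1} PUnit.{1} F)).submatrix (saEquiv i₀).symm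
    (saEquiv i₀).symm

theorem embMat_sa_sa (i₀ : Fin (k + 1)) (C : Matrix (Fin k) (Fin k) F) (a b : Fin k) :
    embMat i₀ C (i₀.succAbove a) (i₀.succAbove b) = C a b := by
  simp [embMat, saEquiv_symm_sa]

theorem embMat_self_self (i₀ : Fin (k + 1)) (C : Matrix (Fin k) (Fin k) F) :
    embMat i₀ C i₀ i₀ = 1 := by
  simp [embMat, saEquiv_symm_self]

theorem embMat_self_sa (i₀ : Fin (k + 1)) (C : Matrix (Fin k) (Fin k) F) (b : Fin k) :
    embMat i₀ C i₀ (i₀.succAbove b) = 0 := by
  simp [embMat, saEquiv_symm_self, saEquiv_symm_sa]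

theorem embMat_sa_self (i₀ : Fin (k + 1)) (C : Matrix (Fin k) (Fin k) F) (a : Fin k) :
    embMat i₀ C (i₀.succAbove a) i₀ = 0 := by
  simp [embMat, saEquiv_symm_self, saEquiv_symm_sa]

theorem embMat_mul (i₀ : Fin (k + 1)) (C C' : Matrix (Fin k) (Fin k) F) :
    embMat i₀ C * embMat i₀ C' = embMat i₀ (C * C') := by
  unfold embMat
  rw [Matrix.submatrix_mul_equiv, Matrix.fromBlocks_multiply]
  simp

theorem embMat_one (i₀ : Fin (k + 1)) : embMat i₀ (1 : Matrix (Fin k) (Fin k) F) = 1 := by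
  unfold embMat
  rw [Matrix.fromBlocks_one, Matrix.submatrix_one_equiv]

/-- the corner embedding `C ↦ diag(C, 1)` (with the `1` in position `i₀`) -/
def embSA (i₀ : Fin (k + 1)) : GL (Fin k) F →* GL (Fin (k + 1)) F where
  toFun C :=
    { val := embMat i₀ (C : Matrix (Fin k) (Fin k) F)
      inv := embMat i₀ ((C⁻¹ : GL (Fin k) F) : Matrix (Fin k) (Fin k) F)
      val_inv := by rw [embMat_mul, ← Units.val_mul, mul_inv_cancel, Units.val_one, embMat_one]
      inv_val := by rw [embMat_mul, ← Units.val_mul, inv_mul_cancel, Units.val_one, embMat_one] }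
  map_one' := by
    apply Units.ext
    show embMat i₀ ((1 : GL (Fin k) F) : Matrix (Fin k) (Fin k) F) = 1
    rw [Units.val_one, embMat_one]
  map_mul' C C' := by
    apply Units.ext
    show embMat i₀ ((C * C' : GL (Fin k) F) : Matrix (Fin k) (Fin k) F) = embMat i₀ C * embMat i₀ C'
    rw [Units.val_mul, embMat_mul]

theorem embSA_val (i₀ : Fin (k + 1)) (C : GL (Fin k) F) :
    ((embSA i₀ C : GL (Fin (k + 1)) F) : Matrix (Fin (k + 1)) (Fin (k + 1)) F) =
      embMat i₀ (C : Matrix (Fin k) (Fin k) F) := rfl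

theorem embSA_sa_sa (i₀ : Fin (k + 1)) (C : GL (Fin k) F) (a b : Fin k) :
    ((embSA i₀ C : GL (Fin (k + 1)) F) : Matrix _ _ F) (i₀.succAbove a) (i₀.succAbove b) =
      (C : Matrix (Fin k) (Fin k) F) a b := embMat_sa_sa i₀ _ a b

theorem embSA_self_self (i₀ : Fin (k + 1)) (C : GL (Fin k) F) :
    ((embSA i₀ C : GL (Fin (k + 1)) F) : Matrix _ _ F) i₀ i₀ = 1 := embMat_self_self i₀ _

theorem embSA_self_sa (i₀ : Fin (k + 1)) (C : GL (Fin k) F) (b : Fin k) :
    ((embSA i₀ C : GL (Fin (k + 1)) F) : Matrix _ _ F) i₀ (i₀.succAbove b) = 0 :=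
  embMat_self_sa i₀ _ b

theorem embSA_sa_self (i₀ : Fin (k + 1)) (C : GL (Fin k) F) (a : Fin k) :
    ((embSA i₀ C : GL (Fin (k + 1)) F) : Matrix _ _ F) (i₀.succAbove a) i₀ = 0 :=
  embMat_sa_self i₀ _ a

/-- an element which is the identity at `i₀` comes from the corner -/
theorem exists_embSA_eq (i₀ : Fin (k + 1)) (g : GL (Fin (k + 1)) F)
    (h1 : (g : Matrix _ _ F) i₀ i₀ = 1)
    (h2 : ∀ b, (g : Matrix _ _ F) i₀ (i₀.succAbove b) = 0)
    (h3 : ∀ a, (g : Matrix _ _ F) (i₀.succAbove a) i₀ = 0) :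
    ∃ C : GL (Fin k) F, embSA i₀ C = g := by
  set C : Matrix (Fin k) (Fin k) F :=
    fun a b => (g : Matrix (Fin (k + 1)) (Fin (k + 1)) F) (i₀.succAbove a) (i₀.succAbove b) with hC
  have hg : (g : Matrix (Fin (k + 1)) (Fin (k + 1)) F) = embMat i₀ C := by
    ext i j
    rcases Fin.eq_self_or_eq_succAbove i₀ i with hi | ⟨a, hi⟩
    · rcases Fin.eq_self_or_eq_succAbove i₀ j with hj | ⟨b, hj⟩
      · rw [hi, hj, embMat_self_self, h1]
      · rw [hi, hj, embMat_self_sa, h2]
    · rcases Fin.eq_self_or_eq_succAbove i₀ j with hj | ⟨b, hj⟩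
      · rw [hi, hj, embMat_sa_self, h3]
      · rw [hi, hj, embMat_sa_sa]
  have hdet : (g : Matrix (Fin (k + 1)) (Fin (k + 1)) F).det = C.det := by
    rw [hg]
    unfold embMat
    rw [Matrix.det_submatrix_equiv_self, Matrix.det_fromBlocks_zero₂₁]
    simp
  have hCu : IsUnit C.det := by
    rw [← hdet]
    exact (Matrix.isUnit_iff_isUnit_det (g : Matrix (Fin (k + 1)) (Fin (k + 1)) F)).1 g.isUnit
  refine ⟨Matrix.GeneralLinearGroup.mk'' C hCu, ?_⟩
  apply Units.ext
  rw [embSA_val, hg]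
  rfl

theorem embSA_mem_Mono_iff (i₀ : Fin (k + 1)) (C : GL (Fin k) F) :
    embSA i₀ C ∈ Mono (Fin (k + 1)) F ↔ C ∈ Mono (Fin k) F := by
  rw [mem_Mono_iff_row_unique, mem_Mono_iff_row_unique]
  constructor
  · intro h a b b' h1 h2
    have := h (i₀.succAbove a) (i₀.succAbove b) (i₀.succAbove b')
      (by rw [embSA_sa_sa]; exact h1) (by rw [embSA_sa_sa]; exact h2)
    exact Fin.succAbove_right_injective this
  · intro h i j j' h1 h2
    rcases Fin.eq_self_or_eq_succAbove i₀ i with hi | ⟨a, hi⟩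
    · rcases Fin.eq_self_or_eq_succAbove i₀ j with hj | ⟨b, hj⟩
      · rcases Fin.eq_self_or_eq_succAbove i₀ j' with hj' | ⟨b', hj'⟩
        · rw [hj, hj']
        · rw [hi, hj'] at h2
          exact absurd (embSA_self_sa _ C b') h2
      · rw [hi, hj] at h1
        exact absurd (embSA_self_sa _ C b) h1
    · rcases Fin.eq_self_or_eq_succAbove i₀ j with hj | ⟨b, hj⟩
      · rw [hi, hj] at h1
        exact absurd (embSA_sa_self _ C a) h1
      · rcases Fin.eq_self_or_eq_succAbove i₀ j' with hj' | ⟨b', hj'⟩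
        · rw [hi, hj'] at h2
          exact absurd (embSA_sa_self _ C a) h2
        · rw [hi, hj, embSA_sa_sa] at h1
          rw [hi, hj', embSA_sa_sa] at h2
          rw [hj, hj', h a b b' h1 h2]

end Emb

end Cfsg.Agent.Lib.Helper43
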