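/-
helper43: CORE part 3 for the S5634 project: further API of the corner embedding `embSA`
(elementary transvections, diagonal elements, determinant) and the line-stabiliser section `secSL`.
-/
import Mathlib
import Cfsg.Agent.Lib.Helper43.MonoSec

set_option autoImplicit false
set_option linter.unusedSectionVars false
set_option linter.unusedVariables false

namespace Cfsg.Agent.Lib.Helper43

open Matrix Cfsg.Geo Cfsg.Agent.Lib.Helper93

variable {F : Type*} [Field F] {k : ℕ}

/-- two elements of `GL (Fin (k+1)) F` are equal if their entries agree, split along `i₀` -/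
theorem gl_ext_sa (i₀ : Fin (k + 1)) {g h : GL (Fin (k + 1)) F}
    (h00 : (g : Matrix _ _ F) i₀ i₀ = (h : Matrix _ _ F) i₀ i₀)
    (h0b : ∀ b, (g : Matrix _ _ F) i₀ (i₀.succAbove b) = (h : Matrix _ _ F) i₀ (i₀.succAbove b))
    (ha0 : ∀ a, (g : Matrix _ _ F) (i₀.succAbove a) i₀ = (h : Matrix _ _ F) (i₀.succAbove a) i₀)
    (hab : ∀ a b, (g : Matrix _ _ F) (i₀.succAbove a) (i₀.succAbove b) =
      (h : Matrix _ _ F) (i₀.succAbove a) (i₀.succAbove b)) : g = h := by
  apply Units.ext
  ext i j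
  rcases Fin.eq_self_or_eq_succAbove i₀ i with hi | ⟨a, hi⟩
  · rcases Fin.eq_self_or_eq_succAbove i₀ j with hj | ⟨b, hj⟩
    · rw [hi, hj, h00]
    · rw [hi, hj, h0b]
  · rcases Fin.eq_self_or_eq_succAbove i₀ j with hj | ⟨b, hj⟩
    · rw [hi, hj, ha0]
    · rw [hi, hj, hab]

theorem embSA_elemTv (i₀ : Fin (k + 1)) (a b : Fin k) (hab : a ≠ b) (ξ : F) :
    embSA i₀ (elemTv a b hab ξ) =
      elemTv (i₀.succAbove a) (i₀.succAbove b)
        (fun h => hab (Fin.succAbove_right_injective h)) ξ := by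
  apply gl_ext_sa i₀
  · rw [embSA_self_self, elemTv_apply, if_pos rfl, if_neg, add_zero]
    rintro ⟨h, -⟩
    exact Fin.succAbove_ne i₀ a h.symm
  · intro c
    rw [embSA_self_sa, elemTv_apply, if_neg (Fin.succAbove_ne i₀ c).symm, if_neg, add_zero]
    rintro ⟨h, -⟩
    exact Fin.succAbove_ne i₀ a h.symm
  · intro c
    rw [embSA_sa_self, elemTv_apply, if_neg (Fin.succAbove_ne i₀ c), if_neg, add_zero]
    rintro ⟨-, h⟩
    exact Fin.succAbove_ne i₀ b h.symm
  · intro c d
    rw [embSA_sa_sa, elemTv_apply, elemTv_apply]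
    simp only [Fin.succAbove_right_inj]

theorem det_embSA (i₀ : Fin (k + 1)) (C : GL (Fin k) F) :
    ((embSA i₀ C : GL (Fin (k + 1)) F) : Matrix (Fin (k + 1)) (Fin (k + 1)) F).det =
      (C : Matrix (Fin k) (Fin k) F).det := by
  rw [embSA_val]
  unfold embMat
  rw [Matrix.det_submatrix_equiv_self, Matrix.det_fromBlocks_zero₂₁]
  simp

/-- the line-stabiliser section: the group of all `k × k` blocks (rows and columns `≠ i₀`) of the
elements of `M` whose column `i₀` is a multiple of `e_{i₀}` -/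
def secSL (M : Subgroup (GL (Fin (k + 1)) F)) (i₀ : Fin (k + 1)) : Subgroup (GL (Fin k) F) where
  carrier := {C | ∃ h ∈ M, (∀ a, (h : Matrix (Fin (k + 1)) (Fin (k + 1)) F) (i₀.succAbove a) i₀ = 0) ∧
    ∀ a b, (h : Matrix (Fin (k + 1)) (Fin (k + 1)) F) (i₀.succAbove a) (i₀.succAbove b) =
      (C : Matrix (Fin k) (Fin k) F) a b}
  mul_mem' := by
    rintro C C' ⟨h, hM, h0, hC⟩ ⟨h', hM', h0', hC'⟩
    refine ⟨h * h', M.mul_mem hM hM', fun a => ?_, fun a b => ?_⟩
    · rw [Units.val_mul, Matrix.mul_apply, Fin.sum_univ_succAbove _ i₀, h0 a, zero_mul, zero_add]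
      apply Finset.sum_eq_zero
      intro c _
      rw [h0' c, mul_zero]
    · rw [Units.val_mul, Matrix.mul_apply, Fin.sum_univ_succAbove _ i₀, h0 a, zero_mul, zero_add,
        Units.val_mul, Matrix.mul_apply]
      apply Finset.sum_congr rfl
      intro c _
      rw [hC, hC']
  one_mem' := by
    refine ⟨1, M.one_mem, fun a => ?_, fun a b => ?_⟩
    · rw [Units.val_one, Matrix.one_apply_ne (Fin.succAbove_ne i₀ a)]
    · rw [Units.val_one, Units.val_one, Matrix.one_apply, Matrix.one_apply]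
      simp only [Fin.succAbove_right_inj]
  inv_mem' := by
    rintro C ⟨h, hM, h0, hC⟩
    -- column i₀ of h⁻¹ h
    have hcol : ∀ r, ((h⁻¹ : GL (Fin (k + 1)) F) : Matrix (Fin (k + 1)) (Fin (k + 1)) F) r i₀ *
        (h : Matrix (Fin (k + 1)) (Fin (k + 1)) F) i₀ i₀ = if r = i₀ then 1 else 0 := by
      intro r
      have h1 : (((h⁻¹ : GL (Fin (k + 1)) F) : Matrix (Fin (k + 1)) (Fin (k + 1)) F) *
          (h : Matrix (Fin (k + 1)) (Fin (k + 1)) F)) r i₀ = if r = i₀ then 1 else 0 := by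
        rw [← Units.val_mul, inv_mul_cancel, Units.val_one, Matrix.one_apply]
      rw [Matrix.mul_apply, Fin.sum_univ_succAbove _ i₀] at h1
      rw [← h1]
      symm
      rw [add_eq_left]
      apply Finset.sum_eq_zero
      intro c _
      rw [h0 c, mul_zero]
    have h00 : (h : Matrix (Fin (k + 1)) (Fin (k + 1)) F) i₀ i₀ ≠ 0 := by
      intro hz
      have := hcol i₀
      rw [hz, mul_zero, if_pos rfl] at this
      exact zero_ne_one this
    have hinv0 : ∀ a, ((h⁻¹ : GL (Fin (k + 1)) F) : Matrix (Fin (k + 1)) (Fin (k + 1)) F)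
        (i₀.succAbove a) i₀ = 0 := by
      intro a
      have := hcol (i₀.succAbove a)
      rw [if_neg (Fin.succAbove_ne i₀ a)] at this
      exact (mul_eq_zero.1 this).resolve_right h00
    refine ⟨h⁻¹, M.inv_mem hM, hinv0, ?_⟩
    -- the block of h⁻¹ is a left inverse of C
    set B : Matrix (Fin k) (Fin k) F := fun a b =>
      ((h⁻¹ : GL (Fin (k + 1)) F) : Matrix (Fin (k + 1)) (Fin (k + 1)) F) (i₀.succAbove a)
        (i₀.succAbove b) with hB
    have hBC : B * (C : Matrix (Fin k) (Fin k) F) = 1 := by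
      ext a b
      have h1 : (((h⁻¹ : GL (Fin (k + 1)) F) : Matrix (Fin (k + 1)) (Fin (k + 1)) F) *
          (h : Matrix (Fin (k + 1)) (Fin (k + 1)) F)) (i₀.succAbove a) (i₀.succAbove b) =
          (1 : Matrix (Fin k) (Fin k) F) a b := by
        rw [← Units.val_mul, inv_mul_cancel, Units.val_one, Matrix.one_apply, Matrix.one_apply]
        simp only [Fin.succAbove_right_inj]
      rw [Matrix.mul_apply, Fin.sum_univ_succAbove _ i₀, hinv0 a, zero_mul, zero_add] at h1
      rw [← h1, Matrix.mul_apply]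
      apply Finset.sum_congr rfl
      intro c _
      rw [hC]
    have hBinv : B = ((C⁻¹ : GL (Fin k) F) : Matrix (Fin k) (Fin k) F) := by
      calc B = B * ((C : Matrix (Fin k) (Fin k) F) * ((C⁻¹ : GL (Fin k) F) : Matrix (Fin k) (Fin k) F)) := by
            rw [← Units.val_mul, mul_inv_cancel, Units.val_one, Matrix.mul_one]
        _ = ((C⁻¹ : GL (Fin k) F) : Matrix (Fin k) (Fin k) F) := by
            rw [← Matrix.mul_assoc, hBC, Matrix.one_mul]
    intro a b
    rw [← hBinv]

theorem mem_secSL {M : Subgroup (GL (Fin (k + 1)) F)} {i₀ : Fin (k + 1)} {C : GL (Fin k) F} :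
    C ∈ secSL M i₀ ↔ ∃ h ∈ M,
      (∀ a, (h : Matrix (Fin (k + 1)) (Fin (k + 1)) F) (i₀.succAbove a) i₀ = 0) ∧
      ∀ a b, (h : Matrix (Fin (k + 1)) (Fin (k + 1)) F) (i₀.succAbove a) (i₀.succAbove b) =
        (C : Matrix (Fin k) (Fin k) F) a b := Iff.rfl

end Cfsg.Agent.Lib.Helper43
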