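/-
helper43: CORE part 4 for the S5634 project: the property `ColStar` and the transpose-inverse
automorphism `tinv` of `GL ι F`.
-/
import Mathlib
import Cfsg.Agent.Lib.Helper43.MonoSec2

set_option autoImplicit false
set_option linter.unusedSectionVars false
set_option linter.unusedVariables false

namespace Cfsg.Agent.Lib.Helper43

open Matrix Cfsg.Geo Cfsg.Agent.Lib.Helper93

variable {ι : Type} [Fintype ι] [DecidableEq ι] {F : Type*} [Field F]

/-- the "star" property: an element of `Y` one of whose columns has at most one non-zero entry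
is monomial -/
def ColStar (Y : Subgroup (GL ι F)) : Prop :=
  ∀ h ∈ Y, ∀ i j : ι, (∀ r, r ≠ j → (h : Matrix ι ι F) r i = 0) → h ∈ Mono ι F

/-- the transpose-inverse automorphism of `GL ι F` -/
def tinv : GL ι F ≃* GL ι F where
  toFun g :=
    { val := ((g⁻¹ : GL ι F) : Matrix ι ι F)ᵀ
      inv := (g : Matrix ι ι F)ᵀ
      val_inv := by
        rw [← Matrix.transpose_mul, ← Units.val_mul, mul_inv_cancel, Units.val_one,
          Matrix.transpose_one]
      inv_val := by
        rw [← Matrix.transpose_mul, ← Units.val_mul, inv_mul_cancel, Units.val_one,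
          Matrix.transpose_one] }
  invFun g :=
    { val := ((g⁻¹ : GL ι F) : Matrix ι ι F)ᵀ
      inv := (g : Matrix ι ι F)ᵀ
      val_inv := by
        rw [← Matrix.transpose_mul, ← Units.val_mul, mul_inv_cancel, Units.val_one,
          Matrix.transpose_one]
      inv_val := by
        rw [← Matrix.transpose_mul, ← Units.val_mul, inv_mul_cancel, Units.val_one,
          Matrix.transpose_one] }
  left_inv g := by
    apply Units.ext
    show (((_ : GL ι F)⁻¹ : GL ι F) : Matrix ι ι F)ᵀ = (g : Matrix ι ι F)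
    show ((g : Matrix ι ι F)ᵀ)ᵀ = (g : Matrix ι ι F)
    rw [Matrix.transpose_transpose]
  right_inv g := by
    apply Units.ext
    show ((g : Matrix ι ι F)ᵀ)ᵀ = (g : Matrix ι ι F)
    rw [Matrix.transpose_transpose]
  map_mul' g h := by
    apply Units.ext
    show (((g * h)⁻¹ : GL ι F) : Matrix ι ι F)ᵀ =
      ((g⁻¹ : GL ι F) : Matrix ι ι F)ᵀ * ((h⁻¹ : GL ι F) : Matrix ι ι F)ᵀ
    rw [_root_.mul_inv_rev, Units.val_mul, Matrix.transpose_mul]

theorem tinv_val (g : GL ι F) :
    ((tinv g : GL ι F) : Matrix ι ι F) = ((g⁻¹ : GL ι F) : Matrix ι ι F)ᵀ := rfl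

theorem tinv_apply (g : GL ι F) (i j : ι) :
    ((tinv g : GL ι F) : Matrix ι ι F) i j = ((g⁻¹ : GL ι F) : Matrix ι ι F) j i := rfl

theorem tinv_inv_val (g : GL ι F) :
    (((tinv g)⁻¹ : GL ι F) : Matrix ι ι F) = (g : Matrix ι ι F)ᵀ := rfl

theorem tinv_tinv (g : GL ι F) : tinv (tinv g) = g := by
  apply Units.ext
  rw [tinv_val, tinv_inv_val, Matrix.transpose_transpose]

end Cfsg.Agent.Lib.Helper43
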