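/-
helper43: explicit automorphisms of `Sp_{2m}(F)` and `PSp_{2m}(F)`: conjugation by conformal symplectic
matrices and field automorphisms, with the bridges to the Prelude predicates.
-/
import Mathlib
import Cfsg.Prelude.Def_LieTypeDatum
import Cfsg.Agent.Lib.Helper5.Symplectic

set_option autoImplicit false

namespace Cfsg.Agent.Lib.Helper43

open scoped MatrixGroups Matrix
open Matrix

variable {m : ℕ} {F : Type*} [Field F]

theorem mem_GSp_iff (g : GL (Fin m ⊕ Fin m) F) :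
    g ∈ Cfsg.GSp m F ↔ ∃ c : Fˣ, ∀ u v : Fin m ⊕ Fin m → F,
      Cfsg.sympForm m F ((g : Matrix (Fin m ⊕ Fin m) (Fin m ⊕ Fin m) F) *ᵥ u)
        ((g : Matrix (Fin m ⊕ Fin m) (Fin m ⊕ Fin m) F) *ᵥ v) = (c : F) * Cfsg.sympForm m F u v :=
  Iff.rfl

theorem mem_sp_iff_form (A : Matrix (Fin m ⊕ Fin m) (Fin m ⊕ Fin m) F) :
    A ∈ Matrix.symplecticGroup (Fin m) F ↔ ∀ u v : Fin m ⊕ Fin m → F,
      Cfsg.sympForm m F (A *ᵥ u) (A *ᵥ v) = Cfsg.sympForm m F u v :=
  Cfsg.Agent.Lib.Helper5.mem_symplecticGroup_iff_form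

theorem gl_mul_inv_coe {ι : Type*} [Fintype ι] [DecidableEq ι] (g : GL ι F) :
    (g : Matrix ι ι F) * ((g⁻¹ : GL ι F) : Matrix ι ι F) = 1 := by
  rw [← Matrix.GeneralLinearGroup.coe_mul, mul_inv_cancel]; rfl

theorem gl_inv_mul_coe {ι : Type*} [Fintype ι] [DecidableEq ι] (g : GL ι F) :
    ((g⁻¹ : GL ι F) : Matrix ι ι F) * (g : Matrix ι ι F) = 1 := by
  rw [← Matrix.GeneralLinearGroup.coe_mul, inv_mul_cancel]; rfl

/-- conjugating a symplectic matrix by a conformal symplectic one gives a symplectic matrix -/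
theorem conj_mem_sp (g : GL (Fin m ⊕ Fin m) F) (hg : g ∈ Cfsg.GSp m F)
    (s : Matrix (Fin m ⊕ Fin m) (Fin m ⊕ Fin m) F) (hs : s ∈ Matrix.symplecticGroup (Fin m) F) :
    (g : Matrix (Fin m ⊕ Fin m) (Fin m ⊕ Fin m) F) * s *
      ((g⁻¹ : GL (Fin m ⊕ Fin m) F) : Matrix (Fin m ⊕ Fin m) (Fin m ⊕ Fin m) F) ∈
        Matrix.symplecticGroup (Fin m) F := by
  obtain ⟨c, hc⟩ := (mem_GSp_iff g).mp hg
  rw [mem_sp_iff_form] at hs ⊢
  intro u v
  have h1 : ∀ w : Fin m ⊕ Fin m → F,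
      ((g : Matrix (Fin m ⊕ Fin m) (Fin m ⊕ Fin m) F) * s *
      ((g⁻¹ : GL (Fin m ⊕ Fin m) F) : Matrix (Fin m ⊕ Fin m) (Fin m ⊕ Fin m) F)) *ᵥ w =
      (g : Matrix (Fin m ⊕ Fin m) (Fin m ⊕ Fin m) F) *ᵥ (s *ᵥ
        (((g⁻¹ : GL (Fin m ⊕ Fin m) F) : Matrix (Fin m ⊕ Fin m) (Fin m ⊕ Fin m) F) *ᵥ w)) := by
    intro w
    rw [Matrix.mulVec_mulVec, Matrix.mulVec_mulVec]
  have h2 : ∀ w : Fin m ⊕ Fin m → F,
      (g : Matrix (Fin m ⊕ Fin m) (Fin m ⊕ Fin m) F) *ᵥ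
        (((g⁻¹ : GL (Fin m ⊕ Fin m) F) : Matrix (Fin m ⊕ Fin m) (Fin m ⊕ Fin m) F) *ᵥ w) = w := by
    intro w
    rw [Matrix.mulVec_mulVec, gl_mul_inv_coe, Matrix.one_mulVec]
  rw [h1, h1, hc, hs]
  conv_rhs => rw [← h2 u, ← h2 v, hc]

/-- conjugation by `g ∈ GSp` as an endomorphism of `Sp` -/
def spConjHom (g : ↥(Cfsg.GSp m F)) :
    ↥(Matrix.symplecticGroup (Fin m) F) →* ↥(Matrix.symplecticGroup (Fin m) F) where
  toFun s := ⟨((g : GL (Fin m ⊕ Fin m) F) : Matrix (Fin m ⊕ Fin m) (Fin m ⊕ Fin m) F) * s.1 *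
    (((g : GL (Fin m ⊕ Fin m) F)⁻¹ : GL (Fin m ⊕ Fin m) F) :
      Matrix (Fin m ⊕ Fin m) (Fin m ⊕ Fin m) F), conj_mem_sp g.1 g.2 s.1 s.2⟩
  map_one' := by
    apply Subtype.ext
    show ((g : GL (Fin m ⊕ Fin m) F) : Matrix (Fin m ⊕ Fin m) (Fin m ⊕ Fin m) F) * 1 * _ = 1
    rw [Matrix.mul_one, gl_mul_inv_coe]
  map_mul' s t := by
    apply Subtype.ext
    show ((g : GL (Fin m ⊕ Fin m) F) : Matrix (Fin m ⊕ Fin m) (Fin m ⊕ Fin m) F) * (s.1 * t.1) * _ =
      (_ * s.1 * _) * (_ * t.1 * _)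
    have h := gl_inv_mul_coe (g : GL (Fin m ⊕ Fin m) F)
    calc ((g : GL (Fin m ⊕ Fin m) F) : Matrix (Fin m ⊕ Fin m) (Fin m ⊕ Fin m) F) * (s.1 * t.1) *
          (((g : GL (Fin m ⊕ Fin m) F)⁻¹ : GL (Fin m ⊕ Fin m) F) : Matrix _ _ F)
        = ((g : GL (Fin m ⊕ Fin m) F) : Matrix (Fin m ⊕ Fin m) (Fin m ⊕ Fin m) F) * s.1 * 1 * t.1 *
          (((g : GL (Fin m ⊕ Fin m) F)⁻¹ : GL (Fin m ⊕ Fin m) F) : Matrix _ _ F) := by
          rw [Matrix.mul_one]; simp only [Matrix.mul_assoc]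
      _ = _ := by rw [← h]; simp only [Matrix.mul_assoc]

theorem spConjHom_coe (g : ↥(Cfsg.GSp m F)) (s : ↥(Matrix.symplecticGroup (Fin m) F)) :
    ((spConjHom g s : ↥(Matrix.symplecticGroup (Fin m) F)) :
      Matrix (Fin m ⊕ Fin m) (Fin m ⊕ Fin m) F) =
    ((g : GL (Fin m ⊕ Fin m) F) : Matrix (Fin m ⊕ Fin m) (Fin m ⊕ Fin m) F) * s.1 *
    (((g : GL (Fin m ⊕ Fin m) F)⁻¹ : GL (Fin m ⊕ Fin m) F) :
      Matrix (Fin m ⊕ Fin m) (Fin m ⊕ Fin m) F) := rfl

theorem spConjHom_one : spConjHom (1 : ↥(Cfsg.GSp m F)) = MonoidHom.id _ := by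
  apply MonoidHom.ext
  intro s
  apply Subtype.ext
  rw [spConjHom_coe]
  simp

theorem spConjHom_mul (g h : ↥(Cfsg.GSp m F)) :
    spConjHom (g * h) = (spConjHom g).comp (spConjHom h) := by
  apply MonoidHom.ext
  intro s
  apply Subtype.ext
  rw [MonoidHom.comp_apply, spConjHom_coe, spConjHom_coe, spConjHom_coe]
  rw [Subgroup.coe_mul, _root_.mul_inv_rev, Matrix.GeneralLinearGroup.coe_mul,
    Matrix.GeneralLinearGroup.coe_mul]
  simp only [Matrix.mul_assoc]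

/-- conjugation of `Sp_{2m}(F)` by a conformal symplectic matrix -/
def spConj : ↥(Cfsg.GSp m F) →* MulAut ↥(Matrix.symplecticGroup (Fin m) F) where
  toFun g := MonoidHom.toMulEquiv (spConjHom g) (spConjHom g⁻¹)
    (by rw [← spConjHom_mul, inv_mul_cancel, spConjHom_one])
    (by rw [← spConjHom_mul, mul_inv_cancel, spConjHom_one])
  map_one' := by
    apply MulEquiv.ext
    intro s
    show spConjHom 1 s = s
    rw [spConjHom_one]; rfl
  map_mul' g h := by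
    apply MulEquiv.ext
    intro s
    show spConjHom (g * h) s = spConjHom g (spConjHom h s)
    rw [spConjHom_mul]; rfl

theorem spConj_apply_coe (g : ↥(Cfsg.GSp m F)) (s : ↥(Matrix.symplecticGroup (Fin m) F)) :
    ((spConj g s : ↥(Matrix.symplecticGroup (Fin m) F)) :
      Matrix (Fin m ⊕ Fin m) (Fin m ⊕ Fin m) F) =
    ((g : GL (Fin m ⊕ Fin m) F) : Matrix (Fin m ⊕ Fin m) (Fin m ⊕ Fin m) F) * s.1 *
    (((g : GL (Fin m ⊕ Fin m) F)⁻¹ : GL (Fin m ⊕ Fin m) F) :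
      Matrix (Fin m ⊕ Fin m) (Fin m ⊕ Fin m) F) := rfl

/-! ### field automorphisms -/

theorem J_map (σ : F →+* F) : (Matrix.J (Fin m) F).map σ = Matrix.J (Fin m) F := by
  ext i j
  rcases i with i | i <;> rcases j with j | j <;>
    simp [Matrix.J, Matrix.fromBlocks, Matrix.one_apply, apply_ite]

theorem map_mem_sp (σ : F →+* F) (s : Matrix (Fin m ⊕ Fin m) (Fin m ⊕ Fin m) F)
    (hs : s ∈ Matrix.symplecticGroup (Fin m) F) :
    s.map σ ∈ Matrix.symplecticGroup (Fin m) F := by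
  rw [SymplecticGroup.mem_iff'] at hs ⊢
  have h := congrArg (fun M : Matrix (Fin m ⊕ Fin m) (Fin m ⊕ Fin m) F => M.map σ) hs
  simp only [Matrix.map_mul, J_map, Matrix.transpose_map] at h
  exact h

/-- `σ` entrywise as an endomorphism of `Sp` -/
def spFieldHom (σ : F →+* F) :
    ↥(Matrix.symplecticGroup (Fin m) F) →* ↥(Matrix.symplecticGroup (Fin m) F) where
  toFun s := ⟨s.1.map σ, map_mem_sp σ s.1 s.2⟩
  map_one' := by
    apply Subtype.ext
    show (1 : Matrix (Fin m ⊕ Fin m) (Fin m ⊕ Fin m) F).map σ = 1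
    exact Matrix.map_one σ (map_zero σ) (map_one σ)
  map_mul' s t := by
    apply Subtype.ext
    show (s.1 * t.1).map σ = s.1.map σ * t.1.map σ
    exact Matrix.map_mul

/-- the automorphism of `Sp_{2m}(F)` induced by a field automorphism -/
def spFieldAut : RingAut F →* MulAut ↥(Matrix.symplecticGroup (Fin m) F) where
  toFun σ := MonoidHom.toMulEquiv (spFieldHom ((σ : F ≃+* F) : F →+* F))
    (spFieldHom ((σ.symm : F ≃+* F) : F →+* F))
    (by
      apply MonoidHom.ext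
      intro s
      apply Subtype.ext
      show (s.1.map σ).map σ.symm = s.1
      ext i j
      simp)
    (by
      apply MonoidHom.ext
      intro s
      apply Subtype.ext
      show (s.1.map σ.symm).map σ = s.1
      ext i j
      simp)
  map_one' := by
    apply MulEquiv.ext
    intro s
    apply Subtype.ext
    show s.1.map (1 : RingAut F) = s.1
    ext i j
    rfl
  map_mul' σ τ := by
    apply MulEquiv.ext
    intro s
    apply Subtype.ext
    show s.1.map (σ * τ : RingAut F) = (s.1.map τ).map σ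
    ext i j
    rfl

theorem spFieldAut_apply_coe (σ : RingAut F) (s : ↥(Matrix.symplecticGroup (Fin m) F)) :
    ((spFieldAut σ s : ↥(Matrix.symplecticGroup (Fin m) F)) :
      Matrix (Fin m ⊕ Fin m) (Fin m ⊕ Fin m) F) = s.1.map σ := rfl

/-! ### descent to `PSp` -/

/-- an automorphism of `Sp_{2m}(F)` induces an automorphism of `PSp_{2m}(F)` -/
noncomputable def pspDescend :
    MulAut ↥(Matrix.symplecticGroup (Fin m) F) →* MulAut (Cfsg.PSp m F) where
  toFun α := QuotientGroup.congr (Subgroup.center ↥(Matrix.symplecticGroup (Fin m) F))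
    (Subgroup.center ↥(Matrix.symplecticGroup (Fin m) F)) α
    (Subgroup.characteristic_iff_map_eq.mp Subgroup.centerCharacteristic α)
  map_one' := by
    apply MulEquiv.ext
    intro x
    obtain ⟨x, rfl⟩ := QuotientGroup.mk_surjective x
    rfl
  map_mul' α β := by
    apply MulEquiv.ext
    intro x
    obtain ⟨x, rfl⟩ := QuotientGroup.mk_surjective x
    rfl

theorem pspDescend_mk (α : MulAut ↥(Matrix.symplecticGroup (Fin m) F))
    (x : ↥(Matrix.symplecticGroup (Fin m) F)) :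
    pspDescend α (QuotientGroup.mk x : Cfsg.PSp m F) = QuotientGroup.mk (α x) := rfl

theorem pspDescend_conj (g : ↥(Matrix.symplecticGroup (Fin m) F)) :
    pspDescend (MulAut.conj g) = MulAut.conj (QuotientGroup.mk g : Cfsg.PSp m F) := by
  apply MulEquiv.ext
  intro x
  obtain ⟨x, rfl⟩ := QuotientGroup.mk_surjective x
  rfl

/-- inner-diagonal automorphisms of `PSp_{2m}(F)` -/
noncomputable def pspDiag : ↥(Cfsg.GSp m F) →* MulAut (Cfsg.PSp m F) :=
  pspDescend.comp spConj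

/-- field automorphisms of `PSp_{2m}(F)` -/
noncomputable def pspField : RingAut F →* MulAut (Cfsg.PSp m F) :=
  pspDescend.comp spFieldAut

theorem pspDiag_mk (g : ↥(Cfsg.GSp m F)) (s : ↥(Matrix.symplecticGroup (Fin m) F)) :
    pspDiag g (QuotientGroup.mk s : Cfsg.PSp m F) = QuotientGroup.mk (spConj g s) := rfl

theorem pspField_mk (σ : RingAut F) (s : ↥(Matrix.symplecticGroup (Fin m) F)) :
    pspField σ (QuotientGroup.mk s : Cfsg.PSp m F) = QuotientGroup.mk (spFieldAut σ s) := rfl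

end Cfsg.Agent.Lib.Helper43
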