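/-
helper43: relations between the inner-diagonal and field automorphisms of `PSp_{2m}(F)` and the bridges to the
Prelude predicates (`IsInducedBySemilinearPSp`, `IsStdFieldAutPSp`, `IsInnerDiagonalAutPSp`, `inndiagPSp`,
`gammaPSp`).
-/
import Mathlib
import Cfsg.Agent.Lib.Helper43.PSpAut

set_option autoImplicit false

namespace Cfsg.Agent.Lib.Helper43

open scoped MatrixGroups Matrix
open Matrix

variable {m : ℕ} {F : Type*} [Field F]

theorem sympForm_map (σ : F →+* F) (u v : Fin m ⊕ Fin m → F) :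
    Cfsg.sympForm m F (fun i => σ (u i)) (fun i => σ (v i)) = σ (Cfsg.sympForm m F u v) := by
  unfold Cfsg.sympForm
  have h1 : (Matrix.J (Fin m) F *ᵥ fun i => σ (v i)) =
      fun i => σ ((Matrix.J (Fin m) F *ᵥ v) i) := by
    funext i
    conv_lhs => rw [← J_map (m := m) σ]
    simp only [mulVec, dotProduct, map_sum, map_mul, Matrix.map_apply]
  rw [h1]
  simp only [dotProduct, map_sum, map_mul]

theorem map_mulVec_map (σ : F →+* F) (M : Matrix (Fin m ⊕ Fin m) (Fin m ⊕ Fin m) F)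
    (v : Fin m ⊕ Fin m → F) :
    (M.map σ) *ᵥ (fun i => σ (v i)) = fun i => σ ((M *ᵥ v) i) := by
  funext i
  simp only [mulVec, dotProduct, map_sum, map_mul, Matrix.map_apply]

/-- `σ` entrywise preserves `GSp` -/
theorem glMap_mem_GSp (σ : RingAut F) (g : GL (Fin m ⊕ Fin m) F) (hg : g ∈ Cfsg.GSp m F) :
    Matrix.GeneralLinearGroup.map ((σ : F ≃+* F) : F →+* F) g ∈ Cfsg.GSp m F := by
  obtain ⟨c, hc⟩ := (mem_GSp_iff g).mp hg
  have hc0 : σ (c : F) ≠ 0 := by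
    rw [Ne, map_eq_zero]; exact Units.ne_zero c
  rw [mem_GSp_iff]
  refine ⟨Units.mk0 _ hc0, ?_⟩
  intro u v
  have hcoe : ((Matrix.GeneralLinearGroup.map ((σ : F ≃+* F) : F →+* F) g :
      GL (Fin m ⊕ Fin m) F) : Matrix (Fin m ⊕ Fin m) (Fin m ⊕ Fin m) F) =
      (g : Matrix (Fin m ⊕ Fin m) (Fin m ⊕ Fin m) F).map σ := rfl
  have hu : u = fun i => σ (σ.symm (u i)) := by funext i; simp
  have hv : v = fun i => σ (σ.symm (v i)) := by funext i; simp
  rw [hcoe, Units.val_mk0]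
  conv_lhs => rw [hu, hv]
  conv_rhs => rw [hu, hv]
  have h1 := map_mulVec_map ((σ : F ≃+* F) : F →+* F)
    (g : Matrix (Fin m ⊕ Fin m) (Fin m ⊕ Fin m) F) (fun i => σ.symm (u i))
  have h2 := map_mulVec_map ((σ : F ≃+* F) : F →+* F)
    (g : Matrix (Fin m ⊕ Fin m) (Fin m ⊕ Fin m) F) (fun i => σ.symm (v i))
  have h3 := sympForm_map (m := m) ((σ : F ≃+* F) : F →+* F)
  simp only [RingEquiv.coe_toRingHom] at h1 h2 h3
  rw [h1, h2, h3, h3, hc, map_mul]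

/-- `σ` entrywise on `GSp` -/
noncomputable def gspMap (σ : RingAut F) : ↥(Cfsg.GSp m F) →* ↥(Cfsg.GSp m F) where
  toFun g := ⟨Matrix.GeneralLinearGroup.map ((σ : F ≃+* F) : F →+* F) g.1,
    glMap_mem_GSp σ g.1 g.2⟩
  map_one' := by
    apply Subtype.ext
    show Matrix.GeneralLinearGroup.map ((σ : F ≃+* F) : F →+* F) 1 = 1
    rw [map_one]
  map_mul' g h := by
    apply Subtype.ext
    show Matrix.GeneralLinearGroup.map ((σ : F ≃+* F) : F →+* F) (g.1 * h.1) = _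
    rw [map_mul]
    rfl

theorem gspMap_coe (σ : RingAut F) (g : ↥(Cfsg.GSp m F)) :
    (((gspMap σ g : ↥(Cfsg.GSp m F)) : GL (Fin m ⊕ Fin m) F) :
      Matrix (Fin m ⊕ Fin m) (Fin m ⊕ Fin m) F) =
    ((g : GL (Fin m ⊕ Fin m) F) : Matrix (Fin m ⊕ Fin m) (Fin m ⊕ Fin m) F).map σ := rfl

theorem gspMap_inv_coe (σ : RingAut F) (g : ↥(Cfsg.GSp m F)) :
    ((((gspMap σ g : ↥(Cfsg.GSp m F)) : GL (Fin m ⊕ Fin m) F)⁻¹ : GL (Fin m ⊕ Fin m) F) :
      Matrix (Fin m ⊕ Fin m) (Fin m ⊕ Fin m) F) =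
    ((((g : GL (Fin m ⊕ Fin m) F)⁻¹ : GL (Fin m ⊕ Fin m) F)) :
      Matrix (Fin m ⊕ Fin m) (Fin m ⊕ Fin m) F).map σ := by
  show ((Matrix.GeneralLinearGroup.map ((σ : F ≃+* F) : F →+* F) g.1)⁻¹ :
    GL (Fin m ⊕ Fin m) F).1 = _
  rw [← map_inv]
  rfl

theorem spFieldAut_mul_spConj (σ : RingAut F) (g : ↥(Cfsg.GSp m F)) :
    (spFieldAut σ : MulAut ↥(Matrix.symplecticGroup (Fin m) F)) * spConj g =
      spConj (gspMap σ g) * spFieldAut σ := by
  apply MulEquiv.ext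
  intro s
  apply Subtype.ext
  rw [MulAut.mul_apply, MulAut.mul_apply, spFieldAut_apply_coe, spConj_apply_coe, spConj_apply_coe,
    spFieldAut_apply_coe, gspMap_coe, gspMap_inv_coe, Matrix.map_mul, Matrix.map_mul]

theorem pspField_mul_pspDiag (σ : RingAut F) (g : ↥(Cfsg.GSp m F)) :
    (pspField σ : MulAut (Cfsg.PSp m F)) * pspDiag g = pspDiag (gspMap σ g) * pspField σ := by
  unfold pspField pspDiag
  rw [MonoidHom.comp_apply, MonoidHom.comp_apply, MonoidHom.comp_apply, ← map_mul, ← map_mul,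
    spFieldAut_mul_spConj]

/-! ### bridges to the Prelude predicates -/

theorem isInducedBySemilinearPSp_iff (g : GL (Fin m ⊕ Fin m) F) (hg : g ∈ Cfsg.GSp m F)
    (σ : F ≃+* F) (β : Cfsg.PSp m F ≃* Cfsg.PSp m F) :
    Cfsg.IsInducedBySemilinearPSp g σ β ↔ β = pspDiag ⟨g, hg⟩ * pspField σ := by
  constructor
  · intro h
    apply MulEquiv.ext
    intro x
    obtain ⟨s, rfl⟩ := QuotientGroup.mk_surjective x
    rw [MulAut.mul_apply, pspField_mk, pspDiag_mk]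
    exact h s _ rfl
  · rintro rfl s s' hs'
    rw [MulAut.mul_apply, pspField_mk, pspDiag_mk]
    congr 1
    apply Subtype.ext
    rw [hs']
    rfl

theorem isStdFieldAutPSp_iff (σ : F ≃+* F) (β : Cfsg.PSp m F ≃* Cfsg.PSp m F) :
    Cfsg.IsStdFieldAutPSp σ β ↔ β = pspField σ := by
  constructor
  · intro h
    apply MulEquiv.ext
    intro x
    obtain ⟨s, rfl⟩ := QuotientGroup.mk_surjective x
    rw [pspField_mk]
    exact h s _ rfl
  · rintro rfl s s' hs'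
    rw [pspField_mk]
    congr 1
    apply Subtype.ext
    rw [hs']
    rfl

theorem pspField_refl : (pspField (RingEquiv.refl F) : MulAut (Cfsg.PSp m F)) = 1 :=
  map_one pspField

theorem isInnerDiagonalAutPSp_iff (β : Cfsg.PSp m F ≃* Cfsg.PSp m F) :
    Cfsg.IsInnerDiagonalAutPSp β ↔ ∃ g : ↥(Cfsg.GSp m F), β = pspDiag g := by
  constructor
  · rintro ⟨g, hg, h⟩
    rw [isInducedBySemilinearPSp_iff g hg, pspField_refl, mul_one] at h
    exact ⟨⟨g, hg⟩, h⟩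
  · rintro ⟨g, rfl⟩
    refine ⟨g.1, g.2, ?_⟩
    rw [isInducedBySemilinearPSp_iff g.1 g.2, pspField_refl, mul_one]

/-- `Inndiag(PSp_{2m}(F))` is the range of `pspDiag` -/
theorem inndiagPSp_eq_range :
    Cfsg.inndiagPSp m F = (pspDiag : ↥(Cfsg.GSp m F) →* MulAut (Cfsg.PSp m F)).range := by
  unfold Cfsg.inndiagPSp Cfsg.autSubgroupOf
  apply le_antisymm
  · rw [Subgroup.closure_le]
    intro β hβ
    obtain ⟨g, rfl⟩ := (isInnerDiagonalAutPSp_iff β).mp hβ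
    exact ⟨g, rfl⟩
  · rintro _ ⟨g, rfl⟩
    exact Subgroup.subset_closure ((isInnerDiagonalAutPSp_iff _).mpr ⟨g, rfl⟩)

theorem pspDiag_mem_inndiagPSp (g : ↥(Cfsg.GSp m F)) :
    (pspDiag g : MulAut (Cfsg.PSp m F)) ∈ Cfsg.inndiagPSp m F := by
  rw [inndiagPSp_eq_range]
  exact ⟨g, rfl⟩

/-- the standard automorphisms `pspDiag g * pspField σ` form a subgroup -/
noncomputable def stdAutPSp (m : ℕ) (F : Type*) [Field F] : Subgroup (MulAut (Cfsg.PSp m F)) where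
  carrier := {β | ∃ (g : ↥(Cfsg.GSp m F)) (σ : RingAut F), β = pspDiag g * pspField σ}
  one_mem' := ⟨1, 1, by rw [map_one, map_one, mul_one]⟩
  mul_mem' := by
    rintro _ _ ⟨g, σ, rfl⟩ ⟨g', σ', rfl⟩
    refine ⟨g * gspMap σ g', σ * σ', ?_⟩
    rw [mul_assoc, ← mul_assoc (pspField σ), pspField_mul_pspDiag, map_mul, map_mul]
    simp only [mul_assoc]
  inv_mem' := by
    rintro _ ⟨g, σ, rfl⟩
    refine ⟨gspMap σ⁻¹ g⁻¹, σ⁻¹, ?_⟩
    rw [_root_.mul_inv_rev, ← map_inv, ← map_inv, pspField_mul_pspDiag]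

/-- if `gammaPSp = ⊤` then every automorphism is standard -/
theorem exists_std_of_gammaPSp_eq_top (h : Cfsg.gammaPSp m F = ⊤) (β : MulAut (Cfsg.PSp m F)) :
    ∃ (g : ↥(Cfsg.GSp m F)) (σ : RingAut F), β = pspDiag g * pspField σ := by
  have h1 : Cfsg.gammaPSp m F ≤ stdAutPSp m F := by
    unfold Cfsg.gammaPSp Cfsg.autSubgroupOf
    rw [Subgroup.closure_le]
    rintro β ⟨g, σ, hg, hβ⟩
    rw [isInducedBySemilinearPSp_iff g hg] at hβ
    exact ⟨⟨g, hg⟩, σ, hβ⟩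
  rw [h] at h1
  exact h1 (Subgroup.mem_top β)

end Cfsg.Agent.Lib.Helper43
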