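/-
helper43: the kernel of `(g, σ) ↦ pspDiag g * pspField σ` on `PSp_{2m}(F)`: `σ = 1` and `g` scalar.
-/
import Mathlib
import Cfsg.Agent.Lib.Helper43.PSpAutRel
import Cfsg.Agent.Lib.Helper5.SymplecticCenter

set_option autoImplicit false

namespace Cfsg.Agent.Lib.Helper43

open scoped MatrixGroups Matrix
open Matrix Cfsg.Agent.Lib.Helper5

variable {m : ℕ} {F : Type*} [Field F]

theorem sympTransvecMat_map (σ : F →+* F) (a : Fin m ⊕ Fin m → F) (c : F) :
    (sympTransvecMat a c).map σ = sympTransvecMat (fun i => σ (a i)) (σ c) := by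
  have h1 : (Matrix.J (Fin m) F *ᵥ fun i => σ (a i)) =
      fun i => σ ((Matrix.J (Fin m) F *ᵥ a) i) := by
    conv_lhs => rw [← J_map (m := m) σ]
    exact map_mulVec_map σ _ a
  unfold sympTransvecMat
  rw [h1]
  ext i j
  simp only [Matrix.map_apply, Matrix.add_apply, Matrix.smul_apply, Matrix.vecMulVec_apply,
    smul_eq_mul, map_add, map_mul, Matrix.one_apply]
  congr 1
  split_ifs <;> simp

theorem sympTransvec_mul_sympTransvec (a : Fin m ⊕ Fin m → F) (c d : F) :
    sympTransvec a c * sympTransvec a d = sympTransvec a (c + d) := by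
  apply Subtype.ext
  apply Matrix.toLin'.injective
  apply LinearMap.ext
  intro x
  rw [Matrix.toLin'_apply, Matrix.toLin'_apply, Submonoid.coe_mul, ← Matrix.mulVec_mulVec,
    sympTransvec_mulVec, sympTransvec_mulVec, sympTransvec_mulVec]
  simp only [sympForm_add_left, sympForm_smul_left, sympForm_self, mul_zero, add_zero]
  rw [add_assoc, ← add_smul]
  congr 2
  ring

/-- an automorphism of `Sp` inducing the identity on `PSp` fixes every transvection -/
theorem apply_sympTransvec_eq_of_pspDescend_eq_one (hm : 1 ≤ m)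
    (φ : MulAut ↥(Matrix.symplecticGroup (Fin m) F)) (hφ : pspDescend φ = 1)
    (a : Fin m ⊕ Fin m → F) (c : F) : φ (sympTransvec a c) = sympTransvec a c := by
  have : Nonempty (Fin m) := ⟨⟨0, hm⟩⟩
  have hz : ∀ s : ↥(Matrix.symplecticGroup (Fin m) F),
      s⁻¹ * φ s ∈ Subgroup.center ↥(Matrix.symplecticGroup (Fin m) F) := by
    intro s
    have h1 := congrArg (fun β : MulAut (Cfsg.PSp m F) => β (QuotientGroup.mk s)) hφ
    simp only [pspDescend_mk, MulAut.one_apply] at h1
    rw [eq_comm, QuotientGroup.eq] at h1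
    exact h1
  by_cases h2 : (2 : F) = 0
  · -- characteristic two: the centre is trivial
    have h3 := hz (sympTransvec a c)
    rcases symplecticGroup_center_eq_one_or_neg_one _ h3 with h4 | h4
    · have h5 : (sympTransvec a c)⁻¹ * φ (sympTransvec a c) = 1 := Subtype.ext h4
      exact (inv_mul_eq_one.mp h5).symm
    · have hneg : (-1 : Matrix (Fin m ⊕ Fin m) (Fin m ⊕ Fin m) F) = 1 := by
        have : (-1 : F) = 1 := by
          have h6 : (1 : F) + 1 = 0 := by rw [one_add_one_eq_two]; exact h2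
          exact (eq_neg_of_add_eq_zero_left h6).symm
        ext i j
        simp only [Matrix.neg_apply, Matrix.one_apply]
        split_ifs
        · exact this
        · simp
      rw [hneg] at h4
      have h5 : (sympTransvec a c)⁻¹ * φ (sympTransvec a c) = 1 := Subtype.ext h4
      exact (inv_mul_eq_one.mp h5).symm
  · -- odd characteristic: a transvection is a square
    have hsq : sympTransvec a c = sympTransvec a (c / 2) * sympTransvec a (c / 2) := by
      rw [sympTransvec_mul_sympTransvec]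
      congr 1
      field_simp
      ring
    set t' := sympTransvec a (c / 2) with ht'
    set z := t'⁻¹ * φ t' with hzdef
    have hzc : z ∈ Subgroup.center ↥(Matrix.symplecticGroup (Fin m) F) := hz t'
    have hz2 : z * z = 1 := by
      rcases symplecticGroup_center_eq_one_or_neg_one _ hzc with h4 | h4
      · have : z = 1 := Subtype.ext h4
        rw [this, mul_one]
      · apply Subtype.ext
        rw [Submonoid.coe_mul, h4]
        simp
    have hφt' : φ t' = t' * z := by rw [hzdef, mul_inv_cancel_left]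
    rw [hsq, map_mul, hφt']
    have hcomm : z * t' = t' * z := (Subgroup.mem_center_iff.mp hzc t').symm
    calc t' * z * (t' * z) = t' * (z * t') * z := by group
      _ = t' * (t' * z) * z := by rw [hcomm]
      _ = t' * t' * (z * z) := by group
      _ = t' * t' := by rw [hz2, mul_one]

theorem eq_one_of_pspDiag_mul_pspField_eq_one (hm : 1 ≤ m) (g : ↥(Cfsg.GSp m F)) (σ : RingAut F)
    (h : (pspDiag g : MulAut (Cfsg.PSp m F)) * pspField σ = 1) :
    σ = 1 ∧ ∃ c : F, ((g : GL (Fin m ⊕ Fin m) F) : Matrix (Fin m ⊕ Fin m) (Fin m ⊕ Fin m) F) =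
      Matrix.scalar (Fin m ⊕ Fin m) c := by
  set G : Matrix (Fin m ⊕ Fin m) (Fin m ⊕ Fin m) F :=
    ((g : GL (Fin m ⊕ Fin m) F) : Matrix (Fin m ⊕ Fin m) (Fin m ⊕ Fin m) F) with hG
  have hφ : pspDescend (spConj g * spFieldAut σ) = (1 : MulAut (Cfsg.PSp m F)) := by
    rw [map_mul]; exact h
  -- the key identity
  have key : ∀ (a : Fin m ⊕ Fin m → F) (c : F) (x : Fin m ⊕ Fin m → F),
      (σ c * Cfsg.Agent.Lib.Helper5.sympForm (Fin m) F x (fun i => σ (a i))) • (G *ᵥ fun i => σ (a i)) =
        (c * Cfsg.Agent.Lib.Helper5.sympForm (Fin m) F (G *ᵥ x) a) • a := by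
    intro a c x
    have h1 := apply_sympTransvec_eq_of_pspDescend_eq_one hm _ hφ a c
    have h2 := congrArg (fun s : ↥(Matrix.symplecticGroup (Fin m) F) =>
      (s : Matrix (Fin m ⊕ Fin m) (Fin m ⊕ Fin m) F)) h1
    simp only [MulAut.mul_apply, spConj_apply_coe, spFieldAut_apply_coe, sympTransvec_coe] at h2
    have h3 : G * (sympTransvecMat a c).map σ = sympTransvecMat a c * G := by
      have h4 := congrArg (fun M : Matrix (Fin m ⊕ Fin m) (Fin m ⊕ Fin m) F => M * G) h2
      beta_reduce at h4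
      rw [Matrix.mul_assoc, gl_inv_mul_coe, Matrix.mul_one] at h4
      exact h4
    have h5 := congrArg (fun M : Matrix (Fin m ⊕ Fin m) (Fin m ⊕ Fin m) F => M *ᵥ x) h3
    beta_reduce at h5
    have hmap := sympTransvecMat_map ((σ : F ≃+* F) : F →+* F) a c
    simp only [RingEquiv.coe_toRingHom] at hmap
    rw [hmap, ← Matrix.mulVec_mulVec, ← Matrix.mulVec_mulVec, sympTransvecMat_mulVec,
      sympTransvecMat_mulVec, Matrix.mulVec_add, Matrix.mulVec_smul] at h5
    exact add_left_cancel h5
  -- a fixed basis vector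
  set e : Fin m ⊕ Fin m → F := Pi.single (Sum.inl ⟨0, hm⟩) 1 with he
  set x₀ : Fin m ⊕ Fin m → F := Pi.single (Sum.inr ⟨0, hm⟩) 1 with hx₀
  have hσe : (fun i => σ (e i)) = e := by
    funext i
    rw [he]
    by_cases hi : i = Sum.inl ⟨0, hm⟩
    · subst hi; simp
    · simp [Pi.single_eq_of_ne hi]
  have hxe : Cfsg.Agent.Lib.Helper5.sympForm (Fin m) F x₀ e ≠ 0 := by
    rw [he, sympForm_single_inl_right, hx₀]
    simp
  have hGe : G *ᵥ e ≠ 0 := by
    intro h0
    have h1 := congrArg (fun w => ((((g : GL (Fin m ⊕ Fin m) F)⁻¹ : GL (Fin m ⊕ Fin m) F)) :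
      Matrix (Fin m ⊕ Fin m) (Fin m ⊕ Fin m) F) *ᵥ w) h0
    simp only [Matrix.mulVec_mulVec, Matrix.mulVec_zero] at h1
    rw [hG, gl_inv_mul_coe, Matrix.one_mulVec] at h1
    have h2 := congrFun h1 (Sum.inl ⟨0, hm⟩)
    rw [he] at h2
    simp at h2
  have hσ1 : σ = 1 := by
    apply RingEquiv.ext
    intro c
    have h1 := key e c x₀
    have h2 := key e 1 x₀
    rw [hσe] at h1 h2
    rw [map_one, one_mul, one_mul] at h2
    rw [mul_smul, h2, mul_smul, ← h2, ← sub_eq_zero, ← sub_smul] at h1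
    rcases smul_eq_zero.mp h1 with h3 | h3
    · exact sub_eq_zero.mp h3
    · rcases smul_eq_zero.mp h3 with h4 | h4
      · exact absurd h4 hxe
      · exact absurd h4 hGe
  refine ⟨hσ1, ?_⟩
  apply eq_scalar_of_forall_mulVec_mem_span
  intro v hv
  obtain ⟨u, hu⟩ := exists_sympForm_ne_zero hv
  have hu' : Cfsg.Agent.Lib.Helper5.sympForm (Fin m) F u v ≠ 0 := by
    rw [sympForm_swap (R := F) v u]; simpa using hu
  have h1 := key v 1 u
  rw [hσ1] at h1
  simp only [RingAut.one_apply, one_mul] at h1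
  refine ⟨(Cfsg.Agent.Lib.Helper5.sympForm (Fin m) F u v)⁻¹ * Cfsg.Agent.Lib.Helper5.sympForm (Fin m) F (G *ᵥ u) v, ?_⟩
  rw [mul_smul, ← h1, smul_smul, inv_mul_cancel₀ hu', one_smul]

end Cfsg.Agent.Lib.Helper43
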