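import Mathlib
import Cfsg.Prelude.Def_LieTypeDatum

set_option autoImplicit false

/-!
# `IsConjUnder` and `splitClassCount`: general lemmas

`splitClassCount_eq_card`: if `π : Γ →* X` has range `H` and `ψ : Γ → A` is a surjection whose fibres are
exactly the `K`-conjugacy classes of the elements `π g * x * (π g)⁻¹`, then
`splitClassCount H K x = Nat.card A`.
-/

namespace Cfsg.Agent.Lib.Helper43

variable {X : Type*} [Group X]

theorem isConjUnder_refl (H : Subgroup X) (x : X) : Cfsg.IsConjUnder H x x :=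
  ⟨1, H.one_mem, by simp⟩

theorem isConjUnder_symm {H : Subgroup X} {x y : X} (h : Cfsg.IsConjUnder H x y) :
    Cfsg.IsConjUnder H y x := by
  obtain ⟨a, ha, rfl⟩ := h
  exact ⟨a⁻¹, H.inv_mem ha, by group⟩

theorem isConjUnder_trans {H : Subgroup X} {x y z : X} (h : Cfsg.IsConjUnder H x y)
    (h' : Cfsg.IsConjUnder H y z) : Cfsg.IsConjUnder H x z := by
  obtain ⟨a, ha, rfl⟩ := h
  obtain ⟨b, hb, rfl⟩ := h'
  exact ⟨b * a, H.mul_mem hb ha, by group⟩

theorem isConjUnder_iff_of_isConjUnder {H : Subgroup X} {x x' : X} (h : Cfsg.IsConjUnder H x x')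
    (y : X) : Cfsg.IsConjUnder H x y ↔ Cfsg.IsConjUnder H x' y :=
  ⟨fun h1 => isConjUnder_trans (isConjUnder_symm h) h1, fun h1 => isConjUnder_trans h h1⟩

/-- the split class count only depends on the `H`-class -/
theorem splitClassCount_congr {H K : Subgroup X} {x x' : X} (h : Cfsg.IsConjUnder H x x') :
    Cfsg.splitClassCount H K x = Cfsg.splitClassCount H K x' := by
  have hP : Cfsg.IsConjUnder H x = Cfsg.IsConjUnder H x' := by
    funext y
    exact propext (isConjUnder_iff_of_isConjUnder h y)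
  unfold Cfsg.splitClassCount
  rw [hP]

/-- computing the split class count through a parametrisation of `H` -/
theorem splitClassCount_eq_card {Γ : Type*} [Group Γ] {A : Type*} (H K : Subgroup X) (x : X)
    (π : Γ →* X) (hπ : π.range = H) (ψ : Γ → A) (hψ : Function.Surjective ψ)
    (hiff : ∀ g g' : Γ, ψ g = ψ g' ↔
      Cfsg.IsConjUnder K (π g * x * (π g)⁻¹) (π g' * x * (π g')⁻¹)) :
    Cfsg.splitClassCount H K x = Nat.card A := by
  unfold Cfsg.splitClassCount
  have hex : ∀ y : {y : X // Cfsg.IsConjUnder H x y}, ∃ g : Γ, y.1 = π g * x * (π g)⁻¹ := by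
    rintro ⟨y, a, ha, rfl⟩
    rw [← hπ] at ha
    obtain ⟨g, rfl⟩ := ha
    exact ⟨g, rfl⟩
  choose rep hrep using hex
  let Φ : Quot (fun y z : {y : X // Cfsg.IsConjUnder H x y} => Cfsg.IsConjUnder K y.1 z.1) → A :=
    Quot.lift (fun y => ψ (rep y)) (by
      intro y z hyz
      show ψ (rep y) = ψ (rep z)
      rw [hiff, ← hrep y, ← hrep z]
      exact hyz)
  apply Nat.card_congr
  refine Equiv.ofBijective Φ ⟨?_, ?_⟩
  · intro a b
    induction a using Quot.inductionOn with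
    | _ y =>
    induction b using Quot.inductionOn with
    | _ z =>
    intro hab
    apply Quot.sound
    have h1 : ψ (rep y) = ψ (rep z) := hab
    rw [hiff, ← hrep y, ← hrep z] at h1
    exact h1
  · intro a
    obtain ⟨g, rfl⟩ := hψ a
    have hy : Cfsg.IsConjUnder H x (π g * x * (π g)⁻¹) :=
      ⟨π g, by rw [← hπ]; exact ⟨g, rfl⟩, rfl⟩
    refine ⟨Quot.mk _ ⟨_, hy⟩, ?_⟩
    show ψ (rep ⟨_, hy⟩) = ψ g
    rw [hiff, ← hrep ⟨_, hy⟩]
    exact isConjUnder_refl K _

/-- conjugating the centraliser: if `x' = a * x * a⁻¹` with `a ∈ H` then `H ⊓ C(x) ≃* H ⊓ C(x')` -/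
noncomputable def centralizerInfEquivOfConj {H : Subgroup X} {x x' : X} (a : X) (ha : a ∈ H)
    (hx : x' = a * x * a⁻¹) :
    ↥(H ⊓ Subgroup.centralizer {x}) ≃* ↥(H ⊓ Subgroup.centralizer {x'}) where
  toFun c := ⟨a * c.1 * a⁻¹, by
    have hc1 := (Subgroup.mem_inf.mp c.2).1
    have hc := (Subgroup.mem_inf.mp c.2).2
    refine Subgroup.mem_inf.mpr ⟨H.mul_mem (H.mul_mem ha hc1) (H.inv_mem ha), ?_⟩
    rw [Subgroup.mem_centralizer_singleton_iff] at hc ⊢
    rw [hx]
    calc a * c.1 * a⁻¹ * (a * x * a⁻¹) = a * (c.1 * x) * a⁻¹ := by group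
      _ = a * (x * c.1) * a⁻¹ := by rw [hc]
      _ = a * x * a⁻¹ * (a * c.1 * a⁻¹) := by group⟩
  invFun c := ⟨a⁻¹ * c.1 * a, by
    have hc1 := (Subgroup.mem_inf.mp c.2).1
    have hc := (Subgroup.mem_inf.mp c.2).2
    refine Subgroup.mem_inf.mpr ⟨H.mul_mem (H.mul_mem (H.inv_mem ha) hc1) ha, ?_⟩
    rw [Subgroup.mem_centralizer_singleton_iff] at hc ⊢
    have hx' : x = a⁻¹ * x' * a := by rw [hx]; group
    rw [hx']
    calc a⁻¹ * c.1 * a * (a⁻¹ * x' * a) = a⁻¹ * (c.1 * x') * a := by group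
      _ = a⁻¹ * (x' * c.1) * a := by rw [hc]
      _ = a⁻¹ * x' * a * (a⁻¹ * c.1 * a) := by group⟩
  left_inv c := by
    apply Subtype.ext
    show a⁻¹ * (a * c.1 * a⁻¹) * a = c.1
    group
  right_inv c := by
    apply Subtype.ext
    show a * (a⁻¹ * c.1 * a) * a⁻¹ = c.1
    group
  map_mul' c c' := by
    apply Subtype.ext
    show a * (c.1 * c'.1) * a⁻¹ = a * c.1 * a⁻¹ * (a * c'.1 * a⁻¹)
    group

end Cfsg.Agent.Lib.Helper43
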