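/-
helper43: `PSp_{2m}(F)`: scalars, the multiplier, inner automorphisms, equality of inner-diagonal automorphisms,
and normality of `Inndiag` in the automorphism group (from `gammaPSp = ⊤`, or in characteristic two).
-/
import Mathlib
import Cfsg.Agent.Lib.Helper43.PSpAutKer
import Cfsg.Agent.Lib.Helper43.SplitClass

set_option autoImplicit false

namespace Cfsg.Agent.Lib.Helper43

open scoped MatrixGroups Matrix
open Matrix

variable {m : ℕ} {F : Type*} [Field F]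

theorem sympForm_smul_smul (c : F) (u v : Fin m ⊕ Fin m → F) :
    Cfsg.sympForm m F (c • u) (c • v) = c * c * Cfsg.sympForm m F u v := by
  have h1 := Cfsg.Agent.Lib.Helper5.sympForm_smul_left (l := Fin m) c u (c • v)
  have h2 := Cfsg.Agent.Lib.Helper5.sympForm_smul_right (l := Fin m) c u v
  show Cfsg.Agent.Lib.Helper5.sympForm (Fin m) F (c • u) (c • v) = _
  rw [h1, h2, mul_assoc]
  rfl

theorem scalar_mem_GSp (c : Fˣ) :
    Matrix.GeneralLinearGroup.scalar (Fin m ⊕ Fin m) c ∈ Cfsg.GSp m F := by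
  rw [mem_GSp_iff]
  refine ⟨c * c, ?_⟩
  intro u v
  have h1 : ∀ w : Fin m ⊕ Fin m → F,
      ((Matrix.GeneralLinearGroup.scalar (Fin m ⊕ Fin m) c : GL (Fin m ⊕ Fin m) F) :
        Matrix (Fin m ⊕ Fin m) (Fin m ⊕ Fin m) F) *ᵥ w = (c : F) • w := by
    intro w
    rw [Matrix.GeneralLinearGroup.coe_scalar, Matrix.scalar_apply]
    funext i
    rw [Matrix.mulVec_diagonal]
    rfl
  rw [h1, h1, sympForm_smul_smul, Units.val_mul]

/-- scalar matrices in `GSp` -/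
noncomputable def scalarGSp : Fˣ →* ↥(Cfsg.GSp m F) where
  toFun c := ⟨Matrix.GeneralLinearGroup.scalar (Fin m ⊕ Fin m) c, scalar_mem_GSp c⟩
  map_one' := by
    apply Subtype.ext
    show Matrix.GeneralLinearGroup.scalar (Fin m ⊕ Fin m) (1 : Fˣ) = 1
    rw [map_one]
  map_mul' a b := by
    apply Subtype.ext
    show Matrix.GeneralLinearGroup.scalar (Fin m ⊕ Fin m) (a * b) = _
    rw [map_mul]
    rfl

theorem scalarGSp_coe (c : Fˣ) :
    (((scalarGSp c : ↥(Cfsg.GSp m F)) : GL (Fin m ⊕ Fin m) F) :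
      Matrix (Fin m ⊕ Fin m) (Fin m ⊕ Fin m) F) = (c : F) • 1 := by
  show ((Matrix.GeneralLinearGroup.scalar (Fin m ⊕ Fin m) c : GL (Fin m ⊕ Fin m) F) :
    Matrix (Fin m ⊕ Fin m) (Fin m ⊕ Fin m) F) = _
  rw [Matrix.GeneralLinearGroup.coe_scalar, Matrix.smul_one_eq_diagonal]
  rfl

theorem scalarGSp_comm (c : Fˣ) (g : ↥(Cfsg.GSp m F)) : scalarGSp c * g = g * scalarGSp c := by
  apply Subtype.ext
  apply Units.ext
  rw [Subgroup.coe_mul, Subgroup.coe_mul, Units.val_mul, Units.val_mul, scalarGSp_coe,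
    Matrix.smul_mul, Matrix.one_mul, Matrix.mul_smul, Matrix.mul_one]

theorem spConj_scalarGSp (c : Fˣ) :
    spConj (scalarGSp c : ↥(Cfsg.GSp m F)) = 1 := by
  apply MulEquiv.ext
  intro s
  apply Subtype.ext
  rw [spConj_apply_coe, MulAut.one_apply, scalarGSp_coe, Matrix.smul_mul, Matrix.one_mul,
    Matrix.smul_mul]
  have h := gl_mul_inv_coe ((scalarGSp c : ↥(Cfsg.GSp m F)) : GL (Fin m ⊕ Fin m) F)
  rw [scalarGSp_coe, Matrix.smul_mul, Matrix.one_mul] at h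
  rw [← Matrix.mul_smul, h, Matrix.mul_one]

theorem pspDiag_scalarGSp (c : Fˣ) :
    (pspDiag (scalarGSp c : ↥(Cfsg.GSp m F)) : MulAut (Cfsg.PSp m F)) = 1 := by
  unfold pspDiag
  rw [MonoidHom.comp_apply, spConj_scalarGSp, map_one]

theorem gsp_coe_ne_zero (hm : 1 ≤ m) (g : GL (Fin m ⊕ Fin m) F) :
    (g : Matrix (Fin m ⊕ Fin m) (Fin m ⊕ Fin m) F) ≠ 0 := by
  intro h0
  have h1 := gl_mul_inv_coe g
  rw [h0, Matrix.zero_mul] at h1
  have h2 := congrFun (congrFun h1 (Sum.inl ⟨0, hm⟩)) (Sum.inl ⟨0, hm⟩)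
  simp at h2

/-- the kernel of `pspDiag` consists of the scalars -/
theorem pspDiag_eq_one_iff (hm : 1 ≤ m) (g : ↥(Cfsg.GSp m F)) :
    (pspDiag g : MulAut (Cfsg.PSp m F)) = 1 ↔ ∃ c : Fˣ, g = scalarGSp c := by
  constructor
  · intro h
    have h1 : (pspDiag g : MulAut (Cfsg.PSp m F)) * pspField 1 = 1 := by
      rw [map_one, mul_one, h]
    obtain ⟨-, c, hc⟩ := eq_one_of_pspDiag_mul_pspField_eq_one hm g 1 h1
    have hc0 : c ≠ 0 := by
      intro h0
      apply gsp_coe_ne_zero hm (g : GL (Fin m ⊕ Fin m) F)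
      rw [hc, h0, map_zero]
    refine ⟨Units.mk0 c hc0, ?_⟩
    apply Subtype.ext
    apply Units.ext
    rw [hc, scalarGSp_coe, Units.val_mk0, Matrix.scalar_apply, Matrix.smul_one_eq_diagonal]
  · rintro ⟨c, rfl⟩
    exact pspDiag_scalarGSp c

theorem pspDiag_eq_iff (hm : 1 ≤ m) (a b : ↥(Cfsg.GSp m F)) :
    (pspDiag a : MulAut (Cfsg.PSp m F)) = pspDiag b ↔ ∃ c : Fˣ, a = scalarGSp c * b := by
  constructor
  · intro h
    have h1 : (pspDiag (a * b⁻¹) : MulAut (Cfsg.PSp m F)) = 1 := by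
      rw [map_mul, map_inv, h, mul_inv_cancel]
    obtain ⟨c, hc⟩ := (pspDiag_eq_one_iff hm _).mp h1
    refine ⟨c, ?_⟩
    rw [← hc]
    group
  · rintro ⟨c, rfl⟩
    rw [map_mul, pspDiag_scalarGSp, one_mul]

theorem pspField_injective (hm : 1 ≤ m) :
    Function.Injective (pspField : RingAut F →* MulAut (Cfsg.PSp m F)) := by
  rw [injective_iff_map_eq_one]
  intro σ hσ
  have h1 : (pspDiag (1 : ↥(Cfsg.GSp m F)) : MulAut (Cfsg.PSp m F)) * pspField σ = 1 := by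
    rw [map_one, one_mul, hσ]
  exact (eq_one_of_pspDiag_mul_pspField_eq_one hm 1 σ h1).1

theorem orderOf_pspField (hm : 1 ≤ m) (σ : RingAut F) :
    orderOf (pspField σ : MulAut (Cfsg.PSp m F)) = orderOf σ :=
  orderOf_injective pspField (pspField_injective hm) σ

/-- uniqueness of the field part -/
theorem field_part_unique (hm : 1 ≤ m) (g g' : ↥(Cfsg.GSp m F)) (σ σ' : RingAut F)
    (h : (pspDiag g : MulAut (Cfsg.PSp m F)) * pspField σ = pspDiag g' * pspField σ') :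
    σ = σ' := by
  have h1 : (pspDiag (g'⁻¹ * g) : MulAut (Cfsg.PSp m F)) * pspField (σ * σ'⁻¹) = 1 := by
    rw [map_mul, map_mul, map_inv, map_inv]
    calc (pspDiag g')⁻¹ * pspDiag g * (pspField σ * (pspField σ')⁻¹)
        = (pspDiag g')⁻¹ * (pspDiag g * pspField σ) * (pspField σ')⁻¹ := by group
      _ = 1 := by rw [h]; group
  have h2 := (eq_one_of_pspDiag_mul_pspField_eq_one hm _ _ h1).1
  exact mul_inv_eq_one.mp h2

/-! ### symplectic matrices inside `GSp` and inner automorphisms -/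

/-- a symplectic matrix as an element of `GL` -/
def spToGL (s : ↥(Matrix.symplecticGroup (Fin m) F)) : GL (Fin m ⊕ Fin m) F :=
  ⟨s.1, (s⁻¹).1, congrArg Subtype.val (mul_inv_cancel s), congrArg Subtype.val (inv_mul_cancel s)⟩

theorem spToGL_coe (s : ↥(Matrix.symplecticGroup (Fin m) F)) :
    ((spToGL s : GL (Fin m ⊕ Fin m) F) : Matrix (Fin m ⊕ Fin m) (Fin m ⊕ Fin m) F) = s.1 := rfl

theorem spToGL_mem_GSp (s : ↥(Matrix.symplecticGroup (Fin m) F)) : spToGL s ∈ Cfsg.GSp m F := by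
  rw [mem_GSp_iff]
  refine ⟨1, ?_⟩
  intro u v
  rw [Units.val_one, one_mul, spToGL_coe]
  exact (mem_sp_iff_form s.1).mp s.2 u v

/-- `Sp → GSp` -/
def toGSp : ↥(Matrix.symplecticGroup (Fin m) F) →* ↥(Cfsg.GSp m F) where
  toFun s := ⟨spToGL s, spToGL_mem_GSp s⟩
  map_one' := by
    apply Subtype.ext
    apply Units.ext
    rfl
  map_mul' s t := by
    apply Subtype.ext
    apply Units.ext
    rfl

theorem toGSp_coe (s : ↥(Matrix.symplecticGroup (Fin m) F)) :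
    (((toGSp s : ↥(Cfsg.GSp m F)) : GL (Fin m ⊕ Fin m) F) :
      Matrix (Fin m ⊕ Fin m) (Fin m ⊕ Fin m) F) = s.1 := rfl

theorem spConj_toGSp (s : ↥(Matrix.symplecticGroup (Fin m) F)) :
    spConj (toGSp s) = MulAut.conj s := by
  apply MulEquiv.ext
  intro t
  apply Subtype.ext
  rw [spConj_apply_coe, MulAut.conj_apply]
  rfl

theorem pspDiag_toGSp (s : ↥(Matrix.symplecticGroup (Fin m) F)) :
    pspDiag (toGSp s) = MulAut.conj (QuotientGroup.mk s : Cfsg.PSp m F) := by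
  unfold pspDiag
  rw [MonoidHom.comp_apply, spConj_toGSp, pspDescend_conj]

theorem mem_inn_psp_iff (t : MulAut (Cfsg.PSp m F)) :
    t ∈ Cfsg.Inn (Cfsg.PSp m F) ↔
      ∃ s : ↥(Matrix.symplecticGroup (Fin m) F), t = pspDiag (toGSp s) := by
  constructor
  · rintro ⟨x, rfl⟩
    obtain ⟨s, rfl⟩ := QuotientGroup.mk_surjective x
    exact ⟨s, (pspDiag_toGSp s).symm⟩
  · rintro ⟨s, rfl⟩
    rw [pspDiag_toGSp]
    exact ⟨_, rfl⟩

/-- an element of `GSp` whose multiplier is `1` is symplectic -/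
theorem exists_toGSp_eq (g : ↥(Cfsg.GSp m F))
    (h : ∀ u v : Fin m ⊕ Fin m → F,
      Cfsg.sympForm m F (((g : GL (Fin m ⊕ Fin m) F) : Matrix _ _ F) *ᵥ u)
        (((g : GL (Fin m ⊕ Fin m) F) : Matrix _ _ F) *ᵥ v) = Cfsg.sympForm m F u v) :
    ∃ s : ↥(Matrix.symplecticGroup (Fin m) F), toGSp s = g := by
  refine ⟨⟨((g : GL (Fin m ⊕ Fin m) F) : Matrix _ _ F), (mem_sp_iff_form _).mpr h⟩, ?_⟩
  apply Subtype.ext
  apply Units.ext
  rfl

/-! ### normality of `Inndiag` -/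

/-- `Inndiag(PSp)` is normalised by every automorphism (as a property) -/
def InndiagNormalPSp (m : ℕ) (F : Type*) [Field F] : Prop :=
  ∀ (α : MulAut (Cfsg.PSp m F)) (d : ↥(Cfsg.GSp m F)),
    ∃ d' : ↥(Cfsg.GSp m F), α * pspDiag d * α⁻¹ = pspDiag d'

theorem inndiagNormalPSp_of_std
    (hstd : ∀ β : MulAut (Cfsg.PSp m F),
      ∃ (g : ↥(Cfsg.GSp m F)) (σ : RingAut F), β = pspDiag g * pspField σ) :
    InndiagNormalPSp m F := by
  intro α d
  obtain ⟨a, τ, rfl⟩ := hstd α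
  refine ⟨a * gspMap τ d * a⁻¹, ?_⟩
  rw [_root_.mul_inv_rev, map_mul, map_mul, map_inv]
  calc pspDiag a * pspField τ * pspDiag d * ((pspField τ)⁻¹ * (pspDiag a)⁻¹)
      = pspDiag a * (pspField τ * pspDiag d) * (pspField τ)⁻¹ * (pspDiag a)⁻¹ := by group
    _ = pspDiag a * pspDiag (gspMap τ d) * (pspDiag a)⁻¹ := by
        rw [pspField_mul_pspDiag]; group

/-- if every element of `GSp` is a scalar times a symplectic matrix, `Inndiag = Inn` is normal -/
theorem inndiagNormalPSp_of_scalar_mul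
    (h : ∀ d : ↥(Cfsg.GSp m F), ∃ (c : Fˣ) (s : ↥(Matrix.symplecticGroup (Fin m) F)),
      d = scalarGSp c * toGSp s) :
    InndiagNormalPSp m F := by
  intro α d
  obtain ⟨c, s, rfl⟩ := h d
  obtain ⟨s', hs'⟩ := QuotientGroup.mk_surjective (α (QuotientGroup.mk s : Cfsg.PSp m F))
  refine ⟨toGSp s', ?_⟩
  rw [map_mul, pspDiag_scalarGSp, one_mul, pspDiag_toGSp, pspDiag_toGSp, hs']
  apply MulEquiv.ext
  intro x
  simp only [MulAut.mul_apply, MulAut.conj_apply, map_mul, map_inv, MulAut.apply_inv_self]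

theorem isConjUnder_of_conj_psp (hN : InndiagNormalPSp m F) (α x y : MulAut (Cfsg.PSp m F))
    (h : Cfsg.IsConjUnder (Cfsg.inndiagPSp m F) (α * x * α⁻¹) (α * y * α⁻¹)) :
    Cfsg.IsConjUnder (Cfsg.inndiagPSp m F) x y := by
  obtain ⟨b, hb, hxy⟩ := h
  rw [inndiagPSp_eq_range] at hb
  obtain ⟨d, rfl⟩ := hb
  obtain ⟨d', hd'⟩ := hN α⁻¹ d
  rw [inv_inv] at hd'
  refine ⟨pspDiag d', pspDiag_mem_inndiagPSp d', ?_⟩
  rw [← hd']
  have : y = α⁻¹ * (α * y * α⁻¹) * α := by group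
  rw [this, hxy]
  group

end Cfsg.Agent.Lib.Helper43
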