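/-
helper43: explicit automorphisms of `SL_n(F)` and `PSL_n(F)`: conjugation by invertible matrices,
field automorphisms and the inverse transpose, with their commutation relations.
-/
import Mathlib

set_option autoImplicit false

namespace Cfsg.Agent.Lib.Helper43

open Matrix

section

variable {n : ℕ} {F : Type*} [Field F]

/-- an automorphism of `SL_n(F)` induces an automorphism of `PSL_n(F)` -/
noncomputable def pslDescend :
    MulAut (Matrix.SpecialLinearGroup (Fin n) F) →*
      MulAut (Matrix.ProjectiveSpecialLinearGroup (Fin n) F) where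
  toFun α := QuotientGroup.congr (Subgroup.center (Matrix.SpecialLinearGroup (Fin n) F))
    (Subgroup.center (Matrix.SpecialLinearGroup (Fin n) F)) α
    (Subgroup.characteristic_iff_map_eq.mp Subgroup.centerCharacteristic α)
  map_one' := by
    apply MulEquiv.ext
    intro x
    obtain ⟨x, rfl⟩ := QuotientGroup.mk_surjective x
    rfl
  map_mul' α β := by
    apply MulEquiv.ext
    intro x
    obtain ⟨x, rfl⟩ := QuotientGroup.mk_surjective x
    rfl

theorem pslDescend_mk (α : MulAut (Matrix.SpecialLinearGroup (Fin n) F))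
    (x : Matrix.SpecialLinearGroup (Fin n) F) :
    pslDescend α (QuotientGroup.mk x : Matrix.ProjectiveSpecialLinearGroup (Fin n) F)
      = QuotientGroup.mk (α x) := rfl

theorem pslDescend_conj (g : Matrix.SpecialLinearGroup (Fin n) F) :
    pslDescend (MulAut.conj g)
      = MulAut.conj (QuotientGroup.mk g : Matrix.ProjectiveSpecialLinearGroup (Fin n) F) := by
  apply MulEquiv.ext
  intro x
  obtain ⟨x, rfl⟩ := QuotientGroup.mk_surjective x
  rfl

/-- conjugation of `SL_n(F)` by an invertible matrix -/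
def slConj : GL (Fin n) F →* MulAut (Matrix.SpecialLinearGroup (Fin n) F) where
  toFun g :=
    { toFun := fun s => ⟨(g : Matrix (Fin n) (Fin n) F) * s.1 * ((g⁻¹ : GL (Fin n) F) :
          Matrix (Fin n) (Fin n) F), by
        rw [Matrix.det_mul, Matrix.det_mul, s.2, mul_one, ← Matrix.det_mul,
          ← Matrix.GeneralLinearGroup.coe_mul, mul_inv_cancel]
        simp⟩
      invFun := fun s => ⟨((g⁻¹ : GL (Fin n) F) : Matrix (Fin n) (Fin n) F) * s.1 *
          (g : Matrix (Fin n) (Fin n) F), by
        rw [Matrix.det_mul, Matrix.det_mul, s.2, mul_one, ← Matrix.det_mul,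
          ← Matrix.GeneralLinearGroup.coe_mul, inv_mul_cancel]
        simp⟩
      left_inv := fun s => by
        apply Subtype.ext
        show ((g⁻¹ : GL (Fin n) F) : Matrix (Fin n) (Fin n) F) *
          ((g : Matrix (Fin n) (Fin n) F) * s.1 * ((g⁻¹ : GL (Fin n) F) :
          Matrix (Fin n) (Fin n) F)) * (g : Matrix (Fin n) (Fin n) F) = s.1
        have h1 : ((g⁻¹ : GL (Fin n) F) : Matrix (Fin n) (Fin n) F) *
            (g : Matrix (Fin n) (Fin n) F) = 1 := by
          rw [← Matrix.GeneralLinearGroup.coe_mul, inv_mul_cancel]; rfl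
        rw [← Matrix.mul_assoc, ← Matrix.mul_assoc, h1, Matrix.one_mul, Matrix.mul_assoc, h1,
          Matrix.mul_one]
      right_inv := fun s => by
        apply Subtype.ext
        show (g : Matrix (Fin n) (Fin n) F) *
          (((g⁻¹ : GL (Fin n) F) : Matrix (Fin n) (Fin n) F) * s.1 *
          (g : Matrix (Fin n) (Fin n) F)) * ((g⁻¹ : GL (Fin n) F) :
          Matrix (Fin n) (Fin n) F) = s.1
        have h1 : (g : Matrix (Fin n) (Fin n) F) *
            ((g⁻¹ : GL (Fin n) F) : Matrix (Fin n) (Fin n) F) = 1 := by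
          rw [← Matrix.GeneralLinearGroup.coe_mul, mul_inv_cancel]; rfl
        rw [← Matrix.mul_assoc, ← Matrix.mul_assoc, h1, Matrix.one_mul, Matrix.mul_assoc, h1,
          Matrix.mul_one]
      map_mul' := fun s t => by
        apply Subtype.ext
        show (g : Matrix (Fin n) (Fin n) F) * (s.1 * t.1) * ((g⁻¹ : GL (Fin n) F) :
          Matrix (Fin n) (Fin n) F) =
          ((g : Matrix (Fin n) (Fin n) F) * s.1 * ((g⁻¹ : GL (Fin n) F) :
          Matrix (Fin n) (Fin n) F)) * ((g : Matrix (Fin n) (Fin n) F) * t.1 *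
          ((g⁻¹ : GL (Fin n) F) : Matrix (Fin n) (Fin n) F))
        have h1 : ((g⁻¹ : GL (Fin n) F) : Matrix (Fin n) (Fin n) F) *
            (g : Matrix (Fin n) (Fin n) F) = 1 := by
          rw [← Matrix.GeneralLinearGroup.coe_mul, inv_mul_cancel]; rfl
        calc (g : Matrix (Fin n) (Fin n) F) * (s.1 * t.1) * ((g⁻¹ : GL (Fin n) F) :
              Matrix (Fin n) (Fin n) F)
            = (g : Matrix (Fin n) (Fin n) F) * s.1 * 1 * t.1 * ((g⁻¹ : GL (Fin n) F) :
              Matrix (Fin n) (Fin n) F) := by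
              rw [Matrix.mul_one]
              simp only [Matrix.mul_assoc]
          _ = _ := by
              rw [← h1]
              simp only [Matrix.mul_assoc] }
  map_one' := by
    apply MulEquiv.ext
    intro s
    apply Subtype.ext
    show ((1 : GL (Fin n) F) : Matrix (Fin n) (Fin n) F) * s.1 *
      (((1 : GL (Fin n) F)⁻¹ : GL (Fin n) F) : Matrix (Fin n) (Fin n) F) = s.1
    simp
  map_mul' g h := by
    apply MulEquiv.ext
    intro s
    apply Subtype.ext
    show ((g * h : GL (Fin n) F) : Matrix (Fin n) (Fin n) F) * s.1 *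
      (((g * h)⁻¹ : GL (Fin n) F) : Matrix (Fin n) (Fin n) F) =
      (g : Matrix (Fin n) (Fin n) F) * ((h : Matrix (Fin n) (Fin n) F) * s.1 *
        ((h⁻¹ : GL (Fin n) F) : Matrix (Fin n) (Fin n) F)) *
        ((g⁻¹ : GL (Fin n) F) : Matrix (Fin n) (Fin n) F)
    rw [_root_.mul_inv_rev, Matrix.GeneralLinearGroup.coe_mul, Matrix.GeneralLinearGroup.coe_mul]
    simp only [Matrix.mul_assoc]

theorem slConj_apply_coe (g : GL (Fin n) F) (s : Matrix.SpecialLinearGroup (Fin n) F) :
    ((slConj g s : Matrix.SpecialLinearGroup (Fin n) F) : Matrix (Fin n) (Fin n) F) =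
      (g : Matrix (Fin n) (Fin n) F) * s.1 * ((g⁻¹ : GL (Fin n) F) :
          Matrix (Fin n) (Fin n) F) := rfl

/-- the automorphism of `SL_n(F)` induced by a field automorphism -/
def slFieldAut : RingAut F →* MulAut (Matrix.SpecialLinearGroup (Fin n) F) where
  toFun σ :=
    { toFun := Matrix.SpecialLinearGroup.map (σ : F →+* F)
      invFun := Matrix.SpecialLinearGroup.map (σ.symm : F →+* F)
      left_inv := by
        intro x
        apply Subtype.ext
        ext i j
        simp [Matrix.SpecialLinearGroup.map_apply_coe]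
      right_inv := by
        intro x
        apply Subtype.ext
        ext i j
        simp [Matrix.SpecialLinearGroup.map_apply_coe]
      map_mul' := map_mul _ }
  map_one' := by
    apply MulEquiv.ext
    intro x
    apply Subtype.ext
    ext i j
    rfl
  map_mul' σ τ := by
    apply MulEquiv.ext
    intro x
    apply Subtype.ext
    ext i j
    rfl

theorem slFieldAut_apply_coe (σ : RingAut F) (s : Matrix.SpecialLinearGroup (Fin n) F) :
    ((slFieldAut σ s : Matrix.SpecialLinearGroup (Fin n) F) : Matrix (Fin n) (Fin n) F) =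
      s.1.map σ := rfl

/-- the inverse transpose automorphism of `SL_n(F)` -/
def slInvT : MulAut (Matrix.SpecialLinearGroup (Fin n) F) where
  toFun s := (s⁻¹).transpose
  invFun s := (s⁻¹).transpose
  left_inv s := by
    apply Subtype.ext
    show ((((s⁻¹).transpose)⁻¹ : Matrix.SpecialLinearGroup (Fin n) F) :
      Matrix (Fin n) (Fin n) F)ᵀ = s.1
    rw [Matrix.SpecialLinearGroup.coe_inv]
    show (Matrix.adjugate ((s⁻¹ : Matrix.SpecialLinearGroup (Fin n) F) :
      Matrix (Fin n) (Fin n) F)ᵀ)ᵀ = s.1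
    rw [Matrix.adjugate_transpose, Matrix.transpose_transpose,
      ← Matrix.SpecialLinearGroup.coe_inv, inv_inv]
  right_inv s := by
    apply Subtype.ext
    show ((((s⁻¹).transpose)⁻¹ : Matrix.SpecialLinearGroup (Fin n) F) :
      Matrix (Fin n) (Fin n) F)ᵀ = s.1
    rw [Matrix.SpecialLinearGroup.coe_inv]
    show (Matrix.adjugate ((s⁻¹ : Matrix.SpecialLinearGroup (Fin n) F) :
      Matrix (Fin n) (Fin n) F)ᵀ)ᵀ = s.1
    rw [Matrix.adjugate_transpose, Matrix.transpose_transpose,
      ← Matrix.SpecialLinearGroup.coe_inv, inv_inv]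
  map_mul' s t := by
    apply Subtype.ext
    show (((s * t)⁻¹ : Matrix.SpecialLinearGroup (Fin n) F) : Matrix (Fin n) (Fin n) F)ᵀ =
      ((s⁻¹ : Matrix.SpecialLinearGroup (Fin n) F) : Matrix (Fin n) (Fin n) F)ᵀ *
        ((t⁻¹ : Matrix.SpecialLinearGroup (Fin n) F) : Matrix (Fin n) (Fin n) F)ᵀ
    rw [_root_.mul_inv_rev, Matrix.SpecialLinearGroup.coe_mul, Matrix.transpose_mul]

theorem slInvT_apply_coe (s : Matrix.SpecialLinearGroup (Fin n) F) :
    ((slInvT s : Matrix.SpecialLinearGroup (Fin n) F) : Matrix (Fin n) (Fin n) F) =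
      ((s⁻¹ : Matrix.SpecialLinearGroup (Fin n) F) : Matrix (Fin n) (Fin n) F)ᵀ := rfl

theorem slInvT_mul_self : (slInvT : MulAut (Matrix.SpecialLinearGroup (Fin n) F)) * slInvT = 1 := by
  apply MulEquiv.ext
  intro s
  exact slInvT.left_inv s

end

end Cfsg.Agent.Lib.Helper43
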