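/-
helper43: relations between the explicit automorphisms of `PSL_n(F)` and the description of the
frozen predicates (inner-diagonal, field, inverse transpose) in terms of them.
-/
import Cfsg.Prelude.Def_LieTypeDatum
import Cfsg.Agent.Lib.Helper43.PSLnAut

set_option autoImplicit false

namespace Cfsg.Agent.Lib.Helper43

open Matrix

section

variable {n : ℕ} {F : Type*} [Field F]

/-- the inverse transpose on `GL_n(F)` -/
def glInvT : GL (Fin n) F →* GL (Fin n) F where
  toFun g := ⟨((g⁻¹ : GL (Fin n) F) : Matrix (Fin n) (Fin n) F)ᵀ, (g : Matrix (Fin n) (Fin n) F)ᵀ, by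
      rw [← Matrix.transpose_mul, ← Matrix.GeneralLinearGroup.coe_mul, mul_inv_cancel]
      simp, by
      rw [← Matrix.transpose_mul, ← Matrix.GeneralLinearGroup.coe_mul, inv_mul_cancel]
      simp⟩
  map_one' := by
    apply Units.ext
    show (((1 : GL (Fin n) F)⁻¹ : GL (Fin n) F) : Matrix (Fin n) (Fin n) F)ᵀ = 1
    simp
  map_mul' g h := by
    apply Units.ext
    show (((g * h)⁻¹ : GL (Fin n) F) : Matrix (Fin n) (Fin n) F)ᵀ =
      ((g⁻¹ : GL (Fin n) F) : Matrix (Fin n) (Fin n) F)ᵀ *
        ((h⁻¹ : GL (Fin n) F) : Matrix (Fin n) (Fin n) F)ᵀ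
    rw [_root_.mul_inv_rev, Matrix.GeneralLinearGroup.coe_mul, Matrix.transpose_mul]

theorem glInvT_coe (g : GL (Fin n) F) :
    ((glInvT g : GL (Fin n) F) : Matrix (Fin n) (Fin n) F) =
      ((g⁻¹ : GL (Fin n) F) : Matrix (Fin n) (Fin n) F)ᵀ := rfl

theorem glInvT_inv_coe (g : GL (Fin n) F) :
    (((glInvT g)⁻¹ : GL (Fin n) F) : Matrix (Fin n) (Fin n) F) =
      (g : Matrix (Fin n) (Fin n) F)ᵀ := rfl

theorem slFieldAut_mul_slConj (σ : RingAut F) (g : GL (Fin n) F) :
    (slFieldAut σ : MulAut (Matrix.SpecialLinearGroup (Fin n) F)) * slConj g =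
      slConj (Matrix.GeneralLinearGroup.map (σ : F →+* F) g) * slFieldAut σ := by
  apply MulEquiv.ext
  intro s
  apply Subtype.ext
  rw [MulAut.mul_apply, MulAut.mul_apply, slFieldAut_apply_coe, slConj_apply_coe, slConj_apply_coe,
    slFieldAut_apply_coe, ← Matrix.GeneralLinearGroup.map_inv]
  have h1 : ∀ A B : Matrix (Fin n) (Fin n) F, (A * B).map σ = A.map σ * B.map σ := by
    intro A B
    exact Matrix.map_mul
  rw [h1, h1]
  rfl

theorem slInvT_mul_slConj (g : GL (Fin n) F) :
    (slInvT : MulAut (Matrix.SpecialLinearGroup (Fin n) F)) * slConj g =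
      slConj (glInvT g) * slInvT := by
  apply MulEquiv.ext
  intro s
  apply Subtype.ext
  rw [MulAut.mul_apply, MulAut.mul_apply, slInvT_apply_coe, ← map_inv, slConj_apply_coe,
    slConj_apply_coe, slInvT_apply_coe, glInvT_coe, glInvT_inv_coe, Matrix.transpose_mul,
    Matrix.transpose_mul, Matrix.mul_assoc]

theorem slInvT_mul_slFieldAut (σ : RingAut F) :
    (slInvT : MulAut (Matrix.SpecialLinearGroup (Fin n) F)) * slFieldAut σ =
      slFieldAut σ * slInvT := by
  apply MulEquiv.ext
  intro s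
  apply Subtype.ext
  rw [MulAut.mul_apply, MulAut.mul_apply, slInvT_apply_coe, ← map_inv, slFieldAut_apply_coe,
    slFieldAut_apply_coe, slInvT_apply_coe, Matrix.transpose_map]

theorem slConj_toGL (s : Matrix.SpecialLinearGroup (Fin n) F) :
    slConj (Matrix.SpecialLinearGroup.toGL s) = MulAut.conj s := by
  apply MulEquiv.ext
  intro t
  apply Subtype.ext
  rw [slConj_apply_coe, MulAut.conj_apply, ← map_inv]
  rfl

/-! ### the automorphisms of `PSL_n(F)` -/

/-- inner-diagonal automorphisms of `PSL_n(F)` -/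
noncomputable def pslDiag : GL (Fin n) F →* MulAut (Matrix.ProjectiveSpecialLinearGroup (Fin n) F) :=
  pslDescend.comp slConj

/-- field automorphisms of `PSL_n(F)` -/
noncomputable def pslField : RingAut F →* MulAut (Matrix.ProjectiveSpecialLinearGroup (Fin n) F) :=
  pslDescend.comp slFieldAut

/-- the inverse transpose automorphism of `PSL_n(F)` -/
noncomputable def pslInvT : MulAut (Matrix.ProjectiveSpecialLinearGroup (Fin n) F) :=
  pslDescend slInvT

theorem pslField_mul_pslDiag (σ : RingAut F) (g : GL (Fin n) F) :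
    (pslField σ : MulAut (Matrix.ProjectiveSpecialLinearGroup (Fin n) F)) * pslDiag g =
      pslDiag (Matrix.GeneralLinearGroup.map (σ : F →+* F) g) * pslField σ := by
  unfold pslField pslDiag
  rw [MonoidHom.comp_apply, MonoidHom.comp_apply, MonoidHom.comp_apply, ← map_mul, ← map_mul,
    slFieldAut_mul_slConj]

theorem pslInvT_mul_pslDiag (g : GL (Fin n) F) :
    (pslInvT : MulAut (Matrix.ProjectiveSpecialLinearGroup (Fin n) F)) * pslDiag g =
      pslDiag (glInvT g) * pslInvT := by
  unfold pslInvT pslDiag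
  rw [MonoidHom.comp_apply, MonoidHom.comp_apply, ← map_mul, ← map_mul, slInvT_mul_slConj]

theorem pslInvT_mul_pslField (σ : RingAut F) :
    (pslInvT : MulAut (Matrix.ProjectiveSpecialLinearGroup (Fin n) F)) * pslField σ =
      pslField σ * pslInvT := by
  unfold pslInvT pslField
  rw [MonoidHom.comp_apply, ← map_mul, ← map_mul, slInvT_mul_slFieldAut]

theorem pslInvT_mul_self :
    (pslInvT : MulAut (Matrix.ProjectiveSpecialLinearGroup (Fin n) F)) * pslInvT = 1 := by
  unfold pslInvT
  rw [← map_mul, slInvT_mul_self, map_one]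

theorem pslDiag_toGL (s : Matrix.SpecialLinearGroup (Fin n) F) :
    pslDiag (Matrix.SpecialLinearGroup.toGL s) =
      MulAut.conj (QuotientGroup.mk s : Matrix.ProjectiveSpecialLinearGroup (Fin n) F) := by
  unfold pslDiag
  rw [MonoidHom.comp_apply, slConj_toGL, pslDescend_conj]

/-! ### the frozen predicates -/

theorem isInnerDiagonalAutPSL_iff
    (β : Matrix.ProjectiveSpecialLinearGroup (Fin n) F ≃* Matrix.ProjectiveSpecialLinearGroup (Fin n) F) :
    Cfsg.IsInnerDiagonalAutPSL β ↔ ∃ g : GL (Fin n) F, β = pslDiag g := by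
  constructor
  · rintro ⟨g, hg⟩
    refine ⟨g, ?_⟩
    apply MulEquiv.ext
    intro x
    obtain ⟨s, rfl⟩ := QuotientGroup.mk_surjective x
    exact hg s (slConj g s) rfl
  · rintro ⟨g, rfl⟩
    refine ⟨g, ?_⟩
    intro s s' hs
    have : s' = slConj g s := Subtype.ext hs
    rw [this]
    rfl

theorem isStdFieldAutPSL_iff (σ : F ≃+* F)
    (β : Matrix.ProjectiveSpecialLinearGroup (Fin n) F ≃* Matrix.ProjectiveSpecialLinearGroup (Fin n) F) :
    Cfsg.IsStdFieldAutPSL σ β ↔ β = pslField σ := by
  constructor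
  · intro h
    apply MulEquiv.ext
    intro x
    obtain ⟨s, rfl⟩ := QuotientGroup.mk_surjective x
    exact h s (slFieldAut σ s) rfl
  · rintro rfl
    intro s s' hs
    have : s' = slFieldAut σ s := Subtype.ext hs
    rw [this]
    rfl

theorem isInverseTransposeAutPSL_iff
    (β : Matrix.ProjectiveSpecialLinearGroup (Fin n) F ≃* Matrix.ProjectiveSpecialLinearGroup (Fin n) F) :
    Cfsg.IsInverseTransposeAutPSL β ↔ β = pslInvT := by
  constructor
  · intro h
    apply MulEquiv.ext
    intro x
    obtain ⟨s, rfl⟩ := QuotientGroup.mk_surjective x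
    exact h s (slInvT s) rfl
  · rintro rfl
    intro s s' hs
    have : s' = slInvT s := Subtype.ext hs
    rw [this]
    rfl

theorem isInducedBySemilinearPSL_iff (g : GL (Fin n) F) (σ : F ≃+* F)
    (β : Matrix.ProjectiveSpecialLinearGroup (Fin n) F ≃* Matrix.ProjectiveSpecialLinearGroup (Fin n) F) :
    Cfsg.IsInducedBySemilinearPSL g σ β ↔ β = pslDiag g * pslField σ := by
  constructor
  · intro h
    apply MulEquiv.ext
    intro x
    obtain ⟨s, rfl⟩ := QuotientGroup.mk_surjective x
    exact h s (slConj g (slFieldAut σ s)) rfl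
  · rintro rfl
    intro s s' hs
    have : s' = slConj g (slFieldAut σ s) := Subtype.ext hs
    rw [this]
    rfl

end

end Cfsg.Agent.Lib.Helper43
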