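/-
helper43: the standard automorphisms `diag * field * graph` of `PSL_n(F)`: which of them are trivial.
-/
import Cfsg.Agent.Lib.Helper43.PSLnAutRel

set_option autoImplicit false

namespace Cfsg.Agent.Lib.Helper43

open Matrix

section

variable {n : ℕ} {F : Type*} [Field F]

/-- elements of `SL_n(F)` with the same image in `PSL_n(F)` differ by a scalar -/
theorem exists_smul_of_mk_eq (s s' : Matrix.SpecialLinearGroup (Fin n) F)
    (h : (QuotientGroup.mk s : Matrix.ProjectiveSpecialLinearGroup (Fin n) F) =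
      QuotientGroup.mk s') :
    ∃ r : F, s'.1 = r • s.1 := by
  rw [QuotientGroup.eq] at h
  obtain ⟨r, _, hr⟩ := Matrix.SpecialLinearGroup.mem_center_iff.mp h
  refine ⟨r, ?_⟩
  have h2 : s'.1 = s.1 * (s⁻¹ * s').1 := by
    rw [← Matrix.SpecialLinearGroup.coe_mul, mul_inv_cancel_left]
  rw [h2, ← hr]
  ext i j
  simp [Matrix.mul_apply, Matrix.scalar_apply, Matrix.diagonal_apply, mul_comm]

/-- transvections in `SL_n(F)` -/
def transSL (i j : Fin n) (hij : i ≠ j) (a : F) : Matrix.SpecialLinearGroup (Fin n) F :=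
  ⟨Matrix.transvection i j a, Matrix.det_transvection_of_ne i j hij a⟩

theorem slFieldAut_transSL (σ : RingAut F) (i j : Fin n) (hij : i ≠ j) (a : F) :
    slFieldAut σ (transSL i j hij a) = transSL i j hij (σ a) := by
  apply Subtype.ext
  rw [slFieldAut_apply_coe]
  show (Matrix.transvection i j a).map σ = Matrix.transvection i j (σ a)
  unfold Matrix.transvection
  ext k l
  simp only [Matrix.map_apply, Matrix.add_apply, Matrix.one_apply, Matrix.single_apply, map_add]
  congr 1
  · split_ifs <;> simp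
  · split_ifs <;> simp

theorem slInvT_transSL (i j : Fin n) (hij : i ≠ j) (a : F) :
    slInvT (transSL i j hij a) = transSL j i hij.symm (-a) := by
  have h1 : (transSL i j hij a)⁻¹ = transSL i j hij (-a) := by
    apply inv_eq_of_mul_eq_one_right
    apply Subtype.ext
    show Matrix.transvection i j a * Matrix.transvection i j (-a) = 1
    rw [Matrix.transvection_mul_transvection_same i j hij, add_neg_cancel, Matrix.transvection_zero]
  apply Subtype.ext
  rw [slInvT_apply_coe, h1]
  show (Matrix.transvection i j (-a))ᵀ = Matrix.transvection j i (-a)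
  unfold Matrix.transvection
  rw [Matrix.transpose_add, Matrix.transpose_one, Matrix.transpose_single]

theorem conj_transvection_eq_smul (g : GL (Fin n) F) {i j k l : Fin n} (hij : i ≠ j) (hkl : k ≠ l)
    (a b r : F)
    (h : (g : Matrix (Fin n) (Fin n) F) * Matrix.transvection k l b *
      ((g⁻¹ : GL (Fin n) F) : Matrix (Fin n) (Fin n) F) = r • Matrix.transvection i j a) :
    r = 1 ∧ b • ((g : Matrix (Fin n) (Fin n) F) * Matrix.single k l 1) =
      a • (Matrix.single i j 1 * (g : Matrix (Fin n) (Fin n) F)) := by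
  have hg1 : ((g⁻¹ : GL (Fin n) F) : Matrix (Fin n) (Fin n) F) *
      (g : Matrix (Fin n) (Fin n) F) = 1 := by
    rw [← Matrix.GeneralLinearGroup.coe_mul, inv_mul_cancel]; rfl
  have hg2 : (g : Matrix (Fin n) (Fin n) F) *
      ((g⁻¹ : GL (Fin n) F) : Matrix (Fin n) (Fin n) F) = 1 := by
    rw [← Matrix.GeneralLinearGroup.coe_mul, mul_inv_cancel]; rfl
  have hNN : (Matrix.single k l b : Matrix (Fin n) (Fin n) F) * Matrix.single k l b = 0 :=
    Matrix.single_mul_single_of_ne b k l k (Ne.symm hkl) b
  have hX : (g : Matrix (Fin n) (Fin n) F) * Matrix.single k l b *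
      ((g⁻¹ : GL (Fin n) F) : Matrix (Fin n) (Fin n) F) =
      (r - 1) • (1 : Matrix (Fin n) (Fin n) F) + Matrix.single i j (r * a) := by
    have h3 : (g : Matrix (Fin n) (Fin n) F) * Matrix.transvection k l b *
        ((g⁻¹ : GL (Fin n) F) : Matrix (Fin n) (Fin n) F) = 1 +
        (g : Matrix (Fin n) (Fin n) F) * Matrix.single k l b *
        ((g⁻¹ : GL (Fin n) F) : Matrix (Fin n) (Fin n) F) := by
      unfold Matrix.transvection
      rw [Matrix.mul_add, Matrix.add_mul, Matrix.mul_one, hg2]
    rw [h3] at h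
    have h4 : (g : Matrix (Fin n) (Fin n) F) * Matrix.single k l b *
        ((g⁻¹ : GL (Fin n) F) : Matrix (Fin n) (Fin n) F) = r • Matrix.transvection i j a - 1 := by
      rw [← h]; abel
    rw [h4]
    unfold Matrix.transvection
    rw [smul_add, Matrix.smul_single, smul_eq_mul, sub_smul, one_smul]
    abel
  have hsq : ((r - 1) • (1 : Matrix (Fin n) (Fin n) F) + Matrix.single i j (r * a)) *
      ((r - 1) • (1 : Matrix (Fin n) (Fin n) F) + Matrix.single i j (r * a)) = 0 := by
    rw [← hX]
    calc (g : Matrix (Fin n) (Fin n) F) * Matrix.single k l b *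
          ((g⁻¹ : GL (Fin n) F) : Matrix (Fin n) (Fin n) F) *
          ((g : Matrix (Fin n) (Fin n) F) * Matrix.single k l b *
          ((g⁻¹ : GL (Fin n) F) : Matrix (Fin n) (Fin n) F))
        = (g : Matrix (Fin n) (Fin n) F) * (Matrix.single k l b *
          (((g⁻¹ : GL (Fin n) F) : Matrix (Fin n) (Fin n) F) *
          (g : Matrix (Fin n) (Fin n) F)) * Matrix.single k l b) *
          ((g⁻¹ : GL (Fin n) F) : Matrix (Fin n) (Fin n) F) := by
          simp only [Matrix.mul_assoc]
      _ = 0 := by rw [hg1, Matrix.mul_one, hNN, Matrix.mul_zero, Matrix.zero_mul]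
  have hr : r = 1 := by
    have h5 := congrFun (congrFun hsq i) i
    rw [Matrix.add_mul, Matrix.mul_add, Matrix.mul_add,
      Matrix.single_mul_single_of_ne _ i j i (Ne.symm hij)] at h5
    simp only [Matrix.smul_mul, Matrix.mul_smul, Matrix.one_mul, Matrix.add_apply,
      Matrix.smul_apply, Matrix.one_apply_eq, Matrix.single_apply_of_col_ne i i hij.symm,
      Matrix.zero_apply, smul_eq_mul, mul_zero, add_zero, mul_one] at h5
    have h6 : r - 1 = 0 := by
      rcases mul_eq_zero.mp h5 with h | h <;> exact h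
    exact sub_eq_zero.mp h6
  refine ⟨hr, ?_⟩
  rw [hr, sub_self, zero_smul, zero_add, one_mul] at hX
  have h7 : (g : Matrix (Fin n) (Fin n) F) * Matrix.single k l b =
      Matrix.single i j a * (g : Matrix (Fin n) (Fin n) F) := by
    rw [← hX, Matrix.mul_assoc, Matrix.mul_assoc, hg1, Matrix.mul_one]
  have h8 : (Matrix.single k l b : Matrix (Fin n) (Fin n) F) = b • Matrix.single k l 1 := by
    rw [Matrix.smul_single, smul_eq_mul, mul_one]
  have h9 : (Matrix.single i j a : Matrix (Fin n) (Fin n) F) = a • Matrix.single i j 1 := by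
    rw [Matrix.smul_single, smul_eq_mul, mul_one]
  rw [h8, h9, Matrix.mul_smul, Matrix.smul_mul] at h7
  exact h7

/-- the graph automorphisms as a homomorphism from the group of order two -/
noncomputable def pslGraph :
    Multiplicative (ZMod 2) →* MulAut (Matrix.ProjectiveSpecialLinearGroup (Fin n) F) where
  toFun ε := if Multiplicative.toAdd ε = 0 then 1 else pslInvT
  map_one' := by simp
  map_mul' a b := by
    have ha : ∀ x : ZMod 2, x = 0 ∨ x = 1 := by decide
    rcases ha (Multiplicative.toAdd a) with h | h <;>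
      rcases ha (Multiplicative.toAdd b) with h' | h'
    · simp [toAdd_mul, h, h']
    · simp [toAdd_mul, h, h']
    · simp [toAdd_mul, h, h']
    · have h2 : (1 : ZMod 2) + 1 = 0 := by decide
      simp [toAdd_mul, h, h', h2, pslInvT_mul_self]

theorem pslGraph_one_add : pslGraph (Multiplicative.ofAdd (1 : ZMod 2)) =
    (pslInvT : MulAut (Matrix.ProjectiveSpecialLinearGroup (Fin n) F)) := by
  show (if Multiplicative.toAdd (Multiplicative.ofAdd (1 : ZMod 2)) = 0 then 1 else pslInvT) = _
  rw [toAdd_ofAdd, if_neg (by decide)]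

theorem zmod2_mul_cases (ε : Multiplicative (ZMod 2)) :
    ε = 1 ∨ ε = Multiplicative.ofAdd (1 : ZMod 2) := by
  have ha : ∀ x : ZMod 2, x = 0 ∨ x = 1 := by decide
  rcases ha (Multiplicative.toAdd ε) with h | h
  · left
    exact Multiplicative.toAdd.injective h
  · right
    exact Multiplicative.toAdd.injective h

theorem pslGraph_comm_pslField (ε : Multiplicative (ZMod 2)) (σ : RingAut F) :
    (pslGraph ε : MulAut (Matrix.ProjectiveSpecialLinearGroup (Fin n) F)) * pslField σ =
      pslField σ * pslGraph ε := by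
  rcases zmod2_mul_cases ε with h | h
  · rw [h, map_one, one_mul, mul_one]
  · rw [h, pslGraph_one_add, pslInvT_mul_pslField]

theorem pslGraph_mul_pslDiag (ε : Multiplicative (ZMod 2)) (g : GL (Fin n) F) :
    ∃ g' : GL (Fin n) F,
      (pslGraph ε : MulAut (Matrix.ProjectiveSpecialLinearGroup (Fin n) F)) * pslDiag g =
        pslDiag g' * pslGraph ε := by
  rcases zmod2_mul_cases ε with h | h
  · exact ⟨g, by rw [h, map_one, one_mul, mul_one]⟩
  · exact ⟨glInvT g, by rw [h, pslGraph_one_add, pslInvT_mul_pslDiag]⟩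

theorem gl_coe_ne_zero (hn : 1 ≤ n) (g : GL (Fin n) F) : (g : Matrix (Fin n) (Fin n) F) ≠ 0 := by
  intro h0
  have h1 : (g : Matrix (Fin n) (Fin n) F) *
      ((g⁻¹ : GL (Fin n) F) : Matrix (Fin n) (Fin n) F) = 1 := by
    rw [← Matrix.GeneralLinearGroup.coe_mul, mul_inv_cancel]; rfl
  rw [h0, Matrix.zero_mul] at h1
  have h2 := congrFun (congrFun h1 ⟨0, hn⟩) ⟨0, hn⟩
  simp at h2

/-- a product `diag * field` that is trivial on `PSL_n(F)` has trivial field part and scalar
diagonal part -/
theorem eq_one_of_pslDiag_mul_pslField_eq_one (hn : 2 ≤ n) (g : GL (Fin n) F) (σ : RingAut F)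
    (h : (pslDiag g : MulAut (Matrix.ProjectiveSpecialLinearGroup (Fin n) F)) * pslField σ = 1) :
    σ = 1 ∧ (g : Matrix (Fin n) (Fin n) F) ∈ Set.range (Matrix.scalar (Fin n)) := by
  have key : ∀ (i j : Fin n) (hij : i ≠ j) (a : F),
      σ a • ((g : Matrix (Fin n) (Fin n) F) * Matrix.single i j 1) =
        a • (Matrix.single i j 1 * (g : Matrix (Fin n) (Fin n) F)) := by
    intro i j hij a
    have h1 := congrArg (fun β : MulAut (Matrix.ProjectiveSpecialLinearGroup (Fin n) F) =>
      β (QuotientGroup.mk (transSL i j hij a))) h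
    simp only [MulAut.mul_apply, MulAut.one_apply] at h1
    have h2 : (pslDiag g (pslField σ (QuotientGroup.mk (transSL i j hij a))) :
        Matrix.ProjectiveSpecialLinearGroup (Fin n) F) =
        QuotientGroup.mk (slConj g (transSL i j hij (σ a))) := by
      rw [← slFieldAut_transSL]
      rfl
    rw [h2] at h1
    obtain ⟨r, hr⟩ := exists_smul_of_mk_eq _ _ h1.symm
    exact (conj_transvection_eq_smul g hij hij a (σ a) r hr).2
  have hsc : (g : Matrix (Fin n) (Fin n) F) ∈ Set.range (Matrix.scalar (Fin n)) := by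
    apply Matrix.mem_range_scalar_of_commute_single
    intro i j hij
    have := key i j hij 1
    rw [map_one, one_smul, one_smul] at this
    exact this.symm
  refine ⟨?_, hsc⟩
  obtain ⟨c, hc⟩ := hsc
  have hc0 : c ≠ 0 := by
    intro h0
    apply gl_coe_ne_zero (by omega) g
    rw [← hc, h0, map_zero]
  apply RingEquiv.ext
  intro a
  have h3 := key ⟨0, by omega⟩ ⟨1, by omega⟩ (by simp [Fin.ext_iff]) a
  rw [← hc] at h3
  have h4 := congrFun (congrFun h3 ⟨0, by omega⟩) ⟨1, by omega⟩
  simp only [Matrix.smul_apply, smul_eq_mul] at h4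
  rw [Matrix.scalar_apply, Matrix.diagonal_mul, Matrix.mul_diagonal, Matrix.single_apply_same,
    mul_one, one_mul] at h4
  exact mul_right_cancel₀ hc0 h4

/-- for `n ≥ 3` the inverse transpose is not of the form `diag * field` -/
theorem pslDiag_mul_pslField_mul_pslInvT_ne_one (hn : 3 ≤ n) (g : GL (Fin n) F) (σ : RingAut F) :
    (pslDiag g : MulAut (Matrix.ProjectiveSpecialLinearGroup (Fin n) F)) * pslField σ * pslInvT
      ≠ 1 := by
  intro h
  have key : ∀ (i j : Fin n) (hij : i ≠ j),
      -((g : Matrix (Fin n) (Fin n) F) * Matrix.single j i 1) =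
        Matrix.single i j 1 * (g : Matrix (Fin n) (Fin n) F) := by
    intro i j hij
    have h1 := congrArg (fun β : MulAut (Matrix.ProjectiveSpecialLinearGroup (Fin n) F) =>
      β (QuotientGroup.mk (transSL i j hij 1))) h
    simp only [MulAut.mul_apply, MulAut.one_apply] at h1
    have h2 : (pslDiag g (pslField σ (pslInvT (QuotientGroup.mk (transSL i j hij 1)))) :
        Matrix.ProjectiveSpecialLinearGroup (Fin n) F) =
        QuotientGroup.mk (slConj g (transSL j i hij.symm (σ (-1)))) := by
      rw [← slFieldAut_transSL, ← slInvT_transSL]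
      rfl
    rw [h2] at h1
    obtain ⟨r, hr⟩ := exists_smul_of_mk_eq _ _ h1.symm
    have h3 := (conj_transvection_eq_smul g hij hij.symm 1 (σ (-1)) r hr).2
    rw [map_neg, map_one, neg_smul, one_smul, one_smul] at h3
    exact h3
  have h01 : (⟨0, by omega⟩ : Fin n) ≠ ⟨1, by omega⟩ := by simp [Fin.ext_iff]
  have h12 : (⟨1, by omega⟩ : Fin n) ≠ ⟨2, by omega⟩ := by simp [Fin.ext_iff]
  have h02 : (⟨0, by omega⟩ : Fin n) ≠ ⟨2, by omega⟩ := by simp [Fin.ext_iff]
  set i : Fin n := ⟨0, by omega⟩
  set j : Fin n := ⟨1, by omega⟩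
  set k : Fin n := ⟨2, by omega⟩
  have e1 := key i j h01
  have e2 := key j k h12
  have e3 := key i k h02
  have h4 : (g : Matrix (Fin n) (Fin n) F) * Matrix.single k i 1 = 0 := by
    have h5 : (Matrix.single k i (1 : F) : Matrix (Fin n) (Fin n) F) =
        Matrix.single k j 1 * Matrix.single j i 1 := by
      rw [Matrix.single_mul_single_same, mul_one]
    rw [h5, ← Matrix.mul_assoc]
    have e2' : (g : Matrix (Fin n) (Fin n) F) * Matrix.single k j 1 =
        -(Matrix.single j k 1 * (g : Matrix (Fin n) (Fin n) F)) := by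
      rw [← e2, neg_neg]
    have e1' : (g : Matrix (Fin n) (Fin n) F) * Matrix.single j i 1 =
        -(Matrix.single i j 1 * (g : Matrix (Fin n) (Fin n) F)) := by
      rw [← e1, neg_neg]
    rw [e2', Matrix.neg_mul, Matrix.mul_assoc, e1', Matrix.mul_neg, neg_neg, ← Matrix.mul_assoc,
      Matrix.single_mul_single_of_ne _ j k i (Ne.symm h02), Matrix.zero_mul]
  have h6 : (Matrix.single k i (1 : F) : Matrix (Fin n) (Fin n) F) = 0 := by
    have hg1 : ((g⁻¹ : GL (Fin n) F) : Matrix (Fin n) (Fin n) F) *
        (g : Matrix (Fin n) (Fin n) F) = 1 := by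
      rw [← Matrix.GeneralLinearGroup.coe_mul, inv_mul_cancel]; rfl
    rw [← Matrix.one_mul (Matrix.single k i (1 : F)), ← hg1, Matrix.mul_assoc, h4, Matrix.mul_zero]
  have h7 := congrFun (congrFun h6 k) i
  rw [Matrix.single_apply_same] at h7
  exact one_ne_zero h7

end

end Cfsg.Agent.Lib.Helper43
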