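/-
helper43: if every automorphism of `PSL_n(F)` (`n ≥ 3`) is standard (`diag * field * graph`), then
the field and graph parts define a homomorphism onto `Aut(F) × C_2` with kernel the inner-diagonal
automorphisms.
-/
import Cfsg.Prelude.Def_KGroupFacts
import Cfsg.Agent.Lib.Helper43.PSLnAutKer

set_option autoImplicit false

namespace Cfsg.Agent.Lib.Helper43

open Matrix

section

variable {n : ℕ} {F : Type*} [Field F]

/-- `β` is standard with field part `p.1` and graph part `p.2` -/
def IsStdAut (β : MulAut (Matrix.ProjectiveSpecialLinearGroup (Fin n) F))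
    (p : RingAut F × Multiplicative (ZMod 2)) : Prop :=
  ∃ g : GL (Fin n) F, β = pslDiag g * pslField p.1 * pslGraph p.2

/-- every automorphism of `PSL_n(F)` is standard -/
def AllStdAut (n : ℕ) (F : Type*) [Field F] : Prop :=
  ∀ β : MulAut (Matrix.ProjectiveSpecialLinearGroup (Fin n) F),
    ∃ p : RingAut F × Multiplicative (ZMod 2), IsStdAut β p

theorem isStdAut_one :
    IsStdAut (1 : MulAut (Matrix.ProjectiveSpecialLinearGroup (Fin n) F)) 1 :=
  ⟨1, by simp⟩

theorem IsStdAut.mul {β β' : MulAut (Matrix.ProjectiveSpecialLinearGroup (Fin n) F)}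
    {p p' : RingAut F × Multiplicative (ZMod 2)} (h : IsStdAut β p) (h' : IsStdAut β' p') :
    IsStdAut (β * β') (p * p') := by
  obtain ⟨g, rfl⟩ := h
  obtain ⟨g', rfl⟩ := h'
  obtain ⟨g₂, hg₂⟩ := pslGraph_mul_pslDiag p.2 g'
  refine ⟨g * Matrix.GeneralLinearGroup.map (p.1 : F →+* F) g₂, ?_⟩
  have h1 := pslField_mul_pslDiag p.1 g₂
  have h2 := pslGraph_comm_pslField (n := n) p.2 p'.1
  rw [Prod.fst_mul, Prod.snd_mul, map_mul, map_mul, map_mul]
  calc pslDiag g * pslField p.1 * pslGraph p.2 * (pslDiag g' * pslField p'.1 * pslGraph p'.2)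
      = pslDiag g * pslField p.1 * (pslGraph p.2 * pslDiag g') * pslField p'.1 * pslGraph p'.2 := by
        simp only [mul_assoc]
    _ = pslDiag g * (pslField p.1 * pslDiag g₂) * (pslGraph p.2 * pslField p'.1) *
          pslGraph p'.2 := by
        rw [hg₂]; simp only [mul_assoc]
    _ = pslDiag g * pslDiag (Matrix.GeneralLinearGroup.map (p.1 : F →+* F) g₂) *
          (pslField p.1 * pslField p'.1) * (pslGraph p.2 * pslGraph p'.2) := by
        rw [h1, h2]; simp only [mul_assoc]

theorem IsStdAut.unique (hn : 3 ≤ n) {β : MulAut (Matrix.ProjectiveSpecialLinearGroup (Fin n) F)}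
    {p p' : RingAut F × Multiplicative (ZMod 2)} (h : IsStdAut β p) (h' : IsStdAut β p') :
    p = p' := by
  obtain ⟨g, hg⟩ := h
  obtain ⟨g', hg'⟩ := h'
  have hc : Commute (pslGraph (n := n) (F := F) p'.2) (pslField p'.1) :=
    pslGraph_comm_pslField p'.2 p'.1
  have hc2 : Commute (pslGraph (n := n) (F := F) p.2) (pslField p'.1) :=
    pslGraph_comm_pslField p.2 p'.1
  have h1 : (pslDiag (g'⁻¹ * g) : MulAut (Matrix.ProjectiveSpecialLinearGroup (Fin n) F)) *
      pslField (p.1 * p'.1⁻¹) * pslGraph (p.2 * p'.2⁻¹) = 1 := by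
    rw [map_mul, map_mul, map_mul, map_inv, map_inv, map_inv]
    have e : pslDiag g * pslField p.1 * pslGraph p.2 =
        (pslDiag g' : MulAut (Matrix.ProjectiveSpecialLinearGroup (Fin n) F)) * pslField p'.1 *
          pslGraph p'.2 := by
      rw [← hg, ← hg']
    calc (pslDiag g')⁻¹ * pslDiag g * (pslField p.1 * (pslField p'.1)⁻¹) *
          (pslGraph p.2 * (pslGraph p'.2)⁻¹)
        = (pslDiag g')⁻¹ * (pslDiag g * pslField p.1) * ((pslField p'.1)⁻¹ * pslGraph p.2) *
          (pslGraph p'.2)⁻¹ := by simp only [mul_assoc]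
      _ = (pslDiag g')⁻¹ * (pslDiag g * pslField p.1 * pslGraph p.2) * (pslField p'.1)⁻¹ *
          (pslGraph p'.2)⁻¹ := by
          rw [← (hc2.inv_right).eq]; simp only [mul_assoc]
      _ = pslField p'.1 * (pslGraph p'.2 * (pslField p'.1)⁻¹) * (pslGraph p'.2)⁻¹ := by
          rw [e]; simp only [mul_assoc, inv_mul_cancel_left]
      _ = 1 := by
          rw [(hc.inv_right).eq]; simp only [mul_inv_cancel_left, mul_inv_cancel]
  rcases zmod2_mul_cases (p.2 * p'.2⁻¹) with h2 | h2
  · rw [h2, map_one, mul_one] at h1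
    have h3 := (eq_one_of_pslDiag_mul_pslField_eq_one (by omega) _ _ h1).1
    apply Prod.ext
    · exact mul_inv_eq_one.mp h3
    · exact mul_inv_eq_one.mp h2
  · rw [h2, pslGraph_one_add] at h1
    exact absurd h1 (pslDiag_mul_pslField_mul_pslInvT_ne_one hn _ _)

/-- the field and graph parts of an automorphism -/
noncomputable def stdPart (hn : 3 ≤ n) (hstd : AllStdAut n F) :
    MulAut (Matrix.ProjectiveSpecialLinearGroup (Fin n) F) →*
      RingAut F × Multiplicative (ZMod 2) where
  toFun β := Classical.choose (hstd β)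
  map_one' := IsStdAut.unique hn (Classical.choose_spec (hstd 1)) isStdAut_one
  map_mul' β β' := IsStdAut.unique hn (Classical.choose_spec (hstd (β * β')))
    ((Classical.choose_spec (hstd β)).mul (Classical.choose_spec (hstd β')))

theorem isStdAut_stdPart (hn : 3 ≤ n) (hstd : AllStdAut n F)
    (β : MulAut (Matrix.ProjectiveSpecialLinearGroup (Fin n) F)) :
    IsStdAut β (stdPart hn hstd β) := Classical.choose_spec (hstd β)

theorem stdPart_eq (hn : 3 ≤ n) (hstd : AllStdAut n F)
    {β : MulAut (Matrix.ProjectiveSpecialLinearGroup (Fin n) F)}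
    {p : RingAut F × Multiplicative (ZMod 2)} (h : IsStdAut β p) : stdPart hn hstd β = p :=
  IsStdAut.unique hn (isStdAut_stdPart hn hstd β) h

theorem stdPart_surjective (hn : 3 ≤ n) (hstd : AllStdAut n F) :
    Function.Surjective (stdPart hn hstd) := by
  intro p
  exact ⟨pslField p.1 * pslGraph p.2, stdPart_eq hn hstd ⟨1, by rw [map_one, one_mul]⟩⟩

theorem ker_stdPart (hn : 3 ≤ n) (hstd : AllStdAut n F) :
    (stdPart hn hstd).ker = (pslDiag : GL (Fin n) F →* _).range := by
  ext β
  rw [MonoidHom.mem_ker, MonoidHom.mem_range]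
  constructor
  · intro h
    obtain ⟨g, hg⟩ := isStdAut_stdPart hn hstd β
    rw [h] at hg
    refine ⟨g, ?_⟩
    rw [hg]
    simp
  · rintro ⟨g, rfl⟩
    exact stdPart_eq hn hstd ⟨g, by simp⟩

theorem inn_le_ker_stdPart (hn : 3 ≤ n) (hstd : AllStdAut n F) :
    Cfsg.Inn (Matrix.ProjectiveSpecialLinearGroup (Fin n) F) ≤ (stdPart hn hstd).ker := by
  rw [ker_stdPart]
  rintro _ ⟨x, rfl⟩
  obtain ⟨s, rfl⟩ := QuotientGroup.mk_surjective x
  exact ⟨Matrix.SpecialLinearGroup.toGL s, pslDiag_toGL s⟩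

/-- the field and graph parts of an outer automorphism -/
noncomputable def outStdPart (hn : 3 ≤ n) (hstd : AllStdAut n F) :
    Cfsg.Out (Matrix.ProjectiveSpecialLinearGroup (Fin n) F) →*
      RingAut F × Multiplicative (ZMod 2) :=
  QuotientGroup.lift _ (stdPart hn hstd) (inn_le_ker_stdPart hn hstd)

theorem outStdPart_surjective (hn : 3 ≤ n) (hstd : AllStdAut n F) :
    Function.Surjective (outStdPart hn hstd) := by
  intro p
  obtain ⟨β, hβ⟩ := stdPart_surjective hn hstd p
  exact ⟨QuotientGroup.mk β, hβ⟩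

/-- the outer diagonal automorphisms -/
noncomputable def outDiagGL :
    GL (Fin n) F →* Cfsg.Out (Matrix.ProjectiveSpecialLinearGroup (Fin n) F) :=
  (QuotientGroup.mk' _).comp pslDiag

theorem ker_outStdPart (hn : 3 ≤ n) (hstd : AllStdAut n F) :
    (outStdPart hn hstd).ker = (outDiagGL : GL (Fin n) F →* _).range := by
  ext x
  obtain ⟨β, rfl⟩ := QuotientGroup.mk_surjective x
  rw [MonoidHom.mem_ker, MonoidHom.mem_range]
  show stdPart hn hstd β = 1 ↔ _
  rw [← MonoidHom.mem_ker, ker_stdPart, MonoidHom.mem_range]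
  constructor
  · rintro ⟨g, rfl⟩
    exact ⟨g, rfl⟩
  · rintro ⟨g, hg⟩
    have h1 : (QuotientGroup.mk (pslDiag g) :
        Cfsg.Out (Matrix.ProjectiveSpecialLinearGroup (Fin n) F)) = QuotientGroup.mk β := hg
    rw [QuotientGroup.eq] at h1
    obtain ⟨y, hy⟩ := h1
    obtain ⟨s, rfl⟩ := QuotientGroup.mk_surjective y
    refine ⟨g * Matrix.SpecialLinearGroup.toGL s, ?_⟩
    rw [map_mul, pslDiag_toGL, hy, mul_inv_cancel_left]

end

end Cfsg.Agent.Lib.Helper43
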