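/-
helper43: structure of `Out(PSL_n(F))`, `n ≥ 3`, assuming that every automorphism is standard.
-/
import Cfsg.Agent.Lib.Helper43.PSLnAutStd

set_option autoImplicit false

namespace Cfsg.Agent.Lib.Helper43

open Matrix

section

variable {n : ℕ} {F : Type*} [Field F]

theorem slConj_scalar (c : Fˣ) :
    slConj (Matrix.GeneralLinearGroup.scalar (Fin n) c) =
      (1 : MulAut (Matrix.SpecialLinearGroup (Fin n) F)) := by
  apply MulEquiv.ext
  intro s
  apply Subtype.ext
  rw [slConj_apply_coe, ← map_inv, Matrix.GeneralLinearGroup.coe_scalar,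
    Matrix.GeneralLinearGroup.coe_scalar]
  rw [(Matrix.scalar_commute (c : F) (fun r' => Commute.all _ r') s.1).eq, Matrix.mul_assoc,
    ← map_mul]
  simp

theorem pslDiag_scalar (c : Fˣ) :
    pslDiag (Matrix.GeneralLinearGroup.scalar (Fin n) c) =
      (1 : MulAut (Matrix.ProjectiveSpecialLinearGroup (Fin n) F)) := by
  unfold pslDiag
  rw [MonoidHom.comp_apply, slConj_scalar, map_one]

theorem det_surjective (hn : 1 ≤ n) :
    Function.Surjective (Matrix.GeneralLinearGroup.det : GL (Fin n) F →* Fˣ) := by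
  intro c
  have h1 : (Matrix.diagonal (Function.update (1 : Fin n → F) ⟨0, hn⟩ (c : F))).det = (c : F) := by
    rw [Matrix.det_diagonal, Finset.prod_update_of_mem (Finset.mem_univ _)]
    simp
  refine ⟨Matrix.GeneralLinearGroup.mkOfDetNeZero _ (by rw [h1]; exact c.ne_zero), ?_⟩
  apply Units.ext
  exact h1

/-- the determinant modulo `n`-th powers -/
noncomputable def detModPow (n : ℕ) (F : Type*) [Field F] :
    GL (Fin n) F →* Fˣ ⧸ (powMonoidHom n : Fˣ →* Fˣ).range :=
  (QuotientGroup.mk' _).comp Matrix.GeneralLinearGroup.det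

theorem detModPow_surjective (hn : 1 ≤ n) : Function.Surjective (detModPow n F) := by
  intro x
  obtain ⟨c, rfl⟩ := QuotientGroup.mk_surjective x
  obtain ⟨g, rfl⟩ := det_surjective (F := F) hn c
  exact ⟨g, rfl⟩

theorem ker_outDiagGL (hn : 2 ≤ n) :
    (outDiagGL : GL (Fin n) F →* _).ker = (detModPow n F).ker := by
  ext g
  rw [MonoidHom.mem_ker, MonoidHom.mem_ker]
  unfold outDiagGL detModPow
  rw [MonoidHom.comp_apply, MonoidHom.comp_apply, QuotientGroup.mk'_apply, QuotientGroup.mk'_apply,
    QuotientGroup.eq_one_iff, QuotientGroup.eq_one_iff]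
  constructor
  · rintro ⟨x, hx⟩
    obtain ⟨s, rfl⟩ := QuotientGroup.mk_surjective x
    rw [← pslDiag_toGL] at hx
    have h1 : (pslDiag (g * (Matrix.SpecialLinearGroup.toGL s)⁻¹) :
        MulAut (Matrix.ProjectiveSpecialLinearGroup (Fin n) F)) * pslField 1 = 1 := by
      rw [map_one, mul_one, map_mul, map_inv, hx, mul_inv_cancel]
    obtain ⟨c, hc⟩ := (eq_one_of_pslDiag_mul_pslField_eq_one hn _ _ h1).2
    have hc0 : c ≠ 0 := by
      intro h0
      apply gl_coe_ne_zero (by omega) (g * (Matrix.SpecialLinearGroup.toGL s)⁻¹)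
      rw [← hc, h0, map_zero]
    refine ⟨Units.mk0 c hc0, ?_⟩
    apply Units.ext
    rw [powMonoidHom_apply, Units.val_pow_eq_pow_val, Units.val_mk0]
    have h2 : Matrix.GeneralLinearGroup.det (g * (Matrix.SpecialLinearGroup.toGL s)⁻¹) =
        Matrix.GeneralLinearGroup.det g := by
      rw [map_mul, map_inv]
      have : Matrix.GeneralLinearGroup.det (Matrix.SpecialLinearGroup.toGL s) = 1 := by
        apply Units.ext
        exact s.2
      rw [this, inv_one, mul_one]
    rw [← h2]
    show c ^ n = (((g * (Matrix.SpecialLinearGroup.toGL s)⁻¹ : GL (Fin n) F)) :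
      Matrix (Fin n) (Fin n) F).det
    rw [← hc, Matrix.scalar_apply, Matrix.det_diagonal, Finset.prod_const, Finset.card_univ,
      Fintype.card_fin]
  · rintro ⟨c, hc⟩
    rw [powMonoidHom_apply] at hc
    set g' : GL (Fin n) F := (Matrix.GeneralLinearGroup.scalar (Fin n) c)⁻¹ * g with hg'
    have hdet : (g' : Matrix (Fin n) (Fin n) F).det = 1 := by
      have h3 : Matrix.GeneralLinearGroup.det g' = 1 := by
        rw [hg', map_mul, map_inv, ← hc]
        have : Matrix.GeneralLinearGroup.det (Matrix.GeneralLinearGroup.scalar (Fin n) c) =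
            c ^ n := by
          apply Units.ext
          show (Matrix.scalar (Fin n) (c : F)).det = ((c ^ n : Fˣ) : F)
          rw [Matrix.scalar_apply, Matrix.det_diagonal, Finset.prod_const, Finset.card_univ,
            Fintype.card_fin, Units.val_pow_eq_pow_val]
        rw [this, inv_mul_cancel]
      exact congrArg Units.val h3
    let s' : Matrix.SpecialLinearGroup (Fin n) F := ⟨(g' : Matrix (Fin n) (Fin n) F), hdet⟩
    have h4 : g = Matrix.GeneralLinearGroup.scalar (Fin n) c *
        Matrix.SpecialLinearGroup.toGL s' := by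
      have : Matrix.SpecialLinearGroup.toGL s' = g' := by
        apply Units.ext
        rfl
      rw [this, hg', mul_inv_cancel_left]
    rw [h4, map_mul, pslDiag_scalar, one_mul, pslDiag_toGL]
    exact ⟨_, rfl⟩

/-- the kernel of the field-and-graph part is `F^× / (F^×)^n` -/
noncomputable def kerOutStdPartEquiv (hn : 3 ≤ n) (hstd : AllStdAut n F) :
    (outStdPart hn hstd).ker ≃* Fˣ ⧸ (powMonoidHom n : Fˣ →* Fˣ).range :=
  (MulEquiv.subgroupCongr (ker_outStdPart hn hstd)).trans
    ((QuotientGroup.quotientKerEquivRange (outDiagGL : GL (Fin n) F →* _)).symm.trans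
      ((QuotientGroup.quotientMulEquivOfEq (ker_outDiagGL (by omega))).trans
        (QuotientGroup.quotientKerEquivOfSurjective (detModPow n F)
          (detModPow_surjective (by omega)))))

/-- the automorphism group of a finite field of order `p ^ f` is cyclic of order `f` -/
theorem ringAut_mulEquiv_zmod' [Fintype F] (p f : ℕ) [Fact p.Prime] [CharP F p]
    (hF : Fintype.card F = p ^ f) :
    Nonempty (RingAut F ≃* Multiplicative (ZMod f)) := by
  let _ : Algebra (ZMod p) F := ZMod.algebra F p
  have hcomm : ∀ (σ : RingAut F) (r : ZMod p),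
      σ (algebraMap (ZMod p) F r) = algebraMap (ZMod p) F r := by
    intro σ r
    rw [← ZMod.natCast_zmod_val r, map_natCast, map_natCast]
  let e₁ : RingAut F ≃* (F ≃ₐ[ZMod p] F) :=
    { toFun := fun σ => AlgEquiv.ofRingEquiv (f := σ) (hcomm σ)
      invFun := fun τ => τ.toRingEquiv
      left_inv := fun σ => by ext x; rfl
      right_inv := fun τ => by ext x; rfl
      map_mul' := fun σ τ => by ext x; rfl }
  have hcyc : IsCyclic (F ≃ₐ[ZMod p] F) := inferInstance
  have hcard : Nat.card (F ≃ₐ[ZMod p] F) = f := by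
    rw [IsGalois.card_aut_eq_finrank]
    have h1 := Module.card_eq_pow_finrank (K := ZMod p) (V := F)
    rw [hF, ZMod.card] at h1
    exact (Nat.pow_right_injective (Fact.out : p.Prime).two_le h1).symm
  have e₂ := (zmodCyclicMulEquiv hcyc).symm
  rw [hcard] at e₂
  exact ⟨e₁.trans e₂⟩

theorem charP_of_card' [Fintype F] {p f : ℕ} [Fact p.Prime] (hf : 1 ≤ f)
    (hF : Fintype.card F = p ^ f) : CharP F p := by
  have hp := (Fact.out : p.Prime)
  have h1 := ringChar.charP F
  obtain ⟨m, hr, hm⟩ := FiniteField.card F (ringChar F)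
  have h2 : p ∣ ringChar F ^ (m : ℕ) := by
    rw [← hm, hF]
    exact dvd_pow_self p (by omega)
  have h3 := (Nat.prime_dvd_prime_iff_eq hp hr).mp (hp.dvd_of_dvd_pow h2)
  rw [h3]
  exact h1

/-- structure of `Out(PSL_n(F))` for `n ≥ 3`, given that all automorphisms are standard -/
theorem out_psl_structure_of_allStdAut [Fintype F] {p f : ℕ} [Fact p.Prime] (hf : 1 ≤ f)
    (hF : Fintype.card F = p ^ f) (hn : 3 ≤ n) (hstd : AllStdAut n F) :
    ∃ φ : Cfsg.Out (Matrix.ProjectiveSpecialLinearGroup (Fin n) F) →*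
        Multiplicative (ZMod f × ZMod 2),
      Function.Surjective φ ∧ IsCyclic φ.ker ∧ Nat.card φ.ker = Nat.gcd n (p ^ f - 1) := by
  have hchar : CharP F p := charP_of_card' hf hF
  obtain ⟨e₁⟩ := ringAut_mulEquiv_zmod' (F := F) p f hF
  let e : RingAut F × Multiplicative (ZMod 2) ≃* Multiplicative (ZMod f × ZMod 2) :=
    (MulEquiv.prodCongr e₁ (MulEquiv.refl _)).trans (MulEquiv.prodMultiplicative _ _).symm
  have hker : (e.toMonoidHom.comp (outStdPart hn hstd)).ker = (outStdPart hn hstd).ker := by
    ext x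
    rw [MonoidHom.mem_ker, MonoidHom.mem_ker, MonoidHom.comp_apply]
    exact e.map_eq_one_iff
  refine ⟨e.toMonoidHom.comp (outStdPart hn hstd), ?_, ?_, ?_⟩
  · exact e.surjective.comp (outStdPart_surjective hn hstd)
  · rw [hker]
    have h1 : IsCyclic (Fˣ ⧸ (powMonoidHom n : Fˣ →* Fˣ).range) :=
      isCyclic_of_surjective (QuotientGroup.mk' _) (QuotientGroup.mk'_surjective _)
    exact isCyclic_of_surjective (kerOutStdPartEquiv hn hstd).symm.toMonoidHom
      (kerOutStdPartEquiv hn hstd).symm.surjective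
  · rw [hker, Nat.card_congr (kerOutStdPartEquiv hn hstd).toEquiv, ← Subgroup.index_eq_card,
      IsCyclic.index_powMonoidHom_range, Nat.card_units, Nat.card_eq_fintype_card, hF,
      Nat.gcd_comm]

end

end Cfsg.Agent.Lib.Helper43
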