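/-
helper43: `Out(PSL_n(F))`, `n ≥ 3`, from either form of the Schreier–van der Waerden theorem
(decomposition `δ φ γ` of every automorphism, or generation of `Aut` by semilinear and
inverse-transpose automorphisms), stated with the frozen predicates.
-/
import Cfsg.Agent.Lib.Helper43.PSLnOut

set_option autoImplicit false

namespace Cfsg.Agent.Lib.Helper43

open Matrix

section

variable {n : ℕ} {F : Type*} [Field F]

theorem allStdAut_of_decomp
    (h : ∀ β : MulAut (Matrix.ProjectiveSpecialLinearGroup (Fin n) F),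
      ∃ (δ φ γ : MulAut (Matrix.ProjectiveSpecialLinearGroup (Fin n) F)) (σ : F ≃+* F),
        Cfsg.IsInnerDiagonalAutPSL δ ∧ Cfsg.IsStdFieldAutPSL σ φ ∧
          (γ = 1 ∨ Cfsg.IsInverseTransposeAutPSL γ) ∧ β = δ * φ * γ) :
    AllStdAut n F := by
  intro β
  obtain ⟨δ, φ, γ, σ, hδ, hφ, hγ, rfl⟩ := h β
  obtain ⟨g, rfl⟩ := (isInnerDiagonalAutPSL_iff δ).mp hδ
  rw [(isStdFieldAutPSL_iff σ φ).mp hφ]
  rcases hγ with rfl | hγ
  · exact ⟨(σ, 1), g, by rw [map_one]⟩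
  · rw [(isInverseTransposeAutPSL_iff γ).mp hγ]
    exact ⟨(σ, Multiplicative.ofAdd 1), g, by rw [pslGraph_one_add]⟩

theorem IsStdAut.inv {β : MulAut (Matrix.ProjectiveSpecialLinearGroup (Fin n) F)}
    {p : RingAut F × Multiplicative (ZMod 2)} (h : IsStdAut β p) :
    ∃ p', IsStdAut β⁻¹ p' := by
  obtain ⟨g, rfl⟩ := h
  have h1 : IsStdAut (pslGraph (n := n) (F := F) p.2⁻¹) (1, p.2⁻¹) := ⟨1, by simp⟩
  have h2 : IsStdAut (pslField (n := n) (F := F) p.1⁻¹) (p.1⁻¹, 1) := ⟨1, by simp⟩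
  have h3 : IsStdAut (pslDiag (n := n) (F := F) g⁻¹) (1, 1) := ⟨g⁻¹, by simp⟩
  have := (h1.mul h2).mul h3
  rw [map_inv, map_inv, map_inv] at this
  refine ⟨(1, p.2⁻¹) * (p.1⁻¹, 1) * (1, 1), ?_⟩
  rw [_root_.mul_inv_rev, _root_.mul_inv_rev, ← mul_assoc]
  exact this

theorem allStdAut_of_generation
    (h : Cfsg.gammaPSL n F ⊔ Cfsg.autSubgroupOf
      (fun β : Matrix.ProjectiveSpecialLinearGroup (Fin n) F ≃*
        Matrix.ProjectiveSpecialLinearGroup (Fin n) F => Cfsg.IsInverseTransposeAutPSL β) = ⊤) :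
    AllStdAut n F := by
  intro β
  have hβ : β ∈ Cfsg.gammaPSL n F ⊔ Cfsg.autSubgroupOf
      (fun β : Matrix.ProjectiveSpecialLinearGroup (Fin n) F ≃*
        Matrix.ProjectiveSpecialLinearGroup (Fin n) F => Cfsg.IsInverseTransposeAutPSL β) := by
    rw [h]; exact Subgroup.mem_top β
  unfold Cfsg.gammaPSL Cfsg.autSubgroupOf at hβ
  rw [← Subgroup.closure_union] at hβ
  induction hβ using Subgroup.closure_induction with
  | mem x hx =>
    rcases hx with ⟨g, σ, hx⟩ | hx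
    · rw [(isInducedBySemilinearPSL_iff g σ x).mp hx]
      exact ⟨(σ, 1), g, by rw [map_one, mul_one]⟩
    · have hx' : x = pslInvT := (isInverseTransposeAutPSL_iff x).mp hx
      rw [hx']
      exact ⟨(1, Multiplicative.ofAdd 1), 1, by rw [pslGraph_one_add, map_one, map_one, one_mul, one_mul]⟩
  | one => exact ⟨1, isStdAut_one⟩
  | mul x y _ _ hx hy =>
    obtain ⟨p, hp⟩ := hx
    obtain ⟨p', hp'⟩ := hy
    exact ⟨p * p', hp.mul hp'⟩
  | inv x _ hx =>
    obtain ⟨p, hp⟩ := hx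
    exact hp.inv

end

end Cfsg.Agent.Lib.Helper43
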