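/-
helper43: the order of `Aut(PSL_n(F))` from a homomorphism with kernel the inner-diagonal automorphisms.
-/
import Cfsg.Agent.Lib.Helper43.PSLnOutCond

set_option autoImplicit false

namespace Cfsg.Agent.Lib.Helper43

open Matrix

section

variable {n : ℕ} {F : Type*} [Field F]

theorem ker_pslDiag (hn : 2 ≤ n) :
    (pslDiag : GL (Fin n) F →* MulAut (Matrix.ProjectiveSpecialLinearGroup (Fin n) F)).ker =
      Subgroup.center (GL (Fin n) F) := by
  ext g
  rw [MonoidHom.mem_ker, Matrix.GeneralLinearGroup.center_eq_range_scalar]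
  constructor
  · intro h
    have h1 : (pslDiag g : MulAut (Matrix.ProjectiveSpecialLinearGroup (Fin n) F)) *
        pslField 1 = 1 := by rw [map_one, mul_one, h]
    obtain ⟨c, hc⟩ := (eq_one_of_pslDiag_mul_pslField_eq_one hn _ _ h1).2
    have hc0 : c ≠ 0 := by
      intro h0
      apply gl_coe_ne_zero (by omega) g
      rw [← hc, h0, map_zero]
    refine ⟨Units.mk0 c hc0, ?_⟩
    apply Units.ext
    rw [Matrix.GeneralLinearGroup.coe_scalar, Units.val_mk0, hc]
  · rintro ⟨c, rfl⟩
    exact pslDiag_scalar c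

theorem card_range_pslDiag (hn : 2 ≤ n) :
    Nat.card (pslDiag : GL (Fin n) F →*
      MulAut (Matrix.ProjectiveSpecialLinearGroup (Fin n) F)).range =
      Nat.card (Matrix.ProjGenLinGroup (Fin n) F) := by
  rw [← Nat.card_congr (QuotientGroup.quotientKerEquivRange
    (pslDiag : GL (Fin n) F →* MulAut (Matrix.ProjectiveSpecialLinearGroup (Fin n) F))).toEquiv]
  exact Nat.card_congr (QuotientGroup.quotientMulEquivOfEq (ker_pslDiag hn)).toEquiv

theorem card_mulAut_psl_of_ker_eq [Finite F] (hn : 2 ≤ n) {Q : Type*} [Group Q]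
    (Ψ : MulAut (Matrix.ProjectiveSpecialLinearGroup (Fin n) F) →* Q)
    (hsurj : Function.Surjective Ψ)
    (hker : Ψ.ker = (pslDiag : GL (Fin n) F →* _).range) :
    Nat.card (MulAut (Matrix.ProjectiveSpecialLinearGroup (Fin n) F)) =
      Nat.card Q * Nat.card (Matrix.ProjGenLinGroup (Fin n) F) := by
  rw [← card_range_pslDiag hn, ← hker,
    ← Nat.card_congr (QuotientGroup.quotientKerEquivOfSurjective Ψ hsurj).toEquiv]
  exact Subgroup.card_eq_card_quotient_mul_card_subgroup Ψ.ker

theorem card_ringAut [Fintype F] {p f : ℕ} [Fact p.Prime] (hf : 1 ≤ f)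
    (hF : Fintype.card F = p ^ f) : Nat.card (RingAut F) = f := by
  have hchar : CharP F p := charP_of_card' hf hF
  obtain ⟨e₁⟩ := ringAut_mulEquiv_zmod' (F := F) p f hF
  rw [Nat.card_congr e₁.toEquiv]
  have : NeZero f := ⟨by omega⟩
  show Nat.card (ZMod f) = f
  rw [Nat.card_eq_fintype_card, ZMod.card]

/-- `|Aut(PSL_n(F))| = 2 f |PGL_n(F)|` for `n ≥ 3`, given that all automorphisms are standard -/
theorem card_mulAut_psl_of_allStdAut [Fintype F] {p f : ℕ} [Fact p.Prime] (hf : 1 ≤ f)
    (hF : Fintype.card F = p ^ f) (hn : 3 ≤ n) (hstd : AllStdAut n F) :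
    Nat.card (MulAut (Matrix.ProjectiveSpecialLinearGroup (Fin n) F)) =
      2 * f * Nat.card (Matrix.ProjGenLinGroup (Fin n) F) := by
  rw [card_mulAut_psl_of_ker_eq (by omega) (stdPart hn hstd) (stdPart_surjective hn hstd)
    (ker_stdPart hn hstd), Nat.card_prod, card_ringAut hf hF]
  have : Nat.card (Multiplicative (ZMod 2)) = 2 := by
    show Nat.card (ZMod 2) = 2
    rw [Nat.card_eq_fintype_card, ZMod.card]
  rw [this, mul_comm f 2]

end

end Cfsg.Agent.Lib.Helper43
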