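/-
helper43: Hilbert 90 for the conformal symplectic group `GSp_{2m}(F)` of a finite field with an automorphism
`σ` of order `r`: a matrix `D ∈ GSp` with `D σ(D) ⋯ σ^{r-1}(D) = 1` is `B σ(B)⁻¹` with `B ∈ GSp`.
(Hilbert 90 for `GL` from helper45, then correct `B` by a symplectic basis over the fixed field.)
-/
import Mathlib
import Cfsg.Agent.Lib.Helper43.PSpAutStd
import Cfsg.Agent.Lib.Helper45.PSLField.Centralizer
import Cfsg.Agent.Lib.Helper13.SympSplit

set_option autoImplicit false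

namespace Cfsg.Agent.Lib.Helper43

open scoped MatrixGroups Matrix
open Matrix Cfsg.Agent.Lib.Helper45.PSLField

section General

variable {m : ℕ} {R : Type*} [CommRing R]

theorem sympForm_mulVec_mulVec (A B : Matrix (Fin m ⊕ Fin m) (Fin m ⊕ Fin m) R)
    (u v : Fin m ⊕ Fin m → R) :
    Cfsg.sympForm m R (A *ᵥ u) (B *ᵥ v) = u ⬝ᵥ ((Aᵀ * Matrix.J (Fin m) R * B) *ᵥ v) := by
  unfold Cfsg.sympForm
  rw [← Matrix.vecMul_transpose, ← Matrix.dotProduct_mulVec, Matrix.mulVec_mulVec,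
    Matrix.mulVec_mulVec, Matrix.mul_assoc]

theorem sympForm_eq_dot (u v : Fin m ⊕ Fin m → R) :
    Cfsg.sympForm m R u v = u ⬝ᵥ (Matrix.J (Fin m) R *ᵥ v) := rfl

theorem matrix_eq_of_forall_dot {n : Type*} [Fintype n] [DecidableEq n] {M N : Matrix n n R}
    (h : ∀ u v : n → R, u ⬝ᵥ (M *ᵥ v) = u ⬝ᵥ (N *ᵥ v)) : M = N := by
  ext i j
  have := h (Pi.single i 1) (Pi.single j 1)
  rwa [single_one_dotProduct, single_one_dotProduct, Matrix.mulVec_single_one,
    Matrix.mulVec_single_one] at this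

/-- the matrix form of a similitude -/
theorem transpose_J_mul_eq_iff (A : Matrix (Fin m ⊕ Fin m) (Fin m ⊕ Fin m) R) (c : R) :
    Aᵀ * Matrix.J (Fin m) R * A = c • Matrix.J (Fin m) R ↔
      ∀ u v : Fin m ⊕ Fin m → R, Cfsg.sympForm m R (A *ᵥ u) (A *ᵥ v) = c * Cfsg.sympForm m R u v := by
  constructor
  · intro h u v
    rw [sympForm_mulVec_mulVec, h, sympForm_eq_dot, Matrix.smul_mulVec, dotProduct_smul, smul_eq_mul]
  · intro h
    apply matrix_eq_of_forall_dot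
    intro u v
    rw [← sympForm_mulVec_mulVec, h, sympForm_eq_dot, Matrix.smul_mulVec, dotProduct_smul,
      smul_eq_mul]

theorem J_map' {S : Type*} [CommRing S] (j : R →+* S) :
    (Matrix.J (Fin m) R).map j = Matrix.J (Fin m) S := by
  ext i k
  rcases i with i | i <;> rcases k with k | k <;> by_cases hik : i = k <;>
    simp [Matrix.J, Matrix.fromBlocks, hik]

theorem dot_mulVec_mulVec {n : Type*} [Fintype n] [DecidableEq n] (A M B : Matrix n n R)
    (u v : n → R) : (A *ᵥ u) ⬝ᵥ (M *ᵥ (B *ᵥ v)) = u ⬝ᵥ ((Aᵀ * M * B) *ᵥ v) := by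
  rw [← Matrix.vecMul_transpose, ← Matrix.dotProduct_mulVec, Matrix.mulVec_mulVec,
    Matrix.mulVec_mulVec, Matrix.mul_assoc]

end General

section Field

variable {m : ℕ} {F₀ : Type*} [Field F₀]

/-- a non-degenerate alternating matrix is congruent to `J` -/
theorem exists_symp_matrix (K₀ : Matrix (Fin m ⊕ Fin m) (Fin m ⊕ Fin m) F₀)
    (halt : ∀ u : Fin m ⊕ Fin m → F₀, u ⬝ᵥ (K₀ *ᵥ u) = 0) (hdet : K₀.det ≠ 0) :
    ∃ C : Matrix (Fin m ⊕ Fin m) (Fin m ⊕ Fin m) F₀, Cᵀ * K₀ * C = Matrix.J (Fin m) F₀ := by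
  have hA : (Matrix.toBilin' K₀).IsAlt := by
    intro u
    rw [Matrix.toBilin'_apply']
    exact halt u
  have hnd : ∀ u, (∀ v, Matrix.toBilin' K₀ u v = 0) → u = 0 := by
    intro u hu
    apply (Matrix.separatingLeft_def.mp (Matrix.nondegenerate_of_det_ne_zero hdet).separatingLeft) u
    intro w
    rw [← Matrix.toBilin'_apply']
    exact hu w
  have hk : Module.finrank F₀ (Fin m ⊕ Fin m → F₀) = 2 * m := by
    rw [Module.finrank_fintype_fun_eq_card, Fintype.card_sum, Fintype.card_fin, two_mul]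
  obtain ⟨ι, hι⟩ := Cfsg.Agent.Lib.Helper13.exists_symp_coords (Matrix.toBilin' K₀) hA hnd m hk
  refine ⟨LinearMap.toMatrix' (ι : (Fin m ⊕ Fin m → F₀) →ₗ[F₀] (Fin m ⊕ Fin m → F₀)), ?_⟩
  apply matrix_eq_of_forall_dot
  intro u v
  rw [← dot_mulVec_mulVec, LinearMap.toMatrix'_mulVec, LinearMap.toMatrix'_mulVec,
    ← Matrix.toBilin'_apply']
  exact hι u v

end Field

section Main

variable {m : ℕ} {F : Type*} [Field F]

theorem sympForm_self' (u : Fin m ⊕ Fin m → F) : Cfsg.sympForm m F u u = 0 :=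
  Cfsg.Agent.Lib.Helper5.sympForm_self (l := Fin m) u

/-- **Hilbert 90 for `GSp`**, matrix form -/
theorem hilbert90_gsp_matrix (hm : 1 ≤ m) (σ : RingAut F) {r : ℕ} (hr : 0 < r)
    (hσ : orderOf σ = r) (D : Matrix (Fin m ⊕ Fin m) (Fin m ⊕ Fin m) F) (μ : F) (hμ : μ ≠ 0)
    (hD : Dᵀ * Matrix.J (Fin m) F * D = μ • Matrix.J (Fin m) F) (hcoc : cocyc σ D r = 1) :
    ∃ (B : Matrix (Fin m ⊕ Fin m) (Fin m ⊕ Fin m) F) (b : F), b ≠ 0 ∧
      Bᵀ * Matrix.J (Fin m) F * B = b • Matrix.J (Fin m) F ∧ D * B.map σ = B := by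
  obtain ⟨B₀, hB₀u, hB₀⟩ := hilbert90_matrix σ hr hσ D hcoc
  have hJdet : (Matrix.J (Fin m) F).det ≠ 0 := (Matrix.isUnit_det_J (Fin m) F).ne_zero
  have hB₀det : B₀.det ≠ 0 := ((Matrix.isUnit_iff_isUnit_det _).mp hB₀u).ne_zero
  set K : Matrix (Fin m ⊕ Fin m) (Fin m ⊕ Fin m) F := B₀ᵀ * Matrix.J (Fin m) F * B₀ with hKdef
  have hKmap : K.map σ = (B₀.map σ)ᵀ * Matrix.J (Fin m) F * B₀.map σ := by
    have hJσ : (Matrix.J (Fin m) F).map σ = Matrix.J (Fin m) F :=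
      J_map ((σ : F ≃+* F) : F →+* F)
    rw [hKdef, Matrix.map_mul, Matrix.map_mul, Matrix.transpose_map, hJσ]
  have hK1 : K = μ • K.map σ := by
    rw [hKmap]
    calc K = (D * B₀.map σ)ᵀ * Matrix.J (Fin m) F * (D * B₀.map σ) := by rw [hB₀]
      _ = (B₀.map σ)ᵀ * (Dᵀ * Matrix.J (Fin m) F * D) * B₀.map σ := by
          rw [Matrix.transpose_mul]; simp only [Matrix.mul_assoc]
      _ = _ := by rw [hD, Matrix.mul_smul, Matrix.smul_mul]
  have hK : K.map σ = μ⁻¹ • K := by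
    rw [eq_comm, inv_smul_eq_iff₀ hμ]
    exact hK1
  have hKdet : K.det ≠ 0 := by
    rw [hKdef, Matrix.det_mul, Matrix.det_mul, Matrix.det_transpose]
    exact mul_ne_zero (mul_ne_zero hB₀det hJdet) hB₀det
  have hK0 : K ≠ 0 := by
    intro h0
    apply hKdet
    rw [h0]
    have : Nonempty (Fin m ⊕ Fin m) := ⟨Sum.inl ⟨0, hm⟩⟩
    exact Matrix.det_zero
  obtain ⟨b, hb0, hb⟩ := exists_fixed_multiple σ hr hσ K hK0 μ⁻¹ hK
  -- descend to the fixed field
  have hfix : ∀ k l, b * K k l ∈ fixF σ := by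
    intro k l
    rw [mem_fixF]
    have := congrFun (congrFun hb k) l
    simpa using this
  set K₀ : Matrix (Fin m ⊕ Fin m) (Fin m ⊕ Fin m) (fixF σ) :=
    Matrix.of (fun k l => (⟨b * K k l, hfix k l⟩ : fixF σ)) with hK₀def
  have hK₀map : K₀.map (fixF σ).subtype = b • K := by
    ext k l
    rfl
  have hsubinj : Function.Injective (fixF σ).subtype := Subtype.val_injective
  have halt : ∀ u : Fin m ⊕ Fin m → fixF σ, u ⬝ᵥ (K₀ *ᵥ u) = 0 := by
    intro u
    apply hsubinj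
    have h0 : (fixF σ).subtype ∘ (K₀ *ᵥ u) =
        ((fixF σ).subtype.mapMatrix K₀) *ᵥ ((fixF σ).subtype ∘ u) := by
      funext i
      exact RingHom.map_mulVec _ _ _ i
    have h1 : (fixF σ).subtype.mapMatrix K₀ = b • K := hK₀map
    rw [RingHom.map_dotProduct, h0, map_zero, h1, Matrix.smul_mulVec, dotProduct_smul, smul_eq_mul]
    have h2 := sympForm_mulVec_mulVec B₀ B₀ ((fixF σ).subtype ∘ u) ((fixF σ).subtype ∘ u)
    rw [sympForm_self'] at h2
    rw [← h2, mul_zero]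
  have hdet : K₀.det ≠ 0 := by
    intro h0
    have h1 : (fixF σ).subtype K₀.det = (b • K).det := by
      rw [RingHom.map_det]
      exact congrArg Matrix.det hK₀map
    rw [h0, map_zero, Matrix.det_smul] at h1
    exact (mul_ne_zero (pow_ne_zero _ hb0) hKdet) h1.symm
  obtain ⟨C, hC⟩ := exists_symp_matrix K₀ halt hdet
  set C' : Matrix (Fin m ⊕ Fin m) (Fin m ⊕ Fin m) F := C.map (fixF σ).subtype with hC'def
  have hC' : C'ᵀ * (b • K) * C' = Matrix.J (Fin m) F := by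
    have := congrArg (fun M : Matrix (Fin m ⊕ Fin m) (Fin m ⊕ Fin m) (fixF σ) =>
      M.map (fixF σ).subtype) hC
    simp only [Matrix.map_mul, Matrix.transpose_map, J_map'] at this
    rw [hK₀map] at this
    exact this
  have hC'σ : C'.map σ = C' := by
    ext k l
    rw [Matrix.map_apply]
    exact (mem_fixF σ _).mp (C k l).2
  refine ⟨B₀ * C', b⁻¹, inv_ne_zero hb0, ?_, ?_⟩
  · have h1 : (B₀ * C')ᵀ * Matrix.J (Fin m) F * (B₀ * C') = C'ᵀ * K * C' := by
      rw [Matrix.transpose_mul, hKdef]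
      simp only [Matrix.mul_assoc]
    have h2 : b • (C'ᵀ * K * C') = Matrix.J (Fin m) F := by
      rw [← hC', Matrix.mul_smul, Matrix.smul_mul]
    rw [h1, eq_comm, inv_smul_eq_iff₀ hb0, h2]
  · have : (B₀ * C').map σ = B₀.map σ * C'.map σ := Matrix.map_mul (f := ((σ : F ≃+* F) : F →+* F))
    rw [this, hC'σ, ← Matrix.mul_assoc, hB₀]

end Main

section Group

variable {m : ℕ} {F : Type*} [Field F]

/-- if `G σ(G) ⋯ σ^{r-1}(G) = c` is scalar (and `σ^r = 1`), then `c` is fixed by `σ` -/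
theorem cocyc_scalar_fixed {n : Type*} [Fintype n] [DecidableEq n] (σ : RingAut F) {r : ℕ}
    (hσr : σ ^ r = 1) (G : Matrix n n F) (hG0 : G ≠ 0) (c : F)
    (hc' : cocyc σ G r = c • (1 : Matrix n n F)) : σ c = c := by
  have e1 := cocyc_succ σ G r
  have e2 := cocyc_succ' σ G r
  rw [hc'] at e1 e2
  rw [e1, hσr] at e2
  have e3 : G * (c • (1 : Matrix n n F)).map σ = σ c • G := by
    have : (c • (1 : Matrix n n F)).map σ = σ c • (1 : Matrix n n F) := by
      ext k l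
      by_cases hkl : k = l
      · simp [hkl]
      · simp [hkl]
    rw [this, Matrix.mul_smul, Matrix.mul_one]
  have e4 : c • (1 : Matrix n n F) * G.map ((1 : RingAut F) : F → F) = c • G := by
    have : G.map ((1 : RingAut F) : F → F) = G := by
      ext k l
      rfl
    rw [this, Matrix.smul_mul, Matrix.one_mul]
  rw [e3, e4] at e2
  by_contra hne
  apply hG0
  have : (σ c - c) • G = 0 := by
    rw [sub_smul, e2, sub_self]
  rcases smul_eq_zero.mp this with h1 | h1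
  · exact absurd (sub_eq_zero.mp h1) hne
  · exact h1

/-- the multiplier in matrix form -/
theorem gsp_matrix_form (g : ↥(Cfsg.GSp m F)) :
    ∃ c : Fˣ, ((g : GL (Fin m ⊕ Fin m) F) : Matrix (Fin m ⊕ Fin m) (Fin m ⊕ Fin m) F)ᵀ *
      Matrix.J (Fin m) F * ((g : GL (Fin m ⊕ Fin m) F) : Matrix (Fin m ⊕ Fin m) (Fin m ⊕ Fin m) F) =
      (c : F) • Matrix.J (Fin m) F := by
  obtain ⟨c, hc⟩ := (mem_GSp_iff g.1).mp g.2
  exact ⟨c, (transpose_J_mul_eq_iff _ _).mpr hc⟩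

/-- an element of `GSp` from a matrix with `Bᵀ J B = b J` -/
theorem exists_gsp_of_matrix (B : Matrix (Fin m ⊕ Fin m) (Fin m ⊕ Fin m) F) (b : F) (hb : b ≠ 0)
    (hB : Bᵀ * Matrix.J (Fin m) F * B = b • Matrix.J (Fin m) F) :
    ∃ g : ↥(Cfsg.GSp m F),
      ((g : GL (Fin m ⊕ Fin m) F) : Matrix (Fin m ⊕ Fin m) (Fin m ⊕ Fin m) F) = B := by
  have hJdet : (Matrix.J (Fin m) F).det ≠ 0 := (Matrix.isUnit_det_J (Fin m) F).ne_zero
  have hdet : B.det ≠ 0 := by
    intro h0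
    have h1 := congrArg Matrix.det hB
    rw [Matrix.det_mul, Matrix.det_mul, Matrix.det_transpose, h0, zero_mul, zero_mul,
      Matrix.det_smul] at h1
    exact (mul_ne_zero (pow_ne_zero _ hb) hJdet) h1.symm
  refine ⟨⟨Matrix.GeneralLinearGroup.mkOfDetNeZero B hdet, ?_⟩, rfl⟩
  rw [mem_GSp_iff]
  exact ⟨Units.mk0 b hb, (transpose_J_mul_eq_iff B b).mp hB⟩

/-- powers of an element of the coset `Inndiag · φ_σ` -/
theorem pow_pspDiag_pspField (g : ↥(Cfsg.GSp m F)) (σ : RingAut F) (i : ℕ) :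
    ∃ gi : ↥(Cfsg.GSp m F),
      ((gi : GL (Fin m ⊕ Fin m) F) : Matrix (Fin m ⊕ Fin m) (Fin m ⊕ Fin m) F) =
        cocyc σ ((g : GL (Fin m ⊕ Fin m) F) : Matrix (Fin m ⊕ Fin m) (Fin m ⊕ Fin m) F) i ∧
      ((pspDiag g : MulAut (Cfsg.PSp m F)) * pspField σ) ^ i = pspDiag gi * pspField (σ ^ i) := by
  induction i with
  | zero => exact ⟨1, rfl, by rw [pow_zero, pow_zero, map_one, map_one, one_mul]⟩
  | succ i ih =>
    obtain ⟨gi, hgi, hpow⟩ := ih
    refine ⟨g * gspMap σ gi, ?_, ?_⟩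
    · rw [cocyc_succ, ← hgi]
      rfl
    · rw [pow_succ', hpow, pow_succ', map_mul, map_mul]
      have h1 := pspField_mul_pspDiag (m := m) σ gi
      calc pspDiag g * pspField σ * (pspDiag gi * pspField (σ ^ i))
          = pspDiag g * (pspField σ * pspDiag gi) * pspField (σ ^ i) := by simp only [mul_assoc]
        _ = _ := by rw [h1]; simp only [mul_assoc]

/-- conjugating `φ_σ` by an inner-diagonal automorphism -/
theorem conj_pspField (B : ↥(Cfsg.GSp m F)) (σ : RingAut F) :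
    (pspDiag B : MulAut (Cfsg.PSp m F)) * pspField σ * (pspDiag B)⁻¹ =
      pspDiag (B * (gspMap σ B)⁻¹) * pspField σ := by
  have h1 := pspField_mul_pspDiag (m := m) σ B
  rw [mul_inv_eq_iff_eq_mul, map_mul, map_inv]
  calc pspDiag B * pspField σ
      = pspDiag B * (pspDiag (gspMap σ B))⁻¹ * (pspDiag (gspMap σ B) * pspField σ) := by
        simp only [mul_assoc, inv_mul_cancel_left]
    _ = _ := by rw [← h1]; simp only [mul_assoc]

/-- **the coset of a field automorphism of `PSp`**: elements of `Inndiag · φ_σ` killed by the order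
of `σ` are `Inndiag`-conjugate to `φ_σ` -/
theorem field_coset_conj_psp [Finite F] (hm : 1 ≤ m) (σ : RingAut F) {r : ℕ} (hr : 0 < r)
    (hσ : orderOf σ = r) (g : ↥(Cfsg.GSp m F))
    (h : ((pspDiag g : MulAut (Cfsg.PSp m F)) * pspField σ) ^ r = 1) :
    ∃ B : ↥(Cfsg.GSp m F),
      (pspDiag g : MulAut (Cfsg.PSp m F)) * pspField σ =
        pspDiag B * pspField σ * (pspDiag B)⁻¹ := by
  have hσr : σ ^ r = 1 := by rw [← hσ]; exact pow_orderOf_eq_one σ
  obtain ⟨gr, hgr, hpow⟩ := pow_pspDiag_pspField g σ r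
  rw [hpow] at h
  obtain ⟨c, hc⟩ := (eq_one_of_pspDiag_mul_pspField_eq_one hm _ _ h).2
  rw [hgr] at hc
  set G : Matrix (Fin m ⊕ Fin m) (Fin m ⊕ Fin m) F :=
    ((g : GL (Fin m ⊕ Fin m) F) : Matrix (Fin m ⊕ Fin m) (Fin m ⊕ Fin m) F) with hGdef
  have hc' : cocyc σ G r = c • (1 : Matrix (Fin m ⊕ Fin m) (Fin m ⊕ Fin m) F) := by
    rw [hc, Matrix.smul_one_eq_diagonal]
    rfl
  have hg0 : G ≠ 0 := gsp_coe_ne_zero hm (g : GL (Fin m ⊕ Fin m) F)
  have hc0 : c ≠ 0 := by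
    intro h0
    rw [h0, zero_smul] at hc'
    have : ((gr : GL (Fin m ⊕ Fin m) F) : Matrix (Fin m ⊕ Fin m) (Fin m ⊕ Fin m) F) ≠ 0 :=
      gsp_coe_ne_zero hm (gr : GL (Fin m ⊕ Fin m) F)
    exact this (hgr.trans hc')
  have hfix : σ c = c := cocyc_scalar_fixed σ hσr G hg0 c hc'
  -- rescale
  obtain ⟨a, ha0, ha⟩ := exists_nrm_eq σ hr hσ c⁻¹ (inv_ne_zero hc0) (by rw [map_inv₀, hfix])
  set g' : ↥(Cfsg.GSp m F) := scalarGSp (Units.mk0 a ha0) * g with hg'def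
  have hg'coe : ((g' : GL (Fin m ⊕ Fin m) F) : Matrix (Fin m ⊕ Fin m) (Fin m ⊕ Fin m) F) =
      a • G := by
    rw [hg'def, Subgroup.coe_mul, Units.val_mul, scalarGSp_coe, Units.val_mk0, Matrix.smul_mul,
      Matrix.one_mul]
  have hg' : (pspDiag g' : MulAut (Cfsg.PSp m F)) = pspDiag g := by
    rw [hg'def, map_mul, pspDiag_scalarGSp, one_mul]
  have hcoc : cocyc σ ((g' : GL (Fin m ⊕ Fin m) F) :
      Matrix (Fin m ⊕ Fin m) (Fin m ⊕ Fin m) F) r = 1 := by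
    rw [hg'coe, cocyc_smul, hc', ha, smul_smul, inv_mul_cancel₀ hc0, one_smul]
  obtain ⟨μ, hμ⟩ := gsp_matrix_form g'
  obtain ⟨B, b, hb0, hB, hDB⟩ := hilbert90_gsp_matrix hm σ hr hσ _ (μ : F) μ.ne_zero hμ hcoc
  obtain ⟨Bg, hBg⟩ := exists_gsp_of_matrix B b hb0 hB
  refine ⟨Bg, ?_⟩
  rw [conj_pspField, ← hg']
  congr 2
  rw [eq_mul_inv_iff_mul_eq]
  apply Subtype.ext
  apply Units.ext
  rw [Subgroup.coe_mul, Units.val_mul, gspMap_coe, hBg]
  exact hDB

end Group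

end Cfsg.Agent.Lib.Helper43
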