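/-
helper43: Hilbert 90 for the conformal orthogonal group of a form `Q` (Gram matrix `S`, fixed by a
field automorphism `σ` of order `r`): a matrix `D` with `Dᵀ S D = μ S` and
`D σ(D) ⋯ σ^{r-1}(D) = 1` is `B σ(B)⁻¹` with `Bᵀ S B = b S`, provided the symmetric invertible
matrices over the fixed field are all congruent to multiples of `S`.
Then the coset `PGO · φ_σ` in `Aut(PΩ(Q))`: elements killed by `r` are `PGO`-conjugate to `φ_σ`.
-/
import Mathlib
import Cfsg.Agent.Lib.Helper43.OStdAut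
import Cfsg.Agent.Lib.Helper43.PSpH90
import Cfsg.Agent.Lib.Helper36.SemiInv

set_option autoImplicit false

namespace Cfsg.Agent.Lib.Helper43

open scoped MatrixGroups Matrix
open Matrix Cfsg.Agent.Lib.Helper45.PSLField Cfsg.Agent.Lib.Helper36 Cfsg.Agent.Lib.Helper44

section Matrix

variable {n : Type*} [Fintype n] [DecidableEq n] [Nonempty n] {F : Type*} [Field F]

/-- **Hilbert 90 for `GO`**, matrix form -/
theorem hilbert90_gram (σ : RingAut F) {r : ℕ} (hr : 0 < r) (hσ : orderOf σ = r)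
    (S : Matrix n n F) (hSsym : Sᵀ = S) (hSσ : S.map σ = S) (hSdet : S.det ≠ 0)
    (hcl : ∀ K₀ : Matrix n n (fixF σ), K₀ᵀ = K₀ → K₀.det ≠ 0 →
      ∃ (C : Matrix n n (fixF σ)) (d : fixF σ), d ≠ 0 ∧
        (C.map (fixF σ).subtype)ᵀ * K₀.map (fixF σ).subtype * C.map (fixF σ).subtype =
          (d : F) • S)
    (D : Matrix n n F) (μ : F) (hμ : μ ≠ 0)
    (hD : Dᵀ * S * D = μ • S) (hcoc : cocyc σ D r = 1) :
    ∃ (B : Matrix n n F) (b : F), b ≠ 0 ∧ Bᵀ * S * B = b • S ∧ D * B.map σ = B := by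
  obtain ⟨B₀, hB₀u, hB₀⟩ := hilbert90_matrix σ hr hσ D hcoc
  have hB₀det : B₀.det ≠ 0 := ((Matrix.isUnit_iff_isUnit_det _).mp hB₀u).ne_zero
  set K : Matrix n n F := B₀ᵀ * S * B₀ with hKdef
  have hKmap : K.map σ = (B₀.map σ)ᵀ * S * B₀.map σ := by
    rw [hKdef, Matrix.map_mul, Matrix.map_mul, Matrix.transpose_map, hSσ]
  have hK1 : K = μ • K.map σ := by
    rw [hKmap]
    calc K = (D * B₀.map σ)ᵀ * S * (D * B₀.map σ) := by rw [hB₀]
      _ = (B₀.map σ)ᵀ * (Dᵀ * S * D) * B₀.map σ := by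
          rw [Matrix.transpose_mul]; simp only [Matrix.mul_assoc]
      _ = _ := by rw [hD, Matrix.mul_smul, Matrix.smul_mul]
  have hK : K.map σ = μ⁻¹ • K := by
    rw [eq_comm, inv_smul_eq_iff₀ hμ]
    exact hK1
  have hKdet : K.det ≠ 0 := by
    rw [hKdef, Matrix.det_mul, Matrix.det_mul, Matrix.det_transpose]
    exact mul_ne_zero (mul_ne_zero hB₀det hSdet) hB₀det
  have hKsym : Kᵀ = K := by
    rw [hKdef, Matrix.transpose_mul, Matrix.transpose_mul, Matrix.transpose_transpose, hSsym,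
      Matrix.mul_assoc]
  have hK0 : K ≠ 0 := by
    intro h0
    apply hKdet
    rw [h0]
    exact Matrix.det_zero
  obtain ⟨b, hb0, hb⟩ := exists_fixed_multiple σ hr hσ K hK0 μ⁻¹ hK
  -- descend to the fixed field
  have hfix : ∀ k l, b * K k l ∈ fixF σ := by
    intro k l
    rw [mem_fixF]
    have := congrFun (congrFun hb k) l
    simpa using this
  set K₀ : Matrix n n (fixF σ) :=
    Matrix.of (fun k l => (⟨b * K k l, hfix k l⟩ : fixF σ)) with hK₀def
  have hK₀map : K₀.map (fixF σ).subtype = b • K := by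
    ext k l
    rfl
  have hK₀sym : K₀ᵀ = K₀ := by
    ext k l
    show b * K l k = b * K k l
    have := congrFun (congrFun hKsym k) l
    rw [Matrix.transpose_apply] at this
    rw [this]
  have hdet : K₀.det ≠ 0 := by
    intro h0
    have h1 : (fixF σ).subtype K₀.det = (b • K).det := by
      rw [RingHom.map_det]
      exact congrArg Matrix.det hK₀map
    rw [h0, map_zero, Matrix.det_smul] at h1
    exact (mul_ne_zero (pow_ne_zero _ hb0) hKdet) h1.symm
  obtain ⟨C, d, hd0, hC⟩ := hcl K₀ hK₀sym hdet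
  set C' : Matrix n n F := C.map (fixF σ).subtype with hC'def
  rw [hK₀map] at hC
  have hC'σ : C'.map σ = C' := by
    ext k l
    rw [Matrix.map_apply]
    exact (mem_fixF σ _).mp (C k l).2
  have hd0' : (d : F) ≠ 0 := fun h => hd0 (Subtype.ext h)
  refine ⟨B₀ * C', b⁻¹ * (d : F), mul_ne_zero (inv_ne_zero hb0) hd0', ?_, ?_⟩
  · have h1 : (B₀ * C')ᵀ * S * (B₀ * C') = C'ᵀ * K * C' := by
      rw [Matrix.transpose_mul, hKdef]
      simp only [Matrix.mul_assoc]
    have h2 : b • (C'ᵀ * K * C') = (d : F) • S := by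
      rw [← hC, Matrix.mul_smul, Matrix.smul_mul]
    rw [h1, mul_smul, ← h2, smul_smul, inv_mul_cancel₀ hb0, one_smul]
  · have : (B₀ * C').map σ = B₀.map σ * C'.map σ := Matrix.map_mul (f := ((σ : F ≃+* F) : F →+* F))
    rw [this, hC'σ, ← Matrix.mul_assoc, hB₀]

end Matrix

section Group

variable {ι : Type} [Fintype ι] [DecidableEq ι] {F : Type*} [Field F]

/-- the matrix form of a similarity -/
theorem quadSim_gram (Q : QuadraticForm F (ι → F)) (g : ↥(Cfsg.Geo.quadSimilarityGroup (⇑Q))) :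
    ∃ c : Fˣ, ((g : GL ι F) : Matrix ι ι F)ᵀ * gramStd (⇑Q) * ((g : GL ι F) : Matrix ι ι F) =
      (c : F) • gramStd (⇑Q) := by
  obtain ⟨c, hc⟩ := g.2
  refine ⟨c, ?_⟩
  have := gram_semisimilarity Q (g : GL ι F) (RingEquiv.refl F) c (fun v => hc v)
  rw [map_refl] at this
  exact this

theorem gramStd_transpose (Q : (ι → F) → F) : (gramStd Q)ᵀ = gramStd Q := by
  ext i j
  rw [Matrix.transpose_apply, gramStd_apply, gramStd_apply, QuadraticMap.polar_comm]

theorem gramStd_map_of_fieldCompat {Q : (ι → F) → F} (hQ : FieldCompat Q) (τ : F ≃+* F) :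
    (gramStd Q).map τ = gramStd Q := by
  ext i j
  rw [Matrix.map_apply, gramStd_apply]
  unfold QuadraticMap.polar
  rw [map_sub, map_sub, ← hQ, ← hQ, ← hQ, vmap_add, vmap_single, vmap_single]

/-- a matrix with `Bᵀ S B = b S` is a similarity -/
theorem exists_quadSim_of_gram (Q : QuadraticForm F (ι → F)) (h2 : (2 : F) ≠ 0)
    (hdet : (gramStd (⇑Q)).det ≠ 0) (B : Matrix ι ι F) (b : F) (hb : b ≠ 0)
    (hB : Bᵀ * gramStd (⇑Q) * B = b • gramStd (⇑Q)) :
    ∃ g : ↥(Cfsg.Geo.quadSimilarityGroup (⇑Q)), ((g : GL ι F) : Matrix ι ι F) = B := by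
  have hBdet : B.det ≠ 0 := by
    intro h0
    have h1 := congrArg Matrix.det hB
    rw [Matrix.det_mul, Matrix.det_mul, Matrix.det_transpose, h0, zero_mul, zero_mul,
      Matrix.det_smul] at h1
    exact (mul_ne_zero (pow_ne_zero _ hb) hdet) h1.symm
  refine ⟨⟨Matrix.GeneralLinearGroup.mkOfDetNeZero B hBdet, ⟨Units.mk0 b hb, fun v => ?_⟩⟩, rfl⟩
  show Q (B *ᵥ v) = b * Q v
  have h1 : ∀ x : ι → F, (2 : F) * Q x = x ⬝ᵥ (gramStd (⇑Q) *ᵥ x) := by
    intro x
    rw [← polar_eq_gram, QuadraticMap.polar_self, two_smul, two_mul]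
  have h3 : (2 : F) * Q (B *ᵥ v) = 2 * (b * Q v) := by
    rw [h1, dot_gram_conj, hB, Matrix.smul_mulVec, dotProduct_smul, smul_eq_mul, ← h1]
    ring
  exact mul_left_cancel₀ h2 h3

/-- scalar similarities act trivially -/
theorem simAut_eq_one_of_scalar (Q : (ι → F) → F) (g : ↥(Cfsg.Geo.quadSimilarityGroup Q)) (a : F)
    (hg : ((g : GL ι F) : Matrix ι ι F) = a • (1 : Matrix ι ι F)) : simAut Q g = 1 := by
  apply MulEquiv.ext
  intro x
  obtain ⟨s, rfl⟩ := QuotientGroup.mk_surjective x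
  rw [MulAut.one_apply]
  apply simAut_mk Q g s s
  rw [eq_mul_inv_iff_mul_eq]
  apply Units.ext
  rw [Units.val_mul, Units.val_mul, hg, Matrix.smul_mul, Matrix.one_mul, Matrix.mul_smul,
    Matrix.mul_one]

/-- the scalar similarity -/
theorem exists_scalar_quadSim (Q : QuadraticForm F (ι → F)) (a : F) (ha : a ≠ 0) :
    ∃ g : ↥(Cfsg.Geo.quadSimilarityGroup (⇑Q)),
      ((g : GL ι F) : Matrix ι ι F) = a • (1 : Matrix ι ι F) := by
  have hdet : (a • (1 : Matrix ι ι F)).det ≠ 0 := by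
    rw [Matrix.det_smul, Matrix.det_one, mul_one]
    exact pow_ne_zero _ ha
  refine ⟨⟨Matrix.GeneralLinearGroup.mkOfDetNeZero _ hdet,
    ⟨Units.mk0 (a * a) (mul_ne_zero ha ha), fun v => ?_⟩⟩, rfl⟩
  show Q ((a • (1 : Matrix ι ι F)) *ᵥ v) = a * a * Q v
  rw [Matrix.smul_mulVec, Matrix.one_mulVec, QuadraticMap.map_smul, smul_eq_mul]

/-- powers of an element of the coset `PGO · φ_σ` -/
theorem pow_simAut_oField {Q : (ι → F) → F} (hQ : FieldCompat Q)
    (g : ↥(Cfsg.Geo.quadSimilarityGroup Q)) (σ : RingAut F) (i : ℕ) :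
    ∃ gi : ↥(Cfsg.Geo.quadSimilarityGroup Q),
      ((gi : GL ι F) : Matrix ι ι F) = cocyc σ ((g : GL ι F) : Matrix ι ι F) i ∧
      (simAut Q g * oField hQ σ) ^ i = simAut Q gi * oField hQ (σ ^ i) := by
  induction i with
  | zero => exact ⟨1, rfl, by rw [pow_zero, pow_zero, map_one, map_one, one_mul]⟩
  | succ i ih =>
    obtain ⟨gi, hgi, hpow⟩ := ih
    refine ⟨g * simMap hQ σ gi, ?_, ?_⟩
    · rw [cocyc_succ, ← hgi]
      rfl
    · rw [pow_succ', hpow, pow_succ', map_mul, map_mul]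
      have h1 := oField_mul_simAut hQ σ gi
      calc simAut Q g * oField hQ σ * (simAut Q gi * oField hQ (σ ^ i))
          = simAut Q g * (oField hQ σ * simAut Q gi) * oField hQ (σ ^ i) := by
            simp only [mul_assoc]
        _ = _ := by rw [h1]; simp only [mul_assoc]

/-- conjugating `φ_σ` by a similarity -/
theorem conj_oField {Q : (ι → F) → F} (hQ : FieldCompat Q)
    (B : ↥(Cfsg.Geo.quadSimilarityGroup Q)) (σ : RingAut F) :
    simAut Q B * oField hQ σ * (simAut Q B)⁻¹ =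
      simAut Q (B * (simMap hQ σ B)⁻¹) * oField hQ σ := by
  have h1 := oField_mul_simAut hQ σ B
  rw [mul_inv_eq_iff_eq_mul, map_mul, map_inv]
  calc simAut Q B * oField hQ σ
      = simAut Q B * (simAut Q (simMap hQ σ B))⁻¹ * (simAut Q (simMap hQ σ B) * oField hQ σ) := by
        simp only [mul_assoc, inv_mul_cancel_left]
    _ = _ := by rw [← h1]; simp only [mul_assoc]

/-- the kernel of the standard parametrisation is as small as possible -/
def OKernelProp {Q : (ι → F) → F} (hQ : FieldCompat Q) : Prop :=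
  ∀ (g : ↥(Cfsg.Geo.quadSimilarityGroup Q)) (σ : RingAut F), simAut Q g * oField hQ σ = 1 →
    σ = 1 ∧ ∃ c : F, ∀ v : ι → F, ((g : GL ι F) : Matrix ι ι F) *ᵥ v = c • v

theorem matrix_eq_smul_one_of_mulVec (G : Matrix ι ι F) (c : F)
    (h : ∀ v : ι → F, G *ᵥ v = c • v) : G = c • (1 : Matrix ι ι F) := by
  ext i j
  have := congrFun (h (Pi.single j 1)) i
  rw [Matrix.mulVec_single_one] at this
  rw [Matrix.smul_apply, Matrix.one_apply, smul_eq_mul]
  rw [Pi.smul_apply, Pi.single_apply, smul_eq_mul] at this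
  exact this

/-- the classification hypothesis over the fixed field of `σ` -/
def GramClassOver (σ : RingAut F) (S : Matrix ι ι F) : Prop :=
  ∀ K₀ : Matrix ι ι (fixF σ), K₀ᵀ = K₀ → K₀.det ≠ 0 →
    ∃ (C : Matrix ι ι (fixF σ)) (d : fixF σ), d ≠ 0 ∧
      (C.map (fixF σ).subtype)ᵀ * K₀.map (fixF σ).subtype * C.map (fixF σ).subtype =
        (d : F) • S

/-- **the coset of a field automorphism of `PΩ(Q)`**: elements of `PGO · φ_σ` killed by the order
of `σ` are `PGO`-conjugate to `φ_σ` -/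
theorem field_coset_conj_o [Finite F] [Nonempty ι] (Q : QuadraticForm F (ι → F))
    (hQ : FieldCompat (⇑Q)) (h2 : (2 : F) ≠ 0) (hdet : (gramStd (⇑Q)).det ≠ 0)
    (hker : OKernelProp hQ) (σ : RingAut F) {r : ℕ} (hr : 0 < r) (hσ : orderOf σ = r)
    (hcl : GramClassOver σ (gramStd (⇑Q)))
    (g : ↥(Cfsg.Geo.quadSimilarityGroup (⇑Q)))
    (h : (simAut (⇑Q) g * oField hQ σ) ^ r = 1) :
    ∃ B : ↥(Cfsg.Geo.quadSimilarityGroup (⇑Q)),
      simAut (⇑Q) g * oField hQ σ = simAut (⇑Q) B * oField hQ σ * (simAut (⇑Q) B)⁻¹ := by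
  have hσr : σ ^ r = 1 := by rw [← hσ]; exact pow_orderOf_eq_one σ
  obtain ⟨gr, hgr, hpow⟩ := pow_simAut_oField hQ g σ r
  rw [hpow] at h
  obtain ⟨c, hc⟩ := (hker _ _ h).2
  rw [hgr] at hc
  set G : Matrix ι ι F := ((g : GL ι F) : Matrix ι ι F) with hGdef
  have hc' : cocyc σ G r = c • (1 : Matrix ι ι F) := matrix_eq_smul_one_of_mulVec _ c hc
  have hunit_ne : ∀ u : GL ι F, (u : Matrix ι ι F) ≠ 0 := by
    intro u h0
    have h1 : (u : Matrix ι ι F).det ≠ 0 :=
      ((Matrix.isUnit_iff_isUnit_det _).mp u.isUnit).ne_zero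
    rw [h0, Matrix.det_zero] at h1
    exact h1 rfl
  have hg0 : G ≠ 0 := hunit_ne (g : GL ι F)
  have hc0 : c ≠ 0 := by
    intro h0
    rw [h0, zero_smul] at hc'
    exact hunit_ne (gr : GL ι F) (hgr.trans hc')
  have hfix : σ c = c := cocyc_scalar_fixed σ hσr G hg0 c hc'
  -- rescale
  obtain ⟨a, ha0, ha⟩ := exists_nrm_eq σ hr hσ c⁻¹ (inv_ne_zero hc0) (by rw [map_inv₀, hfix])
  obtain ⟨sa, hsa⟩ := exists_scalar_quadSim Q a ha0
  set g' : ↥(Cfsg.Geo.quadSimilarityGroup (⇑Q)) := sa * g with hg'def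
  have hg'coe : ((g' : GL ι F) : Matrix ι ι F) = a • G := by
    rw [hg'def, Subgroup.coe_mul, Units.val_mul, hsa, Matrix.smul_mul, Matrix.one_mul]
  have hg' : simAut (⇑Q) g' = simAut (⇑Q) g := by
    rw [hg'def, map_mul, simAut_eq_one_of_scalar (⇑Q) sa a hsa, one_mul]
  have hcoc : cocyc σ ((g' : GL ι F) : Matrix ι ι F) r = 1 := by
    rw [hg'coe, cocyc_smul, hc', ha, smul_smul, inv_mul_cancel₀ hc0, one_smul]
  obtain ⟨μ, hμ⟩ := quadSim_gram Q g'
  obtain ⟨B, b, hb0, hB, hDB⟩ := hilbert90_gram σ hr hσ (gramStd (⇑Q)) (gramStd_transpose _)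
    (gramStd_map_of_fieldCompat hQ σ) hdet hcl _ (μ : F) μ.ne_zero hμ hcoc
  obtain ⟨Bg, hBg⟩ := exists_quadSim_of_gram Q h2 hdet B b hb0 hB
  refine ⟨Bg, ?_⟩
  rw [conj_oField, ← hg']
  congr 2
  rw [eq_mul_inv_iff_mul_eq]
  apply Subtype.ext
  apply Units.ext
  rw [Subgroup.coe_mul, Units.val_mul, simMap_coe, hBg]
  exact hDB

end Group

end Cfsg.Agent.Lib.Helper43
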