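/-
helper43: the coset `PGO · x` of a field automorphism `x` of `PΩ(Q)`: an element of the coset has
the order of `x` iff it is `PGO`-conjugate to `x` (general form, from the standard form of all
automorphisms, the kernel of the parametrisation and Hilbert 90 for `GO`).
-/
import Mathlib
import Cfsg.Agent.Lib.Helper43.OH90

set_option autoImplicit false

namespace Cfsg.Agent.Lib.Helper43

open scoped MatrixGroups Matrix
open Matrix Cfsg.Agent.Lib.Helper45.PSLField Cfsg.Agent.Lib.Helper36 Cfsg.Agent.Lib.Helper44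

variable {ι : Type} [Fintype ι] [DecidableEq ι] {F : Type*} [Field F]

/-- every automorphism is standard -/
def OAllStd {Q : (ι → F) → F} (hQ : FieldCompat Q) : Prop :=
  ∀ β : MulAut (Cfsg.POmega F Q), ∃ (g : ↥(Cfsg.Geo.quadSimilarityGroup Q)) (σ : RingAut F),
    β = simAut Q g * oField hQ σ

theorem oNormal {Q : (ι → F) → F} {hQ : FieldCompat Q} (hstd : OAllStd hQ)
    (α : MulAut (Cfsg.POmega F Q)) (d : ↥(Cfsg.Geo.quadSimilarityGroup Q)) :
    ∃ d' : ↥(Cfsg.Geo.quadSimilarityGroup Q), α * simAut Q d * α⁻¹ = simAut Q d' := by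
  obtain ⟨a, τ, rfl⟩ := hstd α
  exact ⟨_, std_conj_simAut hQ a d τ⟩

theorem oField_injective {Q : (ι → F) → F} {hQ : FieldCompat Q} (hker : OKernelProp hQ) :
    Function.Injective (oField hQ) := by
  rw [injective_iff_map_eq_one]
  intro σ hσ
  have h1 : simAut Q (1 : ↥(Cfsg.Geo.quadSimilarityGroup Q)) * oField hQ σ = 1 := by
    rw [map_one, one_mul, hσ]
  exact (hker 1 σ h1).1

theorem orderOf_oField {Q : (ι → F) → F} {hQ : FieldCompat Q} (hker : OKernelProp hQ)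
    (σ : RingAut F) : orderOf (oField hQ σ) = orderOf σ :=
  orderOf_injective (oField hQ) (oField_injective hker) σ

theorem simAut_mem_pgoAut (Q : (ι → F) → F) (g : ↥(Cfsg.Geo.quadSimilarityGroup Q)) :
    simAut Q g ∈ Cfsg.pgoAut F Q := by
  rw [pgoAut_eq]
  exact ⟨g, rfl⟩

theorem isConjUnder_of_conj_o {Q : (ι → F) → F} {hQ : FieldCompat Q} (hstd : OAllStd hQ)
    (α x y : MulAut (Cfsg.POmega F Q))
    (h : Cfsg.IsConjUnder (Cfsg.pgoAut F Q) (α * x * α⁻¹) (α * y * α⁻¹)) :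
    Cfsg.IsConjUnder (Cfsg.pgoAut F Q) x y := by
  obtain ⟨b, hb, hxy⟩ := h
  rw [pgoAut_eq] at hb
  obtain ⟨d, rfl⟩ := hb
  obtain ⟨d', hd'⟩ := oNormal hstd α⁻¹ d
  rw [inv_inv] at hd'
  refine ⟨simAut Q d', simAut_mem_pgoAut Q d', ?_⟩
  rw [← hd']
  have : y = α⁻¹ * (α * y * α⁻¹) * α := by group
  rw [this, hxy]
  group

theorem orderOf_conj_o {G : Type*} [Group G] (a x : G) : orderOf (a * x * a⁻¹) = orderOf x := by
  have := (MulAut.conj a).orderOf_eq x
  rwa [MulAut.conj_apply] at this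

/-- a field automorphism class, normalised -/
theorem exists_conj_eq_oField {Q : (ι → F) → F} (hQ : FieldCompat Q)
    {x : MulAut (Cfsg.POmega F Q)} (hx : Cfsg.IsFieldAutClassPOmega Q x) :
    ∃ (α : MulAut (Cfsg.POmega F Q)) (σ : RingAut F), σ ≠ 1 ∧ α * x * α⁻¹ = oField hQ σ := by
  obtain ⟨α, φ, σ, hσ, hφ, h⟩ := hx
  exact ⟨α, σ, hσ, h.trans ((isFieldAutPOmegaOf_iff hQ σ φ).mp hφ)⟩

/-- **field-automorphism coset conjugacy for `PΩ(Q)`**, general form -/
theorem o_field_coset_main [Finite F] [Nonempty ι] (Q : QuadraticForm F (ι → F))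
    (hQ : FieldCompat (⇑Q)) (h2 : (2 : F) ≠ 0) (hdet : (gramStd (⇑Q)).det ≠ 0)
    (hker : OKernelProp hQ) (hstd : OAllStd hQ)
    (hcl : ∀ σ : RingAut F, GramClassOver σ (gramStd (⇑Q)))
    (x δ : MulAut (Cfsg.POmega F (⇑Q))) (hx : Cfsg.IsFieldAutClassPOmega (⇑Q) x) {r : ℕ}
    (hr : 0 < r) (hxr : orderOf x = r) (hδ : δ ∈ Cfsg.pgoAut F (⇑Q)) :
    orderOf (δ * x) = r ↔ Cfsg.IsConjUnder (Cfsg.pgoAut F (⇑Q)) x (δ * x) := by
  constructor
  · intro hy
    obtain ⟨α, σ, -, hασ⟩ := exists_conj_eq_oField hQ hx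
    have hσr : orderOf σ = r := by
      rw [← orderOf_oField hker σ, ← hασ, orderOf_conj_o, hxr]
    rw [pgoAut_eq] at hδ
    obtain ⟨d, rfl⟩ := hδ
    obtain ⟨d', hd'⟩ := oNormal hstd α d
    have hy' : α * (simAut (⇑Q) d * x) * α⁻¹ = simAut (⇑Q) d' * oField hQ σ := by
      rw [← hd', ← hασ]; group
    have hpow : (simAut (⇑Q) d' * oField hQ σ) ^ r = 1 := by
      rw [← hy', ← hy, ← orderOf_conj_o α (simAut (⇑Q) d * x)]
      exact pow_orderOf_eq_one _
    obtain ⟨B, hB⟩ := field_coset_conj_o Q hQ h2 hdet hker σ hr hσr (hcl σ) d' hpow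
    apply isConjUnder_of_conj_o hstd α
    rw [hy', hασ]
    exact ⟨simAut (⇑Q) B, simAut_mem_pgoAut (⇑Q) B, hB⟩
  · rintro ⟨h, -, hy⟩
    rw [hy, orderOf_conj_o, hxr]

/-- the same, transported along an equality of the underlying function -/
theorem o_field_coset_main' [Finite F] [Nonempty ι] (Q : QuadraticForm F (ι → F))
    (hQ : FieldCompat (⇑Q)) (h2 : (2 : F) ≠ 0) (hdet : (gramStd (⇑Q)).det ≠ 0)
    (hker : OKernelProp hQ) (hstd : OAllStd hQ)
    (hcl : ∀ σ : RingAut F, GramClassOver σ (gramStd (⇑Q)))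
    (f : (ι → F) → F) (hf : ⇑Q = f)
    (x δ : MulAut (Cfsg.POmega F f)) (hx : Cfsg.IsFieldAutClassPOmega f x) {r : ℕ}
    (hr : 0 < r) (hxr : orderOf x = r) (hδ : δ ∈ Cfsg.pgoAut F f) :
    orderOf (δ * x) = r ↔ Cfsg.IsConjUnder (Cfsg.pgoAut F f) x (δ * x) := by
  subst hf
  exact o_field_coset_main Q hQ h2 hdet hker hstd hcl x δ hx hr hxr hδ

end Cfsg.Agent.Lib.Helper43
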