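/-
helper43: the class character of the conformal orthogonal group of the hyperbolic form `Σ xᵢ yᵢ`
(all characteristics): a similarity `g` is *even* if `m - dim (U₀ ∩ g U₀)` is even, `U₀` the
standard maximal totally singular subspace.  Evenness is the class-preserving property, is
multiplicative, holds for scalars, fails for reflections, and is invariant under the field
automorphisms applied entrywise.
-/
import Mathlib
import Cfsg.Agent.Lib.Helper36.InndiagPlus
import Cfsg.Agent.Lib.Helper36.SemiPair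

set_option autoImplicit false

namespace Cfsg.Agent.Lib.Helper43

open scoped MatrixGroups Matrix
open Module Matrix Cfsg.Agent.Lib.Helper36 Cfsg.Agent.S2168

section SemiSub

variable {ι : Type} {F : Type*} [Field F]

/-- the image of a subspace under a field automorphism applied to the coordinates -/
def vmapSub (σ : F ≃+* F) (W : Submodule F (ι → F)) : Submodule F (ι → F) where
  carrier := {v | vmap σ.symm v ∈ W}
  add_mem' := by
    intro a b ha hb
    have : vmap σ.symm (a + b) = vmap σ.symm a + vmap σ.symm b := by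
      funext i; exact map_add σ.symm _ _
    show vmap σ.symm (a + b) ∈ W
    rw [this]
    exact W.add_mem ha hb
  zero_mem' := by
    have : vmap σ.symm (0 : ι → F) = 0 := by
      funext i; exact map_zero σ.symm
    show vmap σ.symm (0 : ι → F) ∈ W
    rw [this]
    exact W.zero_mem
  smul_mem' := by
    intro c a ha
    have : vmap σ.symm (c • a) = σ.symm c • vmap σ.symm a := by
      funext i; exact map_mul σ.symm _ _
    show vmap σ.symm (c • a) ∈ W
    rw [this]
    exact W.smul_mem _ ha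

theorem mem_vmapSub (σ : F ≃+* F) (W : Submodule F (ι → F)) (v : ι → F) :
    v ∈ vmapSub σ W ↔ vmap σ.symm v ∈ W := Iff.rfl

theorem vmap_mem_vmapSub (σ : F ≃+* F) (W : Submodule F (ι → F)) (w : ι → F) :
    vmap σ w ∈ vmapSub σ W ↔ w ∈ W := by
  rw [mem_vmapSub, vmap_vmap_symm]

theorem vmapSub_inf (σ : F ≃+* F) (W W' : Submodule F (ι → F)) :
    vmapSub σ (W ⊓ W') = vmapSub σ W ⊓ vmapSub σ W' := by
  ext v
  simp only [mem_vmapSub, Submodule.mem_inf]

theorem finrank_vmapSub (σ : F ≃+* F) (W : Submodule F (ι → F)) :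
    finrank F ↥(vmapSub σ W) = finrank F ↥W := by
  let j : ↥W ≃+ ↥(vmapSub σ W) :=
    { toFun := fun w => ⟨vmap σ w.1, (vmap_mem_vmapSub σ W w.1).mpr w.2⟩
      invFun := fun v => ⟨vmap σ.symm v.1, v.2⟩
      left_inv := by
        intro w
        apply Subtype.ext
        exact vmap_vmap_symm σ w.1
      right_inv := by
        intro v
        apply Subtype.ext
        exact vmap_symm_vmap σ v.1
      map_add' := by
        intro a b
        apply Subtype.ext
        funext i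
        exact map_add σ _ _ }
  have h := rank_eq_of_equiv_equiv (R := F) (R' := F) (M := ↥W) (M₁ := ↥(vmapSub σ W)) σ j
    σ.bijective (by
      intro r w
      apply Subtype.ext
      funext i
      exact map_mul σ _ _)
  unfold Module.finrank
  rw [h]

end SemiSub

section Delta

variable {m : ℕ} {F : Type*} [Field F]

/-- evenness of a linear automorphism relative to the standard maximal totally singular subspace -/
def plusEvenLin (D : (Fin m ⊕ Fin m → F) ≃ₗ[F] (Fin m ⊕ Fin m → F)) : Prop :=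
  Even (m - finrank F ↥(stdPlus m F ⊓ (stdPlus m F).map
    (D : (Fin m ⊕ Fin m → F) →ₗ[F] (Fin m ⊕ Fin m → F))))

/-- evenness of a matrix -/
def plusEven (g : GL (Fin m ⊕ Fin m) F) : Prop :=
  plusEvenLin (glLinEquiv (Fin m ⊕ Fin m) F g)

theorem map_isTS_of_similarity (D : (Fin m ⊕ Fin m → F) ≃ₗ[F] (Fin m ⊕ Fin m → F)) (c : F)
    (hD : ∀ z, plusQF m F (D z) = c * plusQF m F z) (W : Submodule F (Fin m ⊕ Fin m → F))
    (hW : IsTS (plusQF m F) W) :
    IsTS (plusQF m F) (W.map (D : (Fin m ⊕ Fin m → F) →ₗ[F] (Fin m ⊕ Fin m → F))) := by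
  rintro _ ⟨w, hw, rfl⟩
  change plusQF m F (D w) = 0
  rw [hD w, hW w hw, mul_zero]

/-- the class-preserving property is evenness -/
theorem preserves_iff_plusEven (g : GL (Fin m ⊕ Fin m) F)
    (hg : g ∈ Cfsg.Geo.quadSimilarityGroup (⇑(plusQF m F))) :
    Cfsg.PreservesSingularClasses (⇑(plusQF m F))
      (g : Matrix (Fin m ⊕ Fin m) (Fin m ⊕ Fin m) F) ↔ plusEven g := by
  have hQ := plusQF_nondeg m F
  have hdim := finrank_plus_space m F
  obtain ⟨c, hc⟩ := hg
  set D : (Fin m ⊕ Fin m → F) ≃ₗ[F] (Fin m ⊕ Fin m → F) :=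
    glLinEquiv (Fin m ⊕ Fin m) F g with hD
  have hDz : ∀ z, plusQF m F (D z) = (c : F) * plusQF m F z := fun z => hc z
  have hlin : Matrix.toLin' (g : Matrix (Fin m ⊕ Fin m) (Fin m ⊕ Fin m) F) =
      (D : (Fin m ⊕ Fin m → F) →ₗ[F] (Fin m ⊕ Fin m → F)) := by
    rw [Matrix.toLin'_apply', hD, glLinEquiv_coe]
  unfold plusEven plusEvenLin
  constructor
  · intro h
    have h1 := h (stdPlus m F) isMaxTS_stdPlus
    unfold Cfsg.SameParityClass Cfsg.imageSubmodule at h1
    rw [hlin, finrank_stdPlus] at h1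
    exact h1
  · intro h U hU
    obtain ⟨hts, hfU⟩ := isTS_finrank_of_isMaxTS hU
    unfold Cfsg.SameParityClass Cfsg.imageSubmodule
    rw [hlin, hfU]
    exact (even_delta_similarity (plusQF m F) hQ hdim (stdPlus_ts m F) (finrank_stdPlus m F) D
      (c : F) hDz hts hfU).mpr h

/-- multiplicativity of the class character -/
theorem plusEvenLin_mul (D E : (Fin m ⊕ Fin m → F) ≃ₗ[F] (Fin m ⊕ Fin m → F)) (c e : F)
    (hD : ∀ z, plusQF m F (D z) = c * plusQF m F z)
    (hE : ∀ z, plusQF m F (E z) = e * plusQF m F z) :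
    plusEvenLin (D * E) ↔ (plusEvenLin D ↔ plusEvenLin E) := by
  have hQ := plusQF_nondeg m F
  have hdim := finrank_plus_space m F
  set W := (stdPlus m F).map (D : (Fin m ⊕ Fin m → F) →ₗ[F] (Fin m ⊕ Fin m → F)) with hW
  set X := (stdPlus m F).map ((D * E : (Fin m ⊕ Fin m → F) ≃ₗ[F] (Fin m ⊕ Fin m → F)) :
    (Fin m ⊕ Fin m → F) →ₗ[F] (Fin m ⊕ Fin m → F)) with hX
  set Y := (stdPlus m F).map (E : (Fin m ⊕ Fin m → F) →ₗ[F] (Fin m ⊕ Fin m → F)) with hY
  have hWts : IsTS (plusQF m F) W := map_isTS_of_similarity D c hD _ (stdPlus_ts m F)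
  have hDE : ∀ z, plusQF m F ((D * E) z) = (c * e) * plusQF m F z := by
    intro z
    change plusQF m F (D (E z)) = _
    rw [hD, hE, mul_assoc]
  have hXts : IsTS (plusQF m F) X :=
    map_isTS_of_similarity (D * E) (c * e) hDE _ (stdPlus_ts m F)
  have hfW : finrank F W = m := by rw [hW, LinearEquiv.finrank_map_eq D, finrank_stdPlus]
  have hfX : finrank F X = m := by
    rw [hX, LinearEquiv.finrank_map_eq (D * E), finrank_stdPlus]
  have hXeq : X = Y.map (D : (Fin m ⊕ Fin m → F) →ₗ[F] (Fin m ⊕ Fin m → F)) := by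
    rw [hX, hY, ← Submodule.map_comp]
    rfl
  have hWX : finrank F ↥(W ⊓ X) = finrank F ↥(stdPlus m F ⊓ Y) := by
    rw [hXeq, hW, ← Submodule.map_inf (D : (Fin m ⊕ Fin m → F) →ₗ[F] (Fin m ⊕ Fin m → F))
      D.injective, LinearEquiv.finrank_map_eq D]
  have key := even_delta_sum' (plusQF m F) hQ hdim (stdPlus_ts m F) (finrank_stdPlus m F)
    hWts hfW hXts hfX
  rw [hWX] at key
  unfold plusEvenLin
  rw [← hW, ← hX, ← hY]
  have hb1 := finrank_inf_le_left' (U := stdPlus m F) (W := W) (finrank_stdPlus m F)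
  have hb2 := finrank_inf_le_left' (U := stdPlus m F) (W := X) (finrank_stdPlus m F)
  have hb3 := finrank_inf_le_left' (U := stdPlus m F) (W := Y) (finrank_stdPlus m F)
  generalize finrank F ↥(stdPlus m F ⊓ W) = a at key hb1 ⊢
  generalize finrank F ↥(stdPlus m F ⊓ X) = b at key hb2 ⊢
  generalize finrank F ↥(stdPlus m F ⊓ Y) = d at key hb3 ⊢
  rw [Nat.even_iff] at key
  rw [Nat.even_iff, Nat.even_iff, Nat.even_iff]
  omega

theorem plusEven_mul (g h : GL (Fin m ⊕ Fin m) F)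
    (hg : g ∈ Cfsg.Geo.quadSimilarityGroup (⇑(plusQF m F)))
    (hh : h ∈ Cfsg.Geo.quadSimilarityGroup (⇑(plusQF m F))) :
    plusEven (g * h) ↔ (plusEven g ↔ plusEven h) := by
  obtain ⟨c, hc⟩ := hg
  obtain ⟨e, he⟩ := hh
  unfold plusEven
  rw [map_mul]
  exact plusEvenLin_mul _ _ (c : F) (e : F) (fun z => hc z) (fun z => he z)

theorem plusEven_one : plusEven (1 : GL (Fin m ⊕ Fin m) F) := by
  unfold plusEven plusEvenLin
  rw [map_one]
  have : (stdPlus m F).map (((1 : (Fin m ⊕ Fin m → F) ≃ₗ[F] (Fin m ⊕ Fin m → F))) :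
      (Fin m ⊕ Fin m → F) →ₗ[F] (Fin m ⊕ Fin m → F)) = stdPlus m F := Submodule.map_id _
  rw [this, inf_idem, finrank_stdPlus, Nat.sub_self]
  exact ⟨0, rfl⟩

theorem plusEven_inv (g : GL (Fin m ⊕ Fin m) F)
    (hg : g ∈ Cfsg.Geo.quadSimilarityGroup (⇑(plusQF m F))) :
    plusEven g⁻¹ ↔ plusEven g := by
  have h1 := plusEven_mul g g⁻¹ hg (Subgroup.inv_mem _ hg)
  rw [mul_inv_cancel] at h1
  have h2 := h1.mp plusEven_one
  exact h2.symm

/-- matrices stabilising the standard subspace are even -/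
theorem plusEven_of_map_eq (g : GL (Fin m ⊕ Fin m) F)
    (h : (stdPlus m F).map ((glLinEquiv (Fin m ⊕ Fin m) F g :
      (Fin m ⊕ Fin m → F) ≃ₗ[F] (Fin m ⊕ Fin m → F)) :
      (Fin m ⊕ Fin m → F) →ₗ[F] (Fin m ⊕ Fin m → F)) = stdPlus m F) : plusEven g := by
  unfold plusEven plusEvenLin
  rw [h, inf_idem, finrank_stdPlus, Nat.sub_self]
  exact ⟨0, rfl⟩

theorem plusEven_of_scalar (g : GL (Fin m ⊕ Fin m) F) (a : F) (ha : a ≠ 0)
    (hg : (g : Matrix (Fin m ⊕ Fin m) (Fin m ⊕ Fin m) F) = a • 1) : plusEven g := by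
  apply plusEven_of_map_eq
  ext v
  constructor
  · rintro ⟨w, hw, rfl⟩
    have : (glLinEquiv (Fin m ⊕ Fin m) F g) w = a • w := by
      rw [glLinEquiv_apply, hg, Matrix.smul_mulVec, Matrix.one_mulVec]
    show (glLinEquiv (Fin m ⊕ Fin m) F g) w ∈ stdPlus m F
    rw [this]
    exact (stdPlus m F).smul_mem a hw
  · intro hv
    refine ⟨a⁻¹ • v, (stdPlus m F).smul_mem _ hv, ?_⟩
    show (glLinEquiv (Fin m ⊕ Fin m) F g) (a⁻¹ • v) = v
    rw [glLinEquiv_apply, hg, Matrix.smul_mulVec, Matrix.one_mulVec, smul_smul,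
      mul_inv_cancel₀ ha, one_smul]

/-- reflections are odd -/
theorem not_plusEven_of_refl (g : GL (Fin m ⊕ Fin m) F) (v : Fin m ⊕ Fin m → F)
    (hv : plusQF m F v ≠ 0)
    (hg : (g : Matrix (Fin m ⊕ Fin m) (Fin m ⊕ Fin m) F) =
      Cfsg.reflectionMatrix (⇑(plusQF m F)) v) : ¬ plusEven g := by
  have hT : glLinEquiv (Fin m ⊕ Fin m) F g ∈ Cfsg.Agent.Lib.Helper13.reflSet (plusQF m F) :=
    ⟨v, hv, fun z => by rw [glLinEquiv_apply, hg, reflectionMatrix_mulVec_eq_reflLin]⟩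
  have h1 := finrank_inf_map_refl (plusQF m F) (plusQF_nondeg m F) (finrank_plus_space m F)
    (stdPlus_ts m F) (finrank_stdPlus m F) _ hT
  unfold plusEven plusEvenLin
  rw [Nat.even_iff]
  omega

theorem vmapSub_stdPlus (σ : F ≃+* F) : vmapSub σ (stdPlus m F) = stdPlus m F := by
  ext v
  rw [mem_vmapSub, mem_stdPlus_iff, mem_stdPlus_iff]
  constructor
  · intro h i
    have := h i
    unfold vmap at this
    exact (map_eq_zero σ.symm).mp this
  · intro h i
    unfold vmap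
    rw [h i, map_zero]

theorem map_glMap_eq_vmapSub (σ : F ≃+* F) (g : GL (Fin m ⊕ Fin m) F)
    (W : Submodule F (Fin m ⊕ Fin m → F)) :
    (vmapSub σ W).map ((glLinEquiv (Fin m ⊕ Fin m) F (glMap σ g) :
      (Fin m ⊕ Fin m → F) ≃ₗ[F] (Fin m ⊕ Fin m → F)) :
      (Fin m ⊕ Fin m → F) →ₗ[F] (Fin m ⊕ Fin m → F)) =
    vmapSub σ (W.map ((glLinEquiv (Fin m ⊕ Fin m) F g :
      (Fin m ⊕ Fin m → F) ≃ₗ[F] (Fin m ⊕ Fin m → F)) :
      (Fin m ⊕ Fin m → F) →ₗ[F] (Fin m ⊕ Fin m → F))) := by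
  ext v
  rw [mem_vmapSub]
  constructor
  · rintro ⟨u, hu, rfl⟩
    refine ⟨vmap σ.symm u, hu, ?_⟩
    show glLinEquiv (Fin m ⊕ Fin m) F g (vmap σ.symm u) =
      vmap σ.symm (glLinEquiv (Fin m ⊕ Fin m) F (glMap σ g) u)
    rw [glLinEquiv_apply, glLinEquiv_apply, glMap_coe]
    have h1 := map_mulVec_vmap σ (g : Matrix (Fin m ⊕ Fin m) (Fin m ⊕ Fin m) F) (vmap σ.symm u)
    rw [vmap_symm_vmap] at h1
    rw [h1, vmap_vmap_symm]
  · rintro ⟨u, hu, hgu⟩
    refine ⟨vmap σ u, (vmap_mem_vmapSub σ W u).mpr hu, ?_⟩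
    show glLinEquiv (Fin m ⊕ Fin m) F (glMap σ g) (vmap σ u) = v
    have hgu' : glLinEquiv (Fin m ⊕ Fin m) F g u = vmap σ.symm v := hgu
    rw [glLinEquiv_apply] at hgu'
    rw [glLinEquiv_apply, glMap_coe, map_mulVec_vmap, hgu', vmap_symm_vmap]

/-- the class character is invariant under field automorphisms -/
theorem plusEven_glMap (σ : F ≃+* F) (g : GL (Fin m ⊕ Fin m) F) :
    plusEven (glMap σ g) ↔ plusEven g := by
  unfold plusEven plusEvenLin
  have h1 := map_glMap_eq_vmapSub σ g (stdPlus m F)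
  rw [vmapSub_stdPlus] at h1
  rw [h1]
  have h2 : stdPlus m F ⊓ vmapSub σ ((stdPlus m F).map
      ((glLinEquiv (Fin m ⊕ Fin m) F g : (Fin m ⊕ Fin m → F) ≃ₗ[F] (Fin m ⊕ Fin m → F)) :
      (Fin m ⊕ Fin m → F) →ₗ[F] (Fin m ⊕ Fin m → F))) =
      vmapSub σ (stdPlus m F ⊓ (stdPlus m F).map
      ((glLinEquiv (Fin m ⊕ Fin m) F g : (Fin m ⊕ Fin m → F) ≃ₗ[F] (Fin m ⊕ Fin m → F)) :
      (Fin m ⊕ Fin m → F) →ₗ[F] (Fin m ⊕ Fin m → F))) := by
    rw [vmapSub_inf, vmapSub_stdPlus]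
  rw [h2, finrank_vmapSub]

end Delta

end Cfsg.Agent.Lib.Helper43
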