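/-
helper43: the hyperbolic form `Σ xᵢ yᵢ` (all characteristics): compatibility with field
automorphisms, the kernel of the standard parametrisation of `Aut PΩ⁺`, all automorphisms are
standard (`m ≥ 5`), the inner-diagonal group is the image of the even similarities, and it is
normal in the automorphism group.
-/
import Mathlib
import Cfsg.Agent.Lib.Helper43.PlusClassChar
import Cfsg.Agent.Lib.Helper43.OFieldCoset
import Cfsg.Agent.Lib.Helper36.InndiagPlus2
import Cfsg.Agent.Lib.Helper36.AutO.FieldPart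
import Cfsg.Agent.S2695

set_option autoImplicit false

namespace Cfsg.Agent.Lib.Helper43

open scoped MatrixGroups Matrix
open Module Matrix Cfsg.Agent.Lib.Helper45.PSLField Cfsg.Agent.Lib.Helper36 Cfsg.Agent.S2168

variable {m : ℕ} {F : Type*} [Field F]

theorem fieldCompat_plusQF : FieldCompat (⇑(plusQF m F)) := by
  intro σ v
  show Cfsg.quadFormPlus m F (vmap σ v) = σ (Cfsg.quadFormPlus m F v)
  unfold Cfsg.quadFormPlus vmap
  rw [map_sum]
  simp only [map_mul]

theorem card_plus_index' : Fintype.card (Fin m ⊕ Fin m) = 2 * m := by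
  rw [Fintype.card_sum, Fintype.card_fin]
  ring

/-- the kernel of the standard parametrisation for `PΩ⁺_{2m}` -/
theorem oKernelProp_plusQF [Fintype F] (hm : 4 ≤ m) :
    OKernelProp (fieldCompat_plusQF (m := m) (F := F)) := by
  intro g σ h
  have hp := isSemisimilarityPair_of_mem fieldCompat_plusQF (g : GL (Fin m ⊕ Fin m) F) g.2 σ
  have hi : Cfsg.IsInducedBySemilinearPOmega (⇑(plusQF m F)) (g : GL (Fin m ⊕ Fin m) F) σ 1 :=
    (isInducedBySemilinearPOmega_iff fieldCompat_plusQF g σ 1).mpr h.symm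
  obtain ⟨hσ, l, -, hgl⟩ := AutO.pair_faithful (plusQF m F) (plusQF_nondeg m F)
    (by rw [card_plus_index']; omega) _ σ hp hi
  exact ⟨hσ, l, hgl⟩

/-- every automorphism of `PΩ⁺_{2m}(F)`, `m ≥ 5`, is standard -/
theorem oAllStd_plusQF [Fintype F] (hm : 5 ≤ m) :
    OAllStd (fieldCompat_plusQF (m := m) (F := F)) := by
  intro β
  exact exists_std_of_gammaPOmega_eq_top fieldCompat_plusQF (Cfsg.Agent.S2695.result hm) β

/-- the inner-diagonal group is the image of the even similarities -/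
theorem mem_inndiagPlusQ_iff (β : MulAut (Cfsg.POmega F (⇑(plusQF m F)))) :
    β ∈ inndiagPlusQ m F ↔ ∃ g : ↥(Cfsg.Geo.quadSimilarityGroup (⇑(plusQF m F))),
      plusEven (g : GL (Fin m ⊕ Fin m) F) ∧ β = simAut (⇑(plusQF m F)) g := by
  constructor
  · intro h
    unfold inndiagPlusQ Cfsg.autSubgroupOf at h
    induction h using Subgroup.closure_induction with
    | mem β hβ =>
      obtain ⟨g, hg, hpres, hind⟩ := hβ
      exact ⟨⟨g, hg⟩, (preserves_iff_plusEven g hg).mp hpres,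
        (isInduced_iff _ ⟨g, hg⟩ β).mp hind⟩
    | one => exact ⟨1, plusEven_one, (map_one _).symm⟩
    | mul x y _ _ hx hy =>
      obtain ⟨g, hg, rfl⟩ := hx
      obtain ⟨h, hh, rfl⟩ := hy
      exact ⟨g * h, (plusEven_mul _ _ g.2 h.2).mpr (iff_of_true hg hh), (map_mul _ _ _).symm⟩
    | inv x _ hx =>
      obtain ⟨g, hg, rfl⟩ := hx
      exact ⟨g⁻¹, (plusEven_inv _ g.2).mpr hg, (map_inv _ _).symm⟩
  · rintro ⟨g, hg, rfl⟩
    apply Subgroup.subset_closure
    exact ⟨g, g.2, (preserves_iff_plusEven _ g.2).mpr hg, (isInduced_iff _ g _).mpr rfl⟩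

/-- the class character of a conjugate -/
theorem plusEven_conj_std (a d : ↥(Cfsg.Geo.quadSimilarityGroup (⇑(plusQF m F))))
    (τ : RingAut F) :
    plusEven ((a * simMap fieldCompat_plusQF τ d * a⁻¹ :
      ↥(Cfsg.Geo.quadSimilarityGroup (⇑(plusQF m F)))) : GL (Fin m ⊕ Fin m) F) ↔
      plusEven (d : GL (Fin m ⊕ Fin m) F) := by
  have hA : (a : GL (Fin m ⊕ Fin m) F) ∈ Cfsg.Geo.quadSimilarityGroup (⇑(plusQF m F)) := a.2
  have hD : glMap τ (d : GL (Fin m ⊕ Fin m) F) ∈
      Cfsg.Geo.quadSimilarityGroup (⇑(plusQF m F)) :=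
    glMap_mem_quadSim fieldCompat_plusQF τ _ d.2
  have hcoe : ((a * simMap fieldCompat_plusQF τ d * a⁻¹ :
      ↥(Cfsg.Geo.quadSimilarityGroup (⇑(plusQF m F)))) : GL (Fin m ⊕ Fin m) F) =
      (a : GL (Fin m ⊕ Fin m) F) * glMap τ (d : GL (Fin m ⊕ Fin m) F) *
        (a : GL (Fin m ⊕ Fin m) F)⁻¹ := rfl
  rw [hcoe, plusEven_mul _ _ (Subgroup.mul_mem _ hA hD) (Subgroup.inv_mem _ hA),
    plusEven_mul _ _ hA hD, plusEven_inv _ hA, plusEven_glMap]
  tauto

/-- the inner-diagonal group is normal in the automorphism group -/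
theorem conj_mem_inndiagPlusQ [Fintype F] (hm : 5 ≤ m)
    (α δ : MulAut (Cfsg.POmega F (⇑(plusQF m F)))) (hδ : δ ∈ inndiagPlusQ m F) :
    α * δ * α⁻¹ ∈ inndiagPlusQ m F := by
  rw [mem_inndiagPlusQ_iff] at hδ ⊢
  obtain ⟨d, hd, rfl⟩ := hδ
  obtain ⟨a, τ, rfl⟩ := oAllStd_plusQF hm α
  exact ⟨_, (plusEven_conj_std a d τ).mpr hd, std_conj_simAut fieldCompat_plusQF a d τ⟩

end Cfsg.Agent.Lib.Helper43
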