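/-
helper43: Galois descent for the coset `PGO · φ_σ` of a quadratic form compatible with the field
automorphisms (all characteristics): an element `(g, σ)` of the coset with trivial norm cocycle is
`P σ(P)⁻¹` with `Q ∘ P` proportional to a form defined over the fixed field of `σ`; two elements
whose descended forms agree are conjugate under a similarity.
-/
import Mathlib
import Cfsg.Agent.Lib.Helper43.OFieldCoset
import Cfsg.Agent.Lib.Helper13.QuadDescent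

set_option autoImplicit false

namespace Cfsg.Agent.Lib.Helper43

open scoped MatrixGroups Matrix
open Matrix Cfsg.Agent.Lib.Helper45.PSLField Cfsg.Agent.Lib.Helper36 Cfsg.Agent.Lib.Helper44
open Cfsg.Agent.Lib.Helper13 (rvec finc descend descend_coe descend_nondeg descend_transfer)

variable {ι : Type} [Fintype ι] [DecidableEq ι] {F : Type*} [Field F]

/-- the multiplier of the norm cocycle of a similarity -/
theorem cocyc_multiplier {Q : (ι → F) → F} (hQ : FieldCompat Q) (σ : RingAut F)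
    (G : Matrix ι ι F) (μ : F) (hG : ∀ v, Q (G *ᵥ v) = μ * Q v) (i : ℕ) :
    ∀ v : ι → F, Q (cocyc σ G i *ᵥ v) = nrm σ μ i * Q v := by
  induction i with
  | zero =>
    intro v
    rw [cocyc_zero, Matrix.one_mulVec, nrm_zero, one_mul]
  | succ i ih =>
    intro v
    obtain ⟨u, rfl⟩ : ∃ u, v = vmap σ u := ⟨vmap σ.symm v, (vmap_symm_vmap σ v).symm⟩
    rw [cocyc_succ, ← Matrix.mulVec_mulVec, hG, map_mulVec_vmap, hQ, ih, hQ, nrm_succ, map_mul]
    ring

theorem cocyc_two (σ : RingAut F) (A : Matrix ι ι F) : cocyc σ A 2 = A * A.map σ := by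
  rw [cocyc_succ, cocyc_succ, cocyc_zero]
  have h1 : ((1 : Matrix ι ι F).map σ) = 1 := by
    ext k l
    by_cases h : k = l
    · rw [h, Matrix.map_apply, Matrix.one_apply_eq, map_one]
    · rw [Matrix.map_apply, Matrix.one_apply_ne h, map_zero]
  rw [h1, Matrix.mul_one]

/-- Hilbert 90 for the matrix and for the multiplier -/
theorem exists_descent_data (Q : QuadraticForm F (ι → F)) (hQ : FieldCompat (⇑Q))
    (hne : ∃ v, Q v ≠ 0) (σ : RingAut F) {r : ℕ} (hr : 0 < r) (hσ : orderOf σ = r)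
    (G : Matrix ι ι F) (μ : F) (hμ : μ ≠ 0) (hG : ∀ v, Q (G *ᵥ v) = μ * Q v)
    (hcoc : cocyc σ G r = 1) :
    ∃ (B : Matrix ι ι F) (b : F), IsUnit B ∧ b ≠ 0 ∧ G * B.map σ = B ∧
      ∀ w, b * Q (B *ᵥ vmap σ w) = σ (b * Q (B *ᵥ w)) := by
  obtain ⟨v₀, hv₀⟩ := hne
  have hn1 : nrm σ μ r = 1 := by
    have h := cocyc_multiplier hQ σ G μ hG r v₀
    rw [hcoc, Matrix.one_mulVec] at h
    have h' : (1 - nrm σ μ r) * Q v₀ = 0 := by linear_combination h
    rcases mul_eq_zero.mp h' with h1 | h1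
    · exact (sub_eq_zero.mp h1).symm
    · exact absurd h1 hv₀
  have hn2 : nrm σ μ⁻¹ r = 1 := by
    have h := nrm_mul σ μ μ⁻¹ r
    rw [mul_inv_cancel₀ hμ, nrm_one, hn1, one_mul] at h
    exact h.symm
  obtain ⟨b, hb0, hb⟩ := hilbert90_scalar σ hr hσ μ⁻¹ hn2
  have hb' : σ b = μ * b := by
    calc σ b = μ * (μ⁻¹ * σ b) := by rw [mul_inv_cancel_left₀ hμ]
      _ = μ * b := by rw [hb]
  obtain ⟨B, hBu, hGB⟩ := hilbert90_matrix σ hr hσ G hcoc
  refine ⟨B, b, hBu, hb0, hGB, fun w => ?_⟩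
  have h1 : B *ᵥ vmap σ w = G *ᵥ vmap σ (B *ᵥ w) := by
    rw [← map_mulVec_vmap, Matrix.mulVec_mulVec, hGB]
  rw [h1, hG, hQ, map_mul, hb']
  ring

/-- non-degeneracy of a rescaled pull-back -/
theorem nondeg_smul_comp (Q : QuadraticForm F (ι → F))
    (hnd : (QuadraticMap.polarBilin Q).Nondegenerate) (B : Matrix ι ι F) (hB : IsUnit B)
    (b : F) (hb : b ≠ 0) :
    (QuadraticMap.polarBilin (b • Q.comp (Matrix.toLin' B))).Nondegenerate := by
  obtain ⟨Bu, rfl⟩ := hB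
  have hpol : ∀ x y, QuadraticMap.polar
      (⇑(b • Q.comp (Matrix.toLin' (Bu : Matrix ι ι F)))) x y =
      b * QuadraticMap.polar (⇑Q) ((Bu : Matrix ι ι F) *ᵥ x) ((Bu : Matrix ι ι F) *ᵥ y) := by
    intro x y
    unfold QuadraticMap.polar
    simp only [_root_.smul_apply, QuadraticMap.comp_apply, Matrix.toLin'_apply, smul_eq_mul,
      Matrix.mulVec_add]
    ring
  have hleft : ∀ x, (∀ y, QuadraticMap.polar
      (⇑(b • Q.comp (Matrix.toLin' (Bu : Matrix ι ι F)))) x y = 0) → x = 0 := by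
    intro x hx
    have h1 : ∀ z, QuadraticMap.polar (⇑Q) ((Bu : Matrix ι ι F) *ᵥ x) z = 0 := by
      intro z
      have := hx ((↑Bu⁻¹ : Matrix ι ι F) *ᵥ z)
      rw [hpol, Matrix.mulVec_mulVec, Units.mul_inv, Matrix.one_mulVec] at this
      exact (mul_eq_zero.mp this).resolve_left hb
    have h2 : (Bu : Matrix ι ι F) *ᵥ x = 0 := hnd.1 _ h1
    have h3 := congrArg (fun v => (↑Bu⁻¹ : Matrix ι ι F) *ᵥ v) h2
    simp only [Matrix.mulVec_mulVec, Units.inv_mul, Matrix.one_mulVec, Matrix.mulVec_zero] at h3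
    exact h3
  constructor
  · intro x hx
    exact hleft x hx
  · intro y hy
    apply hleft y
    intro x
    rw [QuadraticMap.polar_comm]
    exact hy x

/-- a descent datum for the element `(G, σ)`: `G = P σ(P)⁻¹` and `Q ∘ P = c S` -/
structure Descends (Q : (ι → F) → F) (σ : RingAut F) (G P : Matrix ι ι F) (c : F)
    (S : (ι → F) → F) : Prop where
  unit : IsUnit P
  semi : G * P.map σ = P
  ne : c ≠ 0
  form : ∀ w, Q (P *ᵥ w) = c * S w

/-- from an isometry of the descended form with a standard form to a descent datum -/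
theorem descends_of_iso (Q : QuadraticForm F (ι → F)) (σ : RingAut F) (G B : Matrix ι ι F)
    (b : F) (hBu : IsUnit B) (hb : b ≠ 0) (hGB : G * B.map σ = B)
    (hinv : ∀ w, (b • Q.comp (Matrix.toLin' B)) (vmap σ w) =
      σ ((b • Q.comp (Matrix.toLin' B)) w))
    (S₀ : (ι → ↥(fixF σ)) → ↥(fixF σ)) (S : QuadraticForm F (ι → F))
    (hS : ∀ w : ι → ↥(fixF σ), S (rvec (finc σ) w) = ((S₀ w : ↥(fixF σ)) : F))
    (T : (ι → ↥(fixF σ)) ≃ₗ[↥(fixF σ)] (ι → ↥(fixF σ)))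
    (hT : ∀ v, S₀ (T v) = descend σ (b • Q.comp (Matrix.toLin' B)) hinv v) :
    ∃ (P : Matrix ι ι F) (c : F), Descends (⇑Q) σ G P c (⇑S) := by
  set C₀ : Matrix ι ι ↥(fixF σ) :=
    LinearMap.toMatrix' (T.symm : (ι → ↥(fixF σ)) →ₗ[↥(fixF σ)] (ι → ↥(fixF σ))) with hC₀
  set C₁ : Matrix ι ι ↥(fixF σ) :=
    LinearMap.toMatrix' (T : (ι → ↥(fixF σ)) →ₗ[↥(fixF σ)] (ι → ↥(fixF σ))) with hC₁
  have hCC : C₀ * C₁ = 1 := by
    rw [hC₀, hC₁, ← LinearMap.toMatrix'_comp]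
    have : (T.symm : (ι → ↥(fixF σ)) →ₗ[↥(fixF σ)] (ι → ↥(fixF σ))) ∘ₗ
        (T : (ι → ↥(fixF σ)) →ₗ[↥(fixF σ)] (ι → ↥(fixF σ))) = LinearMap.id :=
      LinearMap.ext fun v => T.symm_apply_apply v
    rw [this, LinearMap.toMatrix'_id]
  have hmul : ∀ w, C₀ *ᵥ w = T.symm w := fun w => LinearMap.toMatrix'_mulVec _ w
  have h0 : ∀ w, descend σ (b • Q.comp (Matrix.toLin' B)) hinv (C₀ *ᵥ w) = S₀ w := by
    intro w
    rw [hmul, ← hT, T.apply_symm_apply]
  have htr := descend_transfer σ (b • Q.comp (Matrix.toLin' B)) hinv C₀ S₀ S hS h0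
  set C : Matrix ι ι F := C₀.map (finc σ) with hC
  have hCσ : C.map σ = C := by
    ext i k
    rw [hC, Matrix.map_apply, Matrix.map_apply]
    exact (mem_fixF σ _).mp (C₀ i k).2
  have hCu : IsUnit C := by
    have h1 : C * C₁.map (finc σ) = 1 := by
      rw [hC, ← Matrix.map_mul, hCC, Matrix.map_one _ (map_zero _) (map_one _)]
    exact IsUnit.of_mul_eq_one _ h1
  refine ⟨B * C, b⁻¹, ⟨hBu.mul hCu, ?_, inv_ne_zero hb, ?_⟩⟩
  · have h1 : (B * C).map σ = B.map σ * C.map σ := Matrix.map_mul (f := (σ : F →+* F))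
    rw [h1, hCσ, ← Matrix.mul_assoc, hGB]
  · intro w
    have h1 := htr w
    rw [_root_.smul_apply, QuadraticMap.comp_apply, Matrix.toLin'_apply, smul_eq_mul,
      Matrix.mulVec_mulVec] at h1
    rw [← h1, inv_mul_cancel_left₀ hb]

/-- two elements with the same descended form are conjugate under a similarity -/
theorem exists_quadSim_of_descends (Q : QuadraticForm F (ι → F)) {σ : RingAut F}
    {G₁ G₂ P₁ P₂ : Matrix ι ι F} {c₁ c₂ : F} {S : (ι → F) → F}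
    (h₁ : Descends (⇑Q) σ G₁ P₁ c₁ S) (h₂ : Descends (⇑Q) σ G₂ P₂ c₂ S) :
    ∃ A : ↥(Cfsg.Geo.quadSimilarityGroup (⇑Q)),
      ((A : GL ι F) : Matrix ι ι F) * G₁ = G₂ * ((A : GL ι F) : Matrix ι ι F).map σ := by
  obtain ⟨U₁, hU₁⟩ := h₁.unit
  obtain ⟨U₂, hU₂⟩ := h₂.unit
  set A : GL ι F := U₂ * U₁⁻¹ with hAdef
  have hA : (A : Matrix ι ι F) = P₂ * (↑U₁⁻¹ : Matrix ι ι F) := by
    rw [hAdef, Units.val_mul, hU₂]
  have hAP : (A : Matrix ι ι F) * P₁ = P₂ := by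
    rw [hA, Matrix.mul_assoc, ← hU₁, Units.inv_mul, Matrix.mul_one]
  have hsim : A ∈ Cfsg.Geo.quadSimilarityGroup (⇑Q) := by
    refine ⟨Units.mk0 (c₂ * c₁⁻¹) (mul_ne_zero h₂.ne (inv_ne_zero h₁.ne)), fun v => ?_⟩
    show Q ((A : Matrix ι ι F) *ᵥ v) = c₂ * c₁⁻¹ * Q v
    have hv : v = P₁ *ᵥ ((↑U₁⁻¹ : Matrix ι ι F) *ᵥ v) := by
      rw [Matrix.mulVec_mulVec, ← hU₁, Units.mul_inv, Matrix.one_mulVec]
    have h3 : Q v = c₁ * S ((↑U₁⁻¹ : Matrix ι ι F) *ᵥ v) := by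
      conv_lhs => rw [hv]
      exact h₁.form _
    rw [hA, ← Matrix.mulVec_mulVec, h₂.form, h3, mul_assoc, inv_mul_cancel_left₀ h₁.ne]
  refine ⟨⟨A, hsim⟩, ?_⟩
  show (A : Matrix ι ι F) * G₁ = G₂ * (A : Matrix ι ι F).map σ
  have hV : (glMap σ U₁ : Matrix ι ι F) = P₁.map σ := by rw [glMap_coe, hU₁]
  have key : (A : Matrix ι ι F) * G₁ * P₁.map σ = G₂ * (A : Matrix ι ι F).map σ * P₁.map σ := by
    have h1 : ((A : Matrix ι ι F) * P₁).map σ = (A : Matrix ι ι F).map σ * P₁.map σ :=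
      Matrix.map_mul (f := (σ : F →+* F))
    rw [Matrix.mul_assoc, h₁.semi, hAP, Matrix.mul_assoc, ← h1, hAP, h₂.semi]
  have h2 := congrArg (fun M => M * (↑(glMap σ U₁)⁻¹ : Matrix ι ι F)) key
  simp only [← hV, Matrix.mul_assoc, Units.mul_inv, Matrix.mul_one] at h2
  exact h2

/-- the group form of a twisted conjugacy -/
theorem conj_of_twisted {Q : (ι → F) → F} (hQ : FieldCompat Q)
    (A g₁ g₂ : ↥(Cfsg.Geo.quadSimilarityGroup Q)) (σ : RingAut F)
    (h : ((A : GL ι F) : Matrix ι ι F) * ((g₁ : GL ι F) : Matrix ι ι F) =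
      ((g₂ : GL ι F) : Matrix ι ι F) * ((A : GL ι F) : Matrix ι ι F).map σ) :
    simAut Q A * (simAut Q g₁ * oField hQ σ) * (simAut Q A)⁻¹ = simAut Q g₂ * oField hQ σ := by
  have h' : A * g₁ = g₂ * simMap hQ σ A := by
    apply Subtype.ext
    apply Units.ext
    rw [Subgroup.coe_mul, Units.val_mul, Subgroup.coe_mul, Units.val_mul, simMap_coe]
    exact h
  rw [mul_inv_eq_iff_eq_mul, mul_assoc (simAut Q g₂), oField_mul_simAut]
  simp only [← mul_assoc]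
  rw [← map_mul, ← map_mul, h']

/-- rescaling an element of the coset killed by `r` so that its norm cocycle is trivial -/
theorem exists_rescale_cocyc [Finite F] [Nonempty ι] (Q : QuadraticForm F (ι → F))
    (hQ : FieldCompat (⇑Q)) (hker : OKernelProp hQ) (σ : RingAut F) {r : ℕ} (hr : 0 < r)
    (hσ : orderOf σ = r) (g : ↥(Cfsg.Geo.quadSimilarityGroup (⇑Q)))
    (h : (simAut (⇑Q) g * oField hQ σ) ^ r = 1) :
    ∃ (sa g' : ↥(Cfsg.Geo.quadSimilarityGroup (⇑Q))) (a : F), a ≠ 0 ∧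
      ((sa : GL ι F) : Matrix ι ι F) = a • (1 : Matrix ι ι F) ∧ g' = sa * g ∧
      simAut (⇑Q) g' = simAut (⇑Q) g ∧ cocyc σ ((g' : GL ι F) : Matrix ι ι F) r = 1 := by
  have hσr : σ ^ r = 1 := by rw [← hσ]; exact pow_orderOf_eq_one σ
  obtain ⟨gr, hgr, hpow⟩ := pow_simAut_oField hQ g σ r
  rw [hpow] at h
  obtain ⟨c, hc⟩ := (hker _ _ h).2
  rw [hgr] at hc
  set G : Matrix ι ι F := ((g : GL ι F) : Matrix ι ι F) with hGdef
  have hc' : cocyc σ G r = c • (1 : Matrix ι ι F) := matrix_eq_smul_one_of_mulVec _ c hc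
  have hunit_ne : ∀ u : GL ι F, (u : Matrix ι ι F) ≠ 0 := by
    intro u h0
    have h1 : (u : Matrix ι ι F).det ≠ 0 :=
      ((Matrix.isUnit_iff_isUnit_det _).mp u.isUnit).ne_zero
    rw [h0, Matrix.det_zero] at h1
    exact h1 rfl
  have hg0 : G ≠ 0 := hunit_ne (g : GL ι F)
  have hc0 : c ≠ 0 := by
    intro h0
    rw [h0, zero_smul] at hc'
    exact hunit_ne (gr : GL ι F) (hgr.trans hc')
  have hfix : σ c = c := cocyc_scalar_fixed σ hσr G hg0 c hc'
  obtain ⟨a, ha0, ha⟩ := exists_nrm_eq σ hr hσ c⁻¹ (inv_ne_zero hc0) (by rw [map_inv₀, hfix])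
  obtain ⟨sa, hsa⟩ := exists_scalar_quadSim Q a ha0
  refine ⟨sa, sa * g, a, ha0, hsa, rfl, ?_, ?_⟩
  · rw [map_mul, simAut_eq_one_of_scalar (⇑Q) sa a hsa, one_mul]
  · have hg'coe : (((sa * g : ↥(Cfsg.Geo.quadSimilarityGroup (⇑Q))) : GL ι F) : Matrix ι ι F) =
        a • G := by
      rw [Subgroup.coe_mul, Units.val_mul, hsa, Matrix.smul_mul, Matrix.one_mul]
    rw [hg'coe, cocyc_smul, hc', ha, smul_smul, inv_mul_cancel₀ hc0, one_smul]

end Cfsg.Agent.Lib.Helper43
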