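/-
helper43: the two types of descent data for the coset `PGO⁺ · φ_σ` of the hyperbolic form
(all characteristics): the descended form over the fixed field of `σ` is hyperbolic or elliptic
(helper37 `exists_std_iso`); the elliptic parameter can be changed at will (helper13
`exists_twist_of_aniso`); a hyperbolic descent datum forces the class character to be even.
-/
import Mathlib
import Cfsg.Agent.Lib.Helper43.PlusDescent
import Cfsg.Agent.Lib.Helper43.PlusInndiag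
import Cfsg.Agent.Lib.Helper13.BinaryAniso
import Cfsg.Agent.Lib.Helper13.MinusSemi
import Cfsg.Agent.Lib.Helper37.OrthEvenType

set_option autoImplicit false

namespace Cfsg.Agent.Lib.Helper43

open scoped MatrixGroups Matrix
open Module Matrix Cfsg.Agent.Lib.Helper45.PSLField Cfsg.Agent.Lib.Helper36 Cfsg.Agent.Lib.Helper44
  Cfsg.Agent.S2168
open Cfsg.Agent.Lib.Helper13 (rvec finc descend descend_coe descend_nondeg descend_transfer
  twistMat twistMat_det quadFormMinus_twistMat exists_twist_of_aniso)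

variable {m k : ℕ} {F : Type*} [Field F]

/-- the elliptic form transported to the index type of the hyperbolic form -/
noncomputable def ellForm (e : (Fin k ⊕ Fin k) ⊕ Fin 2 ≃ Fin m ⊕ Fin m) (ζ : F) :
    QuadraticForm F (Fin m ⊕ Fin m → F) :=
  (minusQF k F 1 ζ).comp (LinearMap.funLeft F F e)

theorem ellForm_apply (e : (Fin k ⊕ Fin k) ⊕ Fin 2 ≃ Fin m ⊕ Fin m) (ζ : F)
    (w : Fin m ⊕ Fin m → F) :
    ellForm e ζ w = Cfsg.quadFormMinus k F 1 ζ (w ∘ e) := by
  unfold ellForm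
  rw [QuadraticMap.comp_apply, minusQF_coe]
  rfl

theorem plusQF_rvec {F₀ : Type*} [Field F₀] (j : F₀ →+* F) (w : Fin m ⊕ Fin m → F₀) :
    plusQF m F (rvec j w) = j (Cfsg.quadFormPlus m F₀ w) := by
  show Cfsg.quadFormPlus m F (rvec j w) = _
  unfold Cfsg.quadFormPlus rvec
  rw [map_sum]
  simp only [map_mul]

theorem ellForm_rvec {F₀ : Type*} [Field F₀] (j : F₀ →+* F)
    (e : (Fin k ⊕ Fin k) ⊕ Fin 2 ≃ Fin m ⊕ Fin m) (ζ : F₀) (w : Fin m ⊕ Fin m → F₀) :
    ellForm e (j ζ) (rvec j w) = j (ellForm e ζ w) := by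
  rw [ellForm_apply, ellForm_apply]
  unfold Cfsg.quadFormMinus rvec
  simp only [map_add, map_sum, map_mul, map_pow, map_one, Function.comp]

/-- a vector of norm one with entries in the prime field -/
def hypVec (i₀ : Fin m) : Fin m ⊕ Fin m → F :=
  Sum.elim (fun i => if i = i₀ then 1 else 0) (fun i => if i = i₀ then 1 else 0)

theorem plusQF_hypVec (i₀ : Fin m) : plusQF m F (hypVec i₀) = 1 := by
  show Cfsg.quadFormPlus m F (hypVec i₀) = 1
  unfold Cfsg.quadFormPlus hypVec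
  simp

theorem vmap_hypVec (σ : F ≃+* F) (i₀ : Fin m) : vmap σ (hypVec i₀ : Fin m ⊕ Fin m → F) =
    hypVec i₀ := by
  funext j
  rcases j with j | j
  · unfold vmap hypVec
    simp only [Sum.elim_inl]
    split_ifs
    · exact map_one σ
    · exact map_zero σ
  · unfold vmap hypVec
    simp only [Sum.elim_inr]
    split_ifs
    · exact map_one σ
    · exact map_zero σ

/-- **descent**: an element of `GO⁺ · σ` with trivial norm cocycle has a hyperbolic or an elliptic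
descent datum -/
theorem exists_descends_plus [Finite F] (hm : 1 ≤ m)
    (e : (Fin (m - 1) ⊕ Fin (m - 1)) ⊕ Fin 2 ≃ Fin m ⊕ Fin m)
    (σ : RingAut F) {r : ℕ} (hr : 0 < r) (hσ : orderOf σ = r)
    (G : Matrix (Fin m ⊕ Fin m) (Fin m ⊕ Fin m) F) (μ : F) (hμ : μ ≠ 0)
    (hG : ∀ v, plusQF m F (G *ᵥ v) = μ * plusQF m F v) (hcoc : cocyc σ G r = 1) :
    (∃ (P : Matrix (Fin m ⊕ Fin m) (Fin m ⊕ Fin m) F) (c : F),
      Descends (⇑(plusQF m F)) σ G P c (⇑(plusQF m F))) ∨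
    (∃ ζ : ↥(fixF σ), (∀ t : ↥(fixF σ), t ^ 2 + t + ζ ≠ 0) ∧
      ∃ (P : Matrix (Fin m ⊕ Fin m) (Fin m ⊕ Fin m) F) (c : F),
        Descends (⇑(plusQF m F)) σ G P c (⇑(ellForm e ((ζ : ↥(fixF σ)) : F)))) := by
  have hne : ∃ v, plusQF m F v ≠ 0 :=
    ⟨hypVec ⟨0, hm⟩, by rw [plusQF_hypVec]; exact one_ne_zero⟩
  obtain ⟨B, b, hBu, hb0, hGB, hB4⟩ := exists_descent_data (plusQF m F) fieldCompat_plusQF hne σ
    hr hσ G μ hμ hG hcoc
  have hinv : ∀ w, (b • (plusQF m F).comp (Matrix.toLin' B)) (vmap σ w) =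
      σ ((b • (plusQF m F).comp (Matrix.toLin' B)) w) := by
    intro w
    simp only [_root_.smul_apply, QuadraticMap.comp_apply, Matrix.toLin'_apply, smul_eq_mul]
    exact hB4 w
  have hnd := descend_nondeg σ _ hinv
    (nondeg_smul_comp (plusQF m F) (plusQF_nondeg m F) B hBu b hb0)
  have hV : Module.finrank ↥(fixF σ) (Fin m ⊕ Fin m → ↥(fixF σ)) = 2 * m := by
    rw [Module.finrank_fintype_fun_eq_card, card_plus_index']
  rcases Cfsg.Agent.Lib.Helper37.OrthEven.exists_std_iso m hV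
    (descend σ (b • (plusQF m F).comp (Matrix.toLin' B)) hinv) hnd with
    ⟨T, hT⟩ | ⟨-, ζ, hζ, T, hT⟩
  · left
    exact descends_of_iso (plusQF m F) σ G B b hBu hb0 hGB hinv
      (Cfsg.quadFormPlus m ↥(fixF σ)) (plusQF m F) (fun w => plusQF_rvec (finc σ) w) T
      (fun v => hT v)
  · right
    refine ⟨ζ, hζ, ?_⟩
    refine descends_of_iso (plusQF m F) σ G B b hBu hb0 hGB hinv
      (⇑(ellForm e ζ)) (ellForm e ((ζ : ↥(fixF σ)) : F))
      (fun w => ellForm_rvec (finc σ) e ζ w)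
      (T.trans (LinearEquiv.funCongrLeft ↥(fixF σ) ↥(fixF σ) e).symm) (fun v => ?_)
    rw [ellForm_apply, ← hT]
    congr 1
    funext i
    show (T v) (e.symm (e i)) = T v i
    rw [Equiv.symm_apply_apply]

/-- the entries of the twist matrix are fixed -/
theorem twistMat_fixed (σ : F ≃+* F) (r s : F) (hr : σ r = r) (hs : σ s = s)
    (a b : (Fin k ⊕ Fin k) ⊕ Fin 2) : σ (twistMat k r s a b) = twistMat k r s a b := by
  unfold twistMat
  rcases a with a | a <;> rcases b with b | b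
  · rw [Matrix.fromBlocks_apply₁₁]
    by_cases h : a = b
    · rw [h, Matrix.one_apply_eq, map_one]
    · rw [Matrix.one_apply_ne h, map_zero]
  · rw [Matrix.fromBlocks_apply₁₂, Matrix.zero_apply, map_zero]
  · rw [Matrix.fromBlocks_apply₂₁, Matrix.zero_apply, map_zero]
  · rw [Matrix.fromBlocks_apply₂₂]
    fin_cases a <;> fin_cases b <;> simp [hr, hs]

/-- **changing the elliptic parameter** -/
theorem descends_ell_change [Finite F]
    (e : (Fin k ⊕ Fin k) ⊕ Fin 2 ≃ Fin m ⊕ Fin m) (σ : RingAut F)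
    (G P : Matrix (Fin m ⊕ Fin m) (Fin m ⊕ Fin m) F) (c : F) (ζ₁ ζ₂ : ↥(fixF σ))
    (h₁ : ∀ t : ↥(fixF σ), t ^ 2 + t + ζ₁ ≠ 0) (h₂ : ∀ t : ↥(fixF σ), t ^ 2 + t + ζ₂ ≠ 0)
    (hD : Descends (⇑(plusQF m F)) σ G P c (⇑(ellForm e ((ζ₁ : ↥(fixF σ)) : F)))) :
    ∃ P' : Matrix (Fin m ⊕ Fin m) (Fin m ⊕ Fin m) F,
      Descends (⇑(plusQF m F)) σ G P' c (⇑(ellForm e ((ζ₂ : ↥(fixF σ)) : F))) := by
  have : Fintype ↥(fixF σ) := Fintype.ofFinite _
  obtain ⟨r, s, hs0, hrs1, hrs2⟩ := exists_twist_of_aniso (1 : ↥(fixF σ)) ζ₁ 1 ζ₂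
    (Cfsg.Agent.Lib.Helper37.OrthEven.aniso_of_irred ζ₁ h₁)
    (Cfsg.Agent.Lib.Helper37.OrthEven.aniso_of_irred ζ₂ h₂)
  have hr' : σ (r : F) = r := (mem_fixF σ _).mp r.2
  have hs' : σ (s : F) = s := (mem_fixF σ _).mp s.2
  have hs0' : (s : F) ≠ 0 := fun h => hs0 (Subtype.ext h)
  have e1 : 2 * (r : F) + 1 * (s : F) = 1 := by
    have h := congrArg (finc σ) hrs1
    rw [map_add, map_mul, map_mul, map_one, map_ofNat] at h
    exact h
  have e2 : (r : F) ^ 2 + 1 * (r : F) * (s : F) + (ζ₁ : F) * (s : F) ^ 2 = (ζ₂ : F) := by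
    have h := congrArg (finc σ) hrs2
    rw [map_add, map_add, map_mul, map_mul, map_mul, map_one, map_pow, map_pow] at h
    exact h
  set R : Matrix (Fin m ⊕ Fin m) (Fin m ⊕ Fin m) F :=
    Matrix.reindex e e (twistMat k (r : F) (s : F)) with hR
  have hRσ : R.map σ = R := by
    ext i j
    rw [Matrix.map_apply, hR, Matrix.reindex_apply, Matrix.submatrix_apply]
    exact twistMat_fixed σ _ _ hr' hs' _ _
  have hRu : IsUnit R := by
    rw [Matrix.isUnit_iff_isUnit_det, hR, Matrix.det_reindex_self, twistMat_det]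
    exact isUnit_iff_ne_zero.mpr hs0'
  have hRw : ∀ w : Fin m ⊕ Fin m → F, (R *ᵥ w) ∘ e = twistMat k (r : F) (s : F) *ᵥ (w ∘ e) := by
    intro w
    rw [hR, Matrix.reindex_apply, Matrix.submatrix_mulVec_equiv]
    funext i
    simp
  refine ⟨P * R, ⟨hD.unit.mul hRu, ?_, hD.ne, ?_⟩⟩
  · have h1 : (P * R).map σ = P.map σ * R.map σ := Matrix.map_mul (f := (σ : F →+* F))
    rw [h1, hRσ, ← Matrix.mul_assoc, hD.semi]
  · intro w
    rw [← Matrix.mulVec_mulVec, hD.form, ellForm_apply, ellForm_apply, hRw,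
      quadFormMinus_twistMat, e1, e2]

/-- a hyperbolic descent datum forces evenness -/
theorem plusEven_of_descends_plus (g : ↥(Cfsg.Geo.quadSimilarityGroup (⇑(plusQF m F))))
    (σ : RingAut F) (P : Matrix (Fin m ⊕ Fin m) (Fin m ⊕ Fin m) F) (c : F)
    (hD : Descends (⇑(plusQF m F)) σ ((g : GL (Fin m ⊕ Fin m) F) :
      Matrix (Fin m ⊕ Fin m) (Fin m ⊕ Fin m) F) P c (⇑(plusQF m F))) :
    plusEven (g : GL (Fin m ⊕ Fin m) F) := by
  obtain ⟨U, hU⟩ := hD.unit
  have hUsim : U ∈ Cfsg.Geo.quadSimilarityGroup (⇑(plusQF m F)) := by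
    refine ⟨Units.mk0 c hD.ne, fun v => ?_⟩
    show plusQF m F ((U : Matrix (Fin m ⊕ Fin m) (Fin m ⊕ Fin m) F) *ᵥ v) = c * plusQF m F v
    rw [hU]
    exact hD.form v
  have hσU : glMap σ U ∈ Cfsg.Geo.quadSimilarityGroup (⇑(plusQF m F)) :=
    glMap_mem_quadSim fieldCompat_plusQF σ U hUsim
  have hg : (g : GL (Fin m ⊕ Fin m) F) = U * (glMap σ U)⁻¹ := by
    rw [eq_mul_inv_iff_mul_eq]
    apply Units.ext
    rw [Units.val_mul, glMap_coe, hU]
    exact hD.semi
  rw [hg, plusEven_mul _ _ hUsim (Subgroup.inv_mem _ hσU), plusEven_inv _ hσU, plusEven_glMap]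

end Cfsg.Agent.Lib.Helper43
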