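/-
helper43: the type of a descent datum for the coset `PGO⁺ · φ_σ` against the class character:
* for `σ` of odd order there is no elliptic descent datum (the elliptic form stays elliptic over
  an extension of odd degree, S2617);
* for `σ` of order two an elliptic descent datum forces the class character to be odd (multiply
  with a reflection in a fixed vector and compare).
-/
import Mathlib
import Cfsg.Agent.Lib.Helper43.PlusTypes
import Cfsg.Agent.Lib.Helper43.OSpin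
import Cfsg.Agent.Lib.Helper36.PgoPso
import Cfsg.Agent.Lib.Helper36.PgoInn
import Cfsg.Agent.S2617

set_option autoImplicit false

namespace Cfsg.Agent.Lib.Helper43

open scoped MatrixGroups Matrix
open Module Matrix Cfsg.Agent.Lib.Helper45.PSLField Cfsg.Agent.Lib.Helper36 Cfsg.Agent.Lib.Helper44
  Cfsg.Agent.S2168
open Cfsg.Agent.Lib.Helper13 (rvec finc reflLin reflLin_apply)

variable {m : ℕ} {F : Type*} [Field F]

/-- a quadratic polynomial `t² + t + ζ` over the fixed field of an automorphism of odd order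
without roots there has no roots in the big field -/
theorem rootless_of_odd (σ : RingAut F) (hodd : Odd (orderOf σ)) (ζ : ↥(fixF σ))
    (hζ : ∀ t : ↥(fixF σ), t ^ 2 + t + ζ ≠ 0) : ∀ t : F, t ^ 2 + t + (ζ : F) ≠ 0 := by
  intro θ hθ
  have hζσ : σ (ζ : F) = ζ := (mem_fixF σ _).mp ζ.2
  have h1 : σ θ ^ 2 + σ θ + (ζ : F) = 0 := by
    have h := congrArg σ hθ
    rw [map_add, map_add, map_pow, hζσ, map_zero] at h
    exact h
  have h2 : (σ θ - θ) * (σ θ + θ + 1) = 0 := by linear_combination h1 - hθ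
  have hfix : σ θ = θ := by
    rcases mul_eq_zero.mp h2 with h | h
    · exact sub_eq_zero.mp h
    · have h3 : σ θ = -1 - θ := by linear_combination h
      have h4 : (σ ^ 2) θ = θ := by
        rw [pow_two, RingAut.mul_apply, h3, map_sub, map_neg, map_one, h3]
        ring
      obtain ⟨n, hn⟩ := hodd
      have h5 : ∀ i : ℕ, ((σ ^ 2) ^ i) θ = θ := by
        intro i
        induction i with
        | zero => rfl
        | succ i ih => rw [pow_succ, RingAut.mul_apply, h4, ih]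
      have h6 : (σ ^ 2) ^ (n + 1) = σ := by
        rw [← pow_mul, show 2 * (n + 1) = (2 * n + 1) + 1 by ring, pow_succ, ← hn,
          pow_orderOf_eq_one, one_mul]
      have h7 := h5 (n + 1)
      rw [h6] at h7
      exact h7
  refine hζ ⟨θ, (mem_fixF σ θ).mpr hfix⟩ ?_
  apply (finc σ).injective
  rw [map_add, map_add, map_pow, map_zero]
  exact hθ

/-- **no elliptic descent for automorphisms of odd order** -/
theorem not_descends_ell_of_odd [Finite F] (hm : 1 ≤ m)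
    (e : (Fin (m - 1) ⊕ Fin (m - 1)) ⊕ Fin 2 ≃ Fin m ⊕ Fin m)
    (σ : RingAut F) (hodd : Odd (orderOf σ)) (ζ : ↥(fixF σ))
    (hζ : ∀ t : ↥(fixF σ), t ^ 2 + t + ζ ≠ 0)
    (G P : Matrix (Fin m ⊕ Fin m) (Fin m ⊕ Fin m) F) (c : F)
    (hD : Descends (⇑(plusQF m F)) σ G P c (⇑(ellForm e ((ζ : ↥(fixF σ)) : F)))) : False := by
  have hζF := rootless_of_odd σ hodd ζ hζ
  obtain ⟨U, hU⟩ := hD.unit
  set cu : Fˣ := Units.mk0 c hD.ne with hcu
  set M : GL (Fin m ⊕ Fin m) F := U⁻¹ * diagSim m cu with hM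
  apply Cfsg.Agent.S2617.result hm ((ζ : ↥(fixF σ)) : F) hζF
    ((glLinEquiv (Fin m ⊕ Fin m) F M).trans (LinearEquiv.funCongrLeft F F e))
  intro v
  have h1 : ((glLinEquiv (Fin m ⊕ Fin m) F M).trans (LinearEquiv.funCongrLeft F F e)) v =
      ((M : Matrix (Fin m ⊕ Fin m) (Fin m ⊕ Fin m) F) *ᵥ v) ∘ e := rfl
  rw [h1, ← ellForm_apply]
  have h2 : c * ellForm e ((ζ : ↥(fixF σ)) : F)
      ((M : Matrix (Fin m ⊕ Fin m) (Fin m ⊕ Fin m) F) *ᵥ v) = c * Cfsg.quadFormPlus m F v := by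
    rw [← hD.form, ← hU, Matrix.mulVec_mulVec, ← Units.val_mul, hM, mul_inv_cancel_left]
    exact diagSim_similarity m cu v
  exact mul_left_cancel₀ hD.ne h2

/-- `G ρ_w = ρ_{G w} G` for a similarity `G` -/
theorem similarity_mul_reflectionMatrix (Q : QuadraticForm F (Fin m ⊕ Fin m → F))
    (g : ↥(Cfsg.Geo.quadSimilarityGroup (⇑Q))) (w : Fin m ⊕ Fin m → F) (hw : Q w ≠ 0) :
    ((g : GL (Fin m ⊕ Fin m) F) : Matrix (Fin m ⊕ Fin m) (Fin m ⊕ Fin m) F) *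
      Cfsg.reflectionMatrix (⇑Q) w =
    Cfsg.reflectionMatrix (⇑Q)
      (((g : GL (Fin m ⊕ Fin m) F) : Matrix (Fin m ⊕ Fin m) (Fin m ⊕ Fin m) F) *ᵥ w) *
      ((g : GL (Fin m ⊕ Fin m) F) : Matrix (Fin m ⊕ Fin m) (Fin m ⊕ Fin m) F) := by
  apply matrix_eq_of_mulVec
  intro z
  rw [← Matrix.mulVec_mulVec, ← Matrix.mulVec_mulVec, reflectionMatrix_mulVec_eq_reflLin,
    reflectionMatrix_mulVec_eq_reflLin]
  obtain ⟨μ, hμ⟩ := g.2
  set D := glLinEquiv (Fin m ⊕ Fin m) F (g : GL (Fin m ⊕ Fin m) F) with hD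
  have h1 := conj_reflLin_similarity Q D (μ : F) μ.ne_zero (fun z => hμ z) w hw (D z)
  have h2 : D⁻¹ (D z) = z := by
    rw [← LinearEquiv.mul_apply, inv_mul_cancel]
    rfl
  rw [h2] at h1
  exact h1

/-- **an elliptic descent datum for an involutory `σ` forces oddness** -/
theorem not_plusEven_of_descends_ell [Finite F] (hm : 1 ≤ m)
    (e : (Fin (m - 1) ⊕ Fin (m - 1)) ⊕ Fin 2 ≃ Fin m ⊕ Fin m)
    (σ : RingAut F) (hσ : orderOf σ = 2)
    (g : ↥(Cfsg.Geo.quadSimilarityGroup (⇑(plusQF m F))))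
    (hcoc : cocyc σ ((g : GL (Fin m ⊕ Fin m) F) :
      Matrix (Fin m ⊕ Fin m) (Fin m ⊕ Fin m) F) 2 = 1)
    (ζ : ↥(fixF σ)) (hζ : ∀ t : ↥(fixF σ), t ^ 2 + t + ζ ≠ 0)
    (P : Matrix (Fin m ⊕ Fin m) (Fin m ⊕ Fin m) F) (c : F)
    (hD : Descends (⇑(plusQF m F)) σ ((g : GL (Fin m ⊕ Fin m) F) :
      Matrix (Fin m ⊕ Fin m) (Fin m ⊕ Fin m) F) P c (⇑(ellForm e ((ζ : ↥(fixF σ)) : F)))) :
    ¬ plusEven (g : GL (Fin m ⊕ Fin m) F) := by
  set G : Matrix (Fin m ⊕ Fin m) (Fin m ⊕ Fin m) F :=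
    ((g : GL (Fin m ⊕ Fin m) F) : Matrix (Fin m ⊕ Fin m) (Fin m ⊕ Fin m) F) with hG
  set u₀ : Fin m ⊕ Fin m → F := Pi.single (e (Sum.inr 0)) 1 with hu₀
  have hu₀σ : vmap σ u₀ = u₀ := vmap_single σ _
  have hu₀E : ellForm e ((ζ : ↥(fixF σ)) : F) u₀ = 1 := by
    rw [ellForm_apply]
    have h1 : u₀ ∘ e = Pi.single (Sum.inr 0) 1 := by
      funext i
      simp only [hu₀, Function.comp, Pi.single_apply, e.injective.eq_iff]
    rw [h1]
    unfold Cfsg.quadFormMinus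
    simp
  set u : Fin m ⊕ Fin m → F := P *ᵥ u₀ with hu
  have hQu : plusQF m F u = c := by rw [hu, hD.form, hu₀E, mul_one]
  have hQu0 : plusQF m F u ≠ 0 := by rw [hQu]; exact hD.ne
  have hGu : G *ᵥ vmap σ u = u := by
    rw [hu, ← map_mulVec_vmap, hu₀σ, Matrix.mulVec_mulVec, hD.semi]
  have hQσu : plusQF m F (vmap σ u) ≠ 0 := by
    rw [fieldCompat_plusQF σ u]
    exact (map_ne_zero σ).mpr hQu0
  have hFt : Fintype F := Fintype.ofFinite F
  classical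
  obtain ⟨ρ, -, hρ⟩ := exists_reflection_similarity (plusQF m F) u hQu0
  have hρodd : ¬ plusEven (ρ : GL (Fin m ⊕ Fin m) F) := not_plusEven_of_refl _ u hQu0 hρ
  have hρσ : ((ρ : GL (Fin m ⊕ Fin m) F) : Matrix (Fin m ⊕ Fin m) (Fin m ⊕ Fin m) F).map σ =
      Cfsg.reflectionMatrix (⇑(plusQF m F)) (vmap σ u) := by
    rw [hρ]
    exact reflectionMatrix_map (σ : F →+* F) (⇑(plusQF m F)) (⇑(plusQF m F))
      (fun v => fieldCompat_plusQF σ v) u
  have hconj : G * Cfsg.reflectionMatrix (⇑(plusQF m F)) (vmap σ u) =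
      Cfsg.reflectionMatrix (⇑(plusQF m F)) u * G := by
    have h1 := similarity_mul_reflectionMatrix (plusQF m F) g (vmap σ u) hQσu
    rw [← hG, hGu] at h1
    exact h1
  have hρρ : ((ρ : GL (Fin m ⊕ Fin m) F) : Matrix (Fin m ⊕ Fin m) (Fin m ⊕ Fin m) F) *
      ((ρ : GL (Fin m ⊕ Fin m) F) : Matrix (Fin m ⊕ Fin m) (Fin m ⊕ Fin m) F) = 1 := by
    apply matrix_eq_of_mulVec
    intro z
    rw [← Matrix.mulVec_mulVec, hρ, reflectionMatrix_mulVec_eq_reflLin,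
      reflectionMatrix_mulVec_eq_reflLin, reflLin_involutive (plusQF m F) u hQu0 z,
      Matrix.one_mulVec]
  obtain ⟨g', hg'⟩ : ∃ g' : ↥(Cfsg.Geo.quadSimilarityGroup (⇑(plusQF m F))), g' = ρ * g :=
    ⟨_, rfl⟩
  have hg'GL : (g' : GL (Fin m ⊕ Fin m) F) = (ρ : GL (Fin m ⊕ Fin m) F) *
      (g : GL (Fin m ⊕ Fin m) F) := by rw [hg']; rfl
  have hg'coe : ((g' : GL (Fin m ⊕ Fin m) F) : Matrix (Fin m ⊕ Fin m) (Fin m ⊕ Fin m) F) =
      ((ρ : GL (Fin m ⊕ Fin m) F) : Matrix (Fin m ⊕ Fin m) (Fin m ⊕ Fin m) F) * G := by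
    rw [hg'GL, Units.val_mul]
  have hcoc' : cocyc σ ((g' : GL (Fin m ⊕ Fin m) F) :
      Matrix (Fin m ⊕ Fin m) (Fin m ⊕ Fin m) F) 2 = 1 := by
    rw [cocyc_two] at hcoc ⊢
    have h1 : (((ρ : GL (Fin m ⊕ Fin m) F) : Matrix (Fin m ⊕ Fin m) (Fin m ⊕ Fin m) F) * G).map σ
        = ((ρ : GL (Fin m ⊕ Fin m) F) : Matrix (Fin m ⊕ Fin m) (Fin m ⊕ Fin m) F).map σ *
          G.map σ := Matrix.map_mul (f := (σ : F →+* F))
    rw [hg'coe, h1, hρσ]
    calc ((ρ : GL (Fin m ⊕ Fin m) F) : Matrix (Fin m ⊕ Fin m) (Fin m ⊕ Fin m) F) * G *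
          (Cfsg.reflectionMatrix (⇑(plusQF m F)) (vmap σ u) * G.map σ)
        = ((ρ : GL (Fin m ⊕ Fin m) F) : Matrix (Fin m ⊕ Fin m) (Fin m ⊕ Fin m) F) *
          (G * Cfsg.reflectionMatrix (⇑(plusQF m F)) (vmap σ u)) * G.map σ := by
          simp only [Matrix.mul_assoc]
      _ = ((ρ : GL (Fin m ⊕ Fin m) F) : Matrix (Fin m ⊕ Fin m) (Fin m ⊕ Fin m) F) *
          ((ρ : GL (Fin m ⊕ Fin m) F) : Matrix (Fin m ⊕ Fin m) (Fin m ⊕ Fin m) F) *
          (G * G.map σ) := by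
          rw [hconj, ← hρ]
          simp only [Matrix.mul_assoc]
      _ = 1 := by rw [hρρ, hcoc, Matrix.one_mul]
  obtain ⟨μ', hμ'⟩ := g'.2
  rcases exists_descends_plus hm e σ (by norm_num : 0 < 2) hσ _ (μ' : F) μ'.ne_zero
    (fun v => hμ' v) hcoc' with ⟨P', c', hD'⟩ | ⟨ζ', hζ', P', c', hD'⟩
  · have h1 := plusEven_of_descends_plus g' σ P' c' hD'
    intro hg
    rw [hg'GL] at h1
    have h2 := (plusEven_mul (ρ : GL (Fin m ⊕ Fin m) F) (g : GL (Fin m ⊕ Fin m) F) ρ.2 g.2).mp h1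
    exact hρodd (h2.mpr hg)
  · obtain ⟨P'', hD''⟩ := descends_ell_change e σ _ P' c' ζ' ζ hζ' hζ hD'
    obtain ⟨A, hA⟩ := exists_quadSim_of_descends (plusQF m F) hD hD''
    intro hg
    have hA' : (A : GL (Fin m ⊕ Fin m) F) * (g : GL (Fin m ⊕ Fin m) F) =
        (g' : GL (Fin m ⊕ Fin m) F) * glMap σ (A : GL (Fin m ⊕ Fin m) F) := by
      apply Units.ext
      rw [Units.val_mul, Units.val_mul, glMap_coe]
      exact hA
    have hσA : glMap σ (A : GL (Fin m ⊕ Fin m) F) ∈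
        Cfsg.Geo.quadSimilarityGroup (⇑(plusQF m F)) :=
      glMap_mem_quadSim fieldCompat_plusQF σ _ A.2
    have h1 := plusEven_mul (A : GL (Fin m ⊕ Fin m) F) (g : GL (Fin m ⊕ Fin m) F) A.2 g.2
    have h2 := plusEven_mul (g' : GL (Fin m ⊕ Fin m) F) (glMap σ (A : GL (Fin m ⊕ Fin m) F))
      g'.2 hσA
    have h3 := plusEven_glMap σ (A : GL (Fin m ⊕ Fin m) F)
    have h4 := plusEven_mul (ρ : GL (Fin m ⊕ Fin m) F) (g : GL (Fin m ⊕ Fin m) F) ρ.2 g.2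
    rw [← hg'GL] at h4
    rw [hA'] at h1
    have hg'f : ¬ plusEven (g' : GL (Fin m ⊕ Fin m) F) := fun h => hρodd ((h4.mp h).mpr hg)
    have h5 := h1.symm.trans h2
    by_cases hAe : plusEven (A : GL (Fin m ⊕ Fin m) F)
    · have h6 := h5.mp ⟨fun _ => hg, fun _ => hAe⟩
      exact hg'f (h6.mpr (h3.mpr hAe))
    · have h6 := h5.mpr ⟨fun h => absurd h hg'f, fun h => absurd (h3.mp h) hAe⟩
      exact hAe (h6.mpr hg)

end Cfsg.Agent.Lib.Helper43
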