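/-
helper43: the coset `Inndiag(PΩ⁺_{2m}(F)) · x` of a field or graph-field automorphism `x` of prime
order (`m ≥ 5`, all characteristics): an element of the coset has the order of `x` iff it is
`Inndiag`-conjugate to `x` (S2736).
-/
import Mathlib
import Cfsg.Agent.Lib.Helper43.PlusTypes2

set_option autoImplicit false

namespace Cfsg.Agent.Lib.Helper43

open scoped MatrixGroups Matrix
open Module Matrix Cfsg.Agent.Lib.Helper45.PSLField Cfsg.Agent.Lib.Helper36 Cfsg.Agent.Lib.Helper44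
  Cfsg.Agent.S2168

variable {m : ℕ} {F : Type*} [Field F]

/-- rescaling by a scalar does not change the class character -/
theorem plusEven_scalar_mul (sa g : ↥(Cfsg.Geo.quadSimilarityGroup (⇑(plusQF m F)))) (a : F)
    (ha : a ≠ 0)
    (hsa : ((sa : GL (Fin m ⊕ Fin m) F) : Matrix (Fin m ⊕ Fin m) (Fin m ⊕ Fin m) F) = a • 1) :
    plusEven ((sa * g : ↥(Cfsg.Geo.quadSimilarityGroup (⇑(plusQF m F)))) :
      GL (Fin m ⊕ Fin m) F) ↔ plusEven (g : GL (Fin m ⊕ Fin m) F) := by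
  have h1 : ((sa * g : ↥(Cfsg.Geo.quadSimilarityGroup (⇑(plusQF m F)))) :
      GL (Fin m ⊕ Fin m) F) = (sa : GL (Fin m ⊕ Fin m) F) * (g : GL (Fin m ⊕ Fin m) F) := rfl
  have h2 := plusEven_of_scalar (sa : GL (Fin m ⊕ Fin m) F) a ha hsa
  rw [h1, plusEven_mul _ _ sa.2 g.2]
  exact ⟨fun h => h.mp h2, fun h => ⟨fun _ => h, fun _ => h2⟩⟩

/-- **conjugacy under `PGO⁺` inside the coset**: two elements of `PGO⁺ · φ_σ` killed by the prime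
order of `σ` and with the same class character are conjugate under a similarity -/
theorem plus_twisted_conj [Fintype F] (hm : 4 ≤ m) (σ : RingAut F) {r : ℕ} (hr : r.Prime)
    (hσ : orderOf σ = r) (g₁ g₂ : ↥(Cfsg.Geo.quadSimilarityGroup (⇑(plusQF m F))))
    (h₁ : (simAut (⇑(plusQF m F)) g₁ * oField fieldCompat_plusQF σ) ^ r = 1)
    (h₂ : (simAut (⇑(plusQF m F)) g₂ * oField fieldCompat_plusQF σ) ^ r = 1)
    (hpar : plusEven (g₁ : GL (Fin m ⊕ Fin m) F) ↔ plusEven (g₂ : GL (Fin m ⊕ Fin m) F)) :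
    ∃ A : ↥(Cfsg.Geo.quadSimilarityGroup (⇑(plusQF m F))),
      simAut (⇑(plusQF m F)) A * (simAut (⇑(plusQF m F)) g₁ * oField fieldCompat_plusQF σ) *
        (simAut (⇑(plusQF m F)) A)⁻¹ =
      simAut (⇑(plusQF m F)) g₂ * oField fieldCompat_plusQF σ := by
  have hm1 : 1 ≤ m := by omega
  have hr0 : 0 < r := hr.pos
  have hne : Nonempty (Fin m ⊕ Fin m) := ⟨Sum.inl ⟨0, hm1⟩⟩
  have hker := oKernelProp_plusQF (F := F) hm
  have hcard : Fintype.card ((Fin (m - 1) ⊕ Fin (m - 1)) ⊕ Fin 2) =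
      Fintype.card (Fin m ⊕ Fin m) := by
    simp only [Fintype.card_sum, Fintype.card_fin]
    omega
  obtain ⟨e⟩ : Nonempty ((Fin (m - 1) ⊕ Fin (m - 1)) ⊕ Fin 2 ≃ Fin m ⊕ Fin m) :=
    ⟨Fintype.equivOfCardEq hcard⟩
  obtain ⟨sa₁, g₁', a₁, ha₁, hsa₁, hg₁', hs₁, hc₁⟩ := exists_rescale_cocyc (plusQF m F)
    fieldCompat_plusQF hker σ hr0 hσ g₁ h₁
  obtain ⟨sa₂, g₂', a₂, ha₂, hsa₂, hg₂', hs₂, hc₂⟩ := exists_rescale_cocyc (plusQF m F)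
    fieldCompat_plusQF hker σ hr0 hσ g₂ h₂
  have hp₁ : plusEven (g₁' : GL (Fin m ⊕ Fin m) F) ↔ plusEven (g₁ : GL (Fin m ⊕ Fin m) F) := by
    rw [hg₁']
    exact plusEven_scalar_mul sa₁ g₁ a₁ ha₁ hsa₁
  have hp₂ : plusEven (g₂' : GL (Fin m ⊕ Fin m) F) ↔ plusEven (g₂ : GL (Fin m ⊕ Fin m) F) := by
    rw [hg₂']
    exact plusEven_scalar_mul sa₂ g₂ a₂ ha₂ hsa₂
  rw [← hs₁, ← hs₂]
  obtain ⟨μ₁, hμ₁⟩ := g₁'.2
  obtain ⟨μ₂, hμ₂⟩ := g₂'.2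
  have hA₁ := exists_descends_plus hm1 e σ hr0 hσ _ (μ₁ : F) μ₁.ne_zero (fun v => hμ₁ v) hc₁
  have hA₂ := exists_descends_plus hm1 e σ hr0 hσ _ (μ₂ : F) μ₂.ne_zero (fun v => hμ₂ v) hc₂
  have key : ∃ A : ↥(Cfsg.Geo.quadSimilarityGroup (⇑(plusQF m F))),
      ((A : GL (Fin m ⊕ Fin m) F) : Matrix (Fin m ⊕ Fin m) (Fin m ⊕ Fin m) F) *
        ((g₁' : GL (Fin m ⊕ Fin m) F) : Matrix (Fin m ⊕ Fin m) (Fin m ⊕ Fin m) F) =
      ((g₂' : GL (Fin m ⊕ Fin m) F) : Matrix (Fin m ⊕ Fin m) (Fin m ⊕ Fin m) F) *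
        ((A : GL (Fin m ⊕ Fin m) F) : Matrix (Fin m ⊕ Fin m) (Fin m ⊕ Fin m) F).map σ := by
    rcases hA₁ with ⟨P₁, c₁, D₁⟩ | ⟨ζ₁, hζ₁, P₁, c₁, D₁⟩ <;>
      rcases hA₂ with ⟨P₂, c₂, D₂⟩ | ⟨ζ₂, hζ₂, P₂, c₂, D₂⟩
    · exact exists_quadSim_of_descends (plusQF m F) D₁ D₂
    · exfalso
      rcases hr.eq_two_or_odd' with h2 | hodd
      · subst h2
        have e1 := plusEven_of_descends_plus g₁' σ P₁ c₁ D₁
        have e2 := not_plusEven_of_descends_ell hm1 e σ hσ g₂' hc₂ ζ₂ hζ₂ P₂ c₂ D₂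
        exact e2 (hp₂.mpr (hpar.mp (hp₁.mp e1)))
      · rw [← hσ] at hodd
        exact not_descends_ell_of_odd hm1 e σ hodd ζ₂ hζ₂ _ P₂ c₂ D₂
    · exfalso
      rcases hr.eq_two_or_odd' with h2 | hodd
      · subst h2
        have e1 := plusEven_of_descends_plus g₂' σ P₂ c₂ D₂
        have e2 := not_plusEven_of_descends_ell hm1 e σ hσ g₁' hc₁ ζ₁ hζ₁ P₁ c₁ D₁
        exact e2 (hp₁.mpr (hpar.mpr (hp₂.mp e1)))
      · rw [← hσ] at hodd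
        exact not_descends_ell_of_odd hm1 e σ hodd ζ₁ hζ₁ _ P₁ c₁ D₁
    · obtain ⟨P₁', D₁'⟩ := descends_ell_change e σ _ P₁ c₁ ζ₁ ζ₂ hζ₁ hζ₂ D₁
      exact exists_quadSim_of_descends (plusQF m F) D₁' D₂
  obtain ⟨A, hA⟩ := key
  exact ⟨A, conj_of_twisted fieldCompat_plusQF A g₁' g₂' σ hA⟩

/-- the order of the field automorphism underlying an element of prime order -/
theorem orderOf_eq_of_pow_eq_one [Fintype F] (hm : 4 ≤ m) (σ : RingAut F) (hσ1 : σ ≠ 1)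
    {r : ℕ} (hr : r.Prime) (g : ↥(Cfsg.Geo.quadSimilarityGroup (⇑(plusQF m F))))
    (h : (simAut (⇑(plusQF m F)) g * oField fieldCompat_plusQF σ) ^ r = 1) : orderOf σ = r := by
  obtain ⟨gr, -, hpow⟩ := pow_simAut_oField fieldCompat_plusQF g σ r
  rw [hpow] at h
  have h1 : σ ^ r = 1 := (oKernelProp_plusQF (F := F) hm _ _ h).1
  have h2 : orderOf σ ∣ r := orderOf_dvd_of_pow_eq_one h1
  rcases (Nat.dvd_prime hr).mp h2 with h3 | h3
  · exact absurd (orderOf_eq_one_iff.mp h3) hσ1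
  · exact h3

set_option maxHeartbeats 400000 in
/-- the core of S2736, for a normalised `x` -/
theorem plus_coset_core [Fintype F] (hm : 5 ≤ m) (σ : RingAut F) (hσ1 : σ ≠ 1)
    (g₀ ρ' : ↥(Cfsg.Geo.quadSimilarityGroup (⇑(plusQF m F))))
    (hρ'σ : ((ρ' : GL (Fin m ⊕ Fin m) F) : Matrix (Fin m ⊕ Fin m) (Fin m ⊕ Fin m) F).map σ =
      ((ρ' : GL (Fin m ⊕ Fin m) F) : Matrix (Fin m ⊕ Fin m) (Fin m ⊕ Fin m) F))
    (hcomm : ρ' * g₀ = g₀ * ρ') (hρ'odd : ¬ plusEven (ρ' : GL (Fin m ⊕ Fin m) F))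
    (α x δ : MulAut (Cfsg.POmega F (⇑(plusQF m F))))
    (hαx : α * x * α⁻¹ = simAut (⇑(plusQF m F)) g₀ * oField fieldCompat_plusQF σ)
    {r : ℕ} (hr : r.Prime) (hxr : orderOf x = r) (hδ : δ ∈ inndiagPlusQ m F)
    (hy : orderOf (δ * x) = r) : Cfsg.IsConjUnder (inndiagPlusQ m F) x (δ * x) := by
  have hm4 : 4 ≤ m := by omega
  have hx₀r : (simAut (⇑(plusQF m F)) g₀ * oField fieldCompat_plusQF σ) ^ r = 1 := by
    rw [← hαx, ← hxr, ← orderOf_conj_o α x]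
    exact pow_orderOf_eq_one _
  have hσr : orderOf σ = r := orderOf_eq_of_pow_eq_one hm4 σ hσ1 hr g₀ hx₀r
  have hδ' := conj_mem_inndiagPlusQ hm α δ hδ
  rw [mem_inndiagPlusQ_iff] at hδ'
  obtain ⟨d, hd, hdα⟩ := hδ'
  have hy₀ : α * (δ * x) * α⁻¹ =
      simAut (⇑(plusQF m F)) (d * g₀) * oField fieldCompat_plusQF σ := by
    have h1 : α * (δ * x) * α⁻¹ = (α * δ * α⁻¹) * (α * x * α⁻¹) := by group
    rw [h1, hαx, hdα, map_mul, mul_assoc]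
  have hy₀r : (simAut (⇑(plusQF m F)) (d * g₀) * oField fieldCompat_plusQF σ) ^ r = 1 := by
    rw [← hy₀, ← hy, ← orderOf_conj_o α (δ * x)]
    exact pow_orderOf_eq_one _
  have hpar : plusEven (g₀ : GL (Fin m ⊕ Fin m) F) ↔
      plusEven ((d * g₀ : ↥(Cfsg.Geo.quadSimilarityGroup (⇑(plusQF m F)))) :
        GL (Fin m ⊕ Fin m) F) := by
    have h1 : ((d * g₀ : ↥(Cfsg.Geo.quadSimilarityGroup (⇑(plusQF m F)))) :
        GL (Fin m ⊕ Fin m) F) = (d : GL (Fin m ⊕ Fin m) F) * (g₀ : GL (Fin m ⊕ Fin m) F) := rfl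
    rw [h1, plusEven_mul _ _ d.2 g₀.2]
    exact ⟨fun h => ⟨fun _ => h, fun _ => hd⟩, fun h => h.mp hd⟩
  obtain ⟨A, hA⟩ := plus_twisted_conj hm4 σ hr hσr g₀ (d * g₀) hx₀r hy₀r hpar
  -- the reflection centralises `x₀`
  have hρ'x : simAut (⇑(plusQF m F)) ρ' *
      (simAut (⇑(plusQF m F)) g₀ * oField fieldCompat_plusQF σ) *
      (simAut (⇑(plusQF m F)) ρ')⁻¹ =
      simAut (⇑(plusQF m F)) g₀ * oField fieldCompat_plusQF σ := by
    apply conj_of_twisted fieldCompat_plusQF ρ' g₀ g₀ σ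
    rw [hρ'σ]
    have := congrArg (fun t : ↥(Cfsg.Geo.quadSimilarityGroup (⇑(plusQF m F))) =>
      ((t : GL (Fin m ⊕ Fin m) F) : Matrix (Fin m ⊕ Fin m) (Fin m ⊕ Fin m) F)) hcomm
    simpa only [Subgroup.coe_mul, Units.val_mul] using this
  -- fix the class of the conjugating element
  obtain ⟨A', hA'e, hA'⟩ : ∃ A' : ↥(Cfsg.Geo.quadSimilarityGroup (⇑(plusQF m F))),
      plusEven (A' : GL (Fin m ⊕ Fin m) F) ∧
      simAut (⇑(plusQF m F)) A' * (simAut (⇑(plusQF m F)) g₀ * oField fieldCompat_plusQF σ) *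
        (simAut (⇑(plusQF m F)) A')⁻¹ =
      simAut (⇑(plusQF m F)) (d * g₀) * oField fieldCompat_plusQF σ := by
    by_cases hAe : plusEven (A : GL (Fin m ⊕ Fin m) F)
    · exact ⟨A, hAe, hA⟩
    · refine ⟨A * ρ', ?_, ?_⟩
      · have h1 : ((A * ρ' : ↥(Cfsg.Geo.quadSimilarityGroup (⇑(plusQF m F)))) :
            GL (Fin m ⊕ Fin m) F) = (A : GL (Fin m ⊕ Fin m) F) * (ρ' : GL (Fin m ⊕ Fin m) F) := rfl
        rw [h1, plusEven_mul _ _ A.2 ρ'.2]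
        exact ⟨fun h => absurd h hAe, fun h => absurd h hρ'odd⟩
      · rw [map_mul, ← hA]
        generalize simAut (⇑(plusQF m F)) A = X
        generalize simAut (⇑(plusQF m F)) ρ' = R at hρ'x ⊢
        generalize simAut (⇑(plusQF m F)) g₀ * oField fieldCompat_plusQF σ = x₀ at hρ'x ⊢
        calc X * R * x₀ * (X * R)⁻¹ = X * (R * x₀ * R⁻¹) * X⁻¹ := by group
          _ = X * x₀ * X⁻¹ := by rw [hρ'x]
  have hmem : α⁻¹ * simAut (⇑(plusQF m F)) A' * α ∈ inndiagPlusQ m F := by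
    have h1 := conj_mem_inndiagPlusQ hm α⁻¹ (simAut (⇑(plusQF m F)) A')
      ((mem_inndiagPlusQ_iff _).mpr ⟨A', hA'e, rfl⟩)
    rwa [inv_inv] at h1
  refine ⟨α⁻¹ * simAut (⇑(plusQF m F)) A' * α, hmem, ?_⟩
  have h2 : α * (δ * x) * α⁻¹ = simAut (⇑(plusQF m F)) A' * (α * x * α⁻¹) *
      (simAut (⇑(plusQF m F)) A')⁻¹ := by rw [hy₀, ← hA', hαx]
  generalize simAut (⇑(plusQF m F)) A' = S at h2 ⊢
  calc δ * x = α⁻¹ * (α * (δ * x) * α⁻¹) * α := by group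
    _ = α⁻¹ * (S * (α * x * α⁻¹) * S⁻¹) * α := by rw [h2]
    _ = _ := by group

end Cfsg.Agent.Lib.Helper43
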