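/-
helper43: in characteristic two `Inndiag(PΩ⁺_{2m}(F)) = Inn(PΩ⁺_{2m}(F))`: a class-preserving
similarity is a scalar multiple of a product of an even number of reflections, which lies in `Ω`.
-/
import Mathlib
import Cfsg.Agent.Lib.Helper43.PlusCoset
import Cfsg.Agent.Lib.Helper36.ReflMatrix
import Cfsg.Agent.Lib.Helper36.PsoInn

set_option autoImplicit false

namespace Cfsg.Agent.Lib.Helper43

open scoped MatrixGroups Matrix
open Module Matrix Cfsg.Agent.Lib.Helper45.PSLField Cfsg.Agent.Lib.Helper36 Cfsg.Agent.Lib.Helper44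
  Cfsg.Agent.S2168
open Cfsg.Agent.Lib.Helper13 (reflSet reflGroup reflLin isoGroup_le_reflGroup)

variable {m : ℕ} {F : Type*} [Field F]

theorem not_plusEvenLin_of_refl (T : (Fin m ⊕ Fin m → F) ≃ₗ[F] (Fin m ⊕ Fin m → F))
    (hT : T ∈ reflSet (plusQF m F)) : ¬ plusEvenLin T := by
  have h1 := finrank_inf_map_refl (plusQF m F) (plusQF_nondeg m F) (finrank_plus_space m F)
    (stdPlus_ts m F) (finrank_stdPlus m F) _ hT
  unfold plusEvenLin
  rw [Nat.even_iff]
  omega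

theorem plusEvenLin_one : plusEvenLin (1 : (Fin m ⊕ Fin m → F) ≃ₗ[F] (Fin m ⊕ Fin m → F)) := by
  have := plusEven_one (m := m) (F := F)
  unfold plusEven at this
  rwa [map_one] at this

/-- elements of the pair group are isometries and even -/
theorem plusEvenLin_of_mem_pairGroup (g : (Fin m ⊕ Fin m → F) ≃ₗ[F] (Fin m ⊕ Fin m → F))
    (hg : g ∈ Cfsg.Agent.Lib.Helper36.pairGroup (plusQF m F)) :
    (∀ z, plusQF m F (g z) = plusQF m F z) ∧ plusEvenLin g := by
  unfold Cfsg.Agent.Lib.Helper36.pairGroup at hg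
  induction hg using Subgroup.closure_induction with
  | mem T hT =>
    obtain ⟨u, v, hu, hv, hTz⟩ := hT
    have hTu := reflEquiv_mem (plusQF m F) u hu
    have hTv := reflEquiv_mem (plusQF m F) v hv
    have hiu : ∀ z, plusQF m F (reflEquiv (plusQF m F) u hu z) = 1 * plusQF m F z := by
      intro z
      rw [one_mul]
      exact reflGroup_le_isoGroup _ (Subgroup.subset_closure hTu) z
    have hiv : ∀ z, plusQF m F (reflEquiv (plusQF m F) v hv z) = 1 * plusQF m F z := by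
      intro z
      rw [one_mul]
      exact reflGroup_le_isoGroup _ (Subgroup.subset_closure hTv) z
    have hTeq : T = reflEquiv (plusQF m F) u hu * reflEquiv (plusQF m F) v hv := by
      apply LinearEquiv.ext
      intro z
      rw [hTz]
      rfl
    rw [hTeq]
    refine ⟨fun z => ?_, ?_⟩
    · rw [LinearEquiv.mul_apply, hiu, hiv, one_mul, one_mul]
    · rw [plusEvenLin_mul _ _ 1 1 hiu hiv]
      exact ⟨fun h => absurd h (not_plusEvenLin_of_refl _ hTu),
        fun h => absurd h (not_plusEvenLin_of_refl _ hTv)⟩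
  | one => exact ⟨fun z => rfl, plusEvenLin_one⟩
  | mul x y _ _ ihx ihy =>
    obtain ⟨hx1, hx2⟩ := ihx
    obtain ⟨hy1, hy2⟩ := ihy
    refine ⟨fun z => ?_, ?_⟩
    · rw [LinearEquiv.mul_apply, hx1, hy1]
    · rw [plusEvenLin_mul x y 1 1 (fun z => by rw [one_mul, hx1]) (fun z => by rw [one_mul, hy1])]
      exact ⟨fun _ => hy2, fun _ => hx2⟩
  | inv x _ ihx =>
    obtain ⟨hx1, hx2⟩ := ihx
    have hinv : ∀ z, plusQF m F (x⁻¹ z) = plusQF m F z := by
      intro z
      have := hx1 (x⁻¹ z)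
      rw [← LinearEquiv.mul_apply, mul_inv_cancel] at this
      exact this.symm
    refine ⟨hinv, ?_⟩
    have h1 := plusEvenLin_mul x x⁻¹ 1 1 (fun z => by rw [one_mul, hx1])
      (fun z => by rw [one_mul, hinv])
    rw [mul_inv_cancel] at h1
    exact (h1.mp plusEvenLin_one).mp hx2

/-- an even isometry is a product of pairs of reflections -/
theorem mem_pairGroup_of_plusEvenLin [Finite F] (hm : 3 ≤ m)
    (g : (Fin m ⊕ Fin m → F) ≃ₗ[F] (Fin m ⊕ Fin m → F))
    (hg : g ∈ isoGroup (plusQF m F)) (hgE : plusEvenLin g) :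
    g ∈ Cfsg.Agent.Lib.Helper36.pairGroup (plusQF m F) := by
  have hF' : (∀ a b : F, ∃ x : F, x ≠ a ∧ x ≠ b) ∨
      Module.finrank F (Fin m ⊕ Fin m → F) ≠ 4 := by
    right
    rw [finrank_plus_space]
    omega
  have hgr : g ∈ reflGroup (plusQF m F) :=
    isoGroup_le_reflGroup (plusQF m F) (plusQF_nondeg m F) hF' hg
  have hm1 : 1 ≤ m := by omega
  have hv : plusQF m F (hypVec (F := F) ⟨0, hm1⟩) ≠ 0 := by
    rw [plusQF_hypVec]
    exact one_ne_zero
  have hT₀ := reflEquiv_mem (plusQF m F) _ hv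
  rcases mem_pairGroup_or (plusQF m F) _ hT₀ g hgr with h | h
  · exact h
  · exfalso
    obtain ⟨-, h2⟩ := plusEvenLin_of_mem_pairGroup _ h
    have hiso₀ : ∀ z, plusQF m F (reflEquiv (plusQF m F) _ hv z) = 1 * plusQF m F z := by
      intro z
      rw [one_mul]
      exact reflGroup_le_isoGroup _ (Subgroup.subset_closure hT₀) z
    rw [plusEvenLin_mul g _ 1 1 (fun z => by rw [one_mul]; exact hg z) hiso₀] at h2
    exact not_plusEvenLin_of_refl _ hT₀ (h2.mp hgE)

/-- in characteristic two an even isometry lies in `Ω` -/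
theorem even_isometry_mem_OmegaGL [Fintype F] [CharP F 2] (hm : 3 ≤ m)
    (g : GL (Fin m ⊕ Fin m) F) (hgO : g ∈ Cfsg.isometryGroup F (⇑(plusQF m F)))
    (hgE : plusEven g) : g ∈ OmegaGL (⇑(plusQF m F)) := by
  classical
  have hF : (∀ a b : F, ∃ x : F, x ≠ a ∧ x ≠ b) ∨ Fintype.card (Fin m ⊕ Fin m) ≠ 4 := by
    right
    rw [card_plus_index']
    omega
  have hsq : ∀ a : F, IsSquare a := fun a => FiniteField.isSquare_of_char_two
    (by rw [ringChar.eq F 2]) a
  rw [mem_OmegaGL_iff]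
  refine ⟨hgO, ?_⟩
  rw [Omega_eq_closure_pairs (plusQF m F) (plusQF_nondeg m F) hF hsq, mem_closure_pairs_iff]
  have h1 : ((isometryGroupEquiv (plusQF m F) ⟨g, hgO⟩ : ↥(isoGroup (plusQF m F))) :
      (Fin m ⊕ Fin m → F) ≃ₗ[F] (Fin m ⊕ Fin m → F)) = glLinEquiv (Fin m ⊕ Fin m) F g := rfl
  rw [h1]
  exact mem_pairGroup_of_plusEvenLin hm _
    ((mem_isometryGroup_iff_isoGroup (plusQF m F) g).mp hgO) hgE

/-- **`Inndiag = Inn` in characteristic two** -/
theorem inndiagPlusQ_le_Inn_char_two [Fintype F] [CharP F 2] (hm : 3 ≤ m) :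
    inndiagPlusQ m F ≤ Cfsg.Inn (Cfsg.POmega F (⇑(plusQF m F))) := by
  classical
  intro β hβ
  obtain ⟨g, hgE, rfl⟩ := (mem_inndiagPlusQ_iff β).mp hβ
  obtain ⟨μ, hμ⟩ := g.2
  have hsq : IsSquare (μ : F) := FiniteField.isSquare_of_char_two (by rw [ringChar.eq F 2]) _
  obtain ⟨s, hs⟩ := hsq
  have hs0 : s ≠ 0 := by
    intro h0
    rw [h0, mul_zero] at hs
    exact μ.ne_zero hs
  obtain ⟨sb, hsb⟩ := exists_scalar_quadSim (plusQF m F) s⁻¹ (inv_ne_zero hs0)
  set g' : ↥(Cfsg.Geo.quadSimilarityGroup (⇑(plusQF m F))) := sb * g with hg'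
  have hcoe : ((g' : GL (Fin m ⊕ Fin m) F) : Matrix (Fin m ⊕ Fin m) (Fin m ⊕ Fin m) F) =
      s⁻¹ • ((g : GL (Fin m ⊕ Fin m) F) : Matrix (Fin m ⊕ Fin m) (Fin m ⊕ Fin m) F) := by
    rw [hg', Subgroup.coe_mul, Units.val_mul, hsb, Matrix.smul_mul, Matrix.one_mul]
  have hsim : simAut (⇑(plusQF m F)) g' = simAut (⇑(plusQF m F)) g := by
    rw [hg', map_mul, simAut_eq_one_of_scalar (⇑(plusQF m F)) sb s⁻¹ hsb, one_mul]
  have hgO : (g' : GL (Fin m ⊕ Fin m) F) ∈ Cfsg.isometryGroup F (⇑(plusQF m F)) := by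
    rw [mem_isometryGroup_iff']
    intro v
    rw [hcoe, Matrix.smul_mulVec, QuadraticMap.map_smul, hμ v, hs, smul_eq_mul]
    field_simp
  have hgE' : plusEven (g' : GL (Fin m ⊕ Fin m) F) :=
    (plusEven_scalar_mul sb g s⁻¹ (inv_ne_zero hs0) hsb).mpr hgE
  rw [← hsim]
  exact simAut_mem_Inn_of_mem _ g' (even_isometry_mem_OmegaGL hm _ hgO hgE')

end Cfsg.Agent.Lib.Helper43
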