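/-
helper43: two abstract criteria for `splitClassCount H K x`:
* it is `1` if `H = K · C_H(x)`;
* it is `2` if `K` has index two in `H` and `C_H(x) ≤ K`.
-/
import Mathlib
import Cfsg.Agent.Lib.Helper43.SplitClass

set_option autoImplicit false

namespace Cfsg.Agent.Lib.Helper43

variable {X : Type*} [Group X]

theorem splitClassCount_eq_one_of_cover (H K : Subgroup X) (x : X)
    (h : ∀ a ∈ H, ∃ c ∈ H ⊓ Subgroup.centralizer {x}, a * c ∈ K) :
    Cfsg.splitClassCount H K x = 1 := by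
  unfold Cfsg.splitClassCount
  rw [Nat.card_eq_one_iff_unique]
  have key : ∀ y : {y : X // Cfsg.IsConjUnder H x y}, Cfsg.IsConjUnder K x y.1 := by
    rintro ⟨y, a, ha, rfl⟩
    obtain ⟨c, hc, hac⟩ := h a ha
    refine ⟨a * c, hac, ?_⟩
    have hcx : x * c = c * x :=
      (Subgroup.mem_centralizer_iff.mp (Subgroup.mem_inf.mp hc).2) x rfl
    show a * x * a⁻¹ = a * c * x * (a * c)⁻¹
    rw [_root_.mul_inv_rev]
    calc a * x * a⁻¹ = a * (x * c) * c⁻¹ * a⁻¹ := by group
      _ = a * (c * x) * c⁻¹ * a⁻¹ := by rw [hcx]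
      _ = _ := by group
  constructor
  · constructor
    intro a b
    induction a using Quot.inductionOn with
    | _ y =>
    induction b using Quot.inductionOn with
    | _ z =>
    apply Quot.sound
    exact isConjUnder_trans (isConjUnder_symm (key y)) (key z)
  · exact ⟨Quot.mk _ ⟨x, isConjUnder_refl H x⟩⟩

theorem splitClassCount_eq_two_of_le (H K : Subgroup X) (x : X) (hKH : K ≤ H)
    (hidx : K.relIndex H = 2) (hcent : H ⊓ Subgroup.centralizer {x} ≤ K) :
    Cfsg.splitClassCount H K x = 2 := by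
  have hidx' : (K.subgroupOf H).index = 2 := hidx
  have hN : (K.subgroupOf H).Normal := Subgroup.normal_of_index_eq_two hidx'
  rw [splitClassCount_eq_card H K x H.subtype H.range_subtype
    (fun g : ↥H => (QuotientGroup.mk g : ↥H ⧸ K.subgroupOf H)) QuotientGroup.mk_surjective]
  · exact hidx'
  · intro g g'
    show (QuotientGroup.mk g : ↥H ⧸ K.subgroupOf H) = QuotientGroup.mk g' ↔ _
    rw [QuotientGroup.eq]
    constructor
    · intro hmem
      have h1 : g * (g⁻¹ * g') * g⁻¹ ∈ K.subgroupOf H := hN.conj_mem _ hmem g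
      have h2 : g * (g⁻¹ * g') * g⁻¹ = g' * g⁻¹ := by group
      rw [h2, Subgroup.mem_subgroupOf] at h1
      refine ⟨_, h1, ?_⟩
      show (g' : X) * x * (g' : X)⁻¹ = ((g' * g⁻¹ : ↥H) : X) * ((g : X) * x * (g : X)⁻¹) *
        ((g' * g⁻¹ : ↥H) : X)⁻¹
      rw [Subgroup.coe_mul, Subgroup.coe_inv]
      group
    · rintro ⟨k, hk, hz⟩
      have hz' : (g' : X) * x * (g' : X)⁻¹ = k * ((g : X) * x * (g : X)⁻¹) * k⁻¹ := hz
      have hkH : k ∈ H := hKH hk
      set c : X := (g' : X)⁻¹ * k * (g : X) with hc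
      have hcH : c ∈ H := H.mul_mem (H.mul_mem (H.inv_mem g'.2) hkH) g.2
      have hcx : c * x * c⁻¹ = x := by
        have : c * x * c⁻¹ = (g' : X)⁻¹ * (k * ((g : X) * x * (g : X)⁻¹) * k⁻¹) * (g' : X) := by
          rw [hc]; group
        rw [this, ← hz']
        group
      have hcK : c ∈ K := by
        apply hcent
        refine Subgroup.mem_inf.mpr ⟨hcH, ?_⟩
        rw [Subgroup.mem_centralizer_iff]
        intro y hy
        rw [Set.mem_singleton_iff] at hy
        subst hy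
        calc y * c = (c * y * c⁻¹) * c := by rw [hcx]
          _ = c * y := by group
      -- `g⁻¹ g' = (g⁻¹ k g) c⁻¹`
      have h3 : (⟨k, hkH⟩ : ↥H) ∈ K.subgroupOf H := by
        rw [Subgroup.mem_subgroupOf]; exact hk
      have h4 : g⁻¹ * ⟨k, hkH⟩ * g⁻¹⁻¹ ∈ K.subgroupOf H := hN.conj_mem _ h3 g⁻¹
      have h5 : (⟨c, hcH⟩ : ↥H) ∈ K.subgroupOf H := by
        rw [Subgroup.mem_subgroupOf]; exact hcK
      have h6 : g⁻¹ * g' = (g⁻¹ * ⟨k, hkH⟩ * g⁻¹⁻¹) * (⟨c, hcH⟩ : ↥H)⁻¹ := by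
        apply Subtype.ext
        simp only [Subgroup.coe_mul, Subgroup.coe_inv, hc]
        group
      rw [h6]
      exact Subgroup.mul_mem _ h4 (Subgroup.inv_mem _ h5)

end Cfsg.Agent.Lib.Helper43
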