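/-
helper43: the centraliser of a standard field automorphism `φ_σ` in `PGO(Q) ≤ Aut(PΩ(Q))` is the
image of the similarity group of the corresponding form over the fixed field of `σ`, and is
isomorphic to `PGO` of that form.
-/
import Mathlib
import Cfsg.Agent.Lib.Helper43.OFieldCoset

set_option autoImplicit false

namespace Cfsg.Agent.Lib.Helper43

open scoped MatrixGroups Matrix
open Matrix Cfsg.Agent.Lib.Helper45.PSLField Cfsg.Agent.Lib.Helper36 Cfsg.Agent.Lib.Helper44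

variable {ι : Type} [Fintype ι] [DecidableEq ι] {F : Type*} [Field F] {F₀ : Type*} [Field F₀]

/-- the two forms have the same Gram matrix along `j` -/
def GramCompat (j : F₀ →+* F) (Q₀ : (ι → F₀) → F₀) (Q : (ι → F) → F) : Prop :=
  (gramStd Q₀).map j = gramStd Q

theorem two_ne_zero_of_hom (j : F₀ →+* F) (h2 : (2 : F) ≠ 0) : (2 : F₀) ≠ 0 := by
  intro h
  apply h2
  have := congrArg j h
  rw [map_ofNat, map_zero] at this
  exact this

theorem gramStd_det_ne_zero_of_compat (j : F₀ →+* F) {Q₀ : (ι → F₀) → F₀} {Q : (ι → F) → F}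
    (hS : GramCompat j Q₀ Q) (hdet : (gramStd Q).det ≠ 0) : (gramStd Q₀).det ≠ 0 := by
  intro h0
  apply hdet
  rw [← hS]
  have := RingHom.map_det j (gramStd Q₀)
  rw [h0, map_zero] at this
  exact this.symm

omit [Fintype ι] [DecidableEq ι] in
theorem smul_map_hom (j : F₀ →+* F) (c : F₀) (M : Matrix ι ι F₀) :
    (c • M).map j = j c • M.map j := by
  ext k l
  rw [Matrix.map_apply, Matrix.smul_apply, Matrix.smul_apply, Matrix.map_apply, smul_eq_mul,
    smul_eq_mul, map_mul]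

omit [Fintype ι] [DecidableEq ι] in
theorem map_hom_injective (j : F₀ →+* F) :
    Function.Injective (fun M : Matrix ι ι F₀ => M.map j) := by
  intro M N hMN
  ext k l
  apply j.injective
  exact congrFun (congrFun hMN k) l

theorem glMap_mem_quadSim_of_hom (Q₀ : QuadraticForm F₀ (ι → F₀)) (Q : QuadraticForm F (ι → F))
    (j : F₀ →+* F) (hS : GramCompat j (⇑Q₀) (⇑Q)) (h2 : (2 : F) ≠ 0)
    (hdet : (gramStd (⇑Q)).det ≠ 0) (A : GL ι F₀) (hA : A ∈ Cfsg.Geo.quadSimilarityGroup (⇑Q₀)) :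
    Matrix.GeneralLinearGroup.map j A ∈ Cfsg.Geo.quadSimilarityGroup (⇑Q) := by
  obtain ⟨c, hc⟩ := quadSim_gram Q₀ ⟨A, hA⟩
  have h1 := congrArg (fun M : Matrix ι ι F₀ => M.map j) hc
  simp only [Matrix.map_mul, Matrix.transpose_map, smul_map_hom] at h1
  rw [hS] at h1
  have hc0 : j (c : F₀) ≠ 0 := (map_ne_zero j).mpr c.ne_zero
  obtain ⟨g, hg⟩ := exists_quadSim_of_gram Q h2 hdet _ _ hc0 h1
  have : (g : GL ι F) = Matrix.GeneralLinearGroup.map j A := Units.ext hg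
  rw [← this]
  exact g.2

/-- `GO(Q₀) → GO(Q)` along a field embedding -/
noncomputable def simSub (Q₀ : QuadraticForm F₀ (ι → F₀)) (Q : QuadraticForm F (ι → F))
    (j : F₀ →+* F) (hS : GramCompat j (⇑Q₀) (⇑Q)) (h2 : (2 : F) ≠ 0)
    (hdet : (gramStd (⇑Q)).det ≠ 0) :
    ↥(Cfsg.Geo.quadSimilarityGroup (⇑Q₀)) →* ↥(Cfsg.Geo.quadSimilarityGroup (⇑Q)) where
  toFun A := ⟨Matrix.GeneralLinearGroup.map j A.1, glMap_mem_quadSim_of_hom Q₀ Q j hS h2 hdet A.1 A.2⟩
  map_one' := by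
    apply Subtype.ext
    show Matrix.GeneralLinearGroup.map j (1 : GL ι F₀) = 1
    rw [map_one]
  map_mul' a b := by
    apply Subtype.ext
    show Matrix.GeneralLinearGroup.map j (a.1 * b.1) = _
    rw [map_mul]
    rfl

section

variable (Q₀ : QuadraticForm F₀ (ι → F₀)) (Q : QuadraticForm F (ι → F))
  (j : F₀ →+* F) (hS : GramCompat j (⇑Q₀) (⇑Q)) (h2 : (2 : F) ≠ 0)
  (hdet : (gramStd (⇑Q)).det ≠ 0)

theorem simSub_coe (A : ↥(Cfsg.Geo.quadSimilarityGroup (⇑Q₀))) :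
    (((simSub Q₀ Q j hS h2 hdet A : ↥(Cfsg.Geo.quadSimilarityGroup (⇑Q))) : GL ι F) :
      Matrix ι ι F) = ((A : GL ι F₀) : Matrix ι ι F₀).map j := rfl

/-- automorphisms of `PΩ(Q)` coming from similarities over the subfield -/
noncomputable def subSim : ↥(Cfsg.Geo.quadSimilarityGroup (⇑Q₀)) →* MulAut (Cfsg.POmega F (⇑Q)) :=
  (simAut (⇑Q)).comp (simSub Q₀ Q j hS h2 hdet)

theorem subSim_apply (A : ↥(Cfsg.Geo.quadSimilarityGroup (⇑Q₀))) :
    subSim Q₀ Q j hS h2 hdet A = simAut (⇑Q) (simSub Q₀ Q j hS h2 hdet A) := rfl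

theorem simMap_simSub (hQ : FieldCompat (⇑Q)) (σ : RingAut F) (hj : ∀ a, σ (j a) = j a)
    (A : ↥(Cfsg.Geo.quadSimilarityGroup (⇑Q₀))) :
    simMap hQ σ (simSub Q₀ Q j hS h2 hdet A) = simSub Q₀ Q j hS h2 hdet A := by
  apply Subtype.ext
  apply Units.ext
  rw [simMap_coe, simSub_coe]
  ext k l
  rw [Matrix.map_apply, Matrix.map_apply]
  exact hj _

theorem subSim_comm (hQ : FieldCompat (⇑Q)) (σ : RingAut F) (hj : ∀ a, σ (j a) = j a)
    (A : ↥(Cfsg.Geo.quadSimilarityGroup (⇑Q₀))) :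
    oField hQ σ * subSim Q₀ Q j hS h2 hdet A = subSim Q₀ Q j hS h2 hdet A * oField hQ σ := by
  rw [subSim_apply, oField_mul_simAut, simMap_simSub Q₀ Q j hS h2 hdet hQ σ hj]

/-- scalar similarities -/
theorem simAut_eq_one_iff_scalar {hQ : FieldCompat (⇑Q)} (hker : OKernelProp hQ)
    (g : ↥(Cfsg.Geo.quadSimilarityGroup (⇑Q))) :
    simAut (⇑Q) g = 1 ↔ ∃ c : F, ((g : GL ι F) : Matrix ι ι F) = c • (1 : Matrix ι ι F) := by
  constructor
  · intro h
    have h1 : simAut (⇑Q) g * oField hQ 1 = 1 := by rw [map_one, mul_one, h]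
    obtain ⟨c, hc⟩ := (hker g 1 h1).2
    exact ⟨c, matrix_eq_smul_one_of_mulVec _ c hc⟩
  · rintro ⟨c, hc⟩
    exact simAut_eq_one_of_scalar (⇑Q) g c hc

theorem simAut_eq_of_smul (g g' : ↥(Cfsg.Geo.quadSimilarityGroup (⇑Q))) (b : F) (hb : b ≠ 0)
    (h : ((g' : GL ι F) : Matrix ι ι F) = b • ((g : GL ι F) : Matrix ι ι F)) :
    simAut (⇑Q) g' = simAut (⇑Q) g := by
  obtain ⟨sb, hsb⟩ := exists_scalar_quadSim Q b hb
  have : g' = sb * g := by
    apply Subtype.ext
    apply Units.ext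
    rw [Subgroup.coe_mul, Units.val_mul, hsb, h, Matrix.smul_mul, Matrix.one_mul]
  rw [this, map_mul, simAut_eq_one_of_scalar (⇑Q) sb b hsb, one_mul]

/-- the kernel of `subSim`: the scalar matrices -/
theorem subSim_eq_one_iff [Nonempty ι] {hQ : FieldCompat (⇑Q)} (hker : OKernelProp hQ)
    (A : ↥(Cfsg.Geo.quadSimilarityGroup (⇑Q₀))) :
    subSim Q₀ Q j hS h2 hdet A = 1 ↔
      ∃ c : F₀, ((A : GL ι F₀) : Matrix ι ι F₀) = c • (1 : Matrix ι ι F₀) := by
  rw [subSim_apply, simAut_eq_one_iff_scalar Q hker, simSub_coe]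
  set A' : Matrix ι ι F₀ := ((A : GL ι F₀) : Matrix ι ι F₀) with hA'
  constructor
  · rintro ⟨c, hc⟩
    have hdiag : ∀ k, j (A' k k) = c := by
      intro k
      have := congrFun (congrFun hc k) k
      simpa using this
    have hoff : ∀ k l, k ≠ l → A' k l = 0 := by
      intro k l hkl
      have := congrFun (congrFun hc k) l
      rw [Matrix.map_apply, Matrix.smul_apply, Matrix.one_apply_ne hkl, smul_zero] at this
      exact (map_eq_zero j).mp this
    obtain ⟨k₀⟩ := ‹Nonempty ι›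
    refine ⟨A' k₀ k₀, ?_⟩
    ext k l
    by_cases hkl : k = l
    · subst hkl
      rw [Matrix.smul_apply, Matrix.one_apply_eq, smul_eq_mul, mul_one]
      apply j.injective
      rw [hdiag, hdiag]
    · rw [Matrix.smul_apply, Matrix.one_apply_ne hkl, smul_zero]
      exact hoff k l hkl
  · rintro ⟨c, hc⟩
    refine ⟨j c, ?_⟩
    rw [hc, smul_map_hom]
    congr 1
    ext k l
    by_cases hkl : k = l
    · subst hkl; simp
    · simp [Matrix.one_apply_ne hkl]

/-- the centraliser of `φ_σ` in `PGO(Q)` is the image of `GO(Q₀)` -/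
theorem mem_pgo_centralizer_iff [Finite F] [Nonempty ι] (hQ : FieldCompat (⇑Q))
    (hker : OKernelProp hQ) (σ : RingAut F) {r : ℕ} (hr : 0 < r) (hσ : orderOf σ = r)
    (hj : ∀ a : F, σ a = a ↔ ∃ b, j b = a) (β : MulAut (Cfsg.POmega F (⇑Q))) :
    β ∈ Cfsg.pgoAut F (⇑Q) ⊓ Subgroup.centralizer {oField hQ σ} ↔
      ∃ A : ↥(Cfsg.Geo.quadSimilarityGroup (⇑Q₀)), subSim Q₀ Q j hS h2 hdet A = β := by
  have hj' : ∀ a, σ (j a) = j a := fun a => (hj (j a)).mpr ⟨a, rfl⟩
  have h2₀ : (2 : F₀) ≠ 0 := two_ne_zero_of_hom j h2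
  have hdet₀ : (gramStd (⇑Q₀)).det ≠ 0 := gramStd_det_ne_zero_of_compat j hS hdet
  rw [Subgroup.mem_inf]
  constructor
  · rintro ⟨hβ1, hβ2⟩
    rw [pgoAut_eq] at hβ1
    obtain ⟨g, rfl⟩ := hβ1
    have hc : oField hQ σ * simAut (⇑Q) g = simAut (⇑Q) g * oField hQ σ :=
      (Subgroup.mem_centralizer_iff.mp hβ2) _ rfl
    rw [oField_mul_simAut] at hc
    have hc2 := mul_right_cancel hc
    have hc3 : simAut (⇑Q) (g⁻¹ * simMap hQ σ g) = 1 := by
      rw [map_mul, map_inv, hc2, inv_mul_cancel]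
    obtain ⟨c, hc4⟩ := (simAut_eq_one_iff_scalar Q hker _).mp hc3
    set G : Matrix ι ι F := ((g : GL ι F) : Matrix ι ι F) with hG
    have hsemi : G.map σ = c • G := by
      have h5 : ((g : GL ι F) : Matrix ι ι F) * (((g⁻¹ * simMap hQ σ g :
          ↥(Cfsg.Geo.quadSimilarityGroup (⇑Q))) : GL ι F) : Matrix ι ι F) = G.map σ := by
        rw [← Units.val_mul, ← Subgroup.coe_mul, mul_inv_cancel_left]
        rfl
      rw [← h5, hc4, Matrix.mul_smul, Matrix.mul_one]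
    have hG0 : G ≠ 0 := by
      intro h0
      have h1 : G.det ≠ 0 := ((Matrix.isUnit_iff_isUnit_det _).mp (g : GL ι F).isUnit).ne_zero
      rw [h0, Matrix.det_zero] at h1
      exact h1 rfl
    obtain ⟨b, hb0, hb⟩ := exists_fixed_multiple σ hr hσ G hG0 _ hsemi
    have hent : ∀ k l, ∃ a : F₀, j a = b * G k l := by
      intro k l
      apply (hj _).mp
      have := congrFun (congrFun hb k) l
      simpa using this
    choose a ha using hent
    have hmap : (Matrix.of a).map j = b • G := by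
      ext k l
      rw [Matrix.map_apply, Matrix.of_apply, ha, Matrix.smul_apply, smul_eq_mul]
    -- the multiplier
    obtain ⟨μ, hμ⟩ := quadSim_gram Q g
    set S : Matrix ι ι F := gramStd (⇑Q) with hSdef
    have hbG : (b • G)ᵀ * S * (b • G) = (b * b * (μ : F)) • S := by
      rw [Matrix.transpose_smul, Matrix.smul_mul, Matrix.smul_mul, Matrix.mul_smul, hμ, smul_smul,
        smul_smul]
    have hSσ : S.map σ = S := gramStd_map_of_fieldCompat hQ σ
    have hS0 : ∃ k l, S k l ≠ 0 := by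
      by_contra hh
      push Not at hh
      apply hdet
      have : S = 0 := by
        ext k l
        exact hh k l
      rw [this, Matrix.det_zero]
    have hνfix : σ (b * b * (μ : F)) = b * b * (μ : F) := by
      have h1 := congrArg (fun M : Matrix ι ι F => M.map σ) hbG
      have h3 : ((b • G)ᵀ * S * (b • G)).map σ =
          ((b • G).map σ)ᵀ * S.map σ * (b • G).map σ := by
        rw [Matrix.map_mul, Matrix.map_mul, Matrix.transpose_map]
      rw [h3, hb, hSσ, hbG] at h1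
      obtain ⟨k, l, hkl⟩ := hS0
      have h4 := congrFun (congrFun h1 k) l
      rw [Matrix.map_apply, Matrix.smul_apply, smul_eq_mul, map_mul] at h4
      have h5 : σ (S k l) = S k l := by
        have := congrFun (congrFun hSσ k) l
        rwa [Matrix.map_apply] at this
      rw [h5] at h4
      exact (mul_right_cancel₀ hkl h4).symm
    obtain ⟨ν, hν⟩ := (hj _).mp hνfix
    have hν0 : ν ≠ 0 := by
      intro h0
      rw [h0, map_zero] at hν
      exact (mul_ne_zero (mul_ne_zero hb0 hb0) μ.ne_zero) hν.symm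
    have hA₀ : (Matrix.of a)ᵀ * gramStd (⇑Q₀) * Matrix.of a = ν • gramStd (⇑Q₀) := by
      apply map_hom_injective j
      show ((Matrix.of a)ᵀ * gramStd (⇑Q₀) * Matrix.of a).map j = (ν • gramStd (⇑Q₀)).map j
      rw [Matrix.map_mul, Matrix.map_mul, Matrix.transpose_map, smul_map_hom, hS, hmap, hbG, hν]
    obtain ⟨Ag, hAg⟩ := exists_quadSim_of_gram Q₀ h2₀ hdet₀ (Matrix.of a) ν hν0 hA₀
    refine ⟨Ag, ?_⟩
    rw [subSim_apply]
    apply simAut_eq_of_smul Q g _ b hb0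
    rw [simSub_coe, hAg, hmap]
  · rintro ⟨A, rfl⟩
    refine ⟨simAut_mem_pgoAut (⇑Q) _, ?_⟩
    rw [Subgroup.mem_centralizer_iff]
    intro h hh
    rw [Set.mem_singleton_iff] at hh
    subst hh
    exact subSim_comm Q₀ Q j hS h2 hdet hQ σ hj' A

include hS h2 hdet in
/-- `C_{PGO(Q)}(φ_σ) ≅ PGO(Q₀)` -/
theorem nonempty_centralizer_equiv_o [Finite F] [Nonempty ι] (hQ : FieldCompat (⇑Q))
    (hker : OKernelProp hQ) {hQ₀ : FieldCompat (⇑Q₀)} (hker₀ : OKernelProp hQ₀)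
    (σ : RingAut F) {r : ℕ} (hr : 0 < r) (hσ : orderOf σ = r)
    (hj : ∀ a : F, σ a = a ↔ ∃ b, j b = a) :
    Nonempty (↥(Cfsg.pgoAut F (⇑Q) ⊓ Subgroup.centralizer {oField hQ σ}) ≃*
      ↥(Cfsg.pgoAut F₀ (⇑Q₀))) := by
  have h1 : Cfsg.pgoAut F (⇑Q) ⊓ Subgroup.centralizer {oField hQ σ} =
      (subSim Q₀ Q j hS h2 hdet).range := by
    ext β
    rw [mem_pgo_centralizer_iff Q₀ Q j hS h2 hdet hQ hker σ hr hσ hj]
    rfl
  have h3 : (subSim Q₀ Q j hS h2 hdet).ker = (simAut (⇑Q₀)).ker := by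
    ext A
    rw [MonoidHom.mem_ker, MonoidHom.mem_ker, subSim_eq_one_iff Q₀ Q j hS h2 hdet hker,
      simAut_eq_one_iff_scalar Q₀ hker₀]
  have h4 : Cfsg.pgoAut F₀ (⇑Q₀) = (simAut (⇑Q₀)).range := pgoAut_eq _
  exact ⟨(MulEquiv.subgroupCongr h1).trans
    ((QuotientGroup.quotientKerEquivRange (subSim Q₀ Q j hS h2 hdet)).symm.trans
      ((QuotientGroup.quotientMulEquivOfEq h3).trans
        ((QuotientGroup.quotientKerEquivRange (simAut (⇑Q₀))).trans
          (MulEquiv.subgroupCongr h4.symm))))⟩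

end

end Cfsg.Agent.Lib.Helper43
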