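/-
helper43: spinor norms and subfields, for the splitting of the class of a field automorphism of
`Ω_{2m+1}(F)`:
* in odd dimension a rotation induces an inner automorphism of `PΩ` iff its spinor norm is one;
* reflection matrices commute with ring homomorphisms;
* if every element of the subfield `F₀` is a square in `F`, every isometry defined over `F₀` has
  trivial spinor norm over `F`;
* a product of two reflections in vectors fixed by `σ` gives an element of the centraliser of
  `φ_σ` of prescribed spinor norm.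
-/
import Mathlib
import Cfsg.Agent.Lib.Helper43.OSubfield
import Cfsg.Agent.Lib.Helper43.OSplitAbs
import Cfsg.Agent.Lib.Helper36.AutO.OddAut

set_option autoImplicit false

namespace Cfsg.Agent.Lib.Helper43

open scoped MatrixGroups Matrix
open Matrix Cfsg.Agent.Lib.Helper45.PSLField Cfsg.Agent.Lib.Helper36 Cfsg.Agent.Lib.Helper44
open Cfsg.Agent.Lib.Helper13 (spin spin_one spin_refl spin_refl_mul reflLin reflLin_apply reflSet
  reflGroup isoGroup_le_reflGroup par par_refl par_refl_mul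
  exists_ne_ne_of_two_ne_zero)

variable {ι : Type} [Fintype ι] [DecidableEq ι] {F : Type*} [Field F] {F₀ : Type*} [Field F₀]

section Hom

/-- reflection matrices commute with ring homomorphisms -/
theorem reflectionMatrix_map (j : F₀ →+* F) (Q₀ : (ι → F₀) → F₀) (Q : (ι → F) → F)
    (hj : ∀ v : ι → F₀, Q (fun i => j (v i)) = j (Q₀ v)) (v : ι → F₀) :
    (Cfsg.reflectionMatrix Q₀ v).map j = Cfsg.reflectionMatrix Q (fun i => j (v i)) := by
  have hsingle : ∀ l : ι, (fun i => j ((Pi.single l (1 : F₀) : ι → F₀) i)) =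
      (Pi.single l (1 : F) : ι → F) := by
    intro l
    funext i
    by_cases h : i = l
    · subst h; simp
    · simp [h]
  have hpv : ∀ l : ι, j (Cfsg.polarVec Q₀ v l) = Cfsg.polarVec Q (fun i => j (v i)) l := by
    intro l
    unfold Cfsg.polarVec QuadraticMap.polar
    rw [map_sub, map_sub, ← hj, ← hj, ← hj, hsingle]
    congr 3
    funext i
    rw [Pi.add_apply, map_add, Pi.add_apply]
    congr 1
    exact congrFun (hsingle l) i
  ext k l
  unfold Cfsg.reflectionMatrix
  rw [Matrix.map_apply, Matrix.sub_apply, Matrix.sub_apply, Matrix.smul_apply, Matrix.smul_apply,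
    Matrix.vecMulVec_apply, Matrix.vecMulVec_apply, map_sub, smul_eq_mul, smul_eq_mul, map_mul,
    map_mul, map_inv₀, hj, hpv]
  congr 1
  by_cases hkl : k = l
  · subst hkl; simp
  · simp [Matrix.one_apply_ne hkl]

end Hom

section Spin

variable [Fintype F] [DecidableEq F]

/-- in odd dimension a rotation induces an inner automorphism of `PΩ` iff its spinor norm is `1` -/
theorem simAut_mem_Inn_iff_spin_odd (Q : QuadraticForm F (ι → F))
    (hQ : (QuadraticMap.polarBilin Q).Nondegenerate) (h2 : (2 : F) ≠ 0)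
    (hdim : 5 ≤ Fintype.card ι) (k : ℕ) (hcard : Fintype.card ι = 2 * k + 1)
    (g : ↥(Cfsg.Geo.quadSimilarityGroup (⇑Q)))
    (hg : (g : GL ι F) ∈ Cfsg.specialIsometryGL F (⇑Q)) :
    simAut (⇑Q) g ∈ Cfsg.Inn (Cfsg.POmega F (⇑Q)) ↔
      spin Q (glLinEquiv ι F (g : GL ι F)) = 1 := by
  have hdim2 : 2 ≤ Fintype.card ι := by omega
  have hnegdet : Matrix.GeneralLinearGroup.det (negGL ι F) = -1 := by
    apply Units.ext
    rw [Matrix.GeneralLinearGroup.val_det_apply, negGL_coe, Matrix.det_neg, Matrix.det_one,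
      hcard, pow_succ, pow_mul]
    simp
  have hne : (-1 : Fˣ) ≠ 1 := by
    intro h
    have := congrArg Units.val h
    rw [Units.val_neg, Units.val_one] at this
    apply h2
    linear_combination -this
  rw [← mem_OmegaGL_iff_spin Q hQ h2 hdim2 _ hg]
  constructor
  · intro h
    rcases mem_or_neg_mem_of_simAut_mem_Inn Q hQ h2 hdim g hg.1 h with h' | h'
    · exact h'
    · exfalso
      have h3 := OmegaGL_le_special (⇑Q) h'
      have h4 : Matrix.GeneralLinearGroup.det (negGL ι F * (g : GL ι F)) = 1 := h3.2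
      have h5 : Matrix.GeneralLinearGroup.det (g : GL ι F) = 1 := hg.2
      rw [map_mul, hnegdet, h5, mul_one] at h4
      exact hne h4
  · exact simAut_mem_Inn_of_mem (⇑Q) g

/-- a product of two reflections, as a rotation with known matrix and spinor norm -/
theorem exists_special_two_refl (Q : QuadraticForm F (ι → F))
    (hQ : (QuadraticMap.polarBilin Q).Nondegenerate) (h2 : (2 : F) ≠ 0)
    (v₁ v₂ : ι → F) (hv₁ : Q v₁ ≠ 0) (hv₂ : Q v₂ ≠ 0) :
    ∃ g₀ : GL ι F, g₀ ∈ Cfsg.specialIsometryGL F (⇑Q) ∧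
      (g₀ : Matrix ι ι F) = Cfsg.reflectionMatrix (⇑Q) v₁ * Cfsg.reflectionMatrix (⇑Q) v₂ ∧
      spin Q (glLinEquiv ι F g₀) = quadraticChar F (Q v₁) * quadraticChar F (Q v₂) := by
  have hT₂ : reflEquiv Q v₂ hv₂ ∈ Cfsg.Agent.Lib.Helper13.isoGroup Q :=
    Cfsg.Agent.Lib.Helper13.reflGroup_le_isoGroup Q (Subgroup.subset_closure (reflEquiv_mem Q v₂ hv₂))
  have hT₁ : reflEquiv Q v₁ hv₁ ∈ Cfsg.Agent.Lib.Helper13.isoGroup Q :=
    Cfsg.Agent.Lib.Helper13.reflGroup_le_isoGroup Q (Subgroup.subset_closure (reflEquiv_mem Q v₁ hv₁))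
  set T : (ι → F) ≃ₗ[F] (ι → F) := reflEquiv Q v₁ hv₁ * reflEquiv Q v₂ hv₂ with hT
  have hTiso : T ∈ Cfsg.Agent.Lib.Helper13.isoGroup Q := Subgroup.mul_mem _ hT₁ hT₂
  set g₀ : GL ι F := (glLinEquiv ι F).symm T with hg₀
  have hgT : glLinEquiv ι F g₀ = T := by rw [hg₀, MulEquiv.apply_symm_apply]
  have hg₀O : g₀ ∈ Cfsg.isometryGroup F (⇑Q) := by
    rw [mem_isometryGroup_iff_isoGroup, hgT]
    exact hTiso
  have hpar : par (glLinEquiv ι F g₀) = 0 := by
    rw [hgT, hT, par_refl_mul Q hQ _ hT₂ _ (reflEquiv_mem Q v₁ hv₁),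
      par_refl Q hQ _ (reflEquiv_mem Q v₂ hv₂)]
    decide
  have hspin : spin Q (glLinEquiv ι F g₀) = quadraticChar F (Q v₁) * quadraticChar F (Q v₂) := by
    rw [hgT, hT, spin_refl_mul Q hQ _ hT₂ v₁ hv₁ _ (fun _ => rfl),
      spin_refl Q hQ v₂ hv₂ _ (fun _ => rfl)]
  refine ⟨g₀, ⟨hg₀O, ?_⟩, ?_, hspin⟩
  · change Matrix.GeneralLinearGroup.det g₀ = 1
    apply Units.ext
    rw [Matrix.GeneralLinearGroup.val_det_apply, Units.val_one]
    exact (det_eq_one_iff_par Q hQ h2 g₀ hg₀O).mpr hpar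
  · apply matrix_eq_of_mulVec
    intro z
    rw [← glLinEquiv_apply, hgT, hT, ← Matrix.mulVec_mulVec, reflectionMatrix_mulVec_eq_reflLin,
      reflectionMatrix_mulVec_eq_reflLin]
    rfl

end Spin

end Cfsg.Agent.Lib.Helper43
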