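/-
helper43: isometries defined over a subfield all of whose elements are squares in `F` have trivial
spinor norm over `F`; elements of the centraliser of `φ_σ` with non-trivial spinor norm.
-/
import Mathlib
import Cfsg.Agent.Lib.Helper43.OSpin

set_option autoImplicit false

namespace Cfsg.Agent.Lib.Helper43

open scoped MatrixGroups Matrix
open Matrix Cfsg.Agent.Lib.Helper45.PSLField Cfsg.Agent.Lib.Helper36 Cfsg.Agent.Lib.Helper44
open Cfsg.Agent.Lib.Helper13 (spin spin_one spin_refl spin_refl_mul reflLin reflLin_apply reflSet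
  reflGroup isoGroup_le_reflGroup par par_refl par_refl_mul
  exists_ne_ne_of_two_ne_zero)

variable {ι : Type} [Fintype ι] [DecidableEq ι] {F : Type*} [Field F] {F₀ : Type*} [Field F₀]

section Closure

variable [Fintype F] [DecidableEq F]

/-- the subgroup of matrices over `F₀` which become isometries of trivial spinor norm over `F` -/
noncomputable def spinTrivSub (Q : QuadraticForm F (ι → F))
    (hQ : (QuadraticMap.polarBilin Q).Nondegenerate) (h2 : (2 : F) ≠ 0) (j : F₀ →+* F) :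
    Subgroup (GL ι F₀) where
  carrier := {A | Matrix.GeneralLinearGroup.map j A ∈ Cfsg.isometryGroup F (⇑Q) ∧
    spin Q (glLinEquiv ι F (Matrix.GeneralLinearGroup.map j A)) = 1}
  one_mem' := by
    refine ⟨?_, ?_⟩
    · rw [map_one]; exact Subgroup.one_mem _
    · rw [map_one, map_one]; exact spin_one Q
  mul_mem' := by
    rintro a b ⟨ha1, ha2⟩ ⟨hb1, hb2⟩
    refine ⟨?_, ?_⟩
    · rw [map_mul]; exact Subgroup.mul_mem _ ha1 hb1
    · rw [map_mul, spin_mul_matrix Q hQ h2 _ _ ha1 hb1, ha2, hb2, mul_one]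
  inv_mem' := by
    rintro a ⟨ha1, ha2⟩
    have hinv : Matrix.GeneralLinearGroup.map j a⁻¹ ∈ Cfsg.isometryGroup F (⇑Q) := by
      rw [map_inv]; exact Subgroup.inv_mem _ ha1
    refine ⟨hinv, ?_⟩
    have h1 := spin_mul_matrix Q hQ h2 _ _ ha1 hinv
    rw [← map_mul, mul_inv_cancel, map_one, map_one, spin_one, ha2, one_mul] at h1
    exact h1.symm

theorem mem_spinTrivSub_iff (Q : QuadraticForm F (ι → F))
    (hQ : (QuadraticMap.polarBilin Q).Nondegenerate) (h2 : (2 : F) ≠ 0) (j : F₀ →+* F)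
    (A : GL ι F₀) : A ∈ spinTrivSub Q hQ h2 j ↔
      (Matrix.GeneralLinearGroup.map j A ∈ Cfsg.isometryGroup F (⇑Q) ∧
        spin Q (glLinEquiv ι F (Matrix.GeneralLinearGroup.map j A)) = 1) := Iff.rfl

/-- if the elements of `F₀` are squares in `F`, the isometries over `F₀` have trivial spinor norm
over `F` -/
theorem spin_map_eq_one (Q₀ : QuadraticForm F₀ (ι → F₀)) (Q : QuadraticForm F (ι → F))
    (j : F₀ →+* F) (hj : ∀ v : ι → F₀, Q (fun i => j (v i)) = j (Q₀ v))
    (hQ₀ : (QuadraticMap.polarBilin Q₀).Nondegenerate)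
    (hQ : (QuadraticMap.polarBilin Q).Nondegenerate) (h2 : (2 : F) ≠ 0)
    (hsq : ∀ a : F₀, IsSquare (j a)) (A : GL ι F₀) (hA : A ∈ Cfsg.isometryGroup F₀ (⇑Q₀)) :
    Matrix.GeneralLinearGroup.map j A ∈ Cfsg.isometryGroup F (⇑Q) ∧
      spin Q (glLinEquiv ι F (Matrix.GeneralLinearGroup.map j A)) = 1 := by
  have h2₀ : (2 : F₀) ≠ 0 := two_ne_zero_of_hom j h2
  have hF₀ : (∀ a b : F₀, ∃ x : F₀, x ≠ a ∧ x ≠ b) ∨ Module.finrank F₀ (ι → F₀) ≠ 4 :=
    Or.inl (exists_ne_ne_of_two_ne_zero h2₀)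
  have hle : reflGroup Q₀ ≤ (spinTrivSub Q hQ h2 j).map
      ((glLinEquiv ι F₀ : GL ι F₀ ≃* _) : GL ι F₀ →* ((ι → F₀) ≃ₗ[F₀] (ι → F₀))) := by
    unfold Cfsg.Agent.Lib.Helper13.reflGroup
    rw [Subgroup.closure_le]
    rintro T ⟨v, hv, hT⟩
    refine ⟨(glLinEquiv ι F₀).symm T, ?_, ?_⟩
    · -- the matrix of `T` is a reflection matrix
      have hmat : (((glLinEquiv ι F₀).symm T : GL ι F₀) : Matrix ι ι F₀) =
          Cfsg.reflectionMatrix (⇑Q₀) v := by
        apply matrix_eq_of_mulVec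
        intro z
        rw [← glLinEquiv_apply, MulEquiv.apply_symm_apply, hT, reflectionMatrix_mulVec_eq_reflLin]
      set w : ι → F := fun i => j (v i) with hw
      have hQw : Q w = j (Q₀ v) := hj v
      have hw0 : Q w ≠ 0 := by
        rw [hQw]
        exact (map_ne_zero j).mpr hv
      obtain ⟨g, hgO, hg⟩ := exists_reflection_similarity Q w hw0
      have hmap : Matrix.GeneralLinearGroup.map j ((glLinEquiv ι F₀).symm T) = (g : GL ι F) := by
        apply Units.ext
        rw [hg]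
        show (((glLinEquiv ι F₀).symm T : GL ι F₀) : Matrix ι ι F₀).map j = _
        rw [hmat]
        exact reflectionMatrix_map j (⇑Q₀) (⇑Q) hj v
      show (glLinEquiv ι F₀).symm T ∈ spinTrivSub Q hQ h2 j
      rw [mem_spinTrivSub_iff, hmap]
      refine ⟨hgO, ?_⟩
      rw [spin_refl Q hQ w hw0 (glLinEquiv ι F (g : GL ι F))
        (fun z => by rw [glLinEquiv_apply, hg, reflectionMatrix_mulVec_eq_reflLin]), hQw]
      rw [quadraticChar_one_iff_isSquare ((map_ne_zero j).mpr hv)]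
      exact hsq _
    · exact MulEquiv.apply_symm_apply _ T
  have hmem : glLinEquiv ι F₀ A ∈ reflGroup Q₀ :=
    isoGroup_le_reflGroup Q₀ hQ₀ hF₀ ((mem_isometryGroup_iff_isoGroup Q₀ A).mp hA)
  obtain ⟨A', hA', hAA'⟩ := hle hmem
  have : A' = A := (glLinEquiv ι F₀).injective hAA'
  rw [this] at hA'
  exact hA'

end Closure

end Cfsg.Agent.Lib.Helper43
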