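/-
helper43: the number of `Inn`-classes in the `PGO`-class of a standard field automorphism `φ_σ` of
`PΩ(Q)`, `Q` of odd dimension: one if `σ` fixes a non-square, two if all fixed elements are squares.
-/
import Mathlib
import Cfsg.Agent.Lib.Helper43.OSpin2
import Cfsg.Agent.Lib.Helper45.PSLField.SplitAbs

set_option autoImplicit false

namespace Cfsg.Agent.Lib.Helper43

open scoped MatrixGroups Matrix
open Matrix Cfsg.Agent.Lib.Helper45.PSLField Cfsg.Agent.Lib.Helper36 Cfsg.Agent.Lib.Helper44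
open Cfsg.Agent.Lib.Helper13 (spin)

section Abs

variable {X : Type*} [Group X]

theorem splitClassCount_eq_one_of_relIndex_two (H K : Subgroup X) (x : X)
    (hidx : K.relIndex H = 2) (c₀ : X) (hc₀ : c₀ ∈ H ⊓ Subgroup.centralizer {x})
    (hc₀K : c₀ ∉ K) : Cfsg.splitClassCount H K x = 1 := by
  apply splitClassCount_eq_one_of_cover
  intro a ha
  by_cases haK : a ∈ K
  · exact ⟨1, Subgroup.one_mem _, by rwa [mul_one]⟩
  · refine ⟨c₀, hc₀, ?_⟩
    have hidx' : (K.subgroupOf H).index = 2 := hidx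
    have hc₀H : c₀ ∈ H := (Subgroup.mem_inf.mp hc₀).1
    have h1 := Subgroup.mul_mem_iff_of_index_two hidx' (a := (⟨a, ha⟩ : ↥H))
      (b := (⟨c₀, hc₀H⟩ : ↥H))
    rw [Subgroup.mem_subgroupOf, Subgroup.mem_subgroupOf, Subgroup.mem_subgroupOf] at h1
    exact h1.mpr ⟨fun h => absurd h haK, fun h => absurd h hc₀K⟩

/-- transfer of the centraliser in `H` along conjugation by an element normalising `H` -/
theorem nonempty_centralizer_conj_equiv_abs (H : Subgroup X) (α x : X)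
    (hH : ∀ h, h ∈ H ↔ α * h * α⁻¹ ∈ H) :
    Nonempty (↥(H ⊓ Subgroup.centralizer {x}) ≃*
      ↥(H ⊓ Subgroup.centralizer {α * x * α⁻¹})) := by
  have h1 : (H ⊓ Subgroup.centralizer {x}).map
      ((MulAut.conj α : X ≃* X) : X →* X) = H ⊓ Subgroup.centralizer {α * x * α⁻¹} := by
    ext β
    rw [Subgroup.mem_map, Subgroup.mem_inf]
    constructor
    · rintro ⟨γ, hγ, rfl⟩
      rw [Subgroup.mem_inf] at hγ
      obtain ⟨hγ1, hγ2⟩ := hγ
      refine ⟨(hH γ).mp hγ1, ?_⟩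
      rw [Subgroup.mem_centralizer_iff] at hγ2 ⊢
      intro h hh
      rw [Set.mem_singleton_iff] at hh
      subst hh
      have := hγ2 x rfl
      show α * x * α⁻¹ * (α * γ * α⁻¹) = α * γ * α⁻¹ * (α * x * α⁻¹)
      calc α * x * α⁻¹ * (α * γ * α⁻¹) = α * (x * γ) * α⁻¹ := by group
        _ = α * (γ * x) * α⁻¹ := by rw [this]
        _ = _ := by group
    · rintro ⟨hβ1, hβ2⟩
      refine ⟨α⁻¹ * β * α, Subgroup.mem_inf.mpr ⟨?_, ?_⟩, ?_⟩
      · rw [hH]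
        have : α * (α⁻¹ * β * α) * α⁻¹ = β := by group
        rwa [this]
      · rw [Subgroup.mem_centralizer_iff] at hβ2 ⊢
        intro h hh
        rw [Set.mem_singleton_iff] at hh
        subst hh
        have := hβ2 _ rfl
        calc h * (α⁻¹ * β * α) = α⁻¹ * (α * h * α⁻¹ * β) * α := by group
          _ = α⁻¹ * (β * (α * h * α⁻¹)) * α := by rw [this]
          _ = _ := by group
      · show α * (α⁻¹ * β * α) * α⁻¹ = β
        group
  exact ⟨((MulAut.conj α : X ≃* X).subgroupMap _).trans (MulEquiv.subgroupCongr h1)⟩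

end Abs

variable {ι : Type} [Fintype ι] [DecidableEq ι] {F : Type*} [Field F] {F₀ : Type*} [Field F₀]

section Count

variable [Fintype F] [DecidableEq F]

theorem relIndex_Inn_pgoAut_odd (Q : QuadraticForm F (ι → F))
    (hnd : (QuadraticMap.polarBilin Q).Nondegenerate) (h2 : (2 : F) ≠ 0)
    (hdim : 5 ≤ Fintype.card ι) (k : ℕ) (hcard : Fintype.card ι = 2 * k + 1) :
    (Cfsg.Inn (Cfsg.POmega F (⇑Q))).relIndex (Cfsg.pgoAut F (⇑Q)) = 2 := by
  rw [Cfsg.Agent.Lib.Helper36.AutO.pgoAut_eq_psoAut_odd Q hnd k hcard]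
  exact Cfsg.Agent.Lib.Helper36.AutO.relIndex_Inn_psoAut_odd Q hnd h2 hdim k hcard

/-- a product of two reflections in `σ`-fixed vectors centralises `φ_σ` -/
theorem exists_centralizing_noninner (Q : QuadraticForm F (ι → F)) (hQ : FieldCompat (⇑Q))
    (hnd : (QuadraticMap.polarBilin Q).Nondegenerate) (h2 : (2 : F) ≠ 0)
    (hdim : 5 ≤ Fintype.card ι) (k : ℕ) (hcard : Fintype.card ι = 2 * k + 1)
    (σ : RingAut F) (v₁ v₂ : ι → F) (hσ₁ : vmap σ v₁ = v₁) (hσ₂ : vmap σ v₂ = v₂)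
    (h1 : Q v₁ = 1) (hη0 : Q v₂ ≠ 0) (hη : ¬ IsSquare (Q v₂)) :
    ∃ c, c ∈ Cfsg.pgoAut F (⇑Q) ⊓ Subgroup.centralizer {oField hQ σ} ∧
      c ∉ Cfsg.Inn (Cfsg.POmega F (⇑Q)) := by
  have hv₁ : Q v₁ ≠ 0 := by rw [h1]; exact one_ne_zero
  obtain ⟨g₀, hg₀S, hg₀M, hg₀spin⟩ := exists_special_two_refl Q hnd h2 v₁ v₂ hv₁ hη0
  have hSO_le : Cfsg.specialIsometryGL F (⇑Q) ≤ Cfsg.Geo.quadSimilarityGroup (⇑Q) :=
    le_trans inf_le_left (isometryGroup_le_similarity (⇑Q))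
  set g : ↥(Cfsg.Geo.quadSimilarityGroup (⇑Q)) := ⟨g₀, hSO_le hg₀S⟩ with hg
  refine ⟨simAut (⇑Q) g, Subgroup.mem_inf.mpr ⟨simAut_mem_pgoAut (⇑Q) g, ?_⟩, ?_⟩
  · rw [Subgroup.mem_centralizer_iff]
    intro h hh
    rw [Set.mem_singleton_iff] at hh
    subst hh
    rw [oField_mul_simAut]
    congr 2
    apply Subtype.ext
    apply Units.ext
    rw [simMap_coe]
    show (g₀ : Matrix ι ι F).map σ = (g₀ : Matrix ι ι F)
    have hrm : ∀ v : ι → F, (Cfsg.reflectionMatrix (⇑Q) v).map σ =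
        Cfsg.reflectionMatrix (⇑Q) (vmap σ v) := fun v =>
      reflectionMatrix_map ((σ : F ≃+* F) : F →+* F) (⇑Q) (⇑Q) (fun w => hQ σ w) v
    have hmm : (Cfsg.reflectionMatrix (⇑Q) v₁ * Cfsg.reflectionMatrix (⇑Q) v₂).map σ =
        (Cfsg.reflectionMatrix (⇑Q) v₁).map σ * (Cfsg.reflectionMatrix (⇑Q) v₂).map σ :=
      Matrix.map_mul (f := ((σ : F ≃+* F) : F →+* F))
    rw [hg₀M, hmm, hrm, hrm, hσ₁, hσ₂]
  · rw [simAut_mem_Inn_iff_spin_odd Q hnd h2 hdim k hcard g hg₀S]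
    show ¬ spin Q (glLinEquiv ι F g₀) = 1
    rw [hg₀spin, h1, MulChar.map_one, one_mul, quadraticChar_neg_one_iff_not_isSquare.mpr hη]
    decide

/-- the class of `φ_σ` does not split if `σ` fixes suitable vectors of non-square norm -/
theorem splitClassCount_oField_eq_one (Q : QuadraticForm F (ι → F)) (hQ : FieldCompat (⇑Q))
    (hnd : (QuadraticMap.polarBilin Q).Nondegenerate) (h2 : (2 : F) ≠ 0)
    (hdim : 5 ≤ Fintype.card ι) (k : ℕ) (hcard : Fintype.card ι = 2 * k + 1)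
    (σ : RingAut F) (v₁ v₂ : ι → F) (hσ₁ : vmap σ v₁ = v₁) (hσ₂ : vmap σ v₂ = v₂)
    (h1 : Q v₁ = 1) (hη0 : Q v₂ ≠ 0) (hη : ¬ IsSquare (Q v₂)) :
    Cfsg.splitClassCount (Cfsg.pgoAut F (⇑Q)) (Cfsg.Inn (Cfsg.POmega F (⇑Q))) (oField hQ σ) =
      1 := by
  obtain ⟨c₀, hc₀, hc₀K⟩ := exists_centralizing_noninner Q hQ hnd h2 hdim k hcard σ v₁ v₂ hσ₁ hσ₂
    h1 hη0 hη
  exact splitClassCount_eq_one_of_relIndex_two _ _ _
    (relIndex_Inn_pgoAut_odd Q hnd h2 hdim k hcard) c₀ hc₀ hc₀K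

end Count

section Two

variable [Fintype F] [DecidableEq F] [Fintype F₀] [DecidableEq F₀]

theorem coe_scalar_mul (u : F₀ˣ) (h : GL ι F₀) :
    ((Matrix.GeneralLinearGroup.scalar ι u * h : GL ι F₀) : Matrix ι ι F₀) =
      (u : F₀) • (h : Matrix ι ι F₀) := by
  rw [Units.val_mul, Matrix.GeneralLinearGroup.coe_scalar, Matrix.scalar_apply,
    ← Matrix.smul_one_eq_diagonal, Matrix.smul_mul, Matrix.one_mul]

/-- the class of `φ_σ` splits into two if all the fixed elements of `σ` are squares -/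
theorem splitClassCount_oField_eq_two [Nonempty ι] (Q₀ : QuadraticForm F₀ (ι → F₀))
    (Q : QuadraticForm F (ι → F)) (j : F₀ →+* F) (hS : GramCompat j (⇑Q₀) (⇑Q))
    (hjQ : ∀ v : ι → F₀, Q (fun i => j (v i)) = j (Q₀ v)) (h2 : (2 : F) ≠ 0)
    (hdet : (gramStd (⇑Q)).det ≠ 0) (hQ : FieldCompat (⇑Q))
    (hnd₀ : (QuadraticMap.polarBilin Q₀).Nondegenerate)
    (hnd : (QuadraticMap.polarBilin Q).Nondegenerate) (hker : OKernelProp hQ)
    (hdim : 5 ≤ Fintype.card ι) (k : ℕ) (hcard : Fintype.card ι = 2 * k + 1)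
    (σ : RingAut F) {r : ℕ} (hr : 0 < r) (hσ : orderOf σ = r)
    (hj : ∀ a : F, σ a = a ↔ ∃ b, j b = a) (hsq : ∀ a : F₀, IsSquare (j a)) :
    Cfsg.splitClassCount (Cfsg.pgoAut F (⇑Q)) (Cfsg.Inn (Cfsg.POmega F (⇑Q))) (oField hQ σ) =
      2 := by
  apply splitClassCount_eq_two_of_le _ _ _
    (le_trans (Inn_le_psoAut (⇑Q)) (psoAut_le_pgoAut (⇑Q)))
    (relIndex_Inn_pgoAut_odd Q hnd h2 hdim k hcard)
  intro β hβ
  obtain ⟨A, rfl⟩ := (mem_pgo_centralizer_iff Q₀ Q j hS h2 hdet hQ hker σ hr hσ hj β).mp hβ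
  obtain ⟨h, u, hh, hAh⟩ := Cfsg.Agent.Lib.Helper36.AutO.exists_special_of_similarity_odd Q₀ hnd₀
    k hcard (A : GL ι F₀) A.2
  have hhsim : h ∈ Cfsg.Geo.quadSimilarityGroup (⇑Q₀) :=
    isometryGroup_le_similarity (⇑Q₀) hh.1
  have hu0 : j (u : F₀) ≠ 0 := (map_ne_zero j).mpr u.ne_zero
  have hAmat : ((A : GL ι F₀) : Matrix ι ι F₀) = (u : F₀) • (h : Matrix ι ι F₀) := by
    rw [hAh, coe_scalar_mul]
  have h1 : subSim Q₀ Q j hS h2 hdet A = simAut (⇑Q) (simSub Q₀ Q j hS h2 hdet ⟨h, hhsim⟩) := by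
    rw [subSim_apply]
    apply simAut_eq_of_smul Q _ _ (j (u : F₀)) hu0
    rw [simSub_coe, simSub_coe, hAmat, smul_map_hom]
  rw [h1]
  obtain ⟨hiso, hspin⟩ := spin_map_eq_one Q₀ Q j hjQ hnd₀ hnd h2 hsq h hh.1
  have hspecial : ((simSub Q₀ Q j hS h2 hdet ⟨h, hhsim⟩ :
      ↥(Cfsg.Geo.quadSimilarityGroup (⇑Q))) : GL ι F) ∈ Cfsg.specialIsometryGL F (⇑Q) := by
    refine ⟨hiso, ?_⟩
    show Matrix.GeneralLinearGroup.det (Matrix.GeneralLinearGroup.map j h) = 1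
    apply Units.ext
    rw [Matrix.GeneralLinearGroup.val_det_apply, Units.val_one]
    have hdh : (h : Matrix ι ι F₀).det = 1 := by
      have h3 : Matrix.GeneralLinearGroup.det h = 1 := hh.2
      have h4 := congrArg Units.val h3
      rw [Matrix.GeneralLinearGroup.val_det_apply] at h4
      exact h4
    have h5 := RingHom.map_det j (h : Matrix ι ι F₀)
    rw [hdh, map_one] at h5
    exact h5.symm
  exact (simAut_mem_Inn_iff_spin_odd Q hnd h2 hdim k hcard _ hspecial).mpr hspin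

end Two

end Cfsg.Agent.Lib.Helper43
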