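/-
helper43: the coset `Inndiag · x` of a field automorphism `x` of prime order of `PSp_{2m}(F)`:
assembly of S2713 from normality of `Inndiag(PSp)` in `Aut(PSp)` (which holds in characteristic two
because `GSp = F^× · Sp`, and otherwise follows from `gammaPSp = ⊤`).
-/
import Mathlib
import Cfsg.Agent.Lib.Helper43.PSpH90

set_option autoImplicit false

namespace Cfsg.Agent.Lib.Helper43

open scoped MatrixGroups Matrix
open Matrix Cfsg.Agent.Lib.Helper45.PSLField

variable {m : ℕ} {F : Type*} [Field F]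

/-- an element of `GSp` whose multiplier is a square is a scalar times a symplectic matrix -/
theorem gsp_eq_scalar_mul_toGSp_of_sq (d : ↥(Cfsg.GSp m F)) (c : Fˣ)
    (h : ∀ u v : Fin m ⊕ Fin m → F,
      Cfsg.sympForm m F (((d : GL (Fin m ⊕ Fin m) F) : Matrix _ _ F) *ᵥ u)
        (((d : GL (Fin m ⊕ Fin m) F) : Matrix _ _ F) *ᵥ v) =
        ((c : F) * (c : F)) * Cfsg.sympForm m F u v) :
    ∃ s : ↥(Matrix.symplecticGroup (Fin m) F), d = scalarGSp c * toGSp s := by
  have h1 : ∀ u v : Fin m ⊕ Fin m → F,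
      Cfsg.sympForm m F ((((scalarGSp c⁻¹ * d : ↥(Cfsg.GSp m F)) : GL (Fin m ⊕ Fin m) F) :
        Matrix _ _ F) *ᵥ u)
        ((((scalarGSp c⁻¹ * d : ↥(Cfsg.GSp m F)) : GL (Fin m ⊕ Fin m) F) : Matrix _ _ F) *ᵥ v) =
        Cfsg.sympForm m F u v := by
    intro u v
    have hcoe : (((scalarGSp c⁻¹ * d : ↥(Cfsg.GSp m F)) : GL (Fin m ⊕ Fin m) F) :
        Matrix (Fin m ⊕ Fin m) (Fin m ⊕ Fin m) F) =
        ((c⁻¹ : Fˣ) : F) • ((d : GL (Fin m ⊕ Fin m) F) : Matrix _ _ F) := by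
      rw [Subgroup.coe_mul, Units.val_mul, scalarGSp_coe, Matrix.smul_mul, Matrix.one_mul]
    rw [hcoe, Matrix.smul_mulVec, Matrix.smul_mulVec, sympForm_smul_smul, h, Units.val_inv_eq_inv_val]
    have hc0 : (c : F) ≠ 0 := c.ne_zero
    field_simp
  obtain ⟨s, hs⟩ := exists_toGSp_eq _ h1
  refine ⟨s, ?_⟩
  rw [hs, map_inv, mul_inv_cancel_left]

/-- in characteristic two (finite field) `Inndiag(PSp) = Inn(PSp)` is normal in `Aut` -/
theorem inndiagNormalPSp_of_char_two [Finite F] (h2 : ringChar F = 2) : InndiagNormalPSp m F := by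
  apply inndiagNormalPSp_of_scalar_mul
  intro d
  obtain ⟨μ, hμ⟩ := (mem_GSp_iff d.1).mp d.2
  obtain ⟨c, hc⟩ := FiniteField.isSquare_of_char_two h2 (μ : F)
  have hc0 : c ≠ 0 := by
    intro h0
    rw [h0, mul_zero] at hc
    exact μ.ne_zero hc
  obtain ⟨s, hs⟩ := gsp_eq_scalar_mul_toGSp_of_sq d (Units.mk0 c hc0) (by
    intro u v
    rw [Units.val_mk0, ← hc]
    exact hμ u v)
  exact ⟨Units.mk0 c hc0, s, hs⟩

theorem inndiagNormalPSp_of_gamma (h : Cfsg.gammaPSp m F = ⊤) : InndiagNormalPSp m F :=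
  inndiagNormalPSp_of_std (exists_std_of_gammaPSp_eq_top h)

theorem orderOf_conj' {G : Type*} [Group G] (a x : G) : orderOf (a * x * a⁻¹) = orderOf x := by
  have := (MulAut.conj a).orderOf_eq x
  rwa [MulAut.conj_apply] at this

/-- a field automorphism class, normalised -/
theorem exists_conj_eq_pspField {x : MulAut (Cfsg.PSp m F)} (hx : Cfsg.IsFieldAutClassPSp x) :
    ∃ (α : MulAut (Cfsg.PSp m F)) (σ : RingAut F), σ ≠ 1 ∧ α * x * α⁻¹ = pspField σ := by
  obtain ⟨α, σ, hσ, h⟩ := hx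
  exact ⟨α, σ, hσ, (isStdFieldAutPSp_iff σ _).mp h⟩

/-- **S2713 from normality of `Inndiag`** -/
theorem psp_field_coset_main [Finite F] (hm : 1 ≤ m) (hN : InndiagNormalPSp m F)
    (x δ : MulAut (Cfsg.PSp m F)) (hx : Cfsg.IsFieldAutClassPSp x) {r : ℕ} (hr : 0 < r)
    (hxr : orderOf x = r) (hδ : δ ∈ Cfsg.inndiagPSp m F) :
    orderOf (δ * x) = r ↔ Cfsg.IsConjUnder (Cfsg.inndiagPSp m F) x (δ * x) := by
  constructor
  · intro hy
    obtain ⟨α, σ, -, hασ⟩ := exists_conj_eq_pspField hx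
    have hσr : orderOf σ = r := by
      rw [← orderOf_pspField hm σ, ← hασ, orderOf_conj', hxr]
    rw [inndiagPSp_eq_range] at hδ
    obtain ⟨d, rfl⟩ := hδ
    obtain ⟨d', hd'⟩ := hN α d
    have hy' : α * (pspDiag d * x) * α⁻¹ = pspDiag d' * pspField σ := by
      rw [← hd', ← hασ]; group
    have hpow : ((pspDiag d' : MulAut (Cfsg.PSp m F)) * pspField σ) ^ r = 1 := by
      rw [← hy', ← hy, ← orderOf_conj' α (pspDiag d * x)]
      exact pow_orderOf_eq_one _
    obtain ⟨B, hB⟩ := field_coset_conj_psp hm σ hr hσr d' hpow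
    apply isConjUnder_of_conj_psp hN α
    rw [hy', hασ]
    exact ⟨pspDiag B, pspDiag_mem_inndiagPSp B, hB⟩
  · rintro ⟨h, -, hy⟩
    rw [hy, orderOf_conj', hxr]

/-- normality of `Inndiag(PSp)` over a finite field, given `gammaPSp = ⊤` in odd characteristic -/
theorem inndiagNormalPSp_finite [Finite F] (hγ : ringChar F ≠ 2 → Cfsg.gammaPSp m F = ⊤) :
    InndiagNormalPSp m F := by
  by_cases h2 : ringChar F = 2
  · exact inndiagNormalPSp_of_char_two h2
  · exact inndiagNormalPSp_of_gamma (hγ h2)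

end Cfsg.Agent.Lib.Helper43
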