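/-
helper43: the centraliser of a standard field automorphism `φ_σ` in `Inndiag(PSp_{2m}(F))` is the image of
`GSp_{2m}(F₀)`, `F₀` the fixed field of `σ`, and is isomorphic to `PGSp_{2m}(F₀)`.
-/
import Mathlib
import Cfsg.Agent.Lib.Helper43.PSpFieldCoset

set_option autoImplicit false

namespace Cfsg.Agent.Lib.Helper43

open scoped MatrixGroups Matrix
open Matrix Cfsg.Agent.Lib.Helper45.PSLField

variable {m : ℕ} {F : Type*} [Field F] {F₀ : Type*} [Field F₀]

theorem mem_GSp_iff_matrix (g : GL (Fin m ⊕ Fin m) F) :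
    g ∈ Cfsg.GSp m F ↔ ∃ c : Fˣ,
      (g : Matrix (Fin m ⊕ Fin m) (Fin m ⊕ Fin m) F)ᵀ * Matrix.J (Fin m) F *
        (g : Matrix (Fin m ⊕ Fin m) (Fin m ⊕ Fin m) F) = (c : F) • Matrix.J (Fin m) F := by
  rw [mem_GSp_iff]
  constructor
  · rintro ⟨c, hc⟩
    exact ⟨c, (transpose_J_mul_eq_iff _ _).mpr hc⟩
  · rintro ⟨c, hc⟩
    exact ⟨c, (transpose_J_mul_eq_iff _ _).mp hc⟩

theorem glMap_mem_GSp_of_hom (j : F₀ →+* F) (A : GL (Fin m ⊕ Fin m) F₀)
    (hA : A ∈ Cfsg.GSp m F₀) : Matrix.GeneralLinearGroup.map j A ∈ Cfsg.GSp m F := by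
  rw [mem_GSp_iff_matrix] at hA ⊢
  obtain ⟨c, hc⟩ := hA
  refine ⟨Units.map (j : F₀ →* F) c, ?_⟩
  have := congrArg (fun M : Matrix (Fin m ⊕ Fin m) (Fin m ⊕ Fin m) F₀ => M.map j) hc
  simp only [Matrix.map_mul, Matrix.transpose_map, J_map'] at this
  have h2 : ((c : F₀) • Matrix.J (Fin m) F₀).map j = j (c : F₀) • Matrix.J (Fin m) F := by
    ext k l
    rw [Matrix.map_apply, Matrix.smul_apply, Matrix.smul_apply, ← J_map' (m := m) j,
      Matrix.map_apply, smul_eq_mul, smul_eq_mul, map_mul]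
  rw [h2] at this
  exact this

/-- `GSp(F₀) → GSp(F)` along a field embedding -/
noncomputable def gspSub (j : F₀ →+* F) : ↥(Cfsg.GSp m F₀) →* ↥(Cfsg.GSp m F) where
  toFun A := ⟨Matrix.GeneralLinearGroup.map j A.1, glMap_mem_GSp_of_hom j A.1 A.2⟩
  map_one' := by
    apply Subtype.ext
    show Matrix.GeneralLinearGroup.map j (1 : GL (Fin m ⊕ Fin m) F₀) = 1
    rw [map_one]
  map_mul' a b := by
    apply Subtype.ext
    show Matrix.GeneralLinearGroup.map j (a.1 * b.1) = _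
    rw [map_mul]
    rfl

theorem gspSub_coe (j : F₀ →+* F) (A : ↥(Cfsg.GSp m F₀)) :
    (((gspSub j A : ↥(Cfsg.GSp m F)) : GL (Fin m ⊕ Fin m) F) :
      Matrix (Fin m ⊕ Fin m) (Fin m ⊕ Fin m) F) =
    ((A : GL (Fin m ⊕ Fin m) F₀) : Matrix (Fin m ⊕ Fin m) (Fin m ⊕ Fin m) F₀).map j := rfl

/-- inner-diagonal automorphisms of `PSp(F)` coming from a subfield -/
noncomputable def subDiagPSp (j : F₀ →+* F) : ↥(Cfsg.GSp m F₀) →* MulAut (Cfsg.PSp m F) :=
  pspDiag.comp (gspSub j)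

theorem subDiagPSp_apply (j : F₀ →+* F) (A : ↥(Cfsg.GSp m F₀)) :
    subDiagPSp j A = (pspDiag (gspSub j A) : MulAut (Cfsg.PSp m F)) := rfl

theorem gspMap_gspSub (σ : RingAut F) (j : F₀ →+* F) (hj : ∀ a, σ (j a) = j a)
    (A : ↥(Cfsg.GSp m F₀)) : gspMap σ (gspSub j A) = gspSub j A := by
  apply Subtype.ext
  apply Units.ext
  rw [gspMap_coe, gspSub_coe]
  ext k l
  rw [Matrix.map_apply, Matrix.map_apply]
  exact hj _

theorem subDiagPSp_comm (σ : RingAut F) (j : F₀ →+* F) (hj : ∀ a, σ (j a) = j a)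
    (A : ↥(Cfsg.GSp m F₀)) :
    (pspField σ : MulAut (Cfsg.PSp m F)) * subDiagPSp j A = subDiagPSp j A * pspField σ := by
  rw [subDiagPSp_apply, pspField_mul_pspDiag, gspMap_gspSub σ j hj]

theorem gspSub_scalarGSp (j : F₀ →+* F) (c : F₀ˣ) :
    gspSub j (scalarGSp c : ↥(Cfsg.GSp m F₀)) = scalarGSp (Units.map (j : F₀ →* F) c) := by
  apply Subtype.ext
  apply Units.ext
  rw [gspSub_coe, scalarGSp_coe, scalarGSp_coe]
  ext k l
  by_cases hkl : k = l
  · subst hkl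
    simp
  · simp [Matrix.one_apply_ne hkl]

theorem mem_scalars_subgroupOf_iff (A : ↥(Cfsg.GSp m F₀)) :
    A ∈ (Cfsg.Geo.scalars (Fin m ⊕ Fin m) F₀).subgroupOf (Cfsg.GSp m F₀) ↔
      ∃ c : F₀ˣ, A = scalarGSp c := by
  rw [Subgroup.mem_subgroupOf, Cfsg.Geo.mem_scalars_iff]
  constructor
  · rintro ⟨c, hc⟩
    refine ⟨c, ?_⟩
    apply Subtype.ext
    apply Units.ext
    rw [hc, scalarGSp_coe]
  · rintro ⟨c, rfl⟩
    exact ⟨c, scalarGSp_coe c⟩

theorem ker_subDiagPSp (hm : 1 ≤ m) (j : F₀ →+* F) :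
    (subDiagPSp j : ↥(Cfsg.GSp m F₀) →* MulAut (Cfsg.PSp m F)).ker =
      (Cfsg.Geo.scalars (Fin m ⊕ Fin m) F₀).subgroupOf (Cfsg.GSp m F₀) := by
  ext A
  rw [MonoidHom.mem_ker, subDiagPSp_apply, pspDiag_eq_one_iff hm, mem_scalars_subgroupOf_iff]
  constructor
  · rintro ⟨c, hc⟩
    have hcoe := congrArg (fun g : ↥(Cfsg.GSp m F) =>
      ((g : GL (Fin m ⊕ Fin m) F) : Matrix (Fin m ⊕ Fin m) (Fin m ⊕ Fin m) F)) hc
    simp only [gspSub_coe, scalarGSp_coe] at hcoe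
    set A' : Matrix (Fin m ⊕ Fin m) (Fin m ⊕ Fin m) F₀ :=
      ((A : GL (Fin m ⊕ Fin m) F₀) : Matrix (Fin m ⊕ Fin m) (Fin m ⊕ Fin m) F₀) with hA'
    have hdiag : ∀ k, j (A' k k) = (c : F) := by
      intro k
      have := congrFun (congrFun hcoe k) k
      simpa using this
    have hoff : ∀ k l, k ≠ l → A' k l = 0 := by
      intro k l hkl
      have := congrFun (congrFun hcoe k) l
      rw [Matrix.map_apply, Matrix.smul_apply, Matrix.one_apply_ne hkl, smul_zero] at this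
      exact (map_eq_zero j).mp this
    set k₀ : Fin m ⊕ Fin m := Sum.inl ⟨0, hm⟩
    have hc0 : A' k₀ k₀ ≠ 0 := by
      intro h0
      have := hdiag k₀
      rw [h0, map_zero] at this
      exact c.ne_zero this.symm
    refine ⟨Units.mk0 (A' k₀ k₀) hc0, ?_⟩
    apply Subtype.ext
    apply Units.ext
    rw [scalarGSp_coe, Units.val_mk0]
    ext k l
    by_cases hkl : k = l
    · subst hkl
      rw [Matrix.smul_apply, Matrix.one_apply_eq, smul_eq_mul, mul_one]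
      apply j.injective
      rw [hdiag, hdiag]
    · rw [Matrix.smul_apply, Matrix.one_apply_ne hkl, smul_zero]
      exact hoff k l hkl
  · rintro ⟨c, rfl⟩
    exact ⟨_, gspSub_scalarGSp j c⟩

theorem J_inl_inr_ne_zero (hm : 1 ≤ m) :
    Matrix.J (Fin m) F (Sum.inl ⟨0, hm⟩) (Sum.inr ⟨0, hm⟩) = -1 := by
  simp [Matrix.J, Matrix.fromBlocks]

/-- the centraliser of `φ_σ` in `Inndiag(PSp)` is the image of `GSp` of the fixed field -/
theorem mem_inndiag_centralizer_iff_psp [Finite F] (hm : 1 ≤ m) (σ : RingAut F) {r : ℕ}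
    (hr : 0 < r) (hσ : orderOf σ = r) (j : F₀ →+* F) (hj : ∀ a : F, σ a = a ↔ ∃ b, j b = a)
    (β : MulAut (Cfsg.PSp m F)) :
    β ∈ Cfsg.inndiagPSp m F ⊓ Subgroup.centralizer {pspField σ} ↔
      ∃ A : ↥(Cfsg.GSp m F₀), subDiagPSp j A = β := by
  have hj' : ∀ a, σ (j a) = j a := fun a => (hj (j a)).mpr ⟨a, rfl⟩
  rw [Subgroup.mem_inf]
  constructor
  · rintro ⟨hβ1, hβ2⟩
    rw [inndiagPSp_eq_range] at hβ1
    obtain ⟨g, rfl⟩ := hβ1
    have hc : (pspField σ : MulAut (Cfsg.PSp m F)) * pspDiag g = pspDiag g * pspField σ :=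
      (Subgroup.mem_centralizer_iff.mp hβ2) _ rfl
    rw [pspField_mul_pspDiag] at hc
    have hc2 := mul_right_cancel hc
    obtain ⟨c, hc3⟩ := (pspDiag_eq_iff hm _ _).mp hc2
    set G : Matrix (Fin m ⊕ Fin m) (Fin m ⊕ Fin m) F :=
      ((g : GL (Fin m ⊕ Fin m) F) : Matrix (Fin m ⊕ Fin m) (Fin m ⊕ Fin m) F) with hG
    have hsemi : G.map σ = (c : F) • G := by
      have := congrArg (fun k : ↥(Cfsg.GSp m F) =>
        ((k : GL (Fin m ⊕ Fin m) F) : Matrix (Fin m ⊕ Fin m) (Fin m ⊕ Fin m) F)) hc3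
      simp only [gspMap_coe, Subgroup.coe_mul, Units.val_mul, scalarGSp_coe, Matrix.smul_mul,
        Matrix.one_mul] at this
      exact this
    obtain ⟨b, hb0, hb⟩ := exists_fixed_multiple σ hr hσ G
      (gsp_coe_ne_zero hm (g : GL (Fin m ⊕ Fin m) F)) _ hsemi
    have hent : ∀ k l, ∃ a : F₀, j a = b * G k l := by
      intro k l
      apply (hj _).mp
      have := congrFun (congrFun hb k) l
      simpa using this
    choose a ha using hent
    have hmap : (Matrix.of a).map j = b • G := by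
      ext k l
      rw [Matrix.map_apply, Matrix.of_apply, ha, Matrix.smul_apply, smul_eq_mul]
    -- the multiplier
    obtain ⟨μ, hμ⟩ := gsp_matrix_form g
    have hbG : (b • G)ᵀ * Matrix.J (Fin m) F * (b • G) = (b * b * (μ : F)) • Matrix.J (Fin m) F := by
      rw [Matrix.transpose_smul, Matrix.smul_mul, Matrix.smul_mul, Matrix.mul_smul, hμ, smul_smul,
        smul_smul]
    have hνfix : σ (b * b * (μ : F)) = b * b * (μ : F) := by
      have h1 := congrArg (fun M : Matrix (Fin m ⊕ Fin m) (Fin m ⊕ Fin m) F => M.map σ) hbG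
      have hJσ : (Matrix.J (Fin m) F).map σ = Matrix.J (Fin m) F :=
        J_map ((σ : F ≃+* F) : F →+* F)
      have h2 : ((b • G)ᵀ * Matrix.J (Fin m) F * (b • G)).map σ =
          ((b • G).map σ)ᵀ * (Matrix.J (Fin m) F).map σ * (b • G).map σ := by
        rw [Matrix.map_mul, Matrix.map_mul, Matrix.transpose_map]
      rw [h2, hb, hJσ, hbG] at h1
      have h3 := congrFun (congrFun h1 (Sum.inl ⟨0, hm⟩)) (Sum.inr ⟨0, hm⟩)
      rw [Matrix.map_apply, Matrix.smul_apply, J_inl_inr_ne_zero hm, smul_eq_mul, map_mul, map_neg,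
        map_one, mul_neg, mul_one, mul_neg, mul_one, neg_inj] at h3
      exact h3.symm
    obtain ⟨ν, hν⟩ := (hj _).mp hνfix
    have hν0 : ν ≠ 0 := by
      intro h0
      rw [h0, map_zero] at hν
      exact (mul_ne_zero (mul_ne_zero hb0 hb0) μ.ne_zero) hν.symm
    have hA₀ : (Matrix.of a)ᵀ * Matrix.J (Fin m) F₀ * Matrix.of a = ν • Matrix.J (Fin m) F₀ := by
      have hinj : Function.Injective
          (fun M : Matrix (Fin m ⊕ Fin m) (Fin m ⊕ Fin m) F₀ => M.map j) := by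
        intro M N hMN
        ext k l
        apply j.injective
        exact congrFun (congrFun hMN k) l
      apply hinj
      show ((Matrix.of a)ᵀ * Matrix.J (Fin m) F₀ * Matrix.of a).map j =
        (ν • Matrix.J (Fin m) F₀).map j
      have h2 : (ν • Matrix.J (Fin m) F₀).map j = j ν • Matrix.J (Fin m) F := by
        ext k l
        rw [Matrix.map_apply, Matrix.smul_apply, Matrix.smul_apply, ← J_map' (m := m) j,
          Matrix.map_apply, smul_eq_mul, smul_eq_mul, map_mul]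
      rw [Matrix.map_mul, Matrix.map_mul, Matrix.transpose_map, J_map', hmap, hbG, h2, hν]
    obtain ⟨Ag, hAg⟩ := exists_gsp_of_matrix (Matrix.of a) ν hν0 hA₀
    refine ⟨Ag, ?_⟩
    have h3 : gspSub j Ag = scalarGSp (Units.mk0 b hb0) * g := by
      apply Subtype.ext
      apply Units.ext
      rw [gspSub_coe, hAg, hmap, Subgroup.coe_mul, Units.val_mul, scalarGSp_coe, Units.val_mk0,
        Matrix.smul_mul, Matrix.one_mul]
    rw [subDiagPSp_apply, h3, map_mul, pspDiag_scalarGSp, one_mul]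
  · rintro ⟨A, rfl⟩
    refine ⟨pspDiag_mem_inndiagPSp _, ?_⟩
    rw [Subgroup.mem_centralizer_iff]
    intro h hh
    rw [Set.mem_singleton_iff] at hh
    subst hh
    exact subDiagPSp_comm σ j hj' A

/-- `C_{Inndiag}(φ_σ) ≅ PGSp_{2m}(F₀)` -/
theorem nonempty_centralizer_equiv_psp [Finite F] (hm : 1 ≤ m) (σ : RingAut F) {r : ℕ}
    (hr : 0 < r) (hσ : orderOf σ = r) (j : F₀ →+* F) (hj : ∀ a : F, σ a = a ↔ ∃ b, j b = a) :
    Nonempty (↥(Cfsg.inndiagPSp m F ⊓ Subgroup.centralizer {pspField σ}) ≃* Cfsg.PGSp m F₀) := by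
  have h1 : Cfsg.inndiagPSp m F ⊓ Subgroup.centralizer {pspField σ} =
      (subDiagPSp j : ↥(Cfsg.GSp m F₀) →* MulAut (Cfsg.PSp m F)).range := by
    ext β
    rw [mem_inndiag_centralizer_iff_psp hm σ hr hσ j hj]
    rfl
  exact ⟨(MulEquiv.subgroupCongr h1).trans
    ((QuotientGroup.quotientKerEquivRange (subDiagPSp j)).symm.trans
      (QuotientGroup.quotientMulEquivOfEq (ker_subDiagPSp hm j)))⟩

theorem conj_mem_inndiagPSp (hN : InndiagNormalPSp m F) (α : MulAut (Cfsg.PSp m F))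
    {δ : MulAut (Cfsg.PSp m F)} (hδ : δ ∈ Cfsg.inndiagPSp m F) :
    α * δ * α⁻¹ ∈ Cfsg.inndiagPSp m F := by
  rw [inndiagPSp_eq_range] at hδ
  obtain ⟨d, rfl⟩ := hδ
  obtain ⟨d', hd'⟩ := hN α d
  rw [hd']
  exact pspDiag_mem_inndiagPSp d'

/-- transfer of the centraliser in `Inndiag` along conjugation -/
theorem nonempty_centralizer_conj_equiv_psp (hN : InndiagNormalPSp m F)
    (α x : MulAut (Cfsg.PSp m F)) :
    Nonempty (↥(Cfsg.inndiagPSp m F ⊓ Subgroup.centralizer {x}) ≃*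
      ↥(Cfsg.inndiagPSp m F ⊓ Subgroup.centralizer {α * x * α⁻¹})) := by
  have h1 : (Cfsg.inndiagPSp m F ⊓ Subgroup.centralizer {x}).map
      ((MulAut.conj α : MulAut (Cfsg.PSp m F) ≃* _) : MulAut (Cfsg.PSp m F) →* _) =
      Cfsg.inndiagPSp m F ⊓ Subgroup.centralizer {α * x * α⁻¹} := by
    ext β
    rw [Subgroup.mem_map, Subgroup.mem_inf]
    constructor
    · rintro ⟨γ, hγ, rfl⟩
      rw [Subgroup.mem_inf] at hγ
      obtain ⟨hγ1, hγ2⟩ := hγ
      refine ⟨conj_mem_inndiagPSp hN α hγ1, ?_⟩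
      rw [Subgroup.mem_centralizer_iff] at hγ2 ⊢
      intro h hh
      rw [Set.mem_singleton_iff] at hh
      subst hh
      have := hγ2 x rfl
      show α * x * α⁻¹ * (α * γ * α⁻¹) = α * γ * α⁻¹ * (α * x * α⁻¹)
      calc α * x * α⁻¹ * (α * γ * α⁻¹) = α * (x * γ) * α⁻¹ := by group
        _ = α * (γ * x) * α⁻¹ := by rw [this]
        _ = _ := by group
    · rintro ⟨hβ1, hβ2⟩
      refine ⟨α⁻¹ * β * α, Subgroup.mem_inf.mpr ⟨?_, ?_⟩, ?_⟩
      · have := conj_mem_inndiagPSp hN α⁻¹ hβ1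
        rwa [inv_inv] at this
      · rw [Subgroup.mem_centralizer_iff] at hβ2 ⊢
        intro h hh
        rw [Set.mem_singleton_iff] at hh
        subst hh
        have := hβ2 _ rfl
        calc h * (α⁻¹ * β * α) = α⁻¹ * (α * h * α⁻¹ * β) * α := by group
          _ = α⁻¹ * (β * (α * h * α⁻¹)) * α := by rw [this]
          _ = _ := by group
      · show α * (α⁻¹ * β * α) * α⁻¹ = β
        group
  exact ⟨((MulAut.conj α : MulAut (Cfsg.PSp m F) ≃* _).subgroupMap _).trans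
    (MulEquiv.subgroupCongr h1)⟩

end Cfsg.Agent.Lib.Helper43
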