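/-
helper43: the multiplier `GSp_{2m}(F) → F^×`, the criterion for an inner-diagonal automorphism of `PSp` to be inner,
and the number of `Inn`-classes in the `Inndiag`-class of a standard field automorphism of `PSp_{2m}(F)`.
-/
import Mathlib
import Cfsg.Agent.Lib.Helper43.PSpCentralizer
import Cfsg.Agent.Lib.Helper45.PSLField.Split

set_option autoImplicit false

namespace Cfsg.Agent.Lib.Helper43

open scoped MatrixGroups Matrix
open Matrix Cfsg.Agent.Lib.Helper45.PSLField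

variable {m : ℕ} {F : Type*} [Field F] {F₀ : Type*} [Field F₀]

theorem smul_J_injective (hm : 1 ≤ m) {c c' : F}
    (h : c • Matrix.J (Fin m) F = c' • Matrix.J (Fin m) F) : c = c' := by
  have h3 := congrFun (congrFun h (Sum.inl ⟨0, hm⟩)) (Sum.inr ⟨0, hm⟩)
  rw [Matrix.smul_apply, Matrix.smul_apply, J_inl_inr_ne_zero hm, smul_eq_mul, smul_eq_mul,
    mul_neg, mul_one, mul_neg, mul_one, neg_inj] at h3
  exact h3

/-- the multiplier of a similitude (as a function) -/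
noncomputable def gspMultFun (g : ↥(Cfsg.GSp m F)) : Fˣ := Classical.choose (gsp_matrix_form g)

theorem gspMultFun_spec (g : ↥(Cfsg.GSp m F)) :
    ((g : GL (Fin m ⊕ Fin m) F) : Matrix (Fin m ⊕ Fin m) (Fin m ⊕ Fin m) F)ᵀ *
      Matrix.J (Fin m) F * ((g : GL (Fin m ⊕ Fin m) F) : Matrix (Fin m ⊕ Fin m) (Fin m ⊕ Fin m) F) =
      ((gspMultFun g : Fˣ) : F) • Matrix.J (Fin m) F :=
  Classical.choose_spec (gsp_matrix_form g)

theorem gspMultFun_eq (hm : 1 ≤ m) (g : ↥(Cfsg.GSp m F)) (c : Fˣ)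
    (h : ((g : GL (Fin m ⊕ Fin m) F) : Matrix (Fin m ⊕ Fin m) (Fin m ⊕ Fin m) F)ᵀ *
      Matrix.J (Fin m) F * ((g : GL (Fin m ⊕ Fin m) F) : Matrix (Fin m ⊕ Fin m) (Fin m ⊕ Fin m) F) =
      (c : F) • Matrix.J (Fin m) F) : gspMultFun g = c := by
  apply Units.ext
  apply smul_J_injective hm
  rw [← gspMultFun_spec g, h]

/-- the multiplier homomorphism -/
noncomputable def gspMult (hm : 1 ≤ m) : ↥(Cfsg.GSp m F) →* Fˣ where
  toFun := gspMultFun
  map_one' := by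
    apply gspMultFun_eq hm
    rw [Subgroup.coe_one, Units.val_one, Matrix.transpose_one, Matrix.one_mul, Matrix.mul_one,
      Units.val_one, one_smul]
  map_mul' a b := by
    apply gspMultFun_eq hm
    rw [Subgroup.coe_mul, Units.val_mul, Matrix.transpose_mul]
    calc ((b : GL (Fin m ⊕ Fin m) F) : Matrix (Fin m ⊕ Fin m) (Fin m ⊕ Fin m) F)ᵀ *
          ((a : GL (Fin m ⊕ Fin m) F) : Matrix (Fin m ⊕ Fin m) (Fin m ⊕ Fin m) F)ᵀ *
          Matrix.J (Fin m) F * (((a : GL (Fin m ⊕ Fin m) F) : Matrix _ _ F) *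
          ((b : GL (Fin m ⊕ Fin m) F) : Matrix _ _ F))
        = ((b : GL (Fin m ⊕ Fin m) F) : Matrix (Fin m ⊕ Fin m) (Fin m ⊕ Fin m) F)ᵀ *
          (((a : GL (Fin m ⊕ Fin m) F) : Matrix (Fin m ⊕ Fin m) (Fin m ⊕ Fin m) F)ᵀ *
          Matrix.J (Fin m) F * ((a : GL (Fin m ⊕ Fin m) F) : Matrix _ _ F)) *
          ((b : GL (Fin m ⊕ Fin m) F) : Matrix _ _ F) := by simp only [Matrix.mul_assoc]
      _ = _ := by
        rw [gspMultFun_spec a, Matrix.mul_smul, Matrix.smul_mul, gspMultFun_spec b, smul_smul,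
          Units.val_mul]

theorem gspMult_spec (hm : 1 ≤ m) (g : ↥(Cfsg.GSp m F)) :
    ((g : GL (Fin m ⊕ Fin m) F) : Matrix (Fin m ⊕ Fin m) (Fin m ⊕ Fin m) F)ᵀ *
      Matrix.J (Fin m) F * ((g : GL (Fin m ⊕ Fin m) F) : Matrix (Fin m ⊕ Fin m) (Fin m ⊕ Fin m) F) =
      ((gspMult hm g : Fˣ) : F) • Matrix.J (Fin m) F :=
  gspMultFun_spec g

theorem gspMult_eq (hm : 1 ≤ m) (g : ↥(Cfsg.GSp m F)) (c : Fˣ)
    (h : ((g : GL (Fin m ⊕ Fin m) F) : Matrix (Fin m ⊕ Fin m) (Fin m ⊕ Fin m) F)ᵀ *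
      Matrix.J (Fin m) F * ((g : GL (Fin m ⊕ Fin m) F) : Matrix (Fin m ⊕ Fin m) (Fin m ⊕ Fin m) F) =
      (c : F) • Matrix.J (Fin m) F) : gspMult hm g = c :=
  gspMultFun_eq hm g c h

theorem gspMult_scalarGSp (hm : 1 ≤ m) (c : Fˣ) :
    gspMult hm (scalarGSp c : ↥(Cfsg.GSp m F)) = c * c := by
  apply gspMult_eq
  rw [scalarGSp_coe, Matrix.transpose_smul, Matrix.transpose_one, Matrix.smul_mul, Matrix.one_mul,
    Matrix.mul_smul, Matrix.mul_one, smul_smul, Units.val_mul]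

theorem gspMult_toGSp (hm : 1 ≤ m) (s : ↥(Matrix.symplecticGroup (Fin m) F)) :
    gspMult hm (toGSp s) = 1 := by
  apply gspMult_eq
  rw [toGSp_coe, Units.val_one, one_smul]
  have := (mem_sp_iff_form s.1).mp s.2
  have h2 := (transpose_J_mul_eq_iff s.1 1).mpr (by intro u v; rw [one_mul]; exact this u v)
  rw [one_smul] at h2
  exact h2

theorem gspMult_gspSub (hm : 1 ≤ m) (j : F₀ →+* F) (A : ↥(Cfsg.GSp m F₀)) :
    gspMult hm (gspSub j A) = Units.map (j : F₀ →* F) (gspMult hm A) := by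
  apply gspMult_eq
  have hc := gspMult_spec hm A
  have := congrArg (fun M : Matrix (Fin m ⊕ Fin m) (Fin m ⊕ Fin m) F₀ => M.map j) hc
  simp only [Matrix.map_mul, Matrix.transpose_map, J_map'] at this
  have h2 : (((gspMult hm A : F₀ˣ) : F₀) • Matrix.J (Fin m) F₀).map j =
      j ((gspMult hm A : F₀ˣ) : F₀) • Matrix.J (Fin m) F := by
    ext k l
    rw [Matrix.map_apply, Matrix.smul_apply, Matrix.smul_apply, ← J_map' (m := m) j,
      Matrix.map_apply, smul_eq_mul, smul_eq_mul, map_mul]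
  rw [h2] at this
  exact this

theorem gspMult_surjective (hm : 1 ≤ m) (κ : Fˣ) : ∃ A : ↥(Cfsg.GSp m F), gspMult hm A = κ := by
  have hM : (Matrix.fromBlocks ((κ : F) • (1 : Matrix (Fin m) (Fin m) F)) 0 0 1)ᵀ *
      Matrix.J (Fin m) F * Matrix.fromBlocks ((κ : F) • (1 : Matrix (Fin m) (Fin m) F)) 0 0 1 =
      (κ : F) • Matrix.J (Fin m) F := by
    rw [Matrix.fromBlocks_transpose, Matrix.J, Matrix.fromBlocks_multiply,
      Matrix.fromBlocks_multiply, Matrix.fromBlocks_smul]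
    simp
  obtain ⟨A, hA⟩ := exists_gsp_of_matrix _ (κ : F) κ.ne_zero hM
  refine ⟨A, ?_⟩
  apply gspMult_eq
  rw [hA]
  exact hM

/-- an inner-diagonal automorphism of `PSp` is inner iff the multiplier is a square -/
theorem pspDiag_mem_inn_iff (hm : 1 ≤ m) (g : ↥(Cfsg.GSp m F)) :
    (pspDiag g : MulAut (Cfsg.PSp m F)) ∈ Cfsg.Inn (Cfsg.PSp m F) ↔
      gspMult hm g ∈ (powMonoidHom 2 : Fˣ →* Fˣ).range := by
  rw [mem_inn_psp_iff]
  constructor
  · rintro ⟨s, hs⟩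
    obtain ⟨c, hc⟩ := (pspDiag_eq_iff hm _ _).mp hs
    refine ⟨c, ?_⟩
    rw [hc, map_mul, gspMult_scalarGSp, gspMult_toGSp, mul_one, powMonoidHom_apply, pow_two]
  · rintro ⟨c, hc⟩
    rw [powMonoidHom_apply, pow_two] at hc
    have h1 := gspMult_spec hm g
    rw [← hc, Units.val_mul] at h1
    obtain ⟨s, hs⟩ := gsp_eq_scalar_mul_toGSp_of_sq g c ((transpose_J_mul_eq_iff _ _).mp h1)
    refine ⟨s, ?_⟩
    rw [hs, map_mul, pspDiag_scalarGSp, one_mul]

theorem commGroup_aux3 {G : Type*} [CommGroup G] (x a d₁ d₂ : G)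
    (h : d₂⁻¹ * d₁ = x * a) : d₁⁻¹ * d₂ = a⁻¹ * x⁻¹ := by
  have : d₁⁻¹ * d₂ = (d₂⁻¹ * d₁)⁻¹ := by rw [_root_.mul_inv_rev, inv_inv]
  rw [this, h, _root_.mul_inv_rev]

/-- the number of `Inn`-classes in the `Inndiag`-class of `φ_σ` (symplectic case) -/
theorem splitClassCount_pspField [Finite F] (hm : 1 ≤ m) (σ : RingAut F) {r : ℕ} (hr : 0 < r)
    (hσ : orderOf σ = r) (j : F₀ →+* F) (hj : ∀ a : F, σ a = a ↔ ∃ b, j b = a) :
    Cfsg.splitClassCount (Cfsg.inndiagPSp m F) (Cfsg.Inn (Cfsg.PSp m F)) (pspField σ) =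
      ((Units.map (j : F₀ →* F)).range ⊔ (powMonoidHom 2 : Fˣ →* Fˣ).range).index := by
  have hj' : ∀ a, σ (j a) = j a := fun a => (hj (j a)).mpr ⟨a, rfl⟩
  unfold Subgroup.index
  apply splitClassCount_eq_card (Cfsg.inndiagPSp m F) (Cfsg.Inn (Cfsg.PSp m F)) (pspField σ)
    (pspDiag : ↥(Cfsg.GSp m F) →* MulAut (Cfsg.PSp m F)) inndiagPSp_eq_range.symm
    (fun g : ↥(Cfsg.GSp m F) => (QuotientGroup.mk (gspMult hm g) :
      Fˣ ⧸ ((Units.map (j : F₀ →* F)).range ⊔ (powMonoidHom 2 : Fˣ →* Fˣ).range)))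
  · intro x
    obtain ⟨c, rfl⟩ := QuotientGroup.mk_surjective x
    obtain ⟨g, rfl⟩ := gspMult_surjective (F := F) hm c
    exact ⟨g, rfl⟩
  · intro g₁ g₂
    show (QuotientGroup.mk (gspMult hm g₁) :
      Fˣ ⧸ ((Units.map (j : F₀ →* F)).range ⊔ (powMonoidHom 2 : Fˣ →* Fˣ).range)) =
      QuotientGroup.mk (gspMult hm g₂) ↔ _
    rw [QuotientGroup.eq]
    constructor
    · intro hmem
      rw [Subgroup.mem_sup] at hmem
      obtain ⟨y, ⟨κ, rfl⟩, z, ⟨u, rfl⟩, hyz⟩ := hmem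
      obtain ⟨A, hA⟩ := gspMult_surjective (F := F₀) hm κ⁻¹
      have hinn : (pspDiag (g₂ * gspSub j A * g₁⁻¹) : MulAut (Cfsg.PSp m F)) ∈
          Cfsg.Inn (Cfsg.PSp m F) := by
        rw [pspDiag_mem_inn_iff hm]
        refine ⟨u, ?_⟩
        rw [map_mul, map_mul, map_inv, gspMult_gspSub, hA, map_inv]
        exact commGroup_aux2 _ _ _ _ hyz
      refine ⟨_, hinn, ?_⟩
      apply conj_eq_of_comm _ (subDiagPSp j A) _ _ _ (subDiagPSp_comm σ j hj' A)
      rw [subDiagPSp_apply, ← map_mul, ← map_mul, inv_mul_cancel_right]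
    · rintro ⟨k, hk, hz⟩
      rw [mem_inn_psp_iff] at hk
      obtain ⟨s, rfl⟩ := hk
      have hcomm := comm_of_conj_eq _ _ _ _ hz
      rw [← map_inv, ← map_mul, ← map_mul] at hcomm
      have hmem : (pspDiag (g₂⁻¹ * toGSp s * g₁) : MulAut (Cfsg.PSp m F)) ∈
          Cfsg.inndiagPSp m F ⊓ Subgroup.centralizer {pspField σ} := by
        refine Subgroup.mem_inf.mpr ⟨pspDiag_mem_inndiagPSp _, ?_⟩
        rw [Subgroup.mem_centralizer_iff]
        intro h hh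
        rw [Set.mem_singleton_iff] at hh
        subst hh
        exact hcomm
      obtain ⟨A, hA⟩ := (mem_inndiag_centralizer_iff_psp hm σ hr hσ j hj _).mp hmem
      rw [subDiagPSp_apply] at hA
      obtain ⟨c, hc⟩ := (pspDiag_eq_iff hm _ _).mp hA.symm
      have hmult := congrArg (gspMult hm) hc
      rw [map_mul, map_mul, map_inv, gspMult_toGSp, mul_one, map_mul, gspMult_scalarGSp,
        gspMult_gspSub] at hmult
      rw [commGroup_aux3 _ _ _ _ hmult]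
      apply Subgroup.mul_mem
      · exact Subgroup.mem_sup_left (Subgroup.inv_mem _ ⟨_, rfl⟩)
      · refine Subgroup.mem_sup_right (Subgroup.inv_mem _ ⟨c, ?_⟩)
        rw [powMonoidHom_apply, pow_two]

end Cfsg.Agent.Lib.Helper43
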