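/-
helper43: explicit automorphisms of `SU_n(F, q)` and `PSU_n(F, q)`: conjugation by general unitary matrices and field
automorphisms, with the bridges to the Prelude predicates.
-/
import Mathlib
import Cfsg.Prelude.Def_LieTypeDatum
import Cfsg.Agent.Lib.Helper43.PSpAut

set_option autoImplicit false

namespace Cfsg.Agent.Lib.Helper43

open scoped MatrixGroups Matrix
open Matrix

variable {n : ℕ} {F : Type*} [Field F] {q : ℕ}

theorem mem_SU_iff' (s : Matrix.SpecialLinearGroup (Fin n) F) :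
    s ∈ Cfsg.SU n F q ↔ ∀ u v : Fin n → F,
      Cfsg.hermForm n F q (s.1 *ᵥ u) (s.1 *ᵥ v) = Cfsg.hermForm n F q u v :=
  Iff.rfl

theorem mem_GU_iff' (g : GL (Fin n) F) :
    g ∈ Cfsg.GU n F q ↔ ∀ u v : Fin n → F,
      Cfsg.hermForm n F q ((g : Matrix (Fin n) (Fin n) F) *ᵥ u)
        ((g : Matrix (Fin n) (Fin n) F) *ᵥ v) = Cfsg.hermForm n F q u v :=
  Iff.rfl

theorem hermForm_map (σ : F →+* F) (u v : Fin n → F) :
    Cfsg.hermForm n F q (fun i => σ (u i)) (fun i => σ (v i)) = σ (Cfsg.hermForm n F q u v) := by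
  unfold Cfsg.hermForm
  rw [map_sum]
  apply Finset.sum_congr rfl
  intro i _
  rw [map_mul, map_pow]

theorem map_mulVec_map' (σ : F →+* F) (M : Matrix (Fin n) (Fin n) F) (v : Fin n → F) :
    (M.map σ) *ᵥ (fun i => σ (v i)) = fun i => σ ((M *ᵥ v) i) := by
  funext i
  simp only [mulVec, dotProduct, map_sum, map_mul, Matrix.map_apply]

/-- the matrix `g s g⁻¹` preserves the Hermitian form -/
theorem conj_preserves (g : GL (Fin n) F) (hg : g ∈ Cfsg.GU n F q)
    (s : Matrix (Fin n) (Fin n) F)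
    (hs : ∀ u v : Fin n → F, Cfsg.hermForm n F q (s *ᵥ u) (s *ᵥ v) = Cfsg.hermForm n F q u v)
    (u v : Fin n → F) :
    Cfsg.hermForm n F q (((g : Matrix (Fin n) (Fin n) F) * s *
        ((g⁻¹ : GL (Fin n) F) : Matrix (Fin n) (Fin n) F)) *ᵥ u)
      (((g : Matrix (Fin n) (Fin n) F) * s *
        ((g⁻¹ : GL (Fin n) F) : Matrix (Fin n) (Fin n) F)) *ᵥ v) = Cfsg.hermForm n F q u v := by
  have hc := (mem_GU_iff' g).mp hg
  have h1 : ∀ w : Fin n → F,
      ((g : Matrix (Fin n) (Fin n) F) * s * ((g⁻¹ : GL (Fin n) F) : Matrix (Fin n) (Fin n) F)) *ᵥ w =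
      (g : Matrix (Fin n) (Fin n) F) *ᵥ (s *ᵥ
        (((g⁻¹ : GL (Fin n) F) : Matrix (Fin n) (Fin n) F) *ᵥ w)) := by
    intro w
    rw [Matrix.mulVec_mulVec, Matrix.mulVec_mulVec]
  have h2 : ∀ w : Fin n → F,
      (g : Matrix (Fin n) (Fin n) F) *ᵥ
        (((g⁻¹ : GL (Fin n) F) : Matrix (Fin n) (Fin n) F) *ᵥ w) = w := by
    intro w
    rw [Matrix.mulVec_mulVec, gl_mul_inv_coe, Matrix.one_mulVec]
  rw [h1, h1, hc, hs]
  conv_rhs => rw [← h2 u, ← h2 v, hc]

theorem det_conj_eq_one (g : GL (Fin n) F) (s : Matrix (Fin n) (Fin n) F) (hs : s.det = 1) :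
    ((g : Matrix (Fin n) (Fin n) F) * s *
      ((g⁻¹ : GL (Fin n) F) : Matrix (Fin n) (Fin n) F)).det = 1 := by
  rw [Matrix.det_mul, Matrix.det_mul, hs, mul_one, ← Matrix.det_mul, gl_mul_inv_coe, Matrix.det_one]

/-- conjugation by `g ∈ GU` as an endomorphism of `SU` -/
def suConjHom (g : ↥(Cfsg.GU n F q)) : ↥(Cfsg.SU n F q) →* ↥(Cfsg.SU n F q) where
  toFun s := ⟨⟨((g : GL (Fin n) F) : Matrix (Fin n) (Fin n) F) * s.1.1 *
    (((g : GL (Fin n) F)⁻¹ : GL (Fin n) F) : Matrix (Fin n) (Fin n) F),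
      det_conj_eq_one g.1 s.1.1 s.1.2⟩,
    fun u v => conj_preserves g.1 g.2 s.1.1 ((mem_SU_iff' s.1).mp s.2) u v⟩
  map_one' := by
    apply Subtype.ext
    apply Subtype.ext
    show ((g : GL (Fin n) F) : Matrix (Fin n) (Fin n) F) * 1 * _ = 1
    rw [Matrix.mul_one, gl_mul_inv_coe]
  map_mul' s t := by
    apply Subtype.ext
    apply Subtype.ext
    show ((g : GL (Fin n) F) : Matrix (Fin n) (Fin n) F) * (s.1.1 * t.1.1) * _ =
      (_ * s.1.1 * _) * (_ * t.1.1 * _)
    have h := gl_inv_mul_coe (g : GL (Fin n) F)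
    calc ((g : GL (Fin n) F) : Matrix (Fin n) (Fin n) F) * (s.1.1 * t.1.1) *
          (((g : GL (Fin n) F)⁻¹ : GL (Fin n) F) : Matrix _ _ F)
        = ((g : GL (Fin n) F) : Matrix (Fin n) (Fin n) F) * s.1.1 * 1 * t.1.1 *
          (((g : GL (Fin n) F)⁻¹ : GL (Fin n) F) : Matrix _ _ F) := by
          rw [Matrix.mul_one]; simp only [Matrix.mul_assoc]
      _ = _ := by rw [← h]; simp only [Matrix.mul_assoc]

theorem suConjHom_coe (g : ↥(Cfsg.GU n F q)) (s : ↥(Cfsg.SU n F q)) :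
    ((suConjHom g s : ↥(Cfsg.SU n F q)).1.1 : Matrix (Fin n) (Fin n) F) =
    ((g : GL (Fin n) F) : Matrix (Fin n) (Fin n) F) * s.1.1 *
    (((g : GL (Fin n) F)⁻¹ : GL (Fin n) F) : Matrix (Fin n) (Fin n) F) := rfl

theorem su_ext {s t : ↥(Cfsg.SU n F q)} (h : s.1.1 = t.1.1) : s = t :=
  Subtype.ext (Subtype.ext h)

theorem suConjHom_one : suConjHom (1 : ↥(Cfsg.GU n F q)) = MonoidHom.id _ := by
  apply MonoidHom.ext
  intro s
  apply su_ext
  rw [suConjHom_coe]
  simp

theorem suConjHom_mul (g h : ↥(Cfsg.GU n F q)) :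
    suConjHom (g * h) = (suConjHom g).comp (suConjHom h) := by
  apply MonoidHom.ext
  intro s
  apply su_ext
  rw [MonoidHom.comp_apply, suConjHom_coe, suConjHom_coe, suConjHom_coe]
  rw [Subgroup.coe_mul, _root_.mul_inv_rev, Matrix.GeneralLinearGroup.coe_mul,
    Matrix.GeneralLinearGroup.coe_mul]
  simp only [Matrix.mul_assoc]

/-- conjugation of `SU_n` by a general unitary matrix -/
def suConj : ↥(Cfsg.GU n F q) →* MulAut ↥(Cfsg.SU n F q) where
  toFun g := MonoidHom.toMulEquiv (suConjHom g) (suConjHom g⁻¹)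
    (by rw [← suConjHom_mul, inv_mul_cancel, suConjHom_one])
    (by rw [← suConjHom_mul, mul_inv_cancel, suConjHom_one])
  map_one' := by
    apply MulEquiv.ext
    intro s
    show suConjHom 1 s = s
    rw [suConjHom_one]; rfl
  map_mul' g h := by
    apply MulEquiv.ext
    intro s
    show suConjHom (g * h) s = suConjHom g (suConjHom h s)
    rw [suConjHom_mul]; rfl

theorem suConj_apply_coe (g : ↥(Cfsg.GU n F q)) (s : ↥(Cfsg.SU n F q)) :
    ((suConj g s : ↥(Cfsg.SU n F q)).1.1 : Matrix (Fin n) (Fin n) F) =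
    ((g : GL (Fin n) F) : Matrix (Fin n) (Fin n) F) * s.1.1 *
    (((g : GL (Fin n) F)⁻¹ : GL (Fin n) F) : Matrix (Fin n) (Fin n) F) := rfl

/-! ### field automorphisms -/

theorem map_preserves (σ : RingAut F) (s : Matrix (Fin n) (Fin n) F)
    (hs : ∀ u v : Fin n → F, Cfsg.hermForm n F q (s *ᵥ u) (s *ᵥ v) = Cfsg.hermForm n F q u v)
    (u v : Fin n → F) :
    Cfsg.hermForm n F q ((s.map σ) *ᵥ u) ((s.map σ) *ᵥ v) = Cfsg.hermForm n F q u v := by
  have hu : u = fun i => σ (σ.symm (u i)) := by funext i; exact (σ.apply_symm_apply (u i)).symm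
  have hv : v = fun i => σ (σ.symm (v i)) := by funext i; exact (σ.apply_symm_apply (v i)).symm
  rw [hu, hv]
  have h3 : ∀ w : Fin n → F, (s.map σ) *ᵥ (fun i => σ (σ.symm (w i))) =
      fun i => σ ((s *ᵥ (fun i => σ.symm (w i))) i) := fun w =>
    map_mulVec_map' ((σ : F ≃+* F) : F →+* F) s (fun i => σ.symm (w i))
  rw [h3, h3]
  have h5 : ∀ a b : Fin n → F, Cfsg.hermForm n F q (fun i => σ (a i)) (fun i => σ (b i)) =
      σ (Cfsg.hermForm n F q a b) := fun a b => hermForm_map (n := n) (q := q) ((σ : F ≃+* F) : F →+* F) a b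
  rw [h5, h5, hs]

theorem det_map_eq_one (σ : RingAut F) (s : Matrix (Fin n) (Fin n) F) (hs : s.det = 1) :
    (s.map σ).det = 1 := by
  have h := RingHom.map_det ((σ : F ≃+* F) : F →+* F) s
  rw [hs, map_one] at h
  exact h.symm

/-- `σ` entrywise as an endomorphism of `SU` -/
def suFieldHom (σ : RingAut F) : ↥(Cfsg.SU n F q) →* ↥(Cfsg.SU n F q) where
  toFun s := ⟨⟨s.1.1.map σ, det_map_eq_one σ s.1.1 s.1.2⟩,
    fun u v => map_preserves σ s.1.1 ((mem_SU_iff' s.1).mp s.2) u v⟩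
  map_one' := by
    apply Subtype.ext
    apply Subtype.ext
    show (1 : Matrix (Fin n) (Fin n) F).map σ = 1
    exact Matrix.map_one σ (map_zero σ) (map_one σ)
  map_mul' s t := by
    apply Subtype.ext
    apply Subtype.ext
    show (s.1.1 * t.1.1).map σ = s.1.1.map σ * t.1.1.map σ
    exact Matrix.map_mul (f := ((σ : F ≃+* F) : F →+* F))

/-- the automorphism of `SU_n` induced by a field automorphism -/
def suFieldAut : RingAut F →* MulAut ↥(Cfsg.SU n F q) where
  toFun σ := MonoidHom.toMulEquiv (suFieldHom σ) (suFieldHom σ⁻¹)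
    (by
      apply MonoidHom.ext
      intro s
      apply su_ext
      show (s.1.1.map σ).map (σ⁻¹ : RingAut F) = s.1.1
      ext i j
      exact σ.symm_apply_apply _)
    (by
      apply MonoidHom.ext
      intro s
      apply su_ext
      show (s.1.1.map (σ⁻¹ : RingAut F)).map σ = s.1.1
      ext i j
      exact σ.apply_symm_apply _)
  map_one' := by
    apply MulEquiv.ext
    intro s
    apply su_ext
    show s.1.1.map (1 : RingAut F) = s.1.1
    ext i j
    rfl
  map_mul' σ τ := by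
    apply MulEquiv.ext
    intro s
    apply su_ext
    show s.1.1.map (σ * τ : RingAut F) = (s.1.1.map τ).map σ
    ext i j
    rfl

theorem suFieldAut_apply_coe (σ : RingAut F) (s : ↥(Cfsg.SU n F q)) :
    ((suFieldAut σ s : ↥(Cfsg.SU n F q)).1.1 : Matrix (Fin n) (Fin n) F) = s.1.1.map σ := rfl

/-! ### descent to `PSU` -/

/-- an automorphism of `SU_n` induces an automorphism of `PSU_n` -/
noncomputable def psuDescend : MulAut ↥(Cfsg.SU n F q) →* MulAut (Cfsg.PSU n F q) where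
  toFun α := QuotientGroup.congr (Subgroup.center ↥(Cfsg.SU n F q))
    (Subgroup.center ↥(Cfsg.SU n F q)) α
    (Subgroup.characteristic_iff_map_eq.mp Subgroup.centerCharacteristic α)
  map_one' := by
    apply MulEquiv.ext
    intro x
    obtain ⟨x, rfl⟩ := QuotientGroup.mk_surjective x
    rfl
  map_mul' α β := by
    apply MulEquiv.ext
    intro x
    obtain ⟨x, rfl⟩ := QuotientGroup.mk_surjective x
    rfl

theorem psuDescend_mk (α : MulAut ↥(Cfsg.SU n F q)) (x : ↥(Cfsg.SU n F q)) :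
    psuDescend α (QuotientGroup.mk x : Cfsg.PSU n F q) = QuotientGroup.mk (α x) := rfl

theorem psuDescend_conj (g : ↥(Cfsg.SU n F q)) :
    psuDescend (MulAut.conj g) = MulAut.conj (QuotientGroup.mk g : Cfsg.PSU n F q) := by
  apply MulEquiv.ext
  intro x
  obtain ⟨x, rfl⟩ := QuotientGroup.mk_surjective x
  rfl

/-- inner-diagonal automorphisms of `PSU_n` -/
noncomputable def psuDiag : ↥(Cfsg.GU n F q) →* MulAut (Cfsg.PSU n F q) :=
  psuDescend.comp suConj

/-- field automorphisms of `PSU_n` -/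
noncomputable def psuField : RingAut F →* MulAut (Cfsg.PSU n F q) :=
  psuDescend.comp suFieldAut

theorem psuDiag_mk (g : ↥(Cfsg.GU n F q)) (s : ↥(Cfsg.SU n F q)) :
    psuDiag g (QuotientGroup.mk s : Cfsg.PSU n F q) = QuotientGroup.mk (suConj g s) := rfl

theorem psuField_mk (σ : RingAut F) (s : ↥(Cfsg.SU n F q)) :
    psuField σ (QuotientGroup.mk s : Cfsg.PSU n F q) = QuotientGroup.mk (suFieldAut σ s) := rfl

end Cfsg.Agent.Lib.Helper43
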