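/-
helper43: relations between the explicit automorphisms of `PSU_n` and the Prelude predicates
(`IsInducedBySemilinearPSU`, `IsFieldAutPSUOf`, `IsInnerDiagonalAutPSU`, `inndiagPSU`, `gammaPSU`).
-/
import Mathlib
import Cfsg.Agent.Lib.Helper43.PSUAut

set_option autoImplicit false

namespace Cfsg.Agent.Lib.Helper43

open scoped MatrixGroups Matrix
open Matrix

variable {n : ℕ} {F : Type*} [Field F] {q : ℕ}

/-- `σ` entrywise preserves `GU` -/
theorem glMap_mem_GU (σ : RingAut F) (g : GL (Fin n) F) (hg : g ∈ Cfsg.GU n F q) :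
    Matrix.GeneralLinearGroup.map ((σ : F ≃+* F) : F →+* F) g ∈ Cfsg.GU n F q := by
  rw [mem_GU_iff']
  intro u v
  exact map_preserves σ (g : Matrix (Fin n) (Fin n) F) ((mem_GU_iff' g).mp hg) u v

/-- `σ` entrywise on `GU` -/
noncomputable def guMap (σ : RingAut F) : ↥(Cfsg.GU n F q) →* ↥(Cfsg.GU n F q) where
  toFun g := ⟨Matrix.GeneralLinearGroup.map ((σ : F ≃+* F) : F →+* F) g.1,
    glMap_mem_GU σ g.1 g.2⟩
  map_one' := by
    apply Subtype.ext
    show Matrix.GeneralLinearGroup.map ((σ : F ≃+* F) : F →+* F) 1 = 1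
    rw [map_one]
  map_mul' g h := by
    apply Subtype.ext
    show Matrix.GeneralLinearGroup.map ((σ : F ≃+* F) : F →+* F) (g.1 * h.1) = _
    rw [map_mul]
    rfl

theorem guMap_coe (σ : RingAut F) (g : ↥(Cfsg.GU n F q)) :
    (((guMap σ g : ↥(Cfsg.GU n F q)) : GL (Fin n) F) : Matrix (Fin n) (Fin n) F) =
    ((g : GL (Fin n) F) : Matrix (Fin n) (Fin n) F).map σ := rfl

theorem guMap_inv_coe (σ : RingAut F) (g : ↥(Cfsg.GU n F q)) :
    ((((guMap σ g : ↥(Cfsg.GU n F q)) : GL (Fin n) F)⁻¹ : GL (Fin n) F) :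
      Matrix (Fin n) (Fin n) F) =
    ((((g : GL (Fin n) F)⁻¹ : GL (Fin n) F)) : Matrix (Fin n) (Fin n) F).map σ := by
  show ((Matrix.GeneralLinearGroup.map ((σ : F ≃+* F) : F →+* F) g.1)⁻¹ : GL (Fin n) F).1 = _
  rw [← map_inv]
  rfl

theorem suFieldAut_mul_suConj (σ : RingAut F) (g : ↥(Cfsg.GU n F q)) :
    (suFieldAut σ : MulAut ↥(Cfsg.SU n F q)) * suConj g = suConj (guMap σ g) * suFieldAut σ := by
  apply MulEquiv.ext
  intro s
  apply su_ext
  rw [MulAut.mul_apply, MulAut.mul_apply, suFieldAut_apply_coe, suConj_apply_coe, suConj_apply_coe,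
    suFieldAut_apply_coe, guMap_coe, guMap_inv_coe, Matrix.map_mul, Matrix.map_mul]

theorem psuField_mul_psuDiag (σ : RingAut F) (g : ↥(Cfsg.GU n F q)) :
    (psuField σ : MulAut (Cfsg.PSU n F q)) * psuDiag g = psuDiag (guMap σ g) * psuField σ := by
  unfold psuField psuDiag
  rw [MonoidHom.comp_apply, MonoidHom.comp_apply, MonoidHom.comp_apply, ← map_mul, ← map_mul,
    suFieldAut_mul_suConj]

/-! ### bridges to the Prelude predicates -/

theorem isInducedBySemilinearPSU_iff (g : GL (Fin n) F) (hg : g ∈ Cfsg.GU n F q)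
    (σ : F ≃+* F) (β : Cfsg.PSU n F q ≃* Cfsg.PSU n F q) :
    Cfsg.IsInducedBySemilinearPSU g σ β ↔ β = psuDiag ⟨g, hg⟩ * psuField σ := by
  constructor
  · intro h
    apply MulEquiv.ext
    intro x
    obtain ⟨s, rfl⟩ := QuotientGroup.mk_surjective x
    rw [MulAut.mul_apply, psuField_mk, psuDiag_mk]
    exact h s _ rfl
  · rintro rfl s s' hs'
    rw [MulAut.mul_apply, psuField_mk, psuDiag_mk]
    congr 1
    apply su_ext
    rw [hs']
    rfl

theorem isFieldAutPSUOf_iff (σ : F ≃+* F) (β : Cfsg.PSU n F q ≃* Cfsg.PSU n F q) :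
    Cfsg.IsFieldAutPSUOf σ β ↔ β = psuField σ := by
  constructor
  · intro h
    apply MulEquiv.ext
    intro x
    obtain ⟨s, rfl⟩ := QuotientGroup.mk_surjective x
    rw [psuField_mk]
    exact h s _ rfl
  · rintro rfl s s' hs'
    rw [psuField_mk]
    congr 1
    apply su_ext
    rw [hs']
    rfl

theorem psuField_refl : (psuField (RingEquiv.refl F) : MulAut (Cfsg.PSU n F q)) = 1 :=
  map_one psuField

theorem isInnerDiagonalAutPSU_iff (β : Cfsg.PSU n F q ≃* Cfsg.PSU n F q) :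
    Cfsg.IsInnerDiagonalAutPSU β ↔ ∃ g : ↥(Cfsg.GU n F q), β = psuDiag g := by
  constructor
  · rintro ⟨g, hg, h⟩
    refine ⟨⟨g, hg⟩, ?_⟩
    apply MulEquiv.ext
    intro x
    obtain ⟨s, rfl⟩ := QuotientGroup.mk_surjective x
    rw [psuDiag_mk]
    exact h s _ rfl
  · rintro ⟨g, rfl⟩
    refine ⟨g.1, g.2, ?_⟩
    intro s s' hs'
    rw [psuDiag_mk]
    congr 1
    apply su_ext
    rw [hs']
    rfl

/-- `Inndiag(PSU_n)` is the range of `psuDiag` -/
theorem inndiagPSU_eq_range :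
    Cfsg.inndiagPSU n F q = (psuDiag : ↥(Cfsg.GU n F q) →* MulAut (Cfsg.PSU n F q)).range := by
  unfold Cfsg.inndiagPSU Cfsg.autSubgroupOf
  apply le_antisymm
  · rw [Subgroup.closure_le]
    intro β hβ
    obtain ⟨g, rfl⟩ := (isInnerDiagonalAutPSU_iff β).mp hβ
    exact ⟨g, rfl⟩
  · rintro _ ⟨g, rfl⟩
    exact Subgroup.subset_closure ((isInnerDiagonalAutPSU_iff _).mpr ⟨g, rfl⟩)

theorem psuDiag_mem_inndiagPSU (g : ↥(Cfsg.GU n F q)) :
    (psuDiag g : MulAut (Cfsg.PSU n F q)) ∈ Cfsg.inndiagPSU n F q := by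
  rw [inndiagPSU_eq_range]
  exact ⟨g, rfl⟩

/-- the standard automorphisms `psuDiag g * psuField σ` form a subgroup -/
noncomputable def stdAutPSU (n : ℕ) (F : Type*) [Field F] (q : ℕ) :
    Subgroup (MulAut (Cfsg.PSU n F q)) where
  carrier := {β | ∃ (g : ↥(Cfsg.GU n F q)) (σ : RingAut F), β = psuDiag g * psuField σ}
  one_mem' := ⟨1, 1, by rw [map_one, map_one, mul_one]⟩
  mul_mem' := by
    rintro _ _ ⟨g, σ, rfl⟩ ⟨g', σ', rfl⟩
    refine ⟨g * guMap σ g', σ * σ', ?_⟩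
    rw [mul_assoc, ← mul_assoc (psuField σ), psuField_mul_psuDiag, map_mul, map_mul]
    simp only [mul_assoc]
  inv_mem' := by
    rintro _ ⟨g, σ, rfl⟩
    refine ⟨guMap σ⁻¹ g⁻¹, σ⁻¹, ?_⟩
    rw [_root_.mul_inv_rev, ← map_inv, ← map_inv, psuField_mul_psuDiag]

/-- if `gammaPSU = ⊤` then every automorphism is standard -/
theorem exists_std_of_gammaPSU_eq_top (h : Cfsg.gammaPSU n F q = ⊤) (β : MulAut (Cfsg.PSU n F q)) :
    ∃ (g : ↥(Cfsg.GU n F q)) (σ : RingAut F), β = psuDiag g * psuField σ := by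
  have h1 : Cfsg.gammaPSU n F q ≤ stdAutPSU n F q := by
    unfold Cfsg.gammaPSU Cfsg.autSubgroupOf
    rw [Subgroup.closure_le]
    rintro β ⟨g, σ, hg, hβ⟩
    rw [isInducedBySemilinearPSU_iff g hg] at hβ
    exact ⟨⟨g, hg⟩, σ, hβ⟩
  rw [h] at h1
  exact h1 (Subgroup.mem_top β)

/-- normality of `Inndiag(PSU)` (as a property) -/
def InndiagNormalPSU (n : ℕ) (F : Type*) [Field F] (q : ℕ) : Prop :=
  ∀ (α : MulAut (Cfsg.PSU n F q)) (d : ↥(Cfsg.GU n F q)),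
    ∃ d' : ↥(Cfsg.GU n F q), α * psuDiag d * α⁻¹ = psuDiag d'

theorem inndiagNormalPSU_of_std
    (hstd : ∀ β : MulAut (Cfsg.PSU n F q),
      ∃ (g : ↥(Cfsg.GU n F q)) (σ : RingAut F), β = psuDiag g * psuField σ) :
    InndiagNormalPSU n F q := by
  intro α d
  obtain ⟨a, τ, rfl⟩ := hstd α
  refine ⟨a * guMap τ d * a⁻¹, ?_⟩
  rw [_root_.mul_inv_rev, map_mul, map_mul, map_inv]
  calc psuDiag a * psuField τ * psuDiag d * ((psuField τ)⁻¹ * (psuDiag a)⁻¹)
      = psuDiag a * (psuField τ * psuDiag d) * (psuField τ)⁻¹ * (psuDiag a)⁻¹ := by group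
    _ = psuDiag a * psuDiag (guMap τ d) * (psuDiag a)⁻¹ := by
        rw [psuField_mul_psuDiag]; group

theorem inndiagNormalPSU_of_gamma (h : Cfsg.gammaPSU n F q = ⊤) : InndiagNormalPSU n F q :=
  inndiagNormalPSU_of_std (exists_std_of_gammaPSU_eq_top h)

theorem isConjUnder_of_conj_psu (hN : InndiagNormalPSU n F q) (α x y : MulAut (Cfsg.PSU n F q))
    (h : Cfsg.IsConjUnder (Cfsg.inndiagPSU n F q) (α * x * α⁻¹) (α * y * α⁻¹)) :
    Cfsg.IsConjUnder (Cfsg.inndiagPSU n F q) x y := by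
  obtain ⟨b, hb, hxy⟩ := h
  rw [inndiagPSU_eq_range] at hb
  obtain ⟨d, rfl⟩ := hb
  obtain ⟨d', hd'⟩ := hN α⁻¹ d
  rw [inv_inv] at hd'
  refine ⟨psuDiag d', psuDiag_mem_inndiagPSU d', ?_⟩
  rw [← hd']
  have : y = α⁻¹ * (α * y * α⁻¹) * α := by group
  rw [this, hxy]
  group

theorem conj_mem_inndiagPSU (hN : InndiagNormalPSU n F q) (α : MulAut (Cfsg.PSU n F q))
    {δ : MulAut (Cfsg.PSU n F q)} (hδ : δ ∈ Cfsg.inndiagPSU n F q) :
    α * δ * α⁻¹ ∈ Cfsg.inndiagPSU n F q := by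
  rw [inndiagPSU_eq_range] at hδ
  obtain ⟨d, rfl⟩ := hδ
  obtain ⟨d', hd'⟩ := hN α d
  rw [hd']
  exact psuDiag_mem_inndiagPSU d'

end Cfsg.Agent.Lib.Helper43
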