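import Mathlib
import Cfsg.Prelude.Def_Amalgam
import Cfsg.Agent.Lib.Helper68.AmalBDefs
import Cfsg.Agent.Lib.Helper68.AmalBTools
import Cfsg.Agent.Lib.Helper12.AmalVTQuot

/-!
# S2751 (helper68's sheet `AmalBSHEET.md`): module GSB-[THREE] `exists_three_of_normal` (helper43)

A normal subgroup of `G_x` not contained in `Q_x` contains a `3`-element outside `Q_x`.
-/

set_option autoImplicit false

namespace Cfsg.Agent.Lib.Helper68.AmalB

open Cfsg Cfsg.Agent.Lib.Helper12.Amal Cfsg.Agent.Lib.Helper68.AmalD Cfsg.Agent.Lib.Helper68.AmalW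

variable {G : Type*} [Group G] {P₁ P₂ : Subgroup G}

theorem exists_three_of_normal (hW : BaseW P₁ P₂) {x : CosetVertex P₁ P₂} {N : Subgroup G}
    (hN : N ≤ Gv x) (hnorm : Gv x ≤ Subgroup.normalizer (N : Set G)) (hNQ : ¬ N ≤ Qv x) :
    ∃ d ∈ N, d ∉ Qv x ∧ d * d * d = 1 := by
  have fG := hW.fin x
  have fN : Finite ↥N := Finite.of_injective _ (Subgroup.inclusion_injective hN)
  have h3 : 3 ∣ Nat.card ↥N := by
    by_contra h3
    apply hNQ
    apply VTQ.le_Qof hN hnorm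
    have fQ : Finite ↥(Qv x) :=
      Finite.of_injective _ (Subgroup.inclusion_injective (Q_le_G hW x))
    obtain ⟨k, hk⟩ := IsPGroup.iff_card.1 (hW.Q_two x)
    have hdvd : Nat.card ↥N ∣ Nat.card ↥(Gv x) := Subgroup.card_dvd_of_le hN
    rw [hW.card_G x, hk] at hdvd
    have h6 : 6 * 2 ^ k = 3 * 2 ^ (k + 1) := by rw [pow_succ]; ring
    rw [h6] at hdvd
    have hcop : Nat.Coprime (Nat.card ↥N) 3 :=
      (Nat.Coprime.symm ((Nat.Prime.coprime_iff_not_dvd Nat.prime_three).2 h3))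
    have hdvd2 : Nat.card ↥N ∣ 2 ^ (k + 1) := hcop.dvd_of_dvd_mul_left hdvd
    obtain ⟨j, -, hj⟩ := (Nat.dvd_prime_pow Nat.prime_two).1 hdvd2
    exact IsPGroup.of_card hj
  have : Fact (Nat.Prime 3) := ⟨Nat.prime_three⟩
  obtain ⟨d', hd'⟩ := exists_prime_orderOf_dvd_card' 3 h3
  obtain ⟨d, hdN⟩ := d'
  have ho : orderOf d = 3 := by
    rw [← hd']; exact (Subgroup.orderOf_mk d hdN).symm
  have hd3 : d ^ 3 = 1 := by rw [← ho]; exact pow_orderOf_eq_one d
  refine ⟨d, hdN, ?_, ?_⟩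
  · intro hdQ
    obtain ⟨k, hk⟩ := (hW.Q_two x) ⟨d, hdQ⟩
    have hk' : d ^ 2 ^ k = 1 := by simpa using congrArg Subtype.val hk
    have h1 := orderOf_dvd_of_pow_eq_one hk'
    rw [ho] at h1
    have h2 := Nat.Prime.dvd_of_dvd_pow Nat.prime_three h1
    omega
  · rw [← hd3, pow_succ, pow_two]

end Cfsg.Agent.Lib.Helper68.AmalB
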