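/-
helper43: ASCHO2-[EICH] (project ASCHO second sheet, coordinator helper5).
Transport helper44's `eichG_mem_KE` + `commutator_eq_KE` through helper94's `glEquiv` / `map_omegaGL`.
-/
import Mathlib
import Cfsg.Prelude.Def_GeometricClasses
import Cfsg.Agent.Lib.Helper99.AschDefs
import Cfsg.Agent.Lib.Helper5.AschODefs
import Cfsg.Agent.Lib.Helper5.AschOBasic
import Cfsg.Agent.Lib.Helper44.EichlerOdd
import Cfsg.Agent.Lib.Helper94.OrthBridge

set_option autoImplicit false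

namespace Cfsg.Agent.Lib.Helper43.AschO2

open Cfsg Cfsg.Geo
open scoped MatrixGroups Matrix

variable {ι : Type} [Fintype ι] [DecidableEq ι] {F : Type*} [Field F]

/-- the Mathlib `QuadraticForm` with underlying function `Q`, built from the Prelude's
`IsNondegenerateQuadraticForm Q` -/
noncomputable def qfOfNondeg {Q : (ι → F) → F} (hQ : IsNondegenerateQuadraticForm Q) :
    QuadraticForm F (ι → F) where
  toFun := Q
  toFun_smul := fun a x => by rw [hQ.smul, sq, smul_eq_mul]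
  exists_companion' := ⟨Cfsg.Agent.Lib.Helper94.polarBilin hQ, fun x y => by
    rw [Cfsg.Agent.Lib.Helper94.polarBilin_apply, QuadraticMap.polar]; ring⟩

theorem qfOfNondeg_coe {Q : (ι → F) → F} (hQ : IsNondegenerateQuadraticForm Q) :
    ⇑(qfOfNondeg hQ) = Q := rfl

theorem qfOfNondeg_apply {Q : (ι → F) → F} (hQ : IsNondegenerateQuadraticForm Q) (v : ι → F) :
    qfOfNondeg hQ v = Q v := rfl

theorem qfOfNondeg_nondeg {Q : (ι → F) → F} (hQ : IsNondegenerateQuadraticForm Q) :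
    (QuadraticMap.polarBilin (qfOfNondeg hQ)).Nondegenerate := by
  have hleft : ∀ x : ι → F, (∀ y, QuadraticMap.polar Q x y = 0) → x = 0 := by
    intro x hx
    by_contra h0
    obtain ⟨y, hy⟩ := (hQ.nondegenerate x h0).2
    exact hy (hx y)
  constructor
  · intro x hx
    exact hleft x (fun y => hx y)
  · intro y hy
    apply hleft y
    intro x
    rw [QuadraticMap.polar_comm]
    exact hy x

theorem finrank_pi_eq_card : Module.finrank F (ι → F) = Fintype.card ι :=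
  Module.finrank_fintype_fun_eq_card F

/-- helper94's `OG Q` is helper36's `isoGroup` of the bundled form -/
theorem OG_eq_isoGroup {Q : (ι → F) → F} (hQ : IsNondegenerateQuadraticForm Q) :
    Cfsg.Agent.Lib.Helper94.OG Q = Cfsg.Agent.Lib.Helper36.isoGroup (qfOfNondeg hQ) := by
  ext g; exact Iff.rfl

/-- the image of `Ω` in the group of linear automorphisms is the image of `KE` (dimension ≥ 7) -/
theorem map_omegaGL_eq_map_KE [Finite F] {Q : (ι → F) → F} (hQ : IsNondegenerateQuadraticForm Q)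
    (h7 : 7 ≤ Fintype.card ι) :
    (omegaGL Q).map (Cfsg.Agent.Lib.Helper94.glEquiv ι F).toMonoidHom =
      (Cfsg.Agent.Lib.Helper44.KE (qfOfNondeg hQ)).map
        (Cfsg.Agent.Lib.Helper36.isoGroup (qfOfNondeg hQ)).subtype := by
  rw [Cfsg.Agent.Lib.Helper94.map_omegaGL, OG_eq_isoGroup hQ,
    ← Cfsg.Agent.Lib.Helper44.commutator_eq_KE (qfOfNondeg hQ) (qfOfNondeg_nondeg hQ)
      (by rw [finrank_pi_eq_card]; exact h7),
    Subgroup.map_subtype_commutator]

/-- an element of `KE`, pulled back to `GL ι F`, lies in `Ω` -/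
theorem symm_mem_omegaGL_of_mem_KE [Finite F] {Q : (ι → F) → F}
    (hQ : IsNondegenerateQuadraticForm Q) (h7 : 7 ≤ Fintype.card ι)
    (k : ↥(Cfsg.Agent.Lib.Helper36.isoGroup (qfOfNondeg hQ)))
    (hk : k ∈ Cfsg.Agent.Lib.Helper44.KE (qfOfNondeg hQ)) :
    (Cfsg.Agent.Lib.Helper94.glEquiv ι F).symm (k : (ι → F) ≃ₗ[F] (ι → F)) ∈ omegaGL Q := by
  have h1 : (k : (ι → F) ≃ₗ[F] (ι → F)) ∈
      (omegaGL Q).map (Cfsg.Agent.Lib.Helper94.glEquiv ι F).toMonoidHom := by
    rw [map_omegaGL_eq_map_KE hQ h7]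
    exact ⟨k, hk, rfl⟩
  rw [Subgroup.mem_map_equiv] at h1
  exact h1

/-- an element of `Ω` corresponds to an element of `KE` -/
theorem exists_mem_KE_of_mem_omegaGL [Finite F] {Q : (ι → F) → F}
    (hQ : IsNondegenerateQuadraticForm Q) (h7 : 7 ≤ Fintype.card ι)
    (g : GL ι F) (hg : g ∈ omegaGL Q) :
    ∃ k : ↥(Cfsg.Agent.Lib.Helper36.isoGroup (qfOfNondeg hQ)),
      k ∈ Cfsg.Agent.Lib.Helper44.KE (qfOfNondeg hQ) ∧
      (k : (ι → F) ≃ₗ[F] (ι → F)) = Cfsg.Agent.Lib.Helper94.glEquiv ι F g := by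
  have h1 : Cfsg.Agent.Lib.Helper94.glEquiv ι F g ∈
      (omegaGL Q).map (Cfsg.Agent.Lib.Helper94.glEquiv ι F).toMonoidHom :=
    ⟨g, hg, rfl⟩
  rw [map_omegaGL_eq_map_KE hQ h7] at h1
  obtain ⟨k, hk, hkg⟩ := h1
  exact ⟨k, hk, hkg⟩

end Cfsg.Agent.Lib.Helper43.AschO2

namespace Cfsg.Agent.Lib.Helper5.AschO

open Cfsg Cfsg.Geo Cfsg.Agent.Lib.Helper99.Asch
open scoped MatrixGroups Matrix Kronecker

variable {ι : Type} [Fintype ι] [DecidableEq ι] {F : Type*} [Field F] [Fintype F]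

/-- ASCHO2-[EICH]: the Eichler transformation `E(p,w)` as an element of `Ω ≤ GL ι F`. -/
theorem exists_eichler_mem_omegaGL {Q : (ι → F) → F} (hQ : IsNondegenerateQuadraticForm Q)
    (h7 : 7 ≤ Fintype.card ι) (p w : ι → F) (hp : Q p = 0) (hpw : QuadraticMap.polar Q p w = 0) :
    ∃ g : GL ι F, g ∈ omegaGL Q ∧ ∀ z : ι → F, (g : Matrix ι ι F) *ᵥ z =
      z + QuadraticMap.polar Q z w • p - QuadraticMap.polar Q z p • w -
        (Q w * QuadraticMap.polar Q z p) • p := by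
  classical
  let Q' := Cfsg.Agent.Lib.Helper43.AschO2.qfOfNondeg hQ
  have hp' : Q' p = 0 := hp
  have hpw' : QuadraticMap.polar (⇑Q') p w = 0 := hpw
  refine ⟨(Cfsg.Agent.Lib.Helper94.glEquiv ι F).symm
      ((Cfsg.Agent.Lib.Helper44.eichG Q' p w hp' hpw' :
        ↥(Cfsg.Agent.Lib.Helper36.isoGroup Q')) : (ι → F) ≃ₗ[F] (ι → F)),
    Cfsg.Agent.Lib.Helper43.AschO2.symm_mem_omegaGL_of_mem_KE hQ h7 _
      (Cfsg.Agent.Lib.Helper44.eichG_mem_KE Q' p w hp' hpw'), ?_⟩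
  intro z
  rw [Cfsg.Agent.Lib.Helper94.glEquiv_symm_mulVec, Cfsg.Agent.Lib.Helper44.eichG_apply,
    Cfsg.Agent.Lib.Helper13.siegelLin_apply]
  show z + (QuadraticMap.polar Q w z - Q w * QuadraticMap.polar Q p z) • p -
      QuadraticMap.polar Q p z • w = _
  rw [QuadraticMap.polar_comm Q w z, QuadraticMap.polar_comm Q p z, sub_smul]
  abel

end Cfsg.Agent.Lib.Helper5.AschO
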