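/-
helper43: ASCHO2-[PLANE] (project ASCHO second sheet, coordinator helper5).
A long root family `g_a = 1 + a N ∈ Ω`, `N ≠ 0`, `N² = 0`.
-/
import Mathlib
import Cfsg.Prelude.Def_GeometricClasses
import Cfsg.Agent.Lib.Helper99.AschDefs
import Cfsg.Agent.Lib.Helper5.AschODefs
import Cfsg.Agent.Lib.Helper5.AschOBasic
import Cfsg.Agent.Lib.Helper44.Witt
import Cfsg.Agent.Lib.Helper94.OrthBridge
import Cfsg.Agent.Lib.Helper43.AschO2Eich

set_option autoImplicit false

namespace Cfsg.Agent.Lib.Helper43.AschO2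

open Cfsg Cfsg.Geo
open scoped MatrixGroups Matrix

variable {ι : Type} [Fintype ι] [DecidableEq ι] {F : Type*} [Field F]

/-- the nilpotent `z ↦ f(z,w) p − f(z,p) w` as a linear map -/
noncomputable def rootLin {Q : (ι → F) → F} (hQ : IsNondegenerateQuadraticForm Q) (p w : ι → F) :
    (ι → F) →ₗ[F] (ι → F) :=
  ((Cfsg.Agent.Lib.Helper94.polarBilin hQ).flip w).smulRight p -
    ((Cfsg.Agent.Lib.Helper94.polarBilin hQ).flip p).smulRight w

theorem rootLin_apply {Q : (ι → F) → F} (hQ : IsNondegenerateQuadraticForm Q) (p w z : ι → F) :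
    rootLin hQ p w z = QuadraticMap.polar Q z w • p - QuadraticMap.polar Q z p • w := by
  simp [rootLin, LinearMap.smulRight_apply, Cfsg.Agent.Lib.Helper94.polarBilin_apply]

/-- a singular pair `p, w` with `f(p,w) = 0`, linearly independent, together with a vector `p'`
with `f(p',p) = 1`, `f(p',w) = 0` (finite field, dimension ≥ 7; in fact ≥ 5 suffices) -/
theorem exists_singular_pair [Finite F] {Q : (ι → F) → F} (hQ : IsNondegenerateQuadraticForm Q)
    (h7 : 7 ≤ Fintype.card ι) :
    ∃ p w p' : ι → F, Q p = 0 ∧ Q w = 0 ∧ QuadraticMap.polar Q p w = 0 ∧ w ≠ 0 ∧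
      QuadraticMap.polar Q p' p = 1 ∧ QuadraticMap.polar Q p' w = 0 := by
  classical
  let Q' := qfOfNondeg hQ
  have hnd := qfOfNondeg_nondeg hQ
  have hfr : Module.finrank F (ι → F) = Fintype.card ι := finrank_pi_eq_card
  obtain ⟨p, hp0, hQp⟩ := Cfsg.Agent.Lib.Helper44.exists_isotropic Q' (by rw [hfr]; omega)
  obtain ⟨p', hQp', hpp'⟩ := Cfsg.Agent.Lib.Helper44.exists_hyp_partner Q' hnd p hp0 hQp
  obtain ⟨W, -, hWd, hWperp⟩ := Cfsg.Agent.Lib.Helper44.hyp_split Q' hnd p p' hQp hQp' hpp'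
  obtain ⟨w0, hw0, hQw0⟩ := Cfsg.Agent.Lib.Helper44.exists_isotropic (Q'.comp W.subtype)
    (by rw [hfr] at hWd; omega)
  refine ⟨p, (w0 : ι → F), p', hQp, hQw0, (hWperp _ w0.2).1, ?_, ?_, (hWperp _ w0.2).2⟩
  · intro h
    apply hw0
    exact Subtype.ext h
  · show QuadraticMap.polar (⇑Q') p' p = 1
    rw [QuadraticMap.polar_comm]
    exact hpp'

end Cfsg.Agent.Lib.Helper43.AschO2

namespace Cfsg.Agent.Lib.Helper5.AschO

open Cfsg Cfsg.Geo Cfsg.Agent.Lib.Helper99.Asch
open scoped MatrixGroups Matrix Kronecker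

variable {ι : Type} [Fintype ι] [DecidableEq ι] {F : Type*} [Field F] [Fintype F]

/-- ASCHO2-[PLANE]: a long root family `g_a = 1 + a N ∈ Ω`. -/
theorem exists_long_root_family {Q : (ι → F) → F} (hQ : IsNondegenerateQuadraticForm Q)
    (hodd : Odd (Fintype.card F)) (h7 : 7 ≤ Fintype.card ι) :
    ∃ (N : Matrix ι ι F) (p w : ι → F), LinearIndependent F ![p, w] ∧ N ≠ 0 ∧ N * N = 0 ∧
      (∀ z, N *ᵥ z = QuadraticMap.polar Q z w • p - QuadraticMap.polar Q z p • w) ∧
      ∀ a : F, ∃ g : GL ι F, g ∈ omegaGL Q ∧ (g : Matrix ι ι F) = 1 + a • N := by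
  classical
  obtain ⟨p, w, p', hQp, hQw, hpw, hw0, hp'p, hp'w⟩ :=
    Cfsg.Agent.Lib.Helper43.AschO2.exists_singular_pair hQ h7
  have hB := hQ.polar_bilinear
  have hwp : QuadraticMap.polar Q w p = 0 := by rw [QuadraticMap.polar_comm]; exact hpw
  have hpp : QuadraticMap.polar Q p p = 0 := by
    have := (Cfsg.Agent.Lib.Helper94.quadData_polarBilin hQ).self p
    rw [Cfsg.Agent.Lib.Helper94.polarBilin_apply, hQp, mul_zero] at this
    exact this
  have hww : QuadraticMap.polar Q w w = 0 := by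
    have := (Cfsg.Agent.Lib.Helper94.quadData_polarBilin hQ).self w
    rw [Cfsg.Agent.Lib.Helper94.polarBilin_apply, hQw, mul_zero] at this
    exact this
  set Nl := Cfsg.Agent.Lib.Helper43.AschO2.rootLin hQ p w with hNl
  have hNlz : ∀ z, Nl z = QuadraticMap.polar Q z w • p - QuadraticMap.polar Q z p • w :=
    fun z => Cfsg.Agent.Lib.Helper43.AschO2.rootLin_apply hQ p w z
  have hmulVec : ∀ z, (LinearMap.toMatrix' Nl) *ᵥ z = Nl z := by
    intro z
    rw [← Matrix.toLin'_apply, Matrix.toLin'_toMatrix']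
  have hpol_add : ∀ x y v, QuadraticMap.polar Q (x + y) v =
      QuadraticMap.polar Q x v + QuadraticMap.polar Q y v := fun x y v => hB.add_left x y v
  have hpol_smul : ∀ (c : F) x v, QuadraticMap.polar Q (c • x) v = c * QuadraticMap.polar Q x v :=
    fun c x v => hB.smul_left c x v
  have hpol_sub : ∀ x y v, QuadraticMap.polar Q (x - y) v =
      QuadraticMap.polar Q x v - QuadraticMap.polar Q y v := by
    intro x y v
    have h := hpol_add (x - y) y v
    rw [sub_add_cancel] at h
    rw [h]; ring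
  refine ⟨LinearMap.toMatrix' Nl, p, w, ?_, ?_, ?_, ?_, ?_⟩
  · -- linear independence
    rw [LinearIndependent.pair_iff]
    intro s t hst
    have h1 : QuadraticMap.polar Q p' (s • p + t • w) = 0 := by
      rw [hst]
      have := (Cfsg.Agent.Lib.Helper94.polarBilin hQ p').map_zero
      rwa [Cfsg.Agent.Lib.Helper94.polarBilin_apply] at this
    have h2 : QuadraticMap.polar Q p' (s • p + t • w) = s := by
      have := (Cfsg.Agent.Lib.Helper94.polarBilin hQ p').map_add (s • p) (t • w)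
      rw [Cfsg.Agent.Lib.Helper94.polarBilin_apply] at this
      rw [this, map_smul, map_smul, Cfsg.Agent.Lib.Helper94.polarBilin_apply,
        Cfsg.Agent.Lib.Helper94.polarBilin_apply, hp'p, hp'w]
      simp
    have hs : s = 0 := by rw [← h2, h1]
    refine ⟨hs, ?_⟩
    rw [hs, zero_smul, zero_add] at hst
    rcases smul_eq_zero.1 hst with h | h
    · exact h
    · exact absurd h hw0
  · -- N ≠ 0
    intro h0
    have h1 := hmulVec p'
    rw [h0, Matrix.zero_mulVec, hNlz, hp'p, hp'w, zero_smul, one_smul, zero_sub] at h1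
    exact hw0 (neg_eq_zero.1 h1.symm)
  · -- N² = 0
    rw [← LinearMap.toMatrix'_comp]
    have : Nl ∘ₗ Nl = 0 := by
      apply LinearMap.ext
      intro z
      rw [LinearMap.comp_apply, LinearMap.zero_apply, hNlz (Nl z), hNlz z, hpol_sub, hpol_sub,
        hpol_smul, hpol_smul, hpol_smul, hpol_smul, hpw, hwp, hpp, hww]
      simp
    rw [this, map_zero]
  · intro z
    rw [hmulVec, hNlz]
  · intro a
    obtain ⟨g, hg, hgz⟩ := exists_eichler_mem_omegaGL hQ h7 p (a • w) hQp
      (by
        have := (Cfsg.Agent.Lib.Helper94.polarBilin hQ p).map_smul a w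
        rw [Cfsg.Agent.Lib.Helper94.polarBilin_apply,
          Cfsg.Agent.Lib.Helper94.polarBilin_apply, hpw, smul_zero] at this
        exact this)
    refine ⟨g, hg, ?_⟩
    apply Matrix.toLin'.injective
    apply LinearMap.ext
    intro z
    rw [Matrix.toLin'_apply, Matrix.toLin'_apply, hgz, Matrix.add_mulVec, Matrix.one_mulVec,
      Matrix.smul_mulVec, hmulVec, hNlz, hQ.smul, hQw, mul_zero, zero_mul, zero_smul, sub_zero]
    have h1 : QuadraticMap.polar Q z (a • w) = a * QuadraticMap.polar Q z w := by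
      have := (Cfsg.Agent.Lib.Helper94.polarBilin hQ z).map_smul a w
      rw [Cfsg.Agent.Lib.Helper94.polarBilin_apply,
        Cfsg.Agent.Lib.Helper94.polarBilin_apply, smul_eq_mul] at this
      exact this
    rw [h1, smul_sub, smul_smul, smul_smul, smul_smul, mul_comm (QuadraticMap.polar Q z p) a]
    abel

end Cfsg.Agent.Lib.Helper5.AschO
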