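/-
helper43: ASCHO2-[ISOTROPIC] (hedge; project ASCHO second sheet, coordinator helper5).
-/
import Mathlib
import Cfsg.Prelude.Def_GeometricClasses
import Cfsg.Agent.Lib.Helper99.AschDefs
import Cfsg.Agent.Lib.Helper5.AschODefs
import Cfsg.Agent.Lib.Helper5.AschOBasic
import Cfsg.Agent.Lib.Helper44.Witt
import Cfsg.Agent.Lib.Helper43.AschO2Eich

set_option autoImplicit false

namespace Cfsg.Agent.Lib.Helper5.AschO

open Cfsg Cfsg.Geo Cfsg.Agent.Lib.Helper99.Asch
open scoped MatrixGroups Matrix Kronecker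

variable {ι : Type} [Fintype ι] [DecidableEq ι] {F : Type*} [Field F] [Fintype F]

/-- ASCHO2-[ISOTROPIC]: a subspace of dimension ≥ 3 contains a non-zero singular vector
(Chevalley–Warning, helper44 `exists_isotropic`). -/
theorem exists_singular_of_three_le {Q : (ι → F) → F} (hQ : IsNondegenerateQuadraticForm Q)
    (hodd : Odd (Fintype.card F)) (U : Submodule F (ι → F))
    (hU : IsNondegenerateOn (QuadraticMap.polar Q) U) (h3 : 3 ≤ Module.finrank F U) :
    ∃ p ∈ U, p ≠ 0 ∧ Q p = 0 := by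
  classical
  obtain ⟨v, hv0, hQv⟩ := Cfsg.Agent.Lib.Helper44.exists_isotropic
    ((Cfsg.Agent.Lib.Helper43.AschO2.qfOfNondeg hQ).comp U.subtype) h3
  refine ⟨(v : ι → F), v.2, ?_, hQv⟩
  intro h
  exact hv0 (Subtype.ext h)

end Cfsg.Agent.Lib.Helper5.AschO
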