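/-
helper43: ASCHO2-[P-1A] (project ASCHO second sheet, coordinator helper5).
helper44's `ts_stab_lt` through the bridges.
-/
import Mathlib
import Cfsg.Prelude.Def_GeometricClasses
import Cfsg.Agent.Lib.Helper99.AschDefs
import Cfsg.Agent.Lib.Helper5.AschODefs
import Cfsg.Agent.Lib.Helper5.AschOBasic
import Cfsg.Agent.Lib.Helper44.TSMax2
import Cfsg.Agent.Lib.Helper94.OrthBridge
import Cfsg.Agent.Lib.Helper43.AschO2Eich

set_option autoImplicit false

namespace Cfsg.Agent.Lib.Helper5.AschO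

open Cfsg Cfsg.Geo Cfsg.Agent.Lib.Helper99.Asch
open scoped MatrixGroups Matrix Kronecker

variable {ι : Type} [Fintype ι] [DecidableEq ι] {F : Type*} [Field F] [Fintype F]

/-- ASCHO2-[P-1A]: `Ω` does not stabilise a non-zero totally singular subspace. -/
theorem not_omegaGL_le_stab_singular {Q : (ι → F) → F} (hQ : IsNondegenerateQuadraticForm Q)
    (h7 : 7 ≤ Fintype.card ι) (W : Submodule F (ι → F)) (hW0 : W ≠ ⊥)
    (hW : IsTotallySingularQuad Q W) : ¬ omegaGL Q ≤ subspaceStabilizer W := by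
  classical
  intro hle
  let Q' := Cfsg.Agent.Lib.Helper43.AschO2.qfOfNondeg hQ
  have hlt := Cfsg.Agent.Lib.Helper44.ts_stab_lt Q'
    (Cfsg.Agent.Lib.Helper43.AschO2.qfOfNondeg_nondeg hQ)
    (by rw [Cfsg.Agent.Lib.Helper43.AschO2.finrank_pi_eq_card]; omega) W hW0
    (fun w hw => hW w hw)
  apply ne_of_lt hlt
  apply le_antisymm inf_le_right
  intro k hk
  refine ⟨?_, hk⟩
  -- k, pulled back to GL, lies in Ω, hence stabilises W
  have h1 := Cfsg.Agent.Lib.Helper43.AschO2.symm_mem_omegaGL_of_mem_KE hQ h7 k hk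
  have h2 := hle h1
  have h3 : (k : (ι → F) ≃ₗ[F] (ι → F)) ∈
      (subspaceStabilizer W).map (Cfsg.Agent.Lib.Helper94.glEquiv ι F).toMonoidHom := by
    rw [Subgroup.mem_map_equiv]
    exact h2
  rw [Cfsg.Agent.Lib.Helper94.map_subspaceStabilizer] at h3
  show k ∈ Cfsg.Agent.Lib.Helper44.stabG Q' W
  rw [Cfsg.Agent.Lib.Helper44.mem_stabG]
  exact h3

end Cfsg.Agent.Lib.Helper5.AschO
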