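/-
helper43: ASCHO2-[R-PLUS3] (hedge; project ASCHO second sheet, coordinator helper5).
`q = 3`: the stabiliser of a plus-type plane stabilises a non-degenerate hyperplane.
-/
import Mathlib
import Cfsg.Prelude.Def_GeometricClasses
import Cfsg.Agent.Lib.Helper99.AschDefs
import Cfsg.Agent.Lib.Helper5.AschODefs
import Cfsg.Agent.Lib.Helper5.AschOBasic
import Cfsg.Agent.Lib.Helper94.OrthBridge
import Cfsg.Agent.Lib.Helper94.OmegaSubOdd2
import Cfsg.Agent.Lib.Helper31.AschO2R1B

set_option autoImplicit false

namespace Cfsg.Agent.Lib.Helper5.AschO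

open Cfsg Cfsg.Geo Cfsg.Agent.Lib.Helper99.Asch
open scoped MatrixGroups Matrix Kronecker

variable {ι : Type} [Fintype ι] [DecidableEq ι] {F : Type*} [Field F] [Fintype F]

open Cfsg.Agent.Lib.Helper94 in
/-- ASCHO2-[R-PLUS3] -/
theorem exists_hyperplane_of_plus_plane {Q : (ι → F) → F} (hQ : IsNondegenerateQuadraticForm Q) (hF : Fintype.card F = 3)
    (hn : Odd (Fintype.card ι)) (h7 : 7 ≤ Fintype.card ι)
    (W : Submodule F (ι → F)) (hdim : Module.finrank F W = 2) (hW : IsNondegenerateOn (QuadraticMap.polar Q) W)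
    (hplus : IsPlusTypeOn Q W) :
    ∃ U : Submodule F (ι → F), U ≠ ⊥ ∧ U ≠ ⊤ ∧ Even (Module.finrank F U) ∧ Module.finrank F U ≠ 2 ∧
      IsNondegenerateOn (QuadraticMap.polar Q) U ∧
      subspaceStabilizer W ⊓ isometryGroup F Q ≤ subspaceStabilizer U := by
  classical
  have hD := quadData_polarBilin hQ
  have hnd : ∀ x, (∀ y, polarBilin hQ x y = 0) → x = 0 := nondeg_polarBilin hQ
  obtain ⟨e, f, hWef, hQe, hQf, hef⟩ := exists_hyp_basis hQ W hdim hW hplus
  -- the field with three elements
  have h2 : (2 : F) ≠ 0 := by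
    intro h
    have hc : ringChar F = 2 :=
      CharP.ringChar_of_prime_eq_zero Nat.prime_two (by exact_mod_cast h)
    have := FiniteField.even_card_iff_char_two.1 hc
    rw [hF] at this
    exact absurd this (by decide)
  have h3 : (3 : F) = 0 := by
    have := Nat.cast_card_eq_zero F
    rw [hF] at this
    exact_mod_cast this
  have hcube : ∀ a : F, a = 0 ∨ a = 1 ∨ a = -1 := by
    intro a
    have h := FiniteField.pow_card a
    rw [hF] at h
    have h' : a * (a - 1) * (a + 1) = 0 := by linear_combination h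
    rcases mul_eq_zero.1 h' with h'' | h''
    · rcases mul_eq_zero.1 h'' with h''' | h'''
      · exact Or.inl h'''
      · exact Or.inr (Or.inl (sub_eq_zero.1 h'''))
    · exact Or.inr (Or.inr (eq_neg_of_add_eq_zero_left h''))
  have hneg1 : (-1 : F) ≠ 1 := by
    intro h
    apply h2
    linear_combination -h
  have hprod : ∀ a b : F, a * b = 1 → (a = 1 ∧ b = 1) ∨ (a = -1 ∧ b = -1) := by
    intro a b hab
    rcases hcube a with rfl | rfl | rfl
    · rw [zero_mul] at hab; exact absurd hab zero_ne_one
    · rw [one_mul] at hab; exact Or.inl ⟨rfl, hab⟩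
    · right
      refine ⟨rfl, ?_⟩
      linear_combination -hab
  -- values on the plane
  have hee : polarBilin hQ e e = 0 := by rw [hD.self, hQe, mul_zero]
  have hff : polarBilin hQ f f = 0 := by rw [hD.self, hQf, mul_zero]
  have hfe : polarBilin hQ f e = 1 := by rw [hD.symm]; exact hef
  have hQab : ∀ a b : F, Q (a • e + b • f) = a * b := by
    intro a b
    rw [hD.polar, hD.smul, hD.smul, hQe, hQf]
    simp only [map_smul, LinearMap.smul_apply, hef, smul_eq_mul]
    ring
  set u := e + f with hu
  have hQu : Q u = 1 := by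
    have := hQab 1 1
    rwa [one_smul, one_smul, mul_one] at this
  have huu : polarBilin hQ u u = 2 := by rw [hD.self, hQu, mul_one]
  have hu0 : u ≠ 0 := by
    intro h
    rw [h] at huu
    simp only [map_zero, LinearMap.zero_apply] at huu
    exact h2 huu.symm
  have huW : u ∈ W := by
    rw [hWef]
    exact Submodule.add_mem _ (Submodule.subset_span (by simp)) (Submodule.subset_span (by simp))
  set L : Submodule F (ι → F) := Submodule.span F {u} with hL
  have hLnd : ∀ p ∈ L, (∀ p' ∈ L, polarBilin hQ p p' = 0) → p = 0 := by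
    intro p hp h
    obtain ⟨c, rfl⟩ := Submodule.mem_span_singleton.1 hp
    have := h u (Submodule.mem_span_singleton_self u)
    rw [map_smul, LinearMap.smul_apply, huu, smul_eq_mul] at this
    rcases mul_eq_zero.1 this with h' | h'
    · rw [h', zero_smul]
    · exact absurd h' h2
  have hc := hD.orth_isCompl L hLnd
  have hfr := Submodule.finrank_add_eq_of_isCompl hc
  rw [Module.finrank_fintype_fun_eq_card, hL, finrank_span_singleton hu0, ← hL] at hfr
  have hUnd : IsNondegenerateOn (QuadraticMap.polar Q) ((polarBilin hQ).orthogonal L) :=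
    H31.nondegenerateOn_of_radical hQ _ (hD.orth_nondeg hnd L hLnd)
  obtain ⟨j, hj⟩ := hn
  refine ⟨(polarBilin hQ).orthogonal L, ?_, ?_, ⟨j, by omega⟩, by omega, hUnd, ?_⟩
  · intro h
    rw [h, finrank_bot] at hfr
    omega
  · intro h
    rw [h, finrank_top, Module.finrank_fintype_fun_eq_card] at hfr
    omega
  · -- the stabiliser
    rintro g ⟨hgW, hgI⟩
    apply H31.stab_orthogonal_of_stab hQ L hgI
    have hgW' : ∀ v, v ∈ W ↔ (g : Matrix ι ι F) *ᵥ v ∈ W := hgW
    have hgQ : ∀ x, Q ((g : Matrix ι ι F) *ᵥ x) = Q x := fun x => hgI x x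
    -- g u = ± u
    have hgu : (g : Matrix ι ι F) *ᵥ u = u ∨ (g : Matrix ι ι F) *ᵥ u = -u := by
      have hmem := (hgW' u).1 huW
      rw [hWef, Submodule.mem_span_pair] at hmem
      obtain ⟨a, b, hab⟩ := hmem
      have hq := hgQ u
      rw [← hab, hQab, hQu] at hq
      rcases hprod a b hq with ⟨rfl, rfl⟩ | ⟨rfl, rfl⟩
      · left; rw [← hab, one_smul, one_smul]
      · right; rw [← hab, hu]; simp only [neg_smul, one_smul]; abel
    have hginv : ∀ x, ((g⁻¹ : GL ι F) : Matrix ι ι F) *ᵥ ((g : Matrix ι ι F) *ᵥ x) = x := by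
      intro x
      rw [Matrix.mulVec_mulVec, ← Units.val_mul, inv_mul_cancel, Units.val_one, Matrix.one_mulVec]
    show ∀ v, v ∈ L ↔ (g : Matrix ι ι F) *ᵥ v ∈ L
    intro v
    constructor
    · intro hv
      obtain ⟨c, rfl⟩ := Submodule.mem_span_singleton.1 hv
      rw [Matrix.mulVec_smul]
      rcases hgu with h | h
      · rw [h]; exact L.smul_mem c (Submodule.mem_span_singleton_self u)
      · rw [h]; exact L.smul_mem c (L.neg_mem (Submodule.mem_span_singleton_self u))
    · intro hv
      obtain ⟨c, hc'⟩ := Submodule.mem_span_singleton.1 hv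
      rcases hgu with h | h
      · have : (g : Matrix ι ι F) *ᵥ v = (g : Matrix ι ι F) *ᵥ (c • u) := by
          rw [Matrix.mulVec_smul, h, hc']
        have h' := congrArg (fun x => ((g⁻¹ : GL ι F) : Matrix ι ι F) *ᵥ x) this
        simp only [hginv] at h'
        rw [h']
        exact L.smul_mem c (Submodule.mem_span_singleton_self u)
      · have : (g : Matrix ι ι F) *ᵥ v = (g : Matrix ι ι F) *ᵥ ((-c) • u) := by
          rw [Matrix.mulVec_smul, h, ← hc']; simp
        have h' := congrArg (fun x => ((g⁻¹ : GL ι F) : Matrix ι ι F) *ᵥ x) this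
        simp only [hginv] at h'
        rw [h']
        exact L.smul_mem _ (Submodule.mem_span_singleton_self u)

end Cfsg.Agent.Lib.Helper5.AschO
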