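/-
helper43: module REE-[LONG] for helper19's Ree `²G₂` tower.  For the Chevalley group `G₂(K)` (any field `K`):
the representative `n₀ = n_a n_b n_a n_b n_a n_b` of the longest Weyl element sends `X_r` to `X_{-r}`, inverts `H`,
and the "long" elements `n₀ h` (`h ∈ H`) have `U_n⁻ = U`, `n U n⁻¹ ≤ V`, etc.
-/
import Cfsg.Agent.Lib.Helper18.Tw10
import Cfsg.Agent.Lib.Helper91.ReeFixed

set_option autoImplicit false

namespace Cfsg.Agent.Lib.Helper43.Ree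

open Cfsg.Lie Cfsg.Agent.Lib.Helper18
open Cfsg.Agent.S1099 (hD2)

universe u

/-! ### Table facts for `G₂` -/

theorem g2_nroots : chevG2.nroots = 12 := by decide
theorem g2_rank : chevG2.rank = 2 := by decide

set_option maxRecDepth 100000 in
theorem g2_neg_eq : ∀ r < 12, chevG2.neg r = 11 - r := by decide +kernel

set_option maxRecDepth 100000 in
theorem g2_wordRoot_long : ∀ r < 12, wordRootF chevData_G2.{u}.tabs [0, 1, 0, 1, 0, 1] r = chevG2.neg r := by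
  decide +kernel

set_option maxRecDepth 100000 in
theorem g2_wordRoot_long_rev : ∀ r < 12,
    wordRootF chevData_G2.{u}.tabs ([0, 1, 0, 1, 0, 1] : List ℕ).reverse r = chevG2.neg r := by
  decide +kernel

set_option maxRecDepth 100000 in
theorem g2_wordRoot_sq : ∀ r < 12,
    wordRootF chevData_G2.{u}.tabs ([0, 1, 0, 1, 0, 1] ++ [0, 1, 0, 1, 0, 1]) r = r := by
  decide +kernel

set_option maxRecDepth 100000 in
theorem g2_cartan_neg : ∀ i < 2, ∀ s < 12, chevG2.cartan i (chevG2.neg s) = - chevG2.cartan i s := by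
  decide +kernel

set_option maxRecDepth 100000 in
theorem g2_negRoot_lt : ∀ r < 12, chevG2.IsNegRoot r → r < 6 := by decide +kernel

theorem g2_word_lt : ∀ i ∈ ([0, 1, 0, 1, 0, 1] : List ℕ), i < chevG2.rank := by
  rw [g2_rank]; decide

theorem g2_neg_lt (r : ℕ) (hr : r < 12) : chevG2.neg r < 12 := by
  rw [g2_neg_eq r hr]; omega

theorem g2_neg_neg (r : ℕ) (hr : r < 12) : chevG2.neg (chevG2.neg r) = r := by
  rw [g2_neg_eq r hr, g2_neg_eq (11 - r) (by omega)]; omega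

theorem g2_isPos_iff (r : ℕ) : chevG2.IsPosRoot r ↔ r < 12 ∧ 6 ≤ r := by
  have h := isPosRoot_iff hD2 r
  rw [g2_nroots] at h
  constructor
  · intro hr
    have := h.1 hr
    omega
  · rintro ⟨a, b⟩
    exact h.2 ⟨a, by omega⟩

theorem g2_isNeg_of_lt (r : ℕ) (hr : r < 6) : chevG2.IsNegRoot r :=
  isNegRoot_of_lt chevG2 (signOK_of_mem chevG2 hD2) r (by rw [g2_nroots]; omega) (by rw [g2_nroots]; omega)

section

variable (K : Type u) [Field K]

/-- the representative of the longest Weyl element -/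
noncomputable def reeN0 : GL chevG2.Idx K := nW (F := K) hD2 chevData_G2.{u} [0, 1, 0, 1, 0, 1]

/-- `n` is "long": `n ∈ n₀ H`. -/
def reeLong (n : GL chevG2.Idx K) : Prop := ∃ h ∈ chevG2.diagonalSubgroup K, n = reeN0 K * h

variable {K}

theorem xG_injective (r : ℕ) (hr : r < 12) {a b : K} (h : xG hD2 r a = xG hD2 r b) : a = b := by
  have h1 : xG hD2 r (a + -b) = 1 := by
    rw [← xG_mul, ← xG_inv, h, mul_inv_cancel]
  have h2 : chevG2.x K r (a + -b) = 1 := by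
    have := congrArg Units.val h1
    simpa using this
  have h3 := (Cfsg.Agent.S1024.result chevG2 hD2 r (by rw [g2_nroots]; exact hr) (a + -b)).mp h2
  linear_combination h3

/-- **(a)** `n₀ x_r(t) n₀⁻¹ = x_{-r}(η t)`. -/
theorem reeN0_conj_xG (r : ℕ) (hr : r < 12) (t : K) :
    reeN0 K * xG hD2 r t * (reeN0 K)⁻¹ =
      xG hD2 (chevG2.neg r) ((wordSignF chevData_G2.{u}.tabs [0, 1, 0, 1, 0, 1] r : K) * t) := by
  unfold reeN0
  rw [nW_conj_xG hD2 chevData_G2.{u} _ g2_word_lt r (by rw [g2_nroots]; exact hr) t, g2_wordRoot_long r hr]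

theorem reeN0_inv_conj_xG (r : ℕ) (hr : r < 12) :
    ∃ ε : ℤ, (ε = 1 ∨ ε = -1) ∧ ∀ t : K,
      (reeN0 K)⁻¹ * xG hD2 r t * reeN0 K = xG hD2 (chevG2.neg r) ((ε : K) * t) := by
  obtain ⟨ε, hε, h⟩ := nW_inv_conj_xG (F := K) hD2 chevData_G2.{u} [0, 1, 0, 1, 0, 1] g2_word_lt r
    (by rw [g2_nroots]; exact hr)
  refine ⟨ε, hε, fun t => ?_⟩
  unfold reeN0
  rw [h t, g2_wordRoot_long_rev r hr]

theorem reeN0_mem_N : reeN0 K ∈ chevG2.monomialSubgroup K := nW_mem_monomial hD2 chevData_G2.{u} _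

/-! ### The torus -/

theorem torusHom_conj_xG (c : Fin chevG2.rank → Kˣ) (s : ℕ) (hs : s < 12) (t : K) :
    torusHom chevG2 K c * xG hD2 s t * (torusHom chevG2 K c)⁻¹ =
      xG hD2 s (((chiU chevG2 c s : Kˣ) : K) * t) := by
  have hs' : s < chevG2.nroots := by rw [g2_nroots]; exact hs
  rw [mul_inv_eq_iff_eq_mul]
  apply Units.ext
  rw [Units.val_mul, Units.val_mul, coe_torusHom, coe_xG, coe_xG,
    torus_mul_x chevG2 hD2 (extC chevG2.rank c) (fun i _ => extC_ne_zero _ c i) s hs' t]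
  have := coe_chiU chevG2 c ⟨s, hs'⟩
  rw [← this]

theorem chiU_neg (c : Fin chevG2.rank → Kˣ) (s : ℕ) (hs : s < 12) :
    chiU chevG2 c (chevG2.neg s) = (chiU chevG2 c s)⁻¹ := by
  unfold chiU
  rw [← Finset.prod_inv_distrib]
  apply Finset.prod_congr rfl
  intro i _
  rw [g2_cartan_neg i (show (i : ℕ) < 2 from i.2) s hs, zpow_neg]

theorem chiU_mul (c c' : Fin chevG2.rank → Kˣ) (s : ℕ) :
    chiU chevG2 (c * c') s = chiU chevG2 c s * chiU chevG2 c' s := by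
  unfold chiU
  rw [← Finset.prod_mul_distrib]
  apply Finset.prod_congr rfl
  intro i _
  rw [Pi.mul_apply, mul_zpow]

theorem H_comm (h h' : GL chevG2.Idx K) (hh : h ∈ chevG2.diagonalSubgroup K)
    (hh' : h' ∈ chevG2.diagonalSubgroup K) : h * h' = h' * h := by
  rw [← range_torusHom chevG2 hD2] at hh hh'
  obtain ⟨c, rfl⟩ := hh
  obtain ⟨c', rfl⟩ := hh'
  rw [← map_mul, ← map_mul, mul_comm]

/-- **(b)** `n₀` inverts `H`. -/
theorem reeN0_inverts (h : GL chevG2.Idx K) (hh : h ∈ chevG2.diagonalSubgroup K) :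
    reeN0 K * h * (reeN0 K)⁻¹ = h⁻¹ := by
  have hg : reeN0 K * h * (reeN0 K)⁻¹ ∈ chevG2.diagonalSubgroup K :=
    nW_conj_H hD2 chevData_G2.{u} _ h hh
  have hh0 := hh
  rw [← range_torusHom chevG2 hD2] at hg hh
  obtain ⟨c, hc⟩ := hh
  obtain ⟨c', hc'⟩ := hg
  apply eq_inv_of_mul_eq_one_left
  rw [← hc', ← hc, ← map_mul, ← MonoidHom.mem_ker, mem_ker_torusHom]
  intro s
  have hs : (s : ℕ) < 12 := s.2
  rw [chiU_mul]
  -- compute the action of `n₀ h n₀⁻¹` on `x_s(1)` in two ways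
  obtain ⟨ε, -, hε⟩ := reeN0_inv_conj_xG (K := K) s hs
  have hns := g2_neg_lt s hs
  obtain ⟨η, hη⟩ : ∃ η : K, ∀ t : K,
      reeN0 K * xG hD2 (chevG2.neg s) t * (reeN0 K)⁻¹ = xG hD2 s (η * t) :=
    ⟨_, fun t => by rw [reeN0_conj_xG _ hns, g2_neg_neg s hs]⟩
  have key : ∀ (a : GL chevG2.Idx K) (χ : K),
      (∀ t, a * xG hD2 (chevG2.neg s) t * a⁻¹ = xG hD2 (chevG2.neg s) (χ * t)) →
      (reeN0 K * a * (reeN0 K)⁻¹) * xG hD2 s 1 * (reeN0 K * a * (reeN0 K)⁻¹)⁻¹ =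
        xG hD2 s (η * (χ * (ε : K))) := by
    intro a χ ha
    have e : (reeN0 K * a * (reeN0 K)⁻¹) * xG hD2 s 1 * (reeN0 K * a * (reeN0 K)⁻¹)⁻¹ =
        reeN0 K * (a * ((reeN0 K)⁻¹ * xG hD2 s 1 * reeN0 K) * a⁻¹) * (reeN0 K)⁻¹ := by group
    rw [e, hε, ha, hη, mul_one]
  have k1 := key 1 1 (fun t => by rw [one_mul, one_mul, inv_one, mul_one])
  have e1 : (reeN0 K * 1 * (reeN0 K)⁻¹) * xG hD2 s (1 : K) * (reeN0 K * 1 * (reeN0 K)⁻¹)⁻¹ =
      xG hD2 s 1 := by group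
  rw [e1] at k1
  have hηε : (1 : K) = η * (1 * (ε : K)) := xG_injective s hs k1
  have k2 := key h (((chiU chevG2 c (chevG2.neg s) : Kˣ) : K)) (fun t => by
    rw [← hc]; exact torusHom_conj_xG c (chevG2.neg s) hns t)
  rw [← hc', torusHom_conj_xG c' s hs 1] at k2
  have k3 := xG_injective s hs k2
  rw [chiU_neg c s hs, Units.val_inv_eq_inv_val] at k3
  apply Units.ext
  rw [Units.val_mul, Units.val_one]
  have hne : ((chiU chevG2 c s : Kˣ) : K) ≠ 0 := Units.ne_zero _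
  have : ((chiU chevG2 c' s : Kˣ) : K) = (((chiU chevG2 c s : Kˣ) : K))⁻¹ := by
    calc ((chiU chevG2 c' s : Kˣ) : K) = ((chiU chevG2 c' s : Kˣ) : K) * 1 := (mul_one _).symm
      _ = η * ((((chiU chevG2 c s : Kˣ) : K))⁻¹ * (ε : K)) := k3
      _ = (((chiU chevG2 c s : Kˣ) : K))⁻¹ * (η * (1 * (ε : K))) := by ring
      _ = (((chiU chevG2 c s : Kˣ) : K))⁻¹ := by rw [← hηε, mul_one]
  rw [this, inv_mul_cancel₀ hne]

/-! ### The API for long elements -/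

theorem reeLong_mem_N {n : GL chevG2.Idx K} (hn : reeLong K n) : n ∈ chevG2.monomialSubgroup K := by
  obtain ⟨h, hh, rfl⟩ := hn
  exact mul_mem reeN0_mem_N (diagonal_le_monomial hD2 hh)

theorem reeN0_sq_mem_H : reeN0 K * reeN0 K ∈ chevG2.diagonalSubgroup K := by
  unfold reeN0
  rw [← nW_append]
  apply mem_diagonal_of_pos hD2 chevData_G2.{u}
  · intro i hi
    rcases List.mem_append.1 hi with hi | hi <;> exact g2_word_lt i hi
  · intro r hr
    obtain ⟨h1, h2⟩ := (g2_isPos_iff r).1 hr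
    rw [g2_wordRoot_sq r h1, g2_nroots]
    omega

theorem reeN0_inv_conj_H (h : GL chevG2.Idx K) (hh : h ∈ chevG2.diagonalSubgroup K) :
    (reeN0 K)⁻¹ * h * reeN0 K ∈ chevG2.diagonalSubgroup K :=
  nW_inv_conj_H hD2 chevData_G2.{u} _ h hh

/-- `n u n⁻¹ ∈ V` for long `n` and `u ∈ U`. -/
theorem reeLong_conj {n : GL chevG2.Idx K} (hn : reeLong K n) (u : GL chevG2.Idx K)
    (hu : u ∈ chevG2.posUnipotent K) : n * u * n⁻¹ ∈ chevG2.negUnipotent K := by
  obtain ⟨h, hh, rfl⟩ := hn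
  have hle : chevG2.posUnipotent K ≤
      (chevG2.negUnipotent K).comap (MulAut.conj (reeN0 K * h)).toMonoidHom := by
    unfold ChevalleyDatum.posUnipotent
    rw [Subgroup.closure_le]
    rintro g ⟨r, t, hr, hg⟩
    obtain ⟨h1, h2⟩ := (g2_isPos_iff r).1 hr
    have hg' : g = xG hD2 r t := Units.ext hg
    obtain ⟨t', ht'⟩ := Cfsg.Agent.S1036.conj_root_elem chevG2 hD2 h hh g r hr.1 t hg
    have e1 : h * g * h⁻¹ = xG hD2 r t' := Units.ext ht'
    rw [SetLike.mem_coe, Subgroup.mem_comap]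
    show reeN0 K * h * g * (reeN0 K * h)⁻¹ ∈ _
    have e : reeN0 K * h * g * (reeN0 K * h)⁻¹ = reeN0 K * (h * g * h⁻¹) * (reeN0 K)⁻¹ := by group
    rw [e, e1, reeN0_conj_xG r h1]
    refine Subgroup.subset_closure ⟨_, _, g2_isNeg_of_lt _ ?_, rfl⟩
    rw [g2_neg_eq r h1]; omega
  exact hle hu

/-- `n⁻¹ v n ∈ U` for long `n` and `v ∈ V`. -/
theorem reeLong_conj' {n : GL chevG2.Idx K} (hn : reeLong K n) (v : GL chevG2.Idx K)
    (hv : v ∈ chevG2.negUnipotent K) : n⁻¹ * v * n ∈ chevG2.posUnipotent K := by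
  obtain ⟨h, hh, rfl⟩ := hn
  have hle : chevG2.negUnipotent K ≤
      (chevG2.posUnipotent K).comap (MulAut.conj (reeN0 K * h)⁻¹).toMonoidHom := by
    unfold ChevalleyDatum.negUnipotent
    rw [Subgroup.closure_le]
    rintro g ⟨r, t, hr, hg⟩
    have h1 : r < 12 := by have := hr.1; rw [g2_nroots] at this; exact this
    have h2 : r < 6 := g2_negRoot_lt r h1 hr
    have hg' : g = xG hD2 r t := Units.ext hg
    obtain ⟨ε, -, hε⟩ := reeN0_inv_conj_xG (K := K) r h1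
    rw [SetLike.mem_coe, Subgroup.mem_comap]
    show (reeN0 K * h)⁻¹ * g * (reeN0 K * h)⁻¹⁻¹ ∈ _
    have e : (reeN0 K * h)⁻¹ * g * (reeN0 K * h)⁻¹⁻¹ = h⁻¹ * ((reeN0 K)⁻¹ * g * reeN0 K) * h⁻¹⁻¹ := by group
    rw [e, hg', hε]
    have hpos : chevG2.IsPosRoot (chevG2.neg r) := by
      rw [g2_isPos_iff, g2_neg_eq r h1]; omega
    have hx : xG hD2 (chevG2.neg r) ((ε : K) * t) ∈ chevG2.posUnipotent K :=
      xG_mem_posUnipotent hD2 _ _ hpos
    exact (Subgroup.mem_normalizer_iff.1 ((Cfsg.Agent.S1036.result chevG2 hD2).1 (inv_mem hh)) _).1 hx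
  have := hle hv
  rw [Subgroup.mem_comap] at this
  have e : (MulAut.conj (reeN0 K * h)⁻¹).toMonoidHom v = (reeN0 K * h)⁻¹ * v * (reeN0 K * h) := by
    show (reeN0 K * h)⁻¹ * v * (reeN0 K * h)⁻¹⁻¹ = _
    rw [inv_inv]
  rw [e] at this
  exact this

/-- `U_n⁻ = U` for long `n`. -/
theorem reeLong_Um {n : GL chevG2.Idx K} (hn : reeLong K n) :
    Subgroup.closure (UnegSet chevG2 K n) = chevG2.posUnipotent K := by
  apply le_antisymm (closure_UnegSet_le chevG2 n)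
  unfold ChevalleyDatum.posUnipotent
  apply Subgroup.closure_mono
  rintro g ⟨r, t, hr, hg⟩
  refine ⟨r, t, hr, ?_, hg⟩
  rintro z ⟨z₀, hz₀, rfl⟩
  obtain ⟨t₀, rfl⟩ := (mem_rootSubgroup_iff hD2 r z₀).mp hz₀
  exact reeLong_conj hn _ (xG_mem_posUnipotent hD2 r t₀ hr)

theorem reeLong_inv {n : GL chevG2.Idx K} (hn : reeLong K n) : reeLong K n⁻¹ := by
  obtain ⟨h, hh, rfl⟩ := hn
  refine ⟨((reeN0 K)⁻¹ * h⁻¹ * reeN0 K) * (reeN0 K * reeN0 K)⁻¹,
    mul_mem (reeN0_inv_conj_H _ (inv_mem hh)) (inv_mem reeN0_sq_mem_H), ?_⟩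
  group

theorem reeLong_div {n n' : GL chevG2.Idx K} (hn : reeLong K n) (hn' : reeLong K n') :
    n⁻¹ * n' ∈ chevG2.diagonalSubgroup K := by
  obtain ⟨h, hh, rfl⟩ := hn
  obtain ⟨h', hh', rfl⟩ := hn'
  have e : (reeN0 K * h)⁻¹ * (reeN0 K * h') = h⁻¹ * h' := by group
  rw [e]
  exact mul_mem (inv_mem hh) hh'

theorem reeLong_H_mul {n : GL chevG2.Idx K} (hn : reeLong K n) (h' : GL chevG2.Idx K)
    (hh' : h' ∈ chevG2.diagonalSubgroup K) : reeLong K (h' * n) := by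
  obtain ⟨h, hh, rfl⟩ := hn
  refine ⟨((reeN0 K)⁻¹ * h' * reeN0 K) * h, mul_mem (reeN0_inv_conj_H _ hh') hh, ?_⟩
  group

theorem reeLong_inverts {n : GL chevG2.Idx K} (hn : reeLong K n) (h' : GL chevG2.Idx K)
    (hh' : h' ∈ chevG2.diagonalSubgroup K) : n * h' * n⁻¹ = h'⁻¹ := by
  obtain ⟨h, hh, rfl⟩ := hn
  have e : reeN0 K * h * h' * (reeN0 K * h)⁻¹ = reeN0 K * (h * h' * h⁻¹) * (reeN0 K)⁻¹ := by group
  rw [e, H_comm h h' hh hh', mul_inv_cancel_right, reeN0_inverts h' hh']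

theorem reeLong_N0 : reeLong K (reeN0 K) := ⟨1, one_mem _, (mul_one _).symm⟩

/-- `U_h⁻ = 1` for `h ∈ H`. -/
theorem Um_H (h : GL chevG2.Idx K) (hh : h ∈ chevG2.diagonalSubgroup K) :
    Subgroup.closure (UnegSet chevG2 K h) = ⊥ := by
  have hempty : UnegSet chevG2 K h = ∅ := by
    apply Set.eq_empty_of_forall_notMem
    rintro x ⟨r, t, hr, hle, hx⟩
    obtain ⟨h1, h2⟩ := (g2_isPos_iff r).1 hr
    have hz : xG hD2 r (1 : K) ∈ chevG2.rootSubgroup K r := (mem_rootSubgroup_iff hD2 r _).mpr ⟨1, rfl⟩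
    have hV : h * xG hD2 r (1 : K) * h⁻¹ ∈ chevG2.negUnipotent K := hle (Subgroup.mem_map_of_mem _ hz)
    obtain ⟨t', ht'⟩ := Cfsg.Agent.S1036.conj_root_elem chevG2 hD2 h hh (xG hD2 r 1) r hr.1 1 rfl
    have e1 : h * xG hD2 r 1 * h⁻¹ = xG hD2 r t' := Units.ext ht'
    have hU : h * xG hD2 r (1 : K) * h⁻¹ ∈ chevG2.borelSubgroup K := by
      rw [e1]
      exact borel_of_posUnipotent _ (xG_mem_posUnipotent hD2 r t' hr)
    have h3 : h * xG hD2 r (1 : K) * h⁻¹ ∈ chevG2.borelSubgroup K ⊓ chevG2.negUnipotent K :=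
      Subgroup.mem_inf.mpr ⟨hU, hV⟩
    rw [(Cfsg.Agent.S1037.result chevG2 hD2).1, Subgroup.mem_bot] at h3
    have h4 : xG hD2 r (1 : K) = 1 := by
      have : xG hD2 r (1 : K) = h⁻¹ * (h * xG hD2 r 1 * h⁻¹) * h := by group
      rw [this, h3]; group
    rw [← xG_zero (F := K) hD2 r] at h4
    exact one_ne_zero (xG_injective r h1 h4)
  rw [hempty, Subgroup.closure_empty]

end

end Cfsg.Agent.Lib.Helper43.Ree
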