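/-
helper43: S1936-[MIN] (project S1936, coordinator helper22), `_of` form:
a counterexample of least order is a `MinCE`, given the statements of RED-[QUOT], RED-[SMALL] and the Odd Order Theorem
for `G` as hypotheses.
-/
import Mathlib
import Cfsg.Agent.Lib.Helper22.S1936Defs

set_option autoImplicit false
universe u

namespace Cfsg.Agent.Lib.Helper43.S1936

open Cfsg.Agent.Lib.Helper22.S1936

variable {G : Type u} [Group G] [Finite G] {p : ℕ} [Fact p.Prime]

theorem card_lt_of_ne_top (L : Subgroup G) (hL : L ≠ ⊤) : Nat.card ↥L < Nat.card G := by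
  refine lt_of_le_of_ne (Subgroup.card_le_card_group L) ?_
  intro h
  exact hL (Subgroup.eq_top_of_card_eq L h)

theorem card_quotient_lt_of_ne_bot (N : Subgroup G) [N.Normal] (hN : N ≠ ⊥) :
    Nat.card (G ⧸ N) < Nat.card G := by
  have h1 := Subgroup.card_eq_card_quotient_mul_card_subgroup N
  have h2 : 1 < Nat.card ↥N := (Subgroup.one_lt_card_iff_ne_bot N).2 hN
  have h3 : 0 < Nat.card (G ⧸ N) := Nat.card_pos
  rw [h1]
  nlinarith

/-- RED-[MIN] in `_of` form. -/
theorem minCE_of_minimal_of (h : HP p G) (hns : ¬ Group.IsSolvable G)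
    (hmin : ∀ (H : Type u) [Group H] [Finite H], Nat.card H < Nat.card G → HP p H → Group.IsSolvable H)
    (hquot : ∀ (N : Subgroup G) [N.Normal], HP p (G ⧸ N))
    (hsmall : p < 5 → Group.IsSolvable G)
    (hodd : Odd (Nat.card G) → Group.IsSolvable G) : MinCE p G where
  hp5 := by
    by_contra hlt
    exact hns (hsmall (by omega))
  simple := by
    have hnt : Nontrivial G := by
      by_contra hcon
      rw [not_nontrivial_iff_subsingleton] at hcon
      exact hns inferInstance
    refine { exists_pair_ne := hnt.exists_pair_ne, eq_bot_or_eq_top_of_normal := ?_ }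
    intro N hN
    by_contra hcon
    push Not at hcon
    obtain ⟨hbot, htop⟩ := hcon
    have hNs : Group.IsSolvable ↥N := hmin ↥N (card_lt_of_ne_top N htop) (h.subgroup N)
    have hQs : Group.IsSolvable (G ⧸ N) :=
      hmin (G ⧸ N) (card_quotient_lt_of_ne_bot N hbot) (hquot N)
    apply hns
    refine solvable_of_ker_le_range N.subtype (QuotientGroup.mk' N) ?_
    rw [QuotientGroup.ker_mk', Subgroup.range_subtype]
  nonsolv := hns
  even := by
    by_contra hne
    exact hns (hodd (Nat.not_even_iff_odd.1 hne))
  hp := h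
  proper := fun L hL => hmin ↥L (card_lt_of_ne_top L hL) (h.subgroup L)

end Cfsg.Agent.Lib.Helper43.S1936
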