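/-
helper43: regular nilpotent endomorphisms (a single Jordan block).
If `N` is an endomorphism of an `n`-dimensional space with `dim ker N ≤ 1` and `N ^ n = 0`, then
`dim ker (N ^ k) = k` for `k ≤ n`, and every `N`-invariant subspace `W` equals `ker (N ^ dim W)`.
-/
import Mathlib

set_option autoImplicit false

namespace Cfsg.Agent.Lib.Helper43

open Module

variable {K V : Type*} [Field K] [AddCommGroup V] [Module K V] [FiniteDimensional K V]

/-- `dim ker (f ∘ g) ≤ dim ker g + dim ker f`. -/
theorem finrank_ker_mul_le (f g : Module.End K V) :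
    finrank K (LinearMap.ker (f * g)) ≤ finrank K (LinearMap.ker g) + finrank K (LinearMap.ker f) := by
  set A := LinearMap.ker (f * g) with hA
  set h : A →ₗ[K] V := g.domRestrict A with hh
  have hrange : LinearMap.range h ≤ LinearMap.ker f := by
    rintro _ ⟨a, rfl⟩
    have ha : (f * g) a.1 = 0 := a.2
    rw [Module.End.mul_apply] at ha
    exact ha
  have hle : LinearMap.ker g ≤ A := by
    intro v hv
    have hv' : g v = 0 := hv
    show (f * g) v = 0
    rw [Module.End.mul_apply, hv', map_zero]
  have hker : LinearMap.ker h = (LinearMap.ker g).comap A.subtype := LinearMap.ker_domRestrict A g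
  have h1 := LinearMap.finrank_range_add_finrank_ker h
  have h2 : finrank K (LinearMap.range h) ≤ finrank K (LinearMap.ker f) := Submodule.finrank_mono hrange
  have h3 : finrank K (LinearMap.ker h) = finrank K (LinearMap.ker g) := by
    rw [hker]
    exact LinearEquiv.finrank_eq (Submodule.comapSubtypeEquivOfLe hle)
  omega

/-- `dim ker (N ^ (k+1)) ≤ dim ker (N ^ k) + dim ker N`. -/
theorem finrank_ker_pow_succ_le (N : Module.End K V) (k : ℕ) :
    finrank K (LinearMap.ker (N ^ (k + 1))) ≤
      finrank K (LinearMap.ker (N ^ k)) + finrank K (LinearMap.ker N) := by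
  rw [pow_succ']
  exact finrank_ker_mul_le N (N ^ k)

theorem finrank_ker_pow_add_le (N : Module.End K V) (h1 : finrank K (LinearMap.ker N) ≤ 1)
    (k j : ℕ) :
    finrank K (LinearMap.ker (N ^ (k + j))) ≤ finrank K (LinearMap.ker (N ^ k)) + j := by
  induction j with
  | zero => simp
  | succ j ih =>
    have := finrank_ker_pow_succ_le N (k + j)
    rw [← add_assoc]
    omega

theorem finrank_ker_pow_le (N : Module.End K V) (h1 : finrank K (LinearMap.ker N) ≤ 1) (k : ℕ) :
    finrank K (LinearMap.ker (N ^ k)) ≤ k := by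
  have := finrank_ker_pow_add_le N h1 0 k
  rw [zero_add, pow_zero, Module.End.one_eq_id, LinearMap.ker_id, finrank_bot, zero_add] at this
  exact this

/-- For a regular nilpotent endomorphism, `dim ker (N ^ k) = k` for `k ≤ dim V`. -/
theorem finrank_ker_pow_eq (N : Module.End K V) (h1 : finrank K (LinearMap.ker N) ≤ 1)
    (hnil : N ^ finrank K V = 0) (k : ℕ) (hk : k ≤ finrank K V) :
    finrank K (LinearMap.ker (N ^ k)) = k := by
  apply le_antisymm (finrank_ker_pow_le N h1 k)
  have h2 := finrank_ker_pow_add_le N h1 k (finrank K V - k)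
  have h3 : k + (finrank K V - k) = finrank K V := by omega
  rw [h3, hnil] at h2
  have h4 : finrank K (LinearMap.ker (0 : Module.End K V)) = finrank K V := by
    rw [LinearMap.ker_zero, finrank_top]
  omega

/-- An invariant subspace of a nilpotent endomorphism is killed by the `dim W`-th power. -/
theorem invariant_le_ker_pow (N : Module.End K V) (hnil : IsNilpotent N) (W : Submodule K V)
    (hW : ∀ v ∈ W, N v ∈ W) : W ≤ LinearMap.ker (N ^ finrank K W) := by
  set N' : Module.End K W := N.restrict hW with hN'
  have hnil' : IsNilpotent N' := by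
    obtain ⟨m, hm⟩ := hnil
    refine ⟨m, ?_⟩
    rw [hN', Module.End.pow_restrict]
    ext w
    simp [hm]
  have hpow : N' ^ finrank K W = 0 := by
    have h1 := IsNilpotent.charpoly_eq_X_pow_finrank hnil'
    have h2 := LinearMap.aeval_self_charpoly N'
    rw [h1] at h2
    simpa using h2
  intro w hw
  rw [LinearMap.mem_ker]
  have h3 : (N' ^ finrank K W) ⟨w, hw⟩ = 0 := by rw [hpow]; rfl
  rw [hN', Module.End.pow_restrict, LinearMap.restrict_apply] at h3
  exact congrArg Subtype.val h3

/-- The invariant subspaces of a regular nilpotent endomorphism are the kernels of its powers. -/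
theorem invariant_eq_ker_pow (N : Module.End K V) (h1 : finrank K (LinearMap.ker N) ≤ 1)
    (hnil : N ^ finrank K V = 0) (W : Submodule K V) (hW : ∀ v ∈ W, N v ∈ W) :
    W = LinearMap.ker (N ^ finrank K W) := by
  apply Submodule.eq_of_le_of_finrank_eq (invariant_le_ker_pow N ⟨_, hnil⟩ W hW)
  rw [finrank_ker_pow_eq N h1 hnil _ (Submodule.finrank_le W)]

/-! ### Matrix versions -/

theorem mulVecLin_pow {n : ℕ} (A : Matrix (Fin n) (Fin n) K) (k : ℕ) :
    Matrix.mulVecLin (A ^ k) = (Matrix.mulVecLin A : Module.End K (Fin n → K)) ^ k :=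
  Matrix.toLin'_pow A k

theorem finrank_ker_mulVecLin_le_one {n : ℕ} (A : Matrix (Fin n) (Fin n) K) (hreg : A.rank = n - 1) :
    finrank K (LinearMap.ker (Matrix.mulVecLin A)) ≤ 1 := by
  have h1 := LinearMap.finrank_range_add_finrank_ker (Matrix.mulVecLin A)
  have h2 : finrank K (LinearMap.range (Matrix.mulVecLin A)) = n - 1 := hreg
  rw [Module.finrank_fin_fun] at h1
  omega

/-- matrix version: the invariant subspaces of a regular nilpotent matrix -/
theorem matrix_invariant_eq_ker_pow {n : ℕ} (A : Matrix (Fin n) (Fin n) K) (hnil : A ^ n = 0)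
    (hreg : A.rank = n - 1) (W : Submodule K (Fin n → K)) (hW : ∀ v ∈ W, A.mulVec v ∈ W) :
    W = LinearMap.ker (Matrix.mulVecLin (A ^ finrank K W)) := by
  rw [mulVecLin_pow]
  apply invariant_eq_ker_pow (Matrix.mulVecLin A) (finrank_ker_mulVecLin_le_one A hreg) _ W hW
  rw [Module.finrank_fin_fun, ← mulVecLin_pow, hnil]
  exact Matrix.mulVecLin_zero

/-- matrix version: kernel dimensions of powers of a regular nilpotent matrix -/
theorem matrix_finrank_ker_pow_eq {n : ℕ} (A : Matrix (Fin n) (Fin n) K) (hnil : A ^ n = 0)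
    (hreg : A.rank = n - 1) (k : ℕ) (hk : k ≤ n) :
    finrank K (LinearMap.ker (Matrix.mulVecLin (A ^ k))) = k := by
  rw [mulVecLin_pow]
  apply finrank_ker_pow_eq (Matrix.mulVecLin A) (finrank_ker_mulVecLin_le_one A hreg)
  · rw [Module.finrank_fin_fun, ← mulVecLin_pow, hnil]
    exact Matrix.mulVecLin_zero
  · rw [Module.finrank_fin_fun]; exact hk

end Cfsg.Agent.Lib.Helper43
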