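import Mathlib
import Cfsg.Agent.Lib.Helper43.PSLnAutCard
import Cfsg.Agent.Lib.Helper43.SplitClass

set_option autoImplicit false

/-!
# Twisted automorphisms `pslDiag g * pslField σ * pslInvT` of `PSL_n(F)`

Conjugation by `pslDiag h` replaces `g` by `h * g * σ(h)ᵀ`; the square is `pslDiag (g * σ(g)⁻ᵀ) * pslField (σ * σ)`.
-/

namespace Cfsg.Agent.Lib.Helper43

open scoped MatrixGroups Matrix

variable {n : ℕ} {F : Type*} [Field F]

/-- `σ` applied entrywise on `GL_n(F)` -/
noncomputable def glMap (σ : RingAut F) : GL (Fin n) F →* GL (Fin n) F :=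
  Matrix.GeneralLinearGroup.map (σ : F →+* F)

theorem glMap_coe (σ : RingAut F) (g : GL (Fin n) F) :
    ((glMap σ g : GL (Fin n) F) : Matrix (Fin n) (Fin n) F) =
      (g : Matrix (Fin n) (Fin n) F).map σ := rfl

/-- `h ↦ σ(h)ᵀ` as an element of `GL_n(F)` -/
noncomputable def glStar (σ : RingAut F) (h : GL (Fin n) F) : GL (Fin n) F :=
  (glInvT (glMap σ h))⁻¹

theorem glStar_coe (σ : RingAut F) (h : GL (Fin n) F) :
    ((glStar σ h : GL (Fin n) F) : Matrix (Fin n) (Fin n) F) =
      ((h : Matrix (Fin n) (Fin n) F).map σ)ᵀ := rfl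

theorem glStar_mul (σ : RingAut F) (h k : GL (Fin n) F) :
    glStar σ (h * k) = glStar σ k * glStar σ h := by
  unfold glStar
  rw [map_mul, map_mul, mul_inv_rev]

theorem glStar_inv (σ : RingAut F) (h : GL (Fin n) F) :
    glStar σ h⁻¹ = (glStar σ h)⁻¹ := by
  unfold glStar
  rw [map_inv, map_inv]

theorem glMap_glInvT (σ : RingAut F) (h : GL (Fin n) F) :
    glMap σ (glInvT h) = glInvT (glMap σ h) := by
  apply Units.ext
  rw [glMap_coe, glInvT_coe, glInvT_coe]
  unfold glMap
  rw [← map_inv]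
  show (((h⁻¹ : GL (Fin n) F) : Matrix (Fin n) (Fin n) F)ᵀ).map σ =
    (((h⁻¹ : GL (Fin n) F) : Matrix (Fin n) (Fin n) F).map σ)ᵀ
  rw [Matrix.transpose_map]

/-- the twisted "graph-field" element attached to `σ` -/
noncomputable def pslTwist (σ : RingAut F) :
    MulAut (Matrix.ProjectiveSpecialLinearGroup (Fin n) F) :=
  pslField σ * pslInvT

theorem pslTwist_mul_pslDiag (σ : RingAut F) (h : GL (Fin n) F) :
    (pslTwist σ : MulAut (Matrix.ProjectiveSpecialLinearGroup (Fin n) F)) * pslDiag h =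
      pslDiag (glStar σ h)⁻¹ * pslTwist σ := by
  unfold pslTwist
  rw [mul_assoc, pslInvT_mul_pslDiag, ← mul_assoc, pslField_mul_pslDiag, mul_assoc]
  have h1 : glMap σ (glInvT h) = (glStar σ h)⁻¹ := by
    unfold glStar
    rw [inv_inv]
    exact glMap_glInvT σ h
  unfold glMap at h1
  rw [h1]

/-- conjugating a twisted element by an inner-diagonal automorphism -/
theorem pslDiag_conj_twisted (σ : RingAut F) (h g : GL (Fin n) F) :
    (pslDiag h : MulAut (Matrix.ProjectiveSpecialLinearGroup (Fin n) F)) *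
        (pslDiag g * pslTwist σ) * (pslDiag h)⁻¹ =
      pslDiag (h * g * glStar σ h) * pslTwist σ := by
  rw [← map_inv, mul_assoc, mul_assoc, pslTwist_mul_pslDiag, glStar_inv, inv_inv, ← mul_assoc,
    ← mul_assoc, ← map_mul, ← map_mul]

/-- the square of a twisted element -/
theorem twisted_mul_self (σ : RingAut F) (g : GL (Fin n) F) :
    (pslDiag g * pslTwist σ : MulAut (Matrix.ProjectiveSpecialLinearGroup (Fin n) F)) *
        (pslDiag g * pslTwist σ) =
      pslDiag (g * (glStar σ g)⁻¹) * pslField (σ * σ) := by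
  rw [mul_assoc, ← mul_assoc (pslTwist σ), pslTwist_mul_pslDiag, mul_assoc, ← mul_assoc, ← map_mul]
  congr 1
  unfold pslTwist
  rw [mul_assoc, ← mul_assoc pslInvT, pslInvT_mul_pslField, mul_assoc, pslInvT_mul_self, mul_one,
    ← map_mul]

/-- equality of inner-diagonal automorphisms -/
theorem pslDiag_eq_iff (hn : 2 ≤ n) (a b : GL (Fin n) F) :
    (pslDiag a : MulAut (Matrix.ProjectiveSpecialLinearGroup (Fin n) F)) = pslDiag b ↔
      ∃ c : Fˣ, a = Matrix.GeneralLinearGroup.scalar (Fin n) c * b := by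
  constructor
  · intro h
    have h1 : a * b⁻¹ ∈ (pslDiag : GL (Fin n) F →* MulAut
        (Matrix.ProjectiveSpecialLinearGroup (Fin n) F)).ker := by
      rw [MonoidHom.mem_ker, map_mul, map_inv, h, mul_inv_cancel]
    rw [ker_pslDiag hn, Matrix.GeneralLinearGroup.center_eq_range_scalar] at h1
    obtain ⟨c, hc⟩ := h1
    refine ⟨c, ?_⟩
    rw [hc]
    group
  · rintro ⟨c, rfl⟩
    rw [map_mul, pslDiag_scalar, one_mul]

theorem scalar_coe (c : Fˣ) :
    ((Matrix.GeneralLinearGroup.scalar (Fin n) c : GL (Fin n) F) : Matrix (Fin n) (Fin n) F) =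
      (c : F) • (1 : Matrix (Fin n) (Fin n) F) := by
  rw [Matrix.GeneralLinearGroup.coe_scalar, Matrix.smul_one_eq_diagonal]
  rfl

/-- equality of twisted elements -/
theorem twisted_eq_iff (hn : 2 ≤ n) (σ : RingAut F) (a b : GL (Fin n) F) :
    (pslDiag a * pslTwist σ : MulAut (Matrix.ProjectiveSpecialLinearGroup (Fin n) F)) =
        pslDiag b * pslTwist σ ↔
      ∃ c : Fˣ, a = Matrix.GeneralLinearGroup.scalar (Fin n) c * b := by
  rw [mul_left_inj]
  exact pslDiag_eq_iff hn a b

end Cfsg.Agent.Lib.Helper43
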