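import Mathlib
import Cfsg.Agent.Lib.Helper43.PSLnOut

set_option autoImplicit false

/-!
# The unique involution of a finite field

If `|F| = p ^ f` and `σ ≠ 1` is a ring automorphism with `σ * σ = 1` then `f` is even and `σ a = a ^ (p ^ (f / 2))`.
-/

namespace Cfsg.Agent.Lib.Helper43

variable {F : Type*} [Field F]

/-- in a finite cyclic group there is at most one element of order two -/
theorem eq_of_involutions_of_isCyclic {G : Type*} [Group G] [Finite G] [IsCyclic G] {a b : G}
    (ha : a ≠ 1) (ha2 : a * a = 1) (hb : b ≠ 1) (hb2 : b * b = 1) : a = b := by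
  classical
  have := Fintype.ofFinite G
  by_contra hab
  have h1 := IsCyclic.card_pow_eq_one_le (α := G) (n := 2) (by norm_num)
  have h2 : ({1, a, b} : Finset G) ⊆ Finset.univ.filter (fun x : G => x ^ 2 = 1) := by
    intro x hx
    rw [Finset.mem_filter]
    refine ⟨Finset.mem_univ _, ?_⟩
    simp only [Finset.mem_insert, Finset.mem_singleton] at hx
    rcases hx with rfl | rfl | rfl
    · simp
    · rw [pow_two]; exact ha2
    · rw [pow_two]; exact hb2
  have h3 : ({1, a, b} : Finset G).card = 3 := by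
    rw [Finset.card_insert_of_notMem, Finset.card_insert_of_notMem, Finset.card_singleton]
    · simpa using hab
    · simp only [Finset.mem_insert, Finset.mem_singleton, not_or]
      exact ⟨fun h => ha h.symm, fun h => hb h.symm⟩
  have h4 := Finset.card_le_card h2
  omega

theorem frob_involution [Fintype F] {p f : ℕ} [Fact p.Prime] (hf : 1 ≤ f)
    (hF : Fintype.card F = p ^ f) (σ : RingAut F) (hσ : σ ≠ 1) (hσ2 : σ * σ = 1) :
    Even f ∧ ∀ a : F, σ a = a ^ (p ^ (f / 2)) := by
  classical
  have hp := (Fact.out : p.Prime)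
  have hchar : CharP F p := charP_of_card' hf hF
  obtain ⟨e₁⟩ := ringAut_mulEquiv_zmod' (F := F) p f hF
  have : NeZero f := ⟨by omega⟩
  have hcyc : IsCyclic (RingAut F) := (MulEquiv.isCyclic e₁).mpr inferInstance
  have hfin : Finite (RingAut F) := Finite.of_equiv _ e₁.symm.toEquiv
  have hcard : Nat.card (RingAut F) = f := by
    rw [Nat.card_congr e₁.toEquiv]
    show Nat.card (ZMod f) = f
    rw [Nat.card_eq_fintype_card, ZMod.card]
  have hord : orderOf σ = 2 := orderOf_eq_prime (by rw [pow_two]; exact hσ2) hσ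
  have h2f : 2 ∣ f := by
    rw [← hcard, ← hord]
    exact orderOf_dvd_natCard σ
  have hev : Even f := even_iff_two_dvd.mpr h2f
  refine ⟨hev, ?_⟩
  obtain ⟨k, hk⟩ := h2f
  have hk1 : 1 ≤ k := by omega
  have hfk : f / 2 = k := by omega
  rw [hfk]
  -- the Frobenius involution
  let τ : RingAut F := iterateFrobeniusEquiv F p k
  have hτ : ∀ a : F, τ a = a ^ p ^ k := fun a => iterateFrobeniusEquiv_def F p k a
  have hτ2 : τ * τ = 1 := by
    apply RingEquiv.ext
    intro a
    show τ (τ a) = a
    rw [hτ, hτ, ← pow_mul, ← pow_add]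
    have : k + k = f := by omega
    rw [this, ← hF, FiniteField.pow_card]
  have hτ1 : τ ≠ 1 := by
    intro h1
    have hall : ∀ a : F, a ^ p ^ k = a := by
      intro a
      rw [← hτ, h1]
      rfl
    -- a generator of the unit group
    obtain ⟨γ, hγ⟩ := IsCyclic.exists_generator (α := Fˣ)
    have hord : orderOf γ = Fintype.card Fˣ := by
      rw [← Nat.card_eq_fintype_card]
      exact orderOf_eq_card_of_forall_mem_zpowers hγ
    have h3 : γ ^ (p ^ k - 1) = 1 := by
      have h4 : (γ : F) ^ p ^ k = γ := hall γ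
      have hpk : 1 ≤ p ^ k := Nat.one_le_pow _ _ hp.pos
      apply Units.ext
      rw [Units.val_pow_eq_pow_val, Units.val_one]
      have h5 : (γ : F) ^ (p ^ k - 1) * (γ : F) = 1 * (γ : F) := by
        rw [← pow_succ, Nat.sub_add_cancel hpk, h4, one_mul]
      exact mul_right_cancel₀ (Units.ne_zero γ) h5
    have h6 := orderOf_dvd_of_pow_eq_one h3
    rw [hord, Fintype.card_units, hF] at h6
    have hpk2 : 2 ≤ p ^ k := by
      calc 2 ≤ p := hp.two_le
        _ = p ^ 1 := (pow_one p).symm
        _ ≤ p ^ k := Nat.pow_le_pow_right hp.pos hk1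
    have h7 : p ^ f = p ^ k * p ^ k := by rw [← pow_add]; congr 1; omega
    have h8 : p ^ f - 1 ≤ p ^ k - 1 := Nat.le_of_dvd (by omega) h6
    have h9 : p ^ k * 2 ≤ p ^ k * p ^ k := Nat.mul_le_mul_left _ hpk2
    omega
  have hστ : σ = τ := eq_of_involutions_of_isCyclic hσ hσ2 hτ1 hτ2
  intro a
  rw [hστ, hτ]

end Cfsg.Agent.Lib.Helper43
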