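import Mathlib
import Cfsg.Agent.Lib.Helper43.PSLnTwist
import Cfsg.Agent.Lib.Helper36.HermOrtho

set_option autoImplicit false

/-!
# Hermitian matrices over a finite field are of the form `h * σ(h)ᵀ`
-/

namespace Cfsg.Agent.Lib.Helper43

open scoped MatrixGroups Matrix
open Matrix

variable {n : ℕ} {F : Type*} [Field F]

/-- the sesquilinear form `B v u = ∑ σ(v i) * M i j * u j` -/
noncomputable def hermB (σ : F →+* F) (M : Matrix (Fin n) (Fin n) F) :
    (Fin n → F) →ₛₗ[σ] (Fin n → F) →ₗ[F] F :=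
  LinearMap.mk₂'ₛₗ σ (RingHom.id F) (fun v u => (fun i => σ (v i)) ⬝ᵥ (M *ᵥ u))
    (fun v₁ v₂ u => by
      have : (fun i => σ ((v₁ + v₂) i)) = (fun i => σ (v₁ i)) + (fun i => σ (v₂ i)) := by
        funext i; simp
      rw [this, add_dotProduct])
    (fun c v u => by
      have : (fun i => σ ((c • v) i)) = σ c • (fun i => σ (v i)) := by
        funext i; simp
      rw [this, smul_dotProduct])
    (fun v u₁ u₂ => by rw [mulVec_add, dotProduct_add])
    (fun c v u => by rw [mulVec_smul, dotProduct_smul]; rfl)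

theorem hermB_apply (σ : F →+* F) (M : Matrix (Fin n) (Fin n) F) (v u : Fin n → F) :
    hermB σ M v u = (fun i => σ (v i)) ⬝ᵥ (M *ᵥ u) := rfl

theorem hermB_apply_sum (σ : F →+* F) (M : Matrix (Fin n) (Fin n) F) (v u : Fin n → F) :
    hermB σ M v u = ∑ i, ∑ j, σ (v i) * M i j * u j := by
  rw [hermB_apply]
  unfold dotProduct mulVec dotProduct
  apply Finset.sum_congr rfl
  intro i _
  rw [Finset.mul_sum]
  apply Finset.sum_congr rfl
  intro j _
  ring

theorem hermB_isSymm (σ : F →+* F) (hσ2 : ∀ a, σ (σ a) = a) (M : Matrix (Fin n) (Fin n) F)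
    (hM : ∀ i j, σ (M i j) = M j i) : (hermB σ M).IsSymm := by
  refine ⟨fun v u => ?_⟩
  rw [hermB_apply_sum, hermB_apply_sum, map_sum, Finset.sum_comm]
  apply Finset.sum_congr rfl
  intro j _
  rw [map_sum]
  apply Finset.sum_congr rfl
  intro i _
  rw [map_mul, map_mul, hσ2, hM]
  ring

theorem hermB_separatingLeft (σ : F →+* F) (hσ2 : ∀ a, σ (σ a) = a)
    (M : Matrix (Fin n) (Fin n) F) (hM : IsUnit M) : (hermB σ M).SeparatingLeft := by
  intro v hv
  have h1 : (fun i => σ (v i)) ᵥ* M = 0 := by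
    funext j
    have := hv (Pi.single j 1)
    rw [hermB_apply, dotProduct_mulVec] at this
    rw [dotProduct_single, mul_one] at this
    exact this
  have h2 : (fun i => σ (v i)) = 0 := by
    obtain ⟨u, hu⟩ := hM
    have h3 := congrArg (fun w => w ᵥ* ((u⁻¹ : (Matrix (Fin n) (Fin n) F)ˣ) :
      Matrix (Fin n) (Fin n) F)) h1
    simp only [vecMul_vecMul, zero_vecMul] at h3
    rw [← hu, ← Units.val_mul, mul_inv_cancel, Units.val_one, vecMul_one] at h3
    exact h3
  funext i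
  have h4 := congrFun h2 i
  have h5 : σ (v i) = 0 := h4
  have h6 := congrArg σ h5
  rw [hσ2, map_zero] at h6
  exact h6

theorem hermB_nondegenerate (σ : F →+* F) (hσ2 : ∀ a, σ (σ a) = a)
    (M : Matrix (Fin n) (Fin n) F) (hM : ∀ i j, σ (M i j) = M j i) (hU : IsUnit M) :
    (hermB σ M).Nondegenerate := by
  refine ⟨hermB_separatingLeft σ hσ2 M hU, ?_⟩
  intro u hu
  apply hermB_separatingLeft σ hσ2 M hU u
  intro v
  rw [← (hermB_isSymm σ hσ2 M hM).eq, hu, map_zero]

/-- a Hermitian invertible matrix over a finite field has an orthonormal frame -/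
theorem exists_frame_of_hermitian [Finite F] (σ : F →+* F) (hσ : σ ≠ RingHom.id F)
    (hσ2 : ∀ a, σ (σ a) = a) (M : Matrix (Fin n) (Fin n) F) (hM : ∀ i j, σ (M i j) = M j i)
    (hU : IsUnit M) :
    ∃ k : Matrix (Fin n) (Fin n) F, (k.map σ)ᵀ * M * k = 1 := by
  obtain ⟨b, hb⟩ := Cfsg.Agent.Lib.Helper36.exists_orthonormal_basis σ hσ hσ2 (hermB σ M)
    (hermB_isSymm σ hσ2 M hM) (hermB_nondegenerate σ hσ2 M hM hU)
  have hm : Module.finrank F (Fin n → F) = n := Module.finrank_fin_fun F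
  let e : Fin n ≃ Fin (Module.finrank F (Fin n → F)) := finCongr hm.symm
  refine ⟨Matrix.of fun l i => b (e i) l, ?_⟩
  ext i j
  have h1 := hb (e i) (e j)
  rw [hermB_apply_sum] at h1
  rw [Matrix.mul_apply, Matrix.one_apply]
  have h2 : (if e i = e j then (1 : F) else 0) = if i = j then 1 else 0 := by
    by_cases hij : i = j
    · rw [if_pos hij, if_pos (by rw [hij])]
    · rw [if_neg hij, if_neg (fun h => hij (e.injective h))]
  rw [← h2, ← h1]
  simp_rw [Matrix.mul_apply, Finset.sum_mul]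
  rw [Finset.sum_comm]
  apply Finset.sum_congr rfl
  intro m _
  apply Finset.sum_congr rfl
  intro l _
  rfl

/-! ### the `GL`-level statements -/

theorem ringAut_apply_apply_of_mul_self (σ : RingAut F) (hσ2 : σ * σ = 1) (a : F) :
    σ (σ a) = a := by
  have h := congrArg (fun τ : RingAut F => τ a) hσ2
  exact h

theorem ringAut_toRingHom_ne_id (σ : RingAut F) (hσ : σ ≠ 1) :
    ((σ : F ≃+* F) : F →+* F) ≠ RingHom.id F := by
  intro h
  apply hσ
  apply RingEquiv.ext
  intro a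
  have := congrArg (fun τ : F →+* F => τ a) h
  exact this

theorem map_map_of_mul_self (σ : RingAut F) (hσ2 : σ * σ = 1) (M : Matrix (Fin n) (Fin n) F) :
    (M.map σ).map σ = M := by
  ext i j
  exact ringAut_apply_apply_of_mul_self σ hσ2 (M i j)

/-- `glStar σ` is an involution when `σ * σ = 1` -/
theorem glStar_glStar (σ : RingAut F) (hσ2 : σ * σ = 1) (h : GL (Fin n) F) :
    glStar σ (glStar σ h) = h := by
  apply Units.ext
  rw [glStar_coe, glStar_coe, Matrix.transpose_map, Matrix.transpose_transpose,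
    map_map_of_mul_self σ hσ2]

/-- Hermitian elements of `GL_n(F)` are of the form `h * σ(h)ᵀ` -/
theorem exists_eq_mul_glStar [Finite F] (σ : RingAut F) (hσ : σ ≠ 1) (hσ2 : σ * σ = 1)
    (g : GL (Fin n) F) (hg : glStar σ g = g) : ∃ h : GL (Fin n) F, g = h * glStar σ h := by
  have hM : ∀ i j, ((σ : F ≃+* F) : F →+* F) ((g : Matrix (Fin n) (Fin n) F) i j) =
      (g : Matrix (Fin n) (Fin n) F) j i := by
    intro i j
    have h1 := congrArg (fun x : GL (Fin n) F => (x : Matrix (Fin n) (Fin n) F) j i) hg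
    simp only [glStar_coe] at h1
    exact h1
  obtain ⟨k, hk⟩ := exists_frame_of_hermitian ((σ : F ≃+* F) : F →+* F)
    (ringAut_toRingHom_ne_id σ hσ) (ringAut_apply_apply_of_mul_self σ hσ2)
    (g : Matrix (Fin n) (Fin n) F) hM ⟨g, rfl⟩
  have hku : IsUnit k := (Matrix.isUnit_iff_isUnit_det k).mpr
    (Matrix.isUnit_det_of_left_inverse (B := (k.map σ)ᵀ * (g : Matrix (Fin n) (Fin n) F)) hk)
  obtain ⟨K, hK⟩ := hku
  have h1 : glStar σ K * g * K = 1 := by
    apply Units.ext
    rw [Units.val_mul, Units.val_mul, glStar_coe, hK]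
    exact hk
  refine ⟨(glStar σ K)⁻¹, ?_⟩
  rw [← glStar_inv, glStar_glStar σ hσ2, glStar_inv]
  have h2 : g = (glStar σ K)⁻¹ * (glStar σ K * g * K) * K⁻¹ := by group
  rw [h2, h1, mul_one]

/-- a matrix that is Hermitian up to a scalar can be rescaled to a Hermitian one -/
theorem exists_scalar_mul_hermitian (hn : 1 ≤ n) (σ : RingAut F) (hσ : σ ≠ 1) (hσ2 : σ * σ = 1)
    (g : GL (Fin n) F) (c : F)
    (hg : (g : Matrix (Fin n) (Fin n) F) = c • ((g : Matrix (Fin n) (Fin n) F).map σ)ᵀ) :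
    ∃ y : Fˣ, glStar σ (Matrix.GeneralLinearGroup.scalar (Fin n) y * g) =
      Matrix.GeneralLinearGroup.scalar (Fin n) y * g := by
  set M : Matrix (Fin n) (Fin n) F := (g : Matrix (Fin n) (Fin n) F) with hMdef
  have h1 : (M.map σ)ᵀ = σ c • M := by
    have h2 : (M.map σ)ᵀ = ((c • (M.map σ)ᵀ).map σ)ᵀ := by
      conv_lhs => rw [hg]
    rw [h2]
    ext i j
    simp only [Matrix.transpose_apply, Matrix.map_apply, Matrix.smul_apply, smul_eq_mul, map_mul]
    rw [ringAut_apply_apply_of_mul_self σ hσ2]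
  have h3 : c * σ c = 1 := by
    have h4 : M = (c * σ c) • M := by
      conv_lhs => rw [hg, h1, smul_smul]
    have hM0 : M ≠ 0 := gl_coe_ne_zero hn g
    by_contra hne
    apply hM0
    have h5 : (c * σ c - 1) • M = 0 := by
      rw [sub_smul, one_smul, ← h4, sub_self]
    rcases smul_eq_zero.mp h5 with h6 | h6
    · exact absurd (sub_eq_zero.mp h6) hne
    · exact h6
  obtain ⟨y, hy0, hy⟩ := Cfsg.Agent.Lib.Helper36.hilbert90_invol ((σ : F ≃+* F) : F →+* F)
    (ringAut_toRingHom_ne_id σ hσ) (ringAut_apply_apply_of_mul_self σ hσ2) c h3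
  refine ⟨Units.mk0 y hy0, ?_⟩
  apply Units.ext
  rw [glStar_coe, Units.val_mul, scalar_coe, Units.val_mk0, Matrix.smul_mul, Matrix.one_mul]
  show ((y • M).map σ)ᵀ = y • M
  have h7 : ((y • M).map σ)ᵀ = σ y • (M.map σ)ᵀ := by
    ext i j
    simp only [Matrix.transpose_apply, Matrix.map_apply, Matrix.smul_apply, smul_eq_mul, map_mul]
  rw [h7, h1, smul_smul]
  have h8 : σ y * σ c = y := by
    have : σ y = c * y := hy
    rw [this, mul_comm c y, mul_assoc, h3, mul_one]
  rw [h8]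

/-- a twisted element of order dividing two is conjugate to the standard one -/
theorem twisted_involution_conj [Finite F] (hn : 2 ≤ n) (σ : RingAut F) (hσ : σ ≠ 1)
    (g : GL (Fin n) F)
    (hx : (pslDiag g * pslTwist σ : MulAut (Matrix.ProjectiveSpecialLinearGroup (Fin n) F)) *
      (pslDiag g * pslTwist σ) = 1) :
    σ * σ = 1 ∧ ∃ h : GL (Fin n) F,
      (pslDiag g * pslTwist σ : MulAut (Matrix.ProjectiveSpecialLinearGroup (Fin n) F)) =
        pslDiag h * pslTwist σ * (pslDiag h)⁻¹ := by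
  rw [twisted_mul_self] at hx
  obtain ⟨hσ2, c, hc⟩ := eq_one_of_pslDiag_mul_pslField_eq_one hn _ _ hx
  refine ⟨hσ2, ?_⟩
  have h1 : (g : Matrix (Fin n) (Fin n) F) = c • ((g : Matrix (Fin n) (Fin n) F).map σ)ᵀ := by
    have h2 : ((g * (glStar σ g)⁻¹ : GL (Fin n) F) : Matrix (Fin n) (Fin n) F) *
        ((glStar σ g : GL (Fin n) F) : Matrix (Fin n) (Fin n) F) =
        (g : Matrix (Fin n) (Fin n) F) := by
      rw [← Units.val_mul, inv_mul_cancel_right]
    rw [← hc, glStar_coe] at h2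
    conv_lhs => rw [← h2]
    rw [Matrix.scalar_apply, ← Matrix.smul_one_eq_diagonal, Matrix.smul_mul, Matrix.one_mul]
  obtain ⟨y, hy⟩ := exists_scalar_mul_hermitian (by omega) σ hσ hσ2 g c h1
  obtain ⟨h, hh⟩ := exists_eq_mul_glStar σ hσ hσ2 _ hy
  refine ⟨h, ?_⟩
  have h3 := pslDiag_conj_twisted (n := n) σ h 1
  rw [map_one, one_mul, mul_one] at h3
  rw [h3, ← hh, map_mul, pslDiag_scalar, one_mul]

end Cfsg.Agent.Lib.Helper43
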