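import Mathlib
import Cfsg.Agent.Lib.Helper43.PSLnHerm
import Cfsg.Agent.Lib.Helper43.FrobInvol

set_option autoImplicit false

/-!
# Determinants of Hermitian similitudes

For the involution `σ a = a ^ q₀` of a field with `q₀ ^ 2` elements, the determinants of the matrices `k` with
`k * σ(k)ᵀ` scalar are exactly the `gcd(n, q₀ - 1)`-th powers.
-/

namespace Cfsg.Agent.Lib.Helper43

open scoped MatrixGroups Matrix
open Matrix

variable {n : ℕ} {F : Type*} [Field F]

theorem det_glStar (σ : RingAut F) (k : GL (Fin n) F) :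
    ((glStar σ k : GL (Fin n) F) : Matrix (Fin n) (Fin n) F).det =
      σ ((k : Matrix (Fin n) (Fin n) F).det) := by
  rw [glStar_coe, Matrix.det_transpose]
  have h := RingHom.map_det ((σ : F ≃+* F) : F →+* F) (k : Matrix (Fin n) (Fin n) F)
  rw [RingHom.mapMatrix_apply] at h
  exact h.symm

theorem glStar_scalar (σ : RingAut F) (c c' : Fˣ) (h : (c' : F) = σ (c : F)) :
    glStar σ (Matrix.GeneralLinearGroup.scalar (Fin n) c) =
      Matrix.GeneralLinearGroup.scalar (Fin n) c' := by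
  apply Units.ext
  rw [glStar_coe, scalar_coe, scalar_coe, h]
  ext i j
  simp only [Matrix.transpose_apply, Matrix.map_apply, Matrix.smul_apply, smul_eq_mul,
    Matrix.one_apply]
  by_cases hij : i = j
  · subst hij; simp
  · rw [if_neg hij, if_neg (Ne.symm hij)]; simp

theorem scalar_mul_comm (c : Fˣ) (g : GL (Fin n) F) :
    Matrix.GeneralLinearGroup.scalar (Fin n) c * g = g * Matrix.GeneralLinearGroup.scalar (Fin n) c := by
  apply Units.ext
  rw [Units.val_mul, Units.val_mul, scalar_coe, Matrix.smul_mul, Matrix.one_mul, Matrix.mul_smul,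
    Matrix.mul_one]

theorem scalar_injective (hn : 1 ≤ n) (c c' : Fˣ)
    (h : (Matrix.GeneralLinearGroup.scalar (Fin n) c : GL (Fin n) F) =
      Matrix.GeneralLinearGroup.scalar (Fin n) c') : c = c' := by
  have h1 := congrArg (fun g : GL (Fin n) F => (g : Matrix (Fin n) (Fin n) F) ⟨0, hn⟩ ⟨0, hn⟩) h
  simp only [scalar_coe, Matrix.smul_apply, Matrix.one_apply_eq, smul_eq_mul, mul_one] at h1
  exact Units.ext h1

theorem det_scalar (c : Fˣ) :
    ((Matrix.GeneralLinearGroup.scalar (Fin n) c : GL (Fin n) F) : Matrix (Fin n) (Fin n) F).det =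
      (c : F) ^ n := by
  rw [scalar_coe, Matrix.det_smul, Matrix.det_one, mul_one, Fintype.card_fin]

/-- the scalar of a Hermitian similitude is fixed by `σ` -/
theorem hermSim_scalar_fixed (hn : 1 ≤ n) (σ : RingAut F) (hσ2 : σ * σ = 1) (k : GL (Fin n) F)
    (c : Fˣ) (h : k * glStar σ k = Matrix.GeneralLinearGroup.scalar (Fin n) c) :
    σ (c : F) = c := by
  have h1 : glStar σ (k * glStar σ k) = k * glStar σ k := by
    rw [glStar_mul, glStar_glStar σ hσ2]
  rw [h] at h1
  have hc0 : σ (c : F) ≠ 0 := by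
    rw [Ne, map_eq_zero]
    exact Units.ne_zero c
  rw [glStar_scalar σ c (Units.mk0 _ hc0) rfl] at h1
  have h2 := scalar_injective hn _ _ h1
  have h3 := congrArg Units.val h2
  exact h3

/-- the determinant of a Hermitian similitude is a `d`-th power for every common divisor `d` of `n` and `q₀ - 1` -/
theorem det_hermSim_mem [Finite F] (hn : 1 ≤ n) (σ : RingAut F) (hσ : σ ≠ 1) (hσ2 : σ * σ = 1) {q₀ : ℕ}
    (hq₀ : 1 ≤ q₀) (hσq : ∀ a : F, σ a = a ^ q₀) {d : ℕ} (hdn : d ∣ n) (hdq : d ∣ q₀ - 1)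
    (k : GL (Fin n) F) (c : Fˣ)
    (h : k * glStar σ k = Matrix.GeneralLinearGroup.scalar (Fin n) c) :
    ∃ e : Fˣ, e ^ d = Matrix.GeneralLinearGroup.det k := by
  have hfix := hermSim_scalar_fixed hn σ hσ2 k c h
  obtain ⟨ν, hν⟩ := Cfsg.Agent.Lib.Helper36.exists_mul_map_eq ((σ : F ≃+* F) : F →+* F)
    (ringAut_toRingHom_ne_id σ hσ) (ringAut_apply_apply_of_mul_self σ hσ2) (c : F) hfix
  have hν' : ν * σ ν = c := hν
  have hν0 : ν ≠ 0 := by
    rintro rfl
    rw [zero_mul] at hν'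
    exact Units.ne_zero c hν'.symm
  set D : F := (k : Matrix (Fin n) (Fin n) F).det with hD
  have hD0 : D ≠ 0 := by
    have := (Matrix.GeneralLinearGroup.det k).ne_zero
    exact this
  have hDD : D * σ D = (c : F) ^ n := by
    have h1 := congrArg (fun g : GL (Fin n) F => (g : Matrix (Fin n) (Fin n) F).det) h
    simp only [Units.val_mul, Matrix.det_mul, det_glStar, det_scalar] at h1
    exact h1
  set z : F := D / ν ^ n with hz
  have hzz : z * σ z = 1 := by
    rw [hz, map_div₀, map_pow, div_mul_div_comm, hDD, ← mul_pow, hν']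
    exact div_self (pow_ne_zero _ (Units.ne_zero c))
  obtain ⟨y, hy0, hy⟩ := Cfsg.Agent.Lib.Helper36.hilbert90_invol ((σ : F ≃+* F) : F →+* F)
    (ringAut_toRingHom_ne_id σ hσ) (ringAut_apply_apply_of_mul_self σ hσ2) z hzz
  have hy' : y ^ q₀ = z * y := by
    rw [← hσq]; exact hy
  have hzy : z = y ^ (q₀ - 1) := by
    have h1 : y ^ (q₀ - 1) * y = z * y := by
      rw [← pow_succ, Nat.sub_add_cancel hq₀, hy']
    exact (mul_right_cancel₀ hy0 h1).symm
  have hDeq : D = ν ^ n * y ^ (q₀ - 1) := by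
    rw [← hzy, hz, mul_div_cancel₀ _ (pow_ne_zero _ hν0)]
  obtain ⟨a, ha⟩ := hdn
  obtain ⟨b, hb⟩ := hdq
  refine ⟨Units.mk0 (ν ^ a * y ^ b) (mul_ne_zero (pow_ne_zero _ hν0) (pow_ne_zero _ hy0)), ?_⟩
  apply Units.ext
  rw [Units.val_pow_eq_pow_val, Units.val_mk0]
  show _ = D
  rw [hDeq, mul_pow, ← pow_mul, ← pow_mul, ha, hb, mul_comm a d, mul_comm b d]

/-- the matrix `diag(w, 1, …, 1)` -/
noncomputable def diagOne (hn : 1 ≤ n) (w : Fˣ) : GL (Fin n) F :=
  ⟨Matrix.diagonal (Function.update (1 : Fin n → F) ⟨0, hn⟩ (w : F)),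
    Matrix.diagonal (Function.update (1 : Fin n → F) ⟨0, hn⟩ ((w⁻¹ : Fˣ) : F)), by
      rw [Matrix.diagonal_mul_diagonal, ← Matrix.diagonal_one]
      congr 1
      funext i
      by_cases hi : i = ⟨0, hn⟩
      · subst hi; simp
      · simp [Function.update_of_ne hi], by
      rw [Matrix.diagonal_mul_diagonal, ← Matrix.diagonal_one]
      congr 1
      funext i
      by_cases hi : i = ⟨0, hn⟩
      · subst hi; simp
      · simp [Function.update_of_ne hi]⟩

theorem diagOne_coe (hn : 1 ≤ n) (w : Fˣ) :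
    ((diagOne hn w : GL (Fin n) F) : Matrix (Fin n) (Fin n) F) =
      Matrix.diagonal (Function.update (1 : Fin n → F) ⟨0, hn⟩ (w : F)) := rfl

theorem det_diagOne (hn : 1 ≤ n) (w : Fˣ) :
    ((diagOne hn w : GL (Fin n) F) : Matrix (Fin n) (Fin n) F).det = w := by
  rw [diagOne_coe, Matrix.det_diagonal, Finset.prod_update_of_mem (Finset.mem_univ _)]
  simp

theorem diagOne_mul_glStar (hn : 1 ≤ n) (σ : RingAut F) (w : Fˣ) (hw : (w : F) * σ (w : F) = 1) :
    diagOne hn w * glStar σ (diagOne hn w) = 1 := by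
  apply Units.ext
  rw [Units.val_mul, glStar_coe, diagOne_coe, Matrix.diagonal_map (map_zero _),
    Matrix.diagonal_transpose, Matrix.diagonal_mul_diagonal, Units.val_one, ← Matrix.diagonal_one]
  congr 1
  funext i
  by_cases hi : i = ⟨0, hn⟩
  · subst hi
    simp only [Function.update_self]
    exact hw
  · simp [Function.update_of_ne hi]

/-- every `gcd(n, q₀ - 1)`-th power is the determinant of a Hermitian similitude -/
theorem exists_hermSim_det [Fintype F] (hn : 1 ≤ n) (σ : RingAut F) {q₀ : ℕ}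
    (hq₀ : 1 ≤ q₀) (hσq : ∀ a : F, σ a = a ^ q₀) (hF : Fintype.card F = q₀ ^ 2) (e : Fˣ) :
    ∃ (k : GL (Fin n) F) (c : Fˣ),
      k * glStar σ k = Matrix.GeneralLinearGroup.scalar (Fin n) c ∧
        Matrix.GeneralLinearGroup.det k = e ^ Nat.gcd n (q₀ - 1) := by
  classical
  have hbez := Nat.gcd_eq_gcd_ab n (q₀ - 1)
  set A : ℤ := Nat.gcdA n (q₀ - 1)
  set B : ℤ := Nat.gcdB n (q₀ - 1)
  set α : Fˣ := e ^ A with hα
  set w : Fˣ := (e ^ B) ^ (q₀ - 1) with hw
  have hww : (w : F) * σ (w : F) = 1 := by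
    rw [hσq, ← pow_succ', ← Units.val_pow_eq_pow_val, hw, ← pow_mul]
    have h1 : (q₀ - 1) * (q₀ + 1) = Fintype.card Fˣ := by
      rw [Fintype.card_units, hF]
      have : q₀ ^ 2 = q₀ * q₀ := pow_two q₀
      rw [this]
      have h2 : (q₀ - 1) * (q₀ + 1) + 1 = q₀ * q₀ := by
        obtain ⟨m, rfl⟩ : ∃ m, q₀ = m + 1 := ⟨q₀ - 1, by omega⟩
        simp only [Nat.add_sub_cancel]
        ring
      omega
    rw [h1, pow_card_eq_one, Units.val_one]
  have hσα0 : σ (α : F) ≠ 0 := by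
    rw [Ne, map_eq_zero]; exact Units.ne_zero α
  refine ⟨Matrix.GeneralLinearGroup.scalar (Fin n) α * diagOne hn w,
    α * Units.mk0 _ hσα0, ?_, ?_⟩
  · rw [glStar_mul, glStar_scalar σ α (Units.mk0 _ hσα0) rfl]
    calc Matrix.GeneralLinearGroup.scalar (Fin n) α * diagOne hn w *
          (glStar σ (diagOne hn w) * Matrix.GeneralLinearGroup.scalar (Fin n) (Units.mk0 _ hσα0))
        = Matrix.GeneralLinearGroup.scalar (Fin n) α * (diagOne hn w * glStar σ (diagOne hn w)) *
            Matrix.GeneralLinearGroup.scalar (Fin n) (Units.mk0 _ hσα0) := by group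
      _ = Matrix.GeneralLinearGroup.scalar (Fin n) (α * Units.mk0 _ hσα0) := by
          rw [diagOne_mul_glStar hn σ w hww, mul_one, map_mul]
  · apply Units.ext
    show ((Matrix.GeneralLinearGroup.scalar (Fin n) α * diagOne hn w : GL (Fin n) F) :
      Matrix (Fin n) (Fin n) F).det = ((e ^ Nat.gcd n (q₀ - 1) : Fˣ) : F)
    rw [Units.val_mul, Matrix.det_mul, det_scalar, det_diagOne, ← Units.val_pow_eq_pow_val,
      ← Units.val_mul]
    congr 1
    rw [hα, hw, ← zpow_natCast (e ^ A) n, ← _root_.zpow_mul, ← zpow_natCast (e ^ B) (q₀ - 1),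
      ← _root_.zpow_mul, ← _root_.zpow_add, ← zpow_natCast e (Nat.gcd n (q₀ - 1)), hbez]
    congr 1
    ring

end Cfsg.Agent.Lib.Helper43
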