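import Mathlib
import Cfsg.Agent.Lib.Helper43.HermSim
import Cfsg.Agent.Lib.Helper43.PSLnAutStd

set_option autoImplicit false

/-!
# Involutory graph-field automorphisms of `PSL_n(F)`
-/

namespace Cfsg.Agent.Lib.Helper43

open scoped MatrixGroups Matrix
open Matrix

variable {n : ℕ} {F : Type*} [Field F]

/-- `Inndiag(PSL_n(F))` is the range of `pslDiag` -/
theorem inndiagPSL_eq_range :
    Cfsg.inndiagPSL n F = (pslDiag : GL (Fin n) F →* _).range := by
  unfold Cfsg.inndiagPSL Cfsg.autSubgroupOf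
  apply le_antisymm
  · rw [Subgroup.closure_le]
    intro β hβ
    obtain ⟨g, rfl⟩ := (isInnerDiagonalAutPSL_iff β).mp hβ
    exact ⟨g, rfl⟩
  · rintro _ ⟨g, rfl⟩
    exact Subgroup.subset_closure ((isInnerDiagonalAutPSL_iff _).mpr ⟨g, rfl⟩)

theorem pslDiag_mem_inndiagPSL (g : GL (Fin n) F) :
    (pslDiag g : MulAut (Matrix.ProjectiveSpecialLinearGroup (Fin n) F)) ∈ Cfsg.inndiagPSL n F := by
  rw [inndiagPSL_eq_range]
  exact ⟨g, rfl⟩

theorem mem_inn_iff (t : MulAut (Matrix.ProjectiveSpecialLinearGroup (Fin n) F)) :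
    t ∈ Cfsg.Inn (Matrix.ProjectiveSpecialLinearGroup (Fin n) F) ↔
      ∃ s : Matrix.SpecialLinearGroup (Fin n) F,
        t = pslDiag (Matrix.SpecialLinearGroup.toGL s) := by
  constructor
  · rintro ⟨x, rfl⟩
    obtain ⟨s, rfl⟩ := QuotientGroup.mk_surjective x
    exact ⟨s, (pslDiag_toGL s).symm⟩
  · rintro ⟨s, rfl⟩
    rw [pslDiag_toGL]
    exact ⟨_, rfl⟩

/-- conjugating the standard twisted element -/
theorem pslDiag_conj_pslTwist (σ : RingAut F) (h : GL (Fin n) F) :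
    (pslDiag h : MulAut (Matrix.ProjectiveSpecialLinearGroup (Fin n) F)) * pslTwist σ *
        (pslDiag h)⁻¹ = pslDiag (h * glStar σ h) * pslTwist σ := by
  have h3 := pslDiag_conj_twisted (n := n) σ h 1
  rw [map_one, one_mul, mul_one] at h3
  exact h3

/-! ### the general unitary group -/

theorem mem_GU_iff_glStar (σ : RingAut F) {q₀ : ℕ} (hσq : ∀ a : F, σ a = a ^ q₀)
    (h : GL (Fin n) F) : h ∈ Cfsg.GU n F q₀ ↔ glStar σ h * h = 1 := by
  have hform : ∀ u v : Fin n → F, Cfsg.hermForm n F q₀ u v = u ⬝ᵥ (fun i => σ (v i)) := by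
    intro u v
    unfold Cfsg.hermForm dotProduct
    apply Finset.sum_congr rfl
    intro i _
    show u i * v i ^ q₀ = u i * σ (v i)
    rw [hσq]
  have hmap : ∀ (M : Matrix (Fin n) (Fin n) F) (v : Fin n → F),
      (fun i => σ ((M *ᵥ v) i)) = (M.map σ) *ᵥ (fun i => σ (v i)) := by
    intro M v
    funext i
    simp only [mulVec, dotProduct, map_sum, map_mul, Matrix.map_apply]
  have hkey : ∀ u v : Fin n → F,
      Cfsg.hermForm n F q₀ ((h : Matrix (Fin n) (Fin n) F) *ᵥ u)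
        ((h : Matrix (Fin n) (Fin n) F) *ᵥ v) =
      u ⬝ᵥ (((glStar σ h * h : GL (Fin n) F) : Matrix (Fin n) (Fin n) F)ᵀ *ᵥ
        (fun i => σ (v i))) := by
    intro u v
    rw [hform, hmap, Units.val_mul, glStar_coe, Matrix.transpose_mul, Matrix.transpose_transpose,
      ← Matrix.mulVec_mulVec, Matrix.dotProduct_mulVec u, Matrix.vecMul_transpose]
  constructor
  · intro hh
    have h1 : ∀ u v : Fin n → F,
        u ⬝ᵥ (((glStar σ h * h : GL (Fin n) F) : Matrix (Fin n) (Fin n) F)ᵀ *ᵥ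
          (fun i => σ (v i))) = u ⬝ᵥ (fun i => σ (v i)) := by
      intro u v
      rw [← hkey, ← hform]
      exact hh u v
    apply Units.ext
    rw [Units.val_one]
    apply Matrix.transpose_injective
    rw [Matrix.transpose_one]
    ext i j
    have h2 := h1 (Pi.single i 1) (Pi.single j 1)
    have h3 : (fun l => σ ((Pi.single j 1 : Fin n → F) l)) = Pi.single j 1 := by
      funext l
      by_cases hl : l = j
      · subst hl; simp
      · simp [Pi.single_eq_of_ne hl]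
    rw [h3, single_dotProduct, single_dotProduct, one_mul, one_mul, Matrix.mulVec_single,
      Pi.single_apply] at h2
    simp only [MulOpposite.op_one, one_smul, Matrix.col_apply] at h2
    rw [Matrix.one_apply, h2]
  · intro hh u v
    show Cfsg.hermForm n F q₀ ((h : Matrix (Fin n) (Fin n) F) *ᵥ u)
        ((h : Matrix (Fin n) (Fin n) F) *ᵥ v) = _
    rw [hkey, hh, Units.val_one, Matrix.transpose_one, Matrix.one_mulVec, hform]

/-! ### the centraliser of the standard twisted element -/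

theorem pslDiag_mem_centralizer_pslTwist_iff (hn : 2 ≤ n) (σ : RingAut F) (k : GL (Fin n) F) :
    (pslDiag k : MulAut (Matrix.ProjectiveSpecialLinearGroup (Fin n) F)) ∈
        Subgroup.centralizer {pslTwist (n := n) σ} ↔
      ∃ c : Fˣ, k * glStar σ k = Matrix.GeneralLinearGroup.scalar (Fin n) c := by
  rw [Subgroup.mem_centralizer_singleton_iff, pslTwist_mul_pslDiag, mul_left_inj,
    pslDiag_eq_iff hn]
  constructor
  · rintro ⟨c, hc⟩
    refine ⟨c, ?_⟩
    rw [eq_mul_inv_iff_mul_eq] at hc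
    exact hc
  · rintro ⟨c, hc⟩
    refine ⟨c, ?_⟩
    rw [eq_mul_inv_iff_mul_eq]
    exact hc

/-- the homomorphism `GU_n → Inndiag ⊓ C(pslTwist σ)` -/
noncomputable def guToCentralizer (σ : RingAut F) {q₀ : ℕ} (hσq : ∀ a : F, σ a = a ^ q₀) :
    ↥(Cfsg.GU n F q₀) →*
      ↥(Cfsg.inndiagPSL n F ⊓ Subgroup.centralizer {pslTwist (n := n) σ}) where
  toFun h := ⟨pslDiag h.1, Subgroup.mem_inf.mpr ⟨pslDiag_mem_inndiagPSL h.1, by
    rw [Subgroup.mem_centralizer_singleton_iff, pslTwist_mul_pslDiag]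
    have h1 := (mem_GU_iff_glStar σ hσq h.1).mp h.2
    rw [inv_eq_of_mul_eq_one_right h1]⟩⟩
  map_one' := Subtype.ext (map_one _)
  map_mul' a b := Subtype.ext (map_mul _ _ _)

theorem guToCentralizer_coe (σ : RingAut F) {q₀ : ℕ} (hσq : ∀ a : F, σ a = a ^ q₀)
    (h : ↥(Cfsg.GU n F q₀)) :
    ((guToCentralizer σ hσq h : ↥(Cfsg.inndiagPSL n F ⊓
      Subgroup.centralizer {pslTwist (n := n) σ})) :
        MulAut (Matrix.ProjectiveSpecialLinearGroup (Fin n) F)) = pslDiag h.1 := rfl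

theorem ker_guToCentralizer (hn : 2 ≤ n) (σ : RingAut F) {q₀ : ℕ}
    (hσq : ∀ a : F, σ a = a ^ q₀) :
    (guToCentralizer (n := n) σ hσq).ker =
      (Cfsg.Geo.scalars (Fin n) F).subgroupOf (Cfsg.GU n F q₀) := by
  ext h
  rw [MonoidHom.mem_ker, Subgroup.mem_subgroupOf, Subtype.ext_iff, guToCentralizer_coe]
  have h1 : (pslDiag h.1 : MulAut (Matrix.ProjectiveSpecialLinearGroup (Fin n) F)) = 1 ↔
      h.1 ∈ (pslDiag : GL (Fin n) F →*
        MulAut (Matrix.ProjectiveSpecialLinearGroup (Fin n) F)).ker := by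
    rw [MonoidHom.mem_ker]
  show (pslDiag h.1 : MulAut (Matrix.ProjectiveSpecialLinearGroup (Fin n) F)) = 1 ↔ _
  rw [h1, ker_pslDiag hn, Matrix.GeneralLinearGroup.center_eq_range_scalar]
  rfl

theorem guToCentralizer_surjective [Finite F] (hn : 2 ≤ n) (σ : RingAut F) (hσ : σ ≠ 1)
    (hσ2 : σ * σ = 1) {q₀ : ℕ} (hσq : ∀ a : F, σ a = a ^ q₀) :
    Function.Surjective (guToCentralizer (n := n) σ hσq) := by
  rintro ⟨β, hβ⟩
  obtain ⟨hβ1, hβ2⟩ := Subgroup.mem_inf.mp hβ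
  rw [inndiagPSL_eq_range] at hβ1
  obtain ⟨k, rfl⟩ := hβ1
  obtain ⟨c, hc⟩ := (pslDiag_mem_centralizer_pslTwist_iff hn σ k).mp hβ2
  have hfix := hermSim_scalar_fixed (by omega) σ hσ2 k c hc
  obtain ⟨ν, hν⟩ := Cfsg.Agent.Lib.Helper36.exists_mul_map_eq ((σ : F ≃+* F) : F →+* F)
    (ringAut_toRingHom_ne_id σ hσ) (ringAut_apply_apply_of_mul_self σ hσ2) (c : F) hfix
  have hν' : ν * σ ν = c := hν
  have hν0 : ν ≠ 0 := by
    rintro rfl
    rw [zero_mul] at hν'
    exact Units.ne_zero c hν'.symm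
  have hσν0 : σ ν ≠ 0 := by
    rw [Ne, map_eq_zero]; exact hν0
  set ν' : Fˣ := Units.mk0 ν hν0 with hν'def
  set k' : GL (Fin n) F := Matrix.GeneralLinearGroup.scalar (Fin n) ν'⁻¹ * k with hk'
  have hcν : c = ν' * Units.mk0 _ hσν0 := by
    apply Units.ext
    rw [Units.val_mul, Units.val_mk0, Units.val_mk0]
    exact hν'.symm
  have hk'1 : k' * glStar σ k' = 1 := by
    have hσinv : ((Units.mk0 _ hσν0)⁻¹ : Fˣ).val = σ ((ν'⁻¹ : Fˣ) : F) := by
      rw [Units.val_inv_eq_inv_val, Units.val_inv_eq_inv_val, Units.val_mk0, Units.val_mk0,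
        map_inv₀]
    rw [hk', glStar_mul, glStar_scalar σ ν'⁻¹ (Units.mk0 _ hσν0)⁻¹ hσinv]
    calc Matrix.GeneralLinearGroup.scalar (Fin n) ν'⁻¹ * k *
          (glStar σ k * Matrix.GeneralLinearGroup.scalar (Fin n) (Units.mk0 _ hσν0)⁻¹)
        = Matrix.GeneralLinearGroup.scalar (Fin n) ν'⁻¹ * (k * glStar σ k) *
            Matrix.GeneralLinearGroup.scalar (Fin n) (Units.mk0 _ hσν0)⁻¹ := by group
      _ = 1 := by
          rw [hc, ← map_mul, ← map_mul, hcν]
          have : ν'⁻¹ * (ν' * Units.mk0 _ hσν0) * (Units.mk0 _ hσν0)⁻¹ = 1 := by group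
          rw [this, map_one]
  have hk'GU : k' ∈ Cfsg.GU n F q₀ := by
    rw [mem_GU_iff_glStar σ hσq]
    exact mul_eq_one_comm.mp hk'1
  refine ⟨⟨k', hk'GU⟩, ?_⟩
  apply Subtype.ext
  rw [guToCentralizer_coe]
  show pslDiag k' = pslDiag k
  rw [hk', map_mul, pslDiag_scalar, one_mul]

/-- `C_{Inndiag}(pslTwist σ) ≅ PGU_n` -/
theorem nonempty_centralizer_pslTwist_equiv [Finite F] (hn : 2 ≤ n) (σ : RingAut F) (hσ : σ ≠ 1)
    (hσ2 : σ * σ = 1) {q₀ : ℕ} (hσq : ∀ a : F, σ a = a ^ q₀) :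
    Nonempty (↥(Cfsg.inndiagPSL n F ⊓ Subgroup.centralizer {pslTwist (n := n) σ}) ≃*
      Cfsg.PGU n F q₀) :=
  ⟨((QuotientGroup.quotientMulEquivOfEq (ker_guToCentralizer hn σ hσq).symm).trans
    (QuotientGroup.quotientKerEquivOfSurjective _
      (guToCentralizer_surjective hn σ hσ hσ2 hσq))).symm⟩

/-! ### counting the `PSL`-classes in the `Inndiag`-class of the standard twisted element -/

/-- determinant modulo `d`-th powers -/
noncomputable def detModPowD (n d : ℕ) (F : Type*) [Field F] :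
    GL (Fin n) F →* Fˣ ⧸ (powMonoidHom d : Fˣ →* Fˣ).range :=
  (QuotientGroup.mk' _).comp Matrix.GeneralLinearGroup.det

theorem detModPowD_surjective (hn : 1 ≤ n) (d : ℕ) : Function.Surjective (detModPowD n d F) := by
  intro x
  obtain ⟨c, rfl⟩ := QuotientGroup.mk_surjective x
  obtain ⟨g, rfl⟩ := det_surjective (F := F) hn c
  exact ⟨g, rfl⟩

theorem detModPowD_eq_iff (d : ℕ) (g g' : GL (Fin n) F) :
    detModPowD n d F g = detModPowD n d F g' ↔
      ∃ e : Fˣ, e ^ d = (Matrix.GeneralLinearGroup.det g)⁻¹ * Matrix.GeneralLinearGroup.det g' := by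
  unfold detModPowD
  rw [MonoidHom.comp_apply, MonoidHom.comp_apply, QuotientGroup.mk'_apply, QuotientGroup.mk'_apply,
    QuotientGroup.eq]
  rfl

theorem det_toGL (s : Matrix.SpecialLinearGroup (Fin n) F) :
    Matrix.GeneralLinearGroup.det (Matrix.SpecialLinearGroup.toGL s) = 1 := by
  apply Units.ext
  exact s.2

theorem isConjUnder_inn_iff [Fintype F] (hn : 2 ≤ n) (σ : RingAut F) (hσ : σ ≠ 1)
    (hσ2 : σ * σ = 1) {q₀ : ℕ} (hq₀ : 1 ≤ q₀) (hσq : ∀ a : F, σ a = a ^ q₀)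
    (hF : Fintype.card F = q₀ ^ 2) (g g' : GL (Fin n) F) :
    detModPowD n (Nat.gcd n (q₀ - 1)) F g = detModPowD n (Nat.gcd n (q₀ - 1)) F g' ↔
      Cfsg.IsConjUnder (Cfsg.Inn (Matrix.ProjectiveSpecialLinearGroup (Fin n) F))
        (pslDiag g * pslTwist σ * (pslDiag g)⁻¹) (pslDiag g' * pslTwist σ * (pslDiag g')⁻¹) := by
  rw [detModPowD_eq_iff]
  constructor
  · rintro ⟨e, he⟩
    obtain ⟨k, c, hk, hdet⟩ := exists_hermSim_det (n := n) (by omega) σ hq₀ hσq hF e
    have hκ : (pslDiag k : MulAut (Matrix.ProjectiveSpecialLinearGroup (Fin n) F)) *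
        pslTwist σ = pslTwist σ * pslDiag k := by
      rw [← Subgroup.mem_centralizer_singleton_iff, pslDiag_mem_centralizer_pslTwist_iff hn]
      exact ⟨c, hk⟩
    set s₀ : GL (Fin n) F := g' * k⁻¹ * g⁻¹ with hs₀
    have hdet1 : Matrix.GeneralLinearGroup.det s₀ = 1 := by
      rw [hs₀, map_mul, map_mul, map_inv, map_inv, hdet, he]
      rw [_root_.mul_inv_rev, inv_inv]
      have : ∀ a b : Fˣ, b * (b⁻¹ * a) * a⁻¹ = 1 := by intro a b; group
      exact this _ _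
    let s : Matrix.SpecialLinearGroup (Fin n) F :=
      ⟨(s₀ : Matrix (Fin n) (Fin n) F), congrArg Units.val hdet1⟩
    have hs : Matrix.SpecialLinearGroup.toGL s = s₀ := by
      apply Units.ext
      rfl
    refine ⟨pslDiag (Matrix.SpecialLinearGroup.toGL s), (mem_inn_iff _).mpr ⟨s, rfl⟩, ?_⟩
    rw [hs, hs₀, map_mul, map_mul, map_inv, map_inv]
    set a := (pslDiag g : MulAut (Matrix.ProjectiveSpecialLinearGroup (Fin n) F))
    set b := (pslDiag g' : MulAut (Matrix.ProjectiveSpecialLinearGroup (Fin n) F))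
    set κ := (pslDiag k : MulAut (Matrix.ProjectiveSpecialLinearGroup (Fin n) F))
    set T := (pslTwist σ : MulAut (Matrix.ProjectiveSpecialLinearGroup (Fin n) F))
    have h1 : κ⁻¹ * T * κ = T := by
      rw [mul_assoc, ← hκ, ← mul_assoc, inv_mul_cancel, one_mul]
    calc b * T * b⁻¹ = b * (κ⁻¹ * T * κ) * b⁻¹ := by rw [h1]
      _ = b * κ⁻¹ * a⁻¹ * (a * T * a⁻¹) * (b * κ⁻¹ * a⁻¹)⁻¹ := by group
  · rintro ⟨t, ht, heq⟩
    obtain ⟨s, rfl⟩ := (mem_inn_iff t).mp ht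
    set k : GL (Fin n) F := g'⁻¹ * Matrix.SpecialLinearGroup.toGL s * g with hk
    have hκ : (pslDiag k : MulAut (Matrix.ProjectiveSpecialLinearGroup (Fin n) F)) ∈
        Subgroup.centralizer {pslTwist (n := n) σ} := by
      rw [Subgroup.mem_centralizer_singleton_iff, hk, map_mul, map_mul, map_inv]
      set a := (pslDiag g : MulAut (Matrix.ProjectiveSpecialLinearGroup (Fin n) F))
      set b := (pslDiag g' : MulAut (Matrix.ProjectiveSpecialLinearGroup (Fin n) F))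
      set t := (pslDiag (Matrix.SpecialLinearGroup.toGL s) :
        MulAut (Matrix.ProjectiveSpecialLinearGroup (Fin n) F))
      set T := (pslTwist σ : MulAut (Matrix.ProjectiveSpecialLinearGroup (Fin n) F))
      have h2 : T = b⁻¹ * (b * T * b⁻¹) * b := by group
      calc b⁻¹ * t * a * T = b⁻¹ * (t * (a * T * a⁻¹) * t⁻¹) * t * a := by group
        _ = b⁻¹ * (b * T * b⁻¹) * t * a := by rw [← heq]
        _ = T * (b⁻¹ * t * a) := by group
    obtain ⟨c, hc⟩ := (pslDiag_mem_centralizer_pslTwist_iff hn σ k).mp hκ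
    obtain ⟨e, he⟩ := det_hermSim_mem (n := n) (by omega) σ hσ hσ2 hq₀ hσq
      (Nat.gcd_dvd_left n (q₀ - 1)) (Nat.gcd_dvd_right n (q₀ - 1)) k c hc
    refine ⟨e⁻¹, ?_⟩
    rw [inv_pow, he, hk, map_mul, map_mul, map_inv, det_toGL, mul_one, _root_.mul_inv_rev, inv_inv]

theorem card_units_quot_pow [Fintype F] {q₀ : ℕ} (hq₀ : 1 ≤ q₀) (hF : Fintype.card F = q₀ ^ 2)
    (n : ℕ) :
    Nat.card (Fˣ ⧸ (powMonoidHom (Nat.gcd n (q₀ - 1)) : Fˣ →* Fˣ).range) =
      Nat.gcd n (q₀ - 1) := by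
  classical
  rw [← Subgroup.index_eq_card, IsCyclic.index_powMonoidHom_range, Nat.card_units,
    Nat.card_eq_fintype_card, hF]
  apply Nat.gcd_eq_right
  have h1 : Nat.gcd n (q₀ - 1) ∣ q₀ - 1 := Nat.gcd_dvd_right _ _
  have h2 : q₀ ^ 2 - 1 = (q₀ - 1) * (q₀ + 1) := by
    obtain ⟨m, rfl⟩ : ∃ m, q₀ = m + 1 := ⟨q₀ - 1, by omega⟩
    simp only [Nat.add_sub_cancel]
    have : (m + 1) ^ 2 = m * (m + 1 + 1) + 1 := by ring
    rw [this, Nat.add_sub_cancel]
  rw [h2]
  exact Dvd.dvd.mul_right h1 _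

/-- the `Inndiag`-class of the standard twisted element splits into `gcd(n, q₀ - 1)` classes under `PSL_n` -/
theorem splitClassCount_pslTwist [Fintype F] (hn : 2 ≤ n) (σ : RingAut F) (hσ : σ ≠ 1)
    (hσ2 : σ * σ = 1) {q₀ : ℕ} (hq₀ : 1 ≤ q₀) (hσq : ∀ a : F, σ a = a ^ q₀)
    (hF : Fintype.card F = q₀ ^ 2) :
    Cfsg.splitClassCount (Cfsg.inndiagPSL n F)
      (Cfsg.Inn (Matrix.ProjectiveSpecialLinearGroup (Fin n) F)) (pslTwist (n := n) σ) =
      Nat.gcd n (q₀ - 1) := by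
  rw [splitClassCount_eq_card (Cfsg.inndiagPSL n F)
    (Cfsg.Inn (Matrix.ProjectiveSpecialLinearGroup (Fin n) F)) (pslTwist (n := n) σ)
    (pslDiag : GL (Fin n) F →* _) inndiagPSL_eq_range.symm
    (detModPowD n (Nat.gcd n (q₀ - 1)) F) (detModPowD_surjective (by omega) _)
    (isConjUnder_inn_iff hn σ hσ hσ2 hq₀ hσq hF)]
  exact card_units_quot_pow hq₀ hF n

/-! ### graph-field automorphisms -/

/-- a graph-field automorphism is `pslDiag g * pslTwist σ` with `σ ≠ 1` -/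
theorem exists_twisted_of_graphField (hn : 3 ≤ n) (hstd : AllStdAut n F)
    (hcomm : ∀ a b : RingAut F, a * b = b * a)
    (x : MulAut (Matrix.ProjectiveSpecialLinearGroup (Fin n) F))
    (hx : Cfsg.IsGraphFieldAutClassPSL x) :
    ∃ (g : GL (Fin n) F) (σ : RingAut F), σ ≠ 1 ∧ x = pslDiag g * pslTwist σ := by
  obtain ⟨_, α, φ, γ, σ, hσ, hφ, hγ, h⟩ := hx
  rw [isStdFieldAutPSL_iff] at hφ
  rw [isInverseTransposeAutPSL_iff] at hγ
  subst hφ hγ
  have h1 : stdPart hn hstd (pslField σ * pslInvT) = (σ, Multiplicative.ofAdd (1 : ZMod 2)) := by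
    apply stdPart_eq
    refine ⟨1, ?_⟩
    rw [map_one, one_mul, pslGraph_one_add]
  have hc : ∀ A X : RingAut F × Multiplicative (ZMod 2), A * X * A⁻¹ = X := by
    intro A X
    apply Prod.ext
    · show A.1 * X.1 * A.1⁻¹ = X.1
      rw [hcomm A.1 X.1, mul_inv_cancel_right]
    · show A.2 * X.2 * A.2⁻¹ = X.2
      rw [mul_comm A.2 X.2, mul_inv_cancel_right]
  have h2 : stdPart hn hstd x = (σ, Multiplicative.ofAdd (1 : ZMod 2)) := by
    rw [← h1, ← h, map_mul, map_mul, map_inv, hc]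
  obtain ⟨g, hg⟩ := isStdAut_stdPart hn hstd x
  rw [h2] at hg
  refine ⟨g, σ, hσ, ?_⟩
  rw [hg, pslGraph_one_add, mul_assoc]
  rfl

theorem graphField_involution_conj [Finite F] (hn : 3 ≤ n) (hstd : AllStdAut n F)
    (hcomm : ∀ a b : RingAut F, a * b = b * a)
    (x : MulAut (Matrix.ProjectiveSpecialLinearGroup (Fin n) F))
    (hx : Cfsg.IsGraphFieldAutClassPSL x) (hx2 : orderOf x = 2) :
    ∃ σ : RingAut F, σ ≠ 1 ∧ σ * σ = 1 ∧
      Cfsg.IsConjUnder (Cfsg.inndiagPSL n F) (pslTwist (n := n) σ) x := by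
  obtain ⟨g, σ, hσ, rfl⟩ := exists_twisted_of_graphField hn hstd hcomm x hx
  have hxx : (pslDiag g * pslTwist σ : MulAut (Matrix.ProjectiveSpecialLinearGroup (Fin n) F)) *
      (pslDiag g * pslTwist σ) = 1 := by
    rw [← pow_two, ← hx2]
    exact pow_orderOf_eq_one _
  obtain ⟨hσ2, h, hh⟩ := twisted_involution_conj (by omega) σ hσ g hxx
  exact ⟨σ, hσ, hσ2, pslDiag h, pslDiag_mem_inndiagPSL h, hh⟩

/-- the main theorem on involutory graph-field automorphisms of `PSL_n(F)`, given that all automorphisms are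
standard -/
theorem graphField_involution_main [Fintype F] {p f : ℕ} [Fact p.Prime]
    (hF : Fintype.card F = p ^ f) (hf : 1 ≤ f) (hn : 3 ≤ n) (hstd : AllStdAut n F)
    (x : MulAut (Matrix.ProjectiveSpecialLinearGroup (Fin n) F))
    (hx : Cfsg.IsGraphFieldAutClassPSL x) (hx2 : orderOf x = 2) :
    Even f ∧
    (∀ y : MulAut (Matrix.ProjectiveSpecialLinearGroup (Fin n) F),
      Cfsg.IsGraphFieldAutClassPSL y → orderOf y = 2 →
        Cfsg.IsConjUnder (Cfsg.inndiagPSL n F) x y) ∧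
    Nonempty (↥(Cfsg.inndiagPSL n F ⊓ Subgroup.centralizer {x}) ≃*
      Cfsg.PGU n F (p ^ (f / 2))) ∧
    Cfsg.splitClassCount (Cfsg.inndiagPSL n F)
      (Cfsg.Inn (Matrix.ProjectiveSpecialLinearGroup (Fin n) F)) x =
      Nat.gcd n (p ^ (f / 2) - 1) := by
  have hp := (Fact.out : p.Prime)
  have hcomm : ∀ a b : RingAut F, a * b = b * a := by
    have hchar : CharP F p := charP_of_card' hf hF
    obtain ⟨e₁⟩ := ringAut_mulEquiv_zmod' (F := F) p f hF
    intro a b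
    apply e₁.injective
    rw [map_mul, map_mul, mul_comm]
  obtain ⟨σ, hσ, hσ2, hconj⟩ := graphField_involution_conj hn hstd hcomm x hx hx2
  obtain ⟨hev, hσq⟩ := frob_involution hf hF σ hσ hσ2
  have hq₀ : 1 ≤ p ^ (f / 2) := Nat.one_le_pow _ _ hp.pos
  have hF' : Fintype.card F = (p ^ (f / 2)) ^ 2 := by
    rw [hF, ← pow_mul]
    congr 1
    obtain ⟨k, hk⟩ := hev
    omega
  refine ⟨hev, ?_, ?_, ?_⟩
  · intro y hy hy2
    obtain ⟨σ', hσ', hσ'2, hconj'⟩ := graphField_involution_conj hn hstd hcomm y hy hy2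
    obtain ⟨_, hσ'q⟩ := frob_involution hf hF σ' hσ' hσ'2
    have hσσ' : σ' = σ := by
      apply RingEquiv.ext
      intro a
      rw [hσq, hσ'q]
    rw [hσσ'] at hconj'
    exact isConjUnder_trans (isConjUnder_symm hconj) hconj'
  · obtain ⟨a, ha, hxa⟩ := hconj
    obtain ⟨e⟩ := nonempty_centralizer_pslTwist_equiv (n := n) (by omega) σ hσ hσ2 hσq
    exact ⟨(centralizerInfEquivOfConj a ha hxa).symm.trans e⟩
  · rw [← splitClassCount_congr hconj]
    exact splitClassCount_pslTwist (by omega) σ hσ hσ2 hq₀ hσq hF'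

end Cfsg.Agent.Lib.Helper43
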