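/-
helper43: the kernel of `(g, σ) ↦ psuDiag g * psuField σ` on `PSU_n(F, q)`, `n ≥ 3`: `σ = 1` and `g` scalar.
-/
import Mathlib
import Cfsg.Agent.Lib.Helper43.PSUAutRel
import Cfsg.Agent.Lib.Helper5.UnitaryCenter

set_option autoImplicit false

namespace Cfsg.Agent.Lib.Helper43

open scoped MatrixGroups Matrix
open Matrix Cfsg.Agent.Lib.Helper5

variable {n : ℕ} {F : Type*} [Field F] {q : ℕ}

theorem qrefl_map (σ : F →+* F) (w : Fin n → F) (a : F) :
    (qrefl q w a).map σ = qrefl q (fun i => σ (w i)) (σ a) := by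
  unfold qrefl
  ext i j
  simp only [Matrix.map_apply, Matrix.add_apply, Matrix.smul_apply, Matrix.vecMulVec_apply,
    smul_eq_mul, map_add, map_mul, map_pow, Matrix.one_apply]
  congr 1
  split_ifs <;> simp

theorem qrefl_mul_qrefl (w : Fin n → F) (hw : Cfsg.hermForm n F q w w = 0) (a b : F) :
    qrefl q w a * qrefl q w b = qrefl q w (a + b) := by
  apply Matrix.toLin'.injective
  apply LinearMap.ext
  intro x
  rw [Matrix.toLin'_apply, Matrix.toLin'_apply, ← Matrix.mulVec_mulVec, qrefl_mulVec, qrefl_mulVec,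
    qrefl_mulVec, hermForm_add_left, hermForm_smul_left, hw, mul_zero, add_zero, add_assoc,
    ← add_smul]
  congr 2
  ring

theorem qrefl_zero (w : Fin n → F) : qrefl q w 0 = 1 := by
  unfold qrefl
  rw [zero_smul, add_zero]

theorem qrefl_pow (w : Fin n → F) (hw : Cfsg.hermForm n F q w w = 0) (a : F) (k : ℕ) :
    qrefl q w a ^ k = qrefl q w (k * a) := by
  induction k with
  | zero => rw [pow_zero, Nat.cast_zero, zero_mul, qrefl_zero]
  | succ k ih =>
    rw [pow_succ, ih, qrefl_mul_qrefl w hw]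
    congr 1
    push_cast
    ring

variable [Fintype F]

theorem natCast_q_eq_zero (hF : Fintype.card F = q ^ 2) : (q : F) = 0 := by
  have h := Nat.cast_card_eq_zero F
  rw [hF, Nat.cast_pow] at h
  exact pow_eq_zero_iff (two_ne_zero) |>.mp h

/-- the unitary transvection `x ↦ x + a h(x, w) w` as an element of `SU` -/
noncomputable def suTv (hF : Fintype.card F = q ^ 2) (w : Fin n → F)
    (hw : Cfsg.hermForm n F q w w = 0) (a : F) (ha : a + a ^ q = 0) : ↥(Cfsg.SU n F q) :=
  SUofPreserves (qrefl q w a) (by rw [det_qrefl, hw, mul_zero, add_zero])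
    (qrefl_preserves hF w a (by rw [hw, mul_zero, add_zero, ha]))

theorem suTv_coe (hF : Fintype.card F = q ^ 2) (w : Fin n → F)
    (hw : Cfsg.hermForm n F q w w = 0) (a : F) (ha : a + a ^ q = 0) :
    ((suTv hF w hw a ha : ↥(Cfsg.SU n F q)).1.1 : Matrix (Fin n) (Fin n) F) = qrefl q w a := rfl

theorem suTv_pow_q (hF : Fintype.card F = q ^ 2) (w : Fin n → F)
    (hw : Cfsg.hermForm n F q w w = 0) (a : F) (ha : a + a ^ q = 0) :
    suTv hF w hw a ha ^ q = 1 := by
  apply su_ext
  rw [SubgroupClass.coe_pow, Matrix.SpecialLinearGroup.coe_pow, suTv_coe, qrefl_pow w hw,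
    natCast_q_eq_zero hF, zero_mul, qrefl_zero]
  rfl

/-- an automorphism of `SU` inducing the identity on `PSU` fixes every element of order
dividing `q` -/
theorem apply_eq_of_psuDescend_eq_one (hF : Fintype.card F = q ^ 2) (hn : 1 ≤ n)
    (φ : MulAut ↥(Cfsg.SU n F q)) (hφ : psuDescend φ = 1)
    (T : ↥(Cfsg.SU n F q)) (hT : T ^ q = 1) : φ T = T := by
  set z := T⁻¹ * φ T with hzdef
  have hz : z ∈ Subgroup.center ↥(Cfsg.SU n F q) := by
    have h1 := congrArg (fun β : MulAut (Cfsg.PSU n F q) => β (QuotientGroup.mk T)) hφ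
    simp only [psuDescend_mk, MulAut.one_apply] at h1
    rw [eq_comm, QuotientGroup.eq] at h1
    exact h1
  have hzq : z ^ (q + 1) = 1 := by
    have h1 : (⟨z, hz⟩ : Subgroup.center ↥(Cfsg.SU n F q)) ^
        Nat.card (Subgroup.center ↥(Cfsg.SU n F q)) = 1 := pow_card_eq_one'
    rw [card_center_SU hF hn] at h1
    have h2 : z ^ Nat.gcd n (q + 1) = 1 := by
      have := congrArg (fun x : Subgroup.center ↥(Cfsg.SU n F q) => (x : ↥(Cfsg.SU n F q))) h1
      simpa using this
    obtain ⟨k, hk⟩ := Nat.gcd_dvd_right n (q + 1)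
    rw [hk, pow_mul, h2, one_pow]
  have hφT : φ T = T * z := by rw [hzdef, mul_inv_cancel_left]
  have hTq : T ^ (q + 1) = T := by rw [pow_succ, hT, one_mul]
  have hcomm : Commute T z := Subgroup.mem_center_iff.mp hz T
  calc φ T = φ (T ^ (q + 1)) := by rw [hTq]
    _ = (T * z) ^ (q + 1) := by rw [map_pow, hφT]
    _ = T ^ (q + 1) * z ^ (q + 1) := hcomm.mul_pow _
    _ = T := by rw [hzq, mul_one, hTq]

omit [Fintype F] in
theorem exists_ne_ne (hn : 3 ≤ n) (k j : Fin n) : ∃ i : Fin n, i ≠ k ∧ i ≠ j := by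
  classical
  have h1 : ({k, j} : Finset (Fin n)).card < (Finset.univ : Finset (Fin n)).card := by
    calc ({k, j} : Finset (Fin n)).card ≤ 2 := Finset.card_le_two
      _ < n := hn
      _ = (Finset.univ : Finset (Fin n)).card := by simp
  obtain ⟨i, -, hi⟩ := Finset.exists_mem_notMem_of_card_lt_card h1
  simp only [Finset.mem_insert, Finset.mem_singleton, not_or] at hi
  exact ⟨i, hi.1, hi.2⟩

theorem eq_one_of_psuDiag_mul_psuField_eq_one (hF : Fintype.card F = q ^ 2) (hn : 3 ≤ n)
    (g : ↥(Cfsg.GU n F q)) (σ : RingAut F)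
    (h : (psuDiag g : MulAut (Cfsg.PSU n F q)) * psuField σ = 1) :
    σ = 1 ∧ ∃ c : F, ((g : GL (Fin n) F) : Matrix (Fin n) (Fin n) F) = Matrix.scalar (Fin n) c := by
  have hq0 : q ≠ 0 := by have := two_le_of_card_eq_sq hF; omega
  set G : Matrix (Fin n) (Fin n) F := ((g : GL (Fin n) F) : Matrix (Fin n) (Fin n) F) with hG
  have hφ : psuDescend (suConj g * suFieldAut σ) = (1 : MulAut (Cfsg.PSU n F q)) := by
    rw [map_mul]; exact h
  -- the key identity
  have key : ∀ (w : Fin n → F) (hw : Cfsg.hermForm n F q w w = 0) (a : F) (ha : a + a ^ q = 0)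
      (x : Fin n → F),
      (σ a * Cfsg.hermForm n F q x (fun i => σ (w i))) • (G *ᵥ fun i => σ (w i)) =
        (a * Cfsg.hermForm n F q (G *ᵥ x) w) • w := by
    intro w hw a ha x
    have h1 := apply_eq_of_psuDescend_eq_one hF (by omega) _ hφ (suTv hF w hw a ha)
      (suTv_pow_q hF w hw a ha)
    have h2 := congrArg (fun s : ↥(Cfsg.SU n F q) => (s.1.1 : Matrix (Fin n) (Fin n) F)) h1
    simp only [MulAut.mul_apply, suConj_apply_coe, suFieldAut_apply_coe, suTv_coe] at h2
    have h3 : G * (qrefl q w a).map σ = qrefl q w a * G := by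
      have h4 := congrArg (fun M : Matrix (Fin n) (Fin n) F => M * G) h2
      beta_reduce at h4
      rw [Matrix.mul_assoc, gl_inv_mul_coe, Matrix.mul_one] at h4
      exact h4
    have h5 := congrArg (fun M : Matrix (Fin n) (Fin n) F => M *ᵥ x) h3
    beta_reduce at h5
    have hmap := qrefl_map (q := q) ((σ : F ≃+* F) : F →+* F) w a
    simp only [RingEquiv.coe_toRingHom] at hmap
    rw [hmap, ← Matrix.mulVec_mulVec, ← Matrix.mulVec_mulVec, qrefl_mulVec,
      qrefl_mulVec, Matrix.mulVec_add, Matrix.mulVec_smul] at h5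
    exact add_left_cancel h5
  -- every isotropic point is fixed by the semilinear map
  have hfix : ∀ (w : Fin n → F), Cfsg.hermForm n F q w w = 0 → w ≠ 0 →
      ∃ μ : F, (G *ᵥ fun i => σ (w i)) = μ • w := by
    intro w hw hw0
    obtain ⟨a, ha0, ha⟩ := exists_trace_zero hF
    obtain ⟨i, hi⟩ : ∃ i, w i ≠ 0 := by
      by_contra hh
      push Not at hh
      exact hw0 (funext hh)
    have h1 := key w hw a ha (Pi.single i 1)
    have hne : σ a * Cfsg.hermForm n F q (Pi.single i 1) (fun i => σ (w i)) ≠ 0 := by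
      rw [hermForm_single_left, one_mul]
      refine mul_ne_zero ?_ (pow_ne_zero _ ?_)
      · exact fun h0 => ha0 ((map_eq_zero σ).mp h0)
      · exact fun h0 => hi ((map_eq_zero σ).mp h0)
    refine ⟨(σ a * Cfsg.hermForm n F q (Pi.single i 1) (fun i => σ (w i)))⁻¹ *
      (a * Cfsg.hermForm n F q (G *ᵥ Pi.single i 1) w), ?_⟩
    rw [mul_smul, ← h1, smul_smul, inv_mul_cancel₀ hne, one_smul]
  -- `G` is diagonal
  have hdiag : ∀ k j : Fin n, k ≠ j → G k j = 0 := by
    intro k j hkj
    obtain ⟨i, hik, hij⟩ := exists_ne_ne hn k j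
    obtain ⟨x, y, -, hxy, -, -, hx, hy, -⟩ := exists_three_norm_neg_one hF
    have key2 : ∀ l : F, l * l ^ q = -1 → G k i + σ l * G k j = 0 := by
      intro l hl
      have hw : Cfsg.hermForm n F q (Pi.single i 1 + l • Pi.single j 1)
          (Pi.single i 1 + l • Pi.single j 1) = 0 := by
        rw [hermForm_add_left, hermForm_smul_left, hermForm_single_left, hermForm_single_left]
        simp [hij, Ne.symm hij, hl]
      have hw0 : (Pi.single i 1 + l • Pi.single j 1 : Fin n → F) ≠ 0 := by
        intro h0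
        have := congrFun h0 i
        simp [hij] at this
      obtain ⟨μ, hμ⟩ := hfix _ hw hw0
      have hσw : (fun m => σ ((Pi.single i 1 + l • Pi.single j 1 : Fin n → F) m)) =
          Pi.single i 1 + σ l • Pi.single j 1 := by
        funext m
        by_cases hmi : m = i
        · subst hmi; simp [hij]
        · by_cases hmj : m = j
          · subst hmj; simp [hmi]
          · simp [hmi, hmj]
      rw [hσw, mulVec_add, mulVec_smul, mulVec_single_one, mulVec_single_one] at hμ
      have hk := congrFun hμ k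
      simpa [hik, Ne.symm hik, hkj, Ne.symm hkj] using hk
    have h1 := key2 x hx
    have h2 := key2 y hy
    have h3 : (σ x - σ y) * G k j = 0 := by linear_combination h1 - h2
    rcases mul_eq_zero.mp h3 with h4 | h4
    · exact absurd (σ.injective (sub_eq_zero.mp h4)) hxy
    · exact h4
  have hmul : ∀ (v : Fin n → F) (m : Fin n), (G *ᵥ v) m = G m m * v m := by
    intro v m
    rw [mulVec, dotProduct]
    apply Finset.sum_eq_single m
    · intro b _ hb
      rw [hdiag m b (Ne.symm hb), zero_mul]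
    · intro hm
      exact absurd (Finset.mem_univ m) hm
  -- diagonal entries
  have hent : ∀ i j : Fin n, i ≠ j → ∀ c : F, G j j * σ c = G i i * c := by
    intro i j hij c
    obtain ⟨k, hki, hkj⟩ := exists_ne_ne hn i j
    have hd : (-1 - c * c ^ q) ^ q = -1 - c * c ^ q := by
      rw [sub_pow_q hF, neg_pow_q hF, one_pow, norm_pow_q hF]
    obtain ⟨d, hd⟩ := exists_norm_eq hF hd
    have hw : Cfsg.hermForm n F q (Pi.single i 1 + c • Pi.single j 1 + d • Pi.single k 1)
        (Pi.single i 1 + c • Pi.single j 1 + d • Pi.single k 1) = 0 := by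
      rw [hermForm_add_left, hermForm_add_left, hermForm_smul_left, hermForm_smul_left,
        hermForm_single_left, hermForm_single_left, hermForm_single_left]
      simp [hij, Ne.symm hij, hki, Ne.symm hki, hkj, Ne.symm hkj, hd]
    have hw0 : (Pi.single i 1 + c • Pi.single j 1 + d • Pi.single k 1 : Fin n → F) ≠ 0 := by
      intro h0
      have := congrFun h0 i
      simp [hij, Ne.symm hki] at this
    obtain ⟨μ, hμ⟩ := hfix _ hw hw0
    have hi := congrFun hμ i
    have hj := congrFun hμ j
    rw [hmul] at hi hj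
    simp [hij, Ne.symm hij, hki, Ne.symm hki, hkj, Ne.symm hkj] at hi hj
    rw [hj, ← hi]
  have h0n : 0 < n := by omega
  have h1n : 1 < n := by omega
  set i₀ : Fin n := ⟨0, h0n⟩ with hi₀
  set i₁ : Fin n := ⟨1, h1n⟩ with hi₁
  have h01 : i₀ ≠ i₁ := by
    intro h0
    have := congrArg Fin.val h0
    simp [hi₀, hi₁] at this
  have heq : ∀ i j : Fin n, G j j = G i i := by
    intro i j
    by_cases hij : i = j
    · rw [hij]
    · have := hent i j hij 1
      rwa [map_one, mul_one, mul_one] at this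
  have hne : G i₀ i₀ ≠ 0 := by
    intro h0
    have h1 : G *ᵥ (Pi.single i₀ 1) = 0 := by
      funext m
      rw [hmul]
      by_cases hm : m = i₀
      · rw [hm, h0, zero_mul]; rfl
      · simp [hm]
    have h2 := congrArg (fun w => ((((g : GL (Fin n) F)⁻¹ : GL (Fin n) F)) :
      Matrix (Fin n) (Fin n) F) *ᵥ w) h1
    simp only [Matrix.mulVec_mulVec, Matrix.mulVec_zero] at h2
    rw [hG, gl_inv_mul_coe, Matrix.one_mulVec] at h2
    have h3 := congrFun h2 i₀
    simp at h3
  refine ⟨?_, G i₀ i₀, ?_⟩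
  · apply RingEquiv.ext
    intro c
    have h1 := hent i₀ i₁ h01 c
    rw [heq i₀ i₁] at h1
    exact mul_left_cancel₀ hne h1
  · ext k j
    rw [Matrix.scalar_apply, Matrix.diagonal_apply]
    by_cases hkj : k = j
    · subst hkj
      rw [if_pos rfl]
      exact heq i₀ k
    · rw [if_neg hkj]
      exact hdiag k j hkj

end Cfsg.Agent.Lib.Helper43
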