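/-
helper43: `PSU_n(F, q)`: equality of inner-diagonal automorphisms, injectivity of the field automorphisms,
inner automorphisms.
-/
import Mathlib
import Cfsg.Agent.Lib.Helper43.PSUAutKer

set_option autoImplicit false

namespace Cfsg.Agent.Lib.Helper43

open scoped MatrixGroups Matrix
open Matrix Cfsg.Agent.Lib.Helper5

variable {n : ℕ} {F : Type*} [Field F] {q : ℕ}

theorem gu_coe_ne_zero (hn : 1 ≤ n) (g : GL (Fin n) F) :
    (g : Matrix (Fin n) (Fin n) F) ≠ 0 := by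
  intro h0
  have h1 := gl_mul_inv_coe g
  rw [h0, Matrix.zero_mul] at h1
  have h2 := congrFun (congrFun h1 ⟨0, hn⟩) ⟨0, hn⟩
  simp at h2

/-- conjugation by scalar multiples agrees -/
theorem suConj_eq_of_smul (a b : ↥(Cfsg.GU n F q)) (c : F)
    (h : ((a : GL (Fin n) F) : Matrix (Fin n) (Fin n) F) =
      c • ((b : GL (Fin n) F) : Matrix (Fin n) (Fin n) F)) :
    suConj a = suConj b := by
  apply MulEquiv.ext
  intro s
  apply su_ext
  rw [suConj_apply_coe, suConj_apply_coe]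
  set A : Matrix (Fin n) (Fin n) F := ((a : GL (Fin n) F) : Matrix (Fin n) (Fin n) F) with hA
  set B : Matrix (Fin n) (Fin n) F := ((b : GL (Fin n) F) : Matrix (Fin n) (Fin n) F) with hB
  set A' : Matrix (Fin n) (Fin n) F :=
    (((a : GL (Fin n) F)⁻¹ : GL (Fin n) F) : Matrix (Fin n) (Fin n) F) with hA'
  set B' : Matrix (Fin n) (Fin n) F :=
    (((b : GL (Fin n) F)⁻¹ : GL (Fin n) F) : Matrix (Fin n) (Fin n) F) with hB'
  have hAA' : A * A' = 1 := gl_mul_inv_coe _
  have hA'A : A' * A = 1 := gl_inv_mul_coe _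
  have hB'B : B' * B = 1 := gl_inv_mul_coe _
  -- multiply on the right by `A`
  have h1 : A * s.1.1 * A' * A = B * s.1.1 * B' * A := by
    rw [Matrix.mul_assoc (A * s.1.1), hA'A, Matrix.mul_one, h, Matrix.mul_smul,
      Matrix.mul_assoc (B * s.1.1), hB'B, Matrix.mul_one, Matrix.smul_mul]
  have h2 := congrArg (fun M : Matrix (Fin n) (Fin n) F => M * A') h1
  beta_reduce at h2
  rwa [Matrix.mul_assoc _ A A', hAA', Matrix.mul_one, Matrix.mul_assoc _ A A', hAA',
    Matrix.mul_one] at h2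

theorem psuDiag_eq_of_smul (a b : ↥(Cfsg.GU n F q)) (c : F)
    (h : ((a : GL (Fin n) F) : Matrix (Fin n) (Fin n) F) =
      c • ((b : GL (Fin n) F) : Matrix (Fin n) (Fin n) F)) :
    (psuDiag a : MulAut (Cfsg.PSU n F q)) = psuDiag b := by
  unfold psuDiag
  rw [MonoidHom.comp_apply, MonoidHom.comp_apply, suConj_eq_of_smul a b c h]

variable [Fintype F]

/-- the kernel of `psuDiag` consists of the scalars -/
theorem psuDiag_eq_one_iff (hF : Fintype.card F = q ^ 2) (hn : 3 ≤ n) (g : ↥(Cfsg.GU n F q)) :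
    (psuDiag g : MulAut (Cfsg.PSU n F q)) = 1 ↔
      ∃ c : F, ((g : GL (Fin n) F) : Matrix (Fin n) (Fin n) F) = c • 1 := by
  constructor
  · intro h
    have h1 : (psuDiag g : MulAut (Cfsg.PSU n F q)) * psuField 1 = 1 := by
      rw [map_one, mul_one, h]
    obtain ⟨-, c, hc⟩ := eq_one_of_psuDiag_mul_psuField_eq_one hF hn g 1 h1
    refine ⟨c, ?_⟩
    rw [hc, Matrix.scalar_apply, Matrix.smul_one_eq_diagonal]
  · rintro ⟨c, hc⟩
    have h1 : ((g : GL (Fin n) F) : Matrix (Fin n) (Fin n) F) =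
        c • (((1 : ↥(Cfsg.GU n F q)) : GL (Fin n) F) : Matrix (Fin n) (Fin n) F) := by
      rw [hc]; rfl
    rw [psuDiag_eq_of_smul g 1 c h1, map_one]

theorem psuDiag_eq_iff (hF : Fintype.card F = q ^ 2) (hn : 3 ≤ n) (a b : ↥(Cfsg.GU n F q)) :
    (psuDiag a : MulAut (Cfsg.PSU n F q)) = psuDiag b ↔
      ∃ c : F, ((a : GL (Fin n) F) : Matrix (Fin n) (Fin n) F) =
        c • ((b : GL (Fin n) F) : Matrix (Fin n) (Fin n) F) := by
  constructor
  · intro h
    have h1 : (psuDiag (a * b⁻¹) : MulAut (Cfsg.PSU n F q)) = 1 := by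
      rw [map_mul, map_inv, h, mul_inv_cancel]
    obtain ⟨c, hc⟩ := (psuDiag_eq_one_iff hF hn _).mp h1
    refine ⟨c, ?_⟩
    have h2 : ((a : GL (Fin n) F) : Matrix (Fin n) (Fin n) F) =
        (((a * b⁻¹ : ↥(Cfsg.GU n F q)) : GL (Fin n) F) : Matrix (Fin n) (Fin n) F) *
          ((b : GL (Fin n) F) : Matrix (Fin n) (Fin n) F) := by
      rw [← Matrix.GeneralLinearGroup.coe_mul, ← Subgroup.coe_mul, inv_mul_cancel_right]
    rw [h2, hc, Matrix.smul_mul, Matrix.one_mul]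
  · rintro ⟨c, hc⟩
    exact psuDiag_eq_of_smul a b c hc

theorem psuField_injective (hF : Fintype.card F = q ^ 2) (hn : 3 ≤ n) :
    Function.Injective (psuField : RingAut F →* MulAut (Cfsg.PSU n F q)) := by
  rw [injective_iff_map_eq_one]
  intro σ hσ
  have h1 : (psuDiag (1 : ↥(Cfsg.GU n F q)) : MulAut (Cfsg.PSU n F q)) * psuField σ = 1 := by
    rw [map_one, one_mul, hσ]
  exact (eq_one_of_psuDiag_mul_psuField_eq_one hF hn 1 σ h1).1

theorem orderOf_psuField (hF : Fintype.card F = q ^ 2) (hn : 3 ≤ n) (σ : RingAut F) :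
    orderOf (psuField σ : MulAut (Cfsg.PSU n F q)) = orderOf σ :=
  orderOf_injective psuField (psuField_injective hF hn) σ

/-- uniqueness of the field part -/
theorem field_part_unique_psu (hF : Fintype.card F = q ^ 2) (hn : 3 ≤ n)
    (g g' : ↥(Cfsg.GU n F q)) (σ σ' : RingAut F)
    (h : (psuDiag g : MulAut (Cfsg.PSU n F q)) * psuField σ = psuDiag g' * psuField σ') :
    σ = σ' := by
  have h1 : (psuDiag (g'⁻¹ * g) : MulAut (Cfsg.PSU n F q)) * psuField (σ * σ'⁻¹) = 1 := by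
    rw [map_mul, map_mul, map_inv, map_inv]
    calc (psuDiag g')⁻¹ * psuDiag g * (psuField σ * (psuField σ')⁻¹)
        = (psuDiag g')⁻¹ * (psuDiag g * psuField σ) * (psuField σ')⁻¹ := by group
      _ = 1 := by rw [h]; group
  have h2 := (eq_one_of_psuDiag_mul_psuField_eq_one hF hn _ _ h1).1
  exact mul_inv_eq_one.mp h2

omit [Fintype F] in
/-- `SU → GU` -/
def toGU : ↥(Cfsg.SU n F q) →* ↥(Cfsg.GU n F q) where
  toFun s := ⟨Matrix.SpecialLinearGroup.toGL s.1, s.2⟩
  map_one' := by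
    apply Subtype.ext
    apply Units.ext
    rfl
  map_mul' s t := by
    apply Subtype.ext
    apply Units.ext
    rfl

omit [Fintype F] in
theorem toGU_coe (s : ↥(Cfsg.SU n F q)) :
    (((toGU s : ↥(Cfsg.GU n F q)) : GL (Fin n) F) : Matrix (Fin n) (Fin n) F) = s.1.1 := rfl

omit [Fintype F] in
theorem suConj_toGU (s : ↥(Cfsg.SU n F q)) : suConj (toGU s) = MulAut.conj s := by
  apply MulEquiv.ext
  intro t
  apply su_ext
  rw [suConj_apply_coe, MulAut.conj_apply]
  rfl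

omit [Fintype F] in
theorem psuDiag_toGU (s : ↥(Cfsg.SU n F q)) :
    psuDiag (toGU s) = MulAut.conj (QuotientGroup.mk s : Cfsg.PSU n F q) := by
  unfold psuDiag
  rw [MonoidHom.comp_apply, suConj_toGU, psuDescend_conj]

omit [Fintype F] in
theorem mem_inn_psu_iff (t : MulAut (Cfsg.PSU n F q)) :
    t ∈ Cfsg.Inn (Cfsg.PSU n F q) ↔ ∃ s : ↥(Cfsg.SU n F q), t = psuDiag (toGU s) := by
  constructor
  · rintro ⟨x, rfl⟩
    obtain ⟨s, rfl⟩ := QuotientGroup.mk_surjective x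
    exact ⟨s, (psuDiag_toGU s).symm⟩
  · rintro ⟨s, rfl⟩
    rw [psuDiag_toGU]
    exact ⟨_, rfl⟩

end Cfsg.Agent.Lib.Helper43
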