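/-
helper43: Hilbert 90 for the general unitary group `GU_n(F, q)` with an automorphism `σ` of odd order `r` of `F`:
a unitary matrix `G` with `G σ(G) ⋯ σ^{r-1}(G)` scalar satisfies `G σ(B) = z B` with `B` unitary, `z` scalar.
-/
import Mathlib
import Cfsg.Agent.Lib.Helper43.PSUAutStd
import Cfsg.Agent.Lib.Helper43.PSpH90
import Cfsg.Agent.Lib.Helper43.PSLnHerm
import Cfsg.Agent.Lib.Helper43.PSLnGraphField
import Cfsg.Agent.Lib.Helper37.GUFieldAut
import Cfsg.Agent.Lib.Helper36.HermNorm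

set_option autoImplicit false

namespace Cfsg.Agent.Lib.Helper43

open scoped MatrixGroups Matrix
open Matrix Cfsg.Agent.Lib.Helper5 Cfsg.Agent.Lib.Helper45.PSLField

section Star

variable {ι : Type*} [Fintype ι] [DecidableEq ι] {F : Type*} [Field F]

/-- `M ↦ τ(M)ᵀ` -/
def mstar (τ : RingAut F) (M : Matrix ι ι F) : Matrix ι ι F := (M.map τ)ᵀ

omit [Fintype ι] [DecidableEq ι] in
theorem mstar_apply (τ : RingAut F) (M : Matrix ι ι F) (i j : ι) : mstar τ M i j = τ (M j i) := rfl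

omit [DecidableEq ι] in
theorem mstar_mul (τ : RingAut F) (M N : Matrix ι ι F) :
    mstar τ (M * N) = mstar τ N * mstar τ M := by
  unfold mstar
  have : (M * N).map τ = M.map τ * N.map τ := Matrix.map_mul (f := ((τ : F ≃+* F) : F →+* F))
  rw [this, Matrix.transpose_mul]

omit [Fintype ι] [DecidableEq ι] in
theorem mstar_smul (τ : RingAut F) (a : F) (M : Matrix ι ι F) :
    mstar τ (a • M) = τ a • mstar τ M := by
  ext i j
  simp only [mstar_apply, Matrix.smul_apply, smul_eq_mul, map_mul]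

omit [Fintype ι] in
theorem mstar_one (τ : RingAut F) : mstar τ (1 : Matrix ι ι F) = 1 := by
  ext i j
  rw [mstar_apply, Matrix.one_apply, Matrix.one_apply]
  by_cases h : i = j
  · subst h; simp
  · rw [if_neg h, if_neg (Ne.symm h), map_zero]

omit [Fintype ι] [DecidableEq ι] in
theorem mstar_mstar (τ : RingAut F) (hτ : ∀ a, τ (τ a) = a) (M : Matrix ι ι F) :
    mstar τ (mstar τ M) = M := by
  ext i j
  rw [mstar_apply, mstar_apply, hτ]

omit [Fintype ι] [DecidableEq ι] in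
theorem mstar_map (σ τ : RingAut F) (hc : ∀ a, σ (τ a) = τ (σ a)) (M : Matrix ι ι F) :
    mstar τ (M.map σ) = (mstar τ M).map σ := by
  ext i j
  rw [mstar_apply, Matrix.map_apply, Matrix.map_apply, mstar_apply, hc]

theorem det_mstar (τ : RingAut F) (M : Matrix ι ι F) : (mstar τ M).det = τ M.det := by
  unfold mstar
  rw [Matrix.det_transpose]
  exact (RingHom.map_det ((τ : F ≃+* F) : F →+* F) M).symm

end Star

section Field

variable {F : Type*} [Field F] [Fintype F] {q : ℕ}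

/-- the `q`-power automorphism of a field with `q²` elements -/
noncomputable def qAut (hF : Fintype.card F = q ^ 2) : RingAut F :=
  RingEquiv.ofBijective (conjHom hF) (conjHom_bijective hF)

theorem qAut_apply (hF : Fintype.card F = q ^ 2) (a : F) : qAut hF a = a ^ q := rfl

theorem qAut_qAut (hF : Fintype.card F = q ^ 2) (a : F) : qAut hF (qAut hF a) = a :=
  pow_q_pow_q hF a

theorem qAut_comm (hF : Fintype.card F = q ^ 2) (σ : RingAut F) (a : F) :
    σ (qAut hF a) = qAut hF (σ a) := by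
  rw [qAut_apply, qAut_apply, map_pow]

omit [Fintype F] in
theorem nrm_pow (σ : RingAut F) (a : F) (k r : ℕ) : nrm σ (a ^ k) r = nrm σ a r ^ k := by
  unfold nrm
  rw [← Finset.prod_pow]
  apply Finset.prod_congr rfl
  intro j _
  rw [map_pow]

omit [Fintype F] in
theorem nrm_inv (σ : RingAut F) (a : F) (r : ℕ) : nrm σ a⁻¹ r = (nrm σ a r)⁻¹ := by
  unfold nrm
  rw [← Finset.prod_inv_distrib]
  apply Finset.prod_congr rfl
  intro j _
  rw [map_inv₀]

/-- Hilbert 90 for `σ` inside the fixed field of the `q`-power map -/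
theorem exists_qfixed_h90 (hF : Fintype.card F = q ^ 2) (σ : RingAut F) {r q₀ : ℕ} (hr : Odd r)
    (hσ : orderOf σ = r) (hq : q = q₀ ^ r) (t : F) (ht0 : t ≠ 0) (htq : t ^ q = t)
    (hnt : nrm σ t r = 1) : ∃ u : F, u ≠ 0 ∧ u ^ q = u ∧ σ u = t * u := by
  have hr0 : 0 < r := hr.pos
  have hnt' : nrm σ t⁻¹ r = 1 := by rw [nrm_inv, hnt, inv_one]
  obtain ⟨b, hb0, hb⟩ := hilbert90_scalar σ hr0 hσ t⁻¹ hnt'
  have hσb : σ b = t * b := by
    calc σ b = t * (t⁻¹ * σ b) := by rw [mul_inv_cancel_left₀ ht0]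
      _ = t * b := by rw [hb]
  have hbq0 : b ^ q ≠ 0 := pow_ne_zero _ hb0
  -- `e = b^q / b` is fixed by `σ` and has norm one
  set e : F := b ^ q / b with he
  have he0 : e ≠ 0 := div_ne_zero hbq0 hb0
  have hσe : σ e = e := by
    rw [he, map_div₀, map_pow, hσb, mul_pow, htq]
    field_simp
  have hee : e * e ^ q = 1 := by
    rw [he, div_pow, pow_q_pow_q hF]
    field_simp
  -- the fixed field
  have hK₀ := Cfsg.Agent.Lib.Helper37.card_fixF σ hr0.ne' hq hF hσ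
  have hpow : ∀ x : F, σ x = x → x ^ q = x ^ q₀ := fun x hx =>
    Cfsg.Agent.Lib.Helper37.pow_q_eq_of_fixed σ hr hq hF hσ x hx
  set τ₀ : Cfsg.Agent.Lib.Helper37.fixF σ →+* Cfsg.Agent.Lib.Helper37.fixF σ := conjHom hK₀ with hτ₀
  have hτ₀id : τ₀ ≠ RingHom.id _ := by
    intro hid
    obtain ⟨c, hc⟩ := exists_pow_q_ne hK₀
    apply hc
    have := congrArg (fun f : Cfsg.Agent.Lib.Helper37.fixF σ →+* Cfsg.Agent.Lib.Helper37.fixF σ => f c) hid
    exact this
  have hτ₀2 : ∀ a, τ₀ (τ₀ a) = a := conjHom_conjHom hK₀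
  set c₀ : Cfsg.Agent.Lib.Helper37.fixF σ :=
    ⟨e⁻¹, (Cfsg.Agent.Lib.Helper37.mem_fixF σ _).mpr (by rw [map_inv₀, hσe])⟩ with hc₀
  have hc₀n : c₀ * τ₀ c₀ = 1 := by
    apply Subtype.ext
    show e⁻¹ * (e⁻¹) ^ q₀ = 1
    rw [← hpow e⁻¹ (by rw [map_inv₀, hσe]), inv_pow, ← mul_inv, hee, inv_one]
  obtain ⟨y, hy0, hy⟩ := Cfsg.Agent.Lib.Helper36.hilbert90_invol τ₀ hτ₀id hτ₀2 c₀ hc₀n
  have hyσ : σ y.1 = y.1 := (Cfsg.Agent.Lib.Helper37.mem_fixF σ _).mp y.2
  have hy' : y.1 ^ q = e⁻¹ * y.1 := by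
    rw [hpow y.1 hyσ]
    exact congrArg Subtype.val hy
  have hy0' : y.1 ≠ 0 := fun h0 => hy0 (Subtype.ext h0)
  refine ⟨y.1 * b, mul_ne_zero hy0' hb0, ?_, ?_⟩
  · rw [mul_pow, hy', he]
    field_simp
  · rw [map_mul, hyσ, hσb]
    ring

end Field

section Main

variable {n : ℕ} {F : Type*} [Field F] [Fintype F] {q : ℕ}

/-- **Hilbert 90 for `GU`**, matrix form -/
theorem hilbert90_gu_matrix (hF : Fintype.card F = q ^ 2) (hn : 1 ≤ n) (σ : RingAut F)
    {r q₀ : ℕ} (hr : Odd r) (hσ : orderOf σ = r) (hq : q = q₀ ^ r)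
    (G : Matrix (Fin n) (Fin n) F) (hG : mstar (qAut hF) G * G = 1) (c : F) (hcq : c * c ^ q = 1)
    (hc : cocyc σ G r = c • (1 : Matrix (Fin n) (Fin n) F)) :
    ∃ (B : Matrix (Fin n) (Fin n) F) (z : F), mstar (qAut hF) B * B = 1 ∧ G * B.map σ = z • B := by
  have hr0 : 0 < r := hr.pos
  have hσr : σ ^ r = 1 := by rw [← hσ]; exact pow_orderOf_eq_one σ
  set τ : RingAut F := qAut hF with hτ
  have hττ : ∀ a, τ (τ a) = a := qAut_qAut hF
  have hστ : ∀ a, σ (τ a) = τ (σ a) := qAut_comm hF σ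
  have hne : Nonempty (Fin n) := ⟨⟨0, hn⟩⟩
  have hc0 : c ≠ 0 := by
    intro h0
    rw [h0, zero_mul] at hcq
    exact zero_ne_one hcq
  have hG0 : G ≠ 0 := by
    intro h0
    rw [h0, Matrix.mul_zero] at hG
    have := congrFun (congrFun hG ⟨0, hn⟩) ⟨0, hn⟩
    simp at this
  have hσc : σ c = c := cocyc_scalar_fixed σ hσr G hG0 c hc
  -- rescale to a cocycle
  obtain ⟨a₀, ha₀0, ha₀⟩ := exists_nrm_eq σ hr0 hσ c⁻¹ (inv_ne_zero hc0) (by rw [map_inv₀, hσc])
  set D : Matrix (Fin n) (Fin n) F := a₀ • G with hD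
  have hcoc : cocyc σ D r = 1 := by
    rw [hD, cocyc_smul, hc, ha₀, smul_smul, inv_mul_cancel₀ hc0, one_smul]
  obtain ⟨B₀, hB₀u, hB₀⟩ := hilbert90_matrix σ hr0 hσ D hcoc
  have hB₀det : B₀.det ≠ 0 := ((Matrix.isUnit_iff_isUnit_det _).mp hB₀u).ne_zero
  set t : F := a₀ * a₀ ^ q with ht
  have ht0 : t ≠ 0 := mul_ne_zero ha₀0 (pow_ne_zero _ ha₀0)
  have htq : t ^ q = t := norm_pow_q hF a₀
  have hnt : nrm σ t r = 1 := by
    rw [ht, nrm_mul, nrm_pow, ha₀, inv_pow, ← mul_inv, hcq, inv_one]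
  have hDD : mstar τ D * D = t • (1 : Matrix (Fin n) (Fin n) F) := by
    rw [hD, mstar_smul, Matrix.smul_mul, Matrix.mul_smul, hG, smul_smul]
    congr 1
    rw [hτ, qAut_apply, ht, mul_comm]
  set K : Matrix (Fin n) (Fin n) F := mstar τ B₀ * B₀ with hK
  have hKstar : mstar τ K = K := by
    rw [hK, mstar_mul, mstar_mstar τ hττ]
  have hKσ : K = t • K.map σ := by
    have h1 : K.map σ = mstar τ (B₀.map σ) * B₀.map σ := by
      rw [hK, mstar_map σ τ hστ]
      exact Matrix.map_mul (f := ((σ : F ≃+* F) : F →+* F))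
    rw [h1]
    calc K = mstar τ (D * B₀.map σ) * (D * B₀.map σ) := by rw [hB₀]
      _ = mstar τ (B₀.map σ) * (mstar τ D * D) * B₀.map σ := by
          rw [mstar_mul]; simp only [Matrix.mul_assoc]
      _ = _ := by rw [hDD, Matrix.mul_smul, Matrix.mul_one, Matrix.smul_mul]
  have hKdet : K.det ≠ 0 := by
    rw [hK, Matrix.det_mul, det_mstar]
    exact mul_ne_zero ((map_ne_zero τ).mpr hB₀det) hB₀det
  obtain ⟨u, hu0, huq, hσu⟩ := exists_qfixed_h90 hF σ hr hσ hq t ht0 htq hnt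
  set K₁ : Matrix (Fin n) (Fin n) F := u • K with hK₁
  have hK₁σ : K₁.map σ = K₁ := by
    have h1 : K₁.map σ = σ u • K.map σ := by
      ext i j
      simp only [hK₁, Matrix.map_apply, Matrix.smul_apply, smul_eq_mul, map_mul]
    rw [h1, hσu, hK₁]
    conv_rhs => rw [hKσ]
    rw [smul_smul, mul_comm]
  have hK₁star : mstar τ K₁ = K₁ := by
    rw [hK₁, mstar_smul, hKstar, hτ, qAut_apply, huq]
  have hK₁det : K₁.det ≠ 0 := by
    rw [hK₁, Matrix.det_smul]
    exact mul_ne_zero (pow_ne_zero _ hu0) hKdet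
  -- descend to the fixed field
  have hK₀c := Cfsg.Agent.Lib.Helper37.card_fixF σ hr0.ne' hq hF hσ
  have hpow : ∀ x : F, σ x = x → x ^ q = x ^ q₀ := fun x hx =>
    Cfsg.Agent.Lib.Helper37.pow_q_eq_of_fixed σ hr hq hF hσ x hx
  set τ₀ : Cfsg.Agent.Lib.Helper37.fixF σ →+* Cfsg.Agent.Lib.Helper37.fixF σ := conjHom hK₀c with hτ₀
  have hτ₀id : τ₀ ≠ RingHom.id _ := by
    intro hid
    obtain ⟨c, hc⟩ := exists_pow_q_ne hK₀c
    apply hc
    have := congrArg (fun f : Cfsg.Agent.Lib.Helper37.fixF σ →+* Cfsg.Agent.Lib.Helper37.fixF σ => f c) hid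
    exact this
  have hτ₀2 : ∀ a, τ₀ (τ₀ a) = a := conjHom_conjHom hK₀c
  have hfix : ∀ k l, K₁ k l ∈ Cfsg.Agent.Lib.Helper37.fixF σ := by
    intro k l
    rw [Cfsg.Agent.Lib.Helper37.mem_fixF]
    have := congrFun (congrFun hK₁σ k) l
    simpa using this
  set K₀ : Matrix (Fin n) (Fin n) (Cfsg.Agent.Lib.Helper37.fixF σ) :=
    Matrix.of (fun k l => (⟨K₁ k l, hfix k l⟩ : Cfsg.Agent.Lib.Helper37.fixF σ)) with hK₀def
  have hK₀map : K₀.map (Cfsg.Agent.Lib.Helper37.fixF σ).subtype = K₁ := by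
    ext k l
    rfl
  have hK₀herm : ∀ i j, τ₀ (K₀ i j) = K₀ j i := by
    intro i j
    apply Subtype.ext
    show (K₁ i j) ^ q₀ = K₁ j i
    rw [← hpow _ ((Cfsg.Agent.Lib.Helper37.mem_fixF σ _).mp (hfix i j))]
    have := congrFun (congrFun hK₁star j) i
    rw [mstar_apply, hτ, qAut_apply] at this
    exact this
  have hK₀u : IsUnit K₀ := by
    rw [Matrix.isUnit_iff_isUnit_det, isUnit_iff_ne_zero]
    intro h0
    have h1 : (Cfsg.Agent.Lib.Helper37.fixF σ).subtype K₀.det = K₁.det := by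
      rw [RingHom.map_det]
      exact congrArg Matrix.det hK₀map
    rw [h0, map_zero] at h1
    exact hK₁det h1.symm
  obtain ⟨H₀, hH₀⟩ := exists_frame_of_hermitian τ₀ hτ₀id hτ₀2 K₀ hK₀herm hK₀u
  set H : Matrix (Fin n) (Fin n) F := H₀.map (Cfsg.Agent.Lib.Helper37.fixF σ).subtype with hH
  have hHσ : H.map σ = H := by
    ext k l
    rw [Matrix.map_apply]
    exact (Cfsg.Agent.Lib.Helper37.mem_fixF σ _).mp (H₀ k l).2
  have hHstar : mstar τ H = ((H₀.map τ₀)ᵀ).map (Cfsg.Agent.Lib.Helper37.fixF σ).subtype := by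
    ext k l
    rw [mstar_apply, hτ, qAut_apply]
    show (H₀ l k).1 ^ q = (H₀ l k).1 ^ q₀
    exact hpow _ ((Cfsg.Agent.Lib.Helper37.mem_fixF σ _).mp (H₀ l k).2)
  have hHK : mstar τ H * K₁ * H = 1 := by
    have := congrArg (fun M : Matrix (Fin n) (Fin n) (Cfsg.Agent.Lib.Helper37.fixF σ) =>
      M.map (Cfsg.Agent.Lib.Helper37.fixF σ).subtype) hH₀
    simp only [Matrix.map_mul] at this
    rw [hK₀map, ← hHstar, Matrix.map_one _ (map_zero _) (map_one _)] at this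
    exact this
  -- the corrected matrix
  set B₁ : Matrix (Fin n) (Fin n) F := B₀ * H with hB₁
  have hB₁star : mstar τ B₁ * B₁ = u⁻¹ • (1 : Matrix (Fin n) (Fin n) F) := by
    have h1 : mstar τ B₁ * B₁ = mstar τ H * K * H := by
      rw [hB₁, mstar_mul, hK]; simp only [Matrix.mul_assoc]
    have h2 : u • (mstar τ H * K * H) = 1 := by
      rw [← hHK, hK₁, Matrix.mul_smul, Matrix.smul_mul]
    rw [h1, eq_comm, inv_smul_eq_iff₀ hu0, h2]
  have hDB₁ : D * B₁.map σ = B₁ := by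
    have : (B₀ * H).map σ = B₀.map σ * H.map σ := Matrix.map_mul (f := ((σ : F ≃+* F) : F →+* F))
    rw [hB₁, this, hHσ, ← Matrix.mul_assoc, hB₀]
  obtain ⟨β, hβ⟩ := exists_norm_eq hF huq
  have hβ0 : β ≠ 0 := by
    intro h0
    rw [h0, zero_mul] at hβ
    exact hu0 hβ.symm
  refine ⟨β • B₁, σ β * a₀⁻¹ * β⁻¹, ?_, ?_⟩
  · rw [mstar_smul, Matrix.smul_mul, Matrix.mul_smul, hB₁star, smul_smul, smul_smul, hτ, qAut_apply,
      mul_comm (β ^ q), hβ, mul_inv_cancel₀ hu0, one_smul]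
  · have h1 : (β • B₁).map σ = σ β • B₁.map σ := by
      ext i j
      simp only [Matrix.map_apply, Matrix.smul_apply, smul_eq_mul, map_mul]
    have h2 : G * B₁.map σ = a₀⁻¹ • B₁ := by
      rw [eq_comm, inv_smul_eq_iff₀ ha₀0, ← Matrix.smul_mul, ← hD, hDB₁]
    rw [h1, Matrix.mul_smul, h2, smul_smul, smul_smul, mul_assoc, mul_assoc,
      inv_mul_cancel₀ hβ0, mul_one]

end Main

section Group

variable {n : ℕ} {F : Type*} [Field F] [Fintype F] {q : ℕ}

theorem mem_GU_iff_mstar (hF : Fintype.card F = q ^ 2) (h : GL (Fin n) F) :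
    h ∈ Cfsg.GU n F q ↔
      mstar (qAut hF) (h : Matrix (Fin n) (Fin n) F) * (h : Matrix (Fin n) (Fin n) F) = 1 := by
  rw [mem_GU_iff_glStar (qAut hF) (qAut_apply hF) h]
  constructor
  · intro hh
    have := congrArg (fun x : GL (Fin n) F => (x : Matrix (Fin n) (Fin n) F)) hh
    exact this
  · intro hh
    apply Units.ext
    exact hh

/-- an element of `GU` from a unitary matrix -/
theorem exists_gu_of_matrix (hF : Fintype.card F = q ^ 2) (B : Matrix (Fin n) (Fin n) F)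
    (hB : mstar (qAut hF) B * B = 1) :
    ∃ g : ↥(Cfsg.GU n F q), ((g : GL (Fin n) F) : Matrix (Fin n) (Fin n) F) = B := by
  have hdet : B.det ≠ 0 := by
    intro h0
    have h1 := congrArg Matrix.det hB
    rw [Matrix.det_mul, h0, mul_zero, Matrix.det_one] at h1
    exact zero_ne_one h1
  refine ⟨⟨Matrix.GeneralLinearGroup.mkOfDetNeZero B hdet, ?_⟩, rfl⟩
  rw [mem_GU_iff_mstar hF]
  exact hB

theorem gu_mstar (hF : Fintype.card F = q ^ 2) (g : ↥(Cfsg.GU n F q)) :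
    mstar (qAut hF) ((g : GL (Fin n) F) : Matrix (Fin n) (Fin n) F) *
      ((g : GL (Fin n) F) : Matrix (Fin n) (Fin n) F) = 1 :=
  (mem_GU_iff_mstar hF g.1).mp g.2

/-- a scalar matrix in `GU` has norm one -/
theorem norm_eq_one_of_scalar_gu (hF : Fintype.card F = q ^ 2) (hn : 1 ≤ n) (g : ↥(Cfsg.GU n F q))
    (c : F) (hc : ((g : GL (Fin n) F) : Matrix (Fin n) (Fin n) F) = c • 1) : c * c ^ q = 1 := by
  have h1 := gu_mstar hF g
  rw [hc, mstar_smul, mstar_one, Matrix.smul_mul, Matrix.mul_smul, Matrix.one_mul, smul_smul,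
    qAut_apply] at h1
  have h2 := congrFun (congrFun h1 ⟨0, hn⟩) ⟨0, hn⟩
  rw [Matrix.smul_apply, Matrix.one_apply_eq, smul_eq_mul, mul_one] at h2
  rw [mul_comm]
  exact h2

omit [Fintype F] in
/-- powers of an element of the coset `Inndiag · φ_σ` -/
theorem pow_psuDiag_psuField (g : ↥(Cfsg.GU n F q)) (σ : RingAut F) (i : ℕ) :
    ∃ gi : ↥(Cfsg.GU n F q),
      ((gi : GL (Fin n) F) : Matrix (Fin n) (Fin n) F) =
        cocyc σ ((g : GL (Fin n) F) : Matrix (Fin n) (Fin n) F) i ∧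
      ((psuDiag g : MulAut (Cfsg.PSU n F q)) * psuField σ) ^ i = psuDiag gi * psuField (σ ^ i) := by
  induction i with
  | zero => exact ⟨1, rfl, by rw [pow_zero, pow_zero, map_one, map_one, one_mul]⟩
  | succ i ih =>
    obtain ⟨gi, hgi, hpow⟩ := ih
    refine ⟨g * guMap σ gi, ?_, ?_⟩
    · rw [cocyc_succ, ← hgi]
      rfl
    · rw [pow_succ', hpow, pow_succ', map_mul, map_mul]
      have h1 := psuField_mul_psuDiag (n := n) (q := q) σ gi
      calc psuDiag g * psuField σ * (psuDiag gi * psuField (σ ^ i))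
          = psuDiag g * (psuField σ * psuDiag gi) * psuField (σ ^ i) := by simp only [mul_assoc]
        _ = _ := by rw [h1]; simp only [mul_assoc]

omit [Fintype F] in
/-- conjugating `φ_σ` by an inner-diagonal automorphism -/
theorem conj_psuField (B : ↥(Cfsg.GU n F q)) (σ : RingAut F) :
    (psuDiag B : MulAut (Cfsg.PSU n F q)) * psuField σ * (psuDiag B)⁻¹ =
      psuDiag (B * (guMap σ B)⁻¹) * psuField σ := by
  have h1 := psuField_mul_psuDiag (n := n) (q := q) σ B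
  rw [mul_inv_eq_iff_eq_mul, map_mul, map_inv]
  calc psuDiag B * psuField σ
      = psuDiag B * (psuDiag (guMap σ B))⁻¹ * (psuDiag (guMap σ B) * psuField σ) := by
        simp only [mul_assoc, inv_mul_cancel_left]
    _ = _ := by rw [← h1]; simp only [mul_assoc]

/-- **the coset of a field automorphism of odd order of `PSU`**: elements of `Inndiag · φ_σ` killed by the
order of `σ` are `Inndiag`-conjugate to `φ_σ` -/
theorem field_coset_conj_psu (hF : Fintype.card F = q ^ 2) (hn : 3 ≤ n) (σ : RingAut F)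
    {r q₀ : ℕ} (hr : Odd r) (hσ : orderOf σ = r) (hq : q = q₀ ^ r) (g : ↥(Cfsg.GU n F q))
    (h : ((psuDiag g : MulAut (Cfsg.PSU n F q)) * psuField σ) ^ r = 1) :
    ∃ B : ↥(Cfsg.GU n F q),
      (psuDiag g : MulAut (Cfsg.PSU n F q)) * psuField σ =
        psuDiag B * psuField σ * (psuDiag B)⁻¹ := by
  have hσr : σ ^ r = 1 := by rw [← hσ]; exact pow_orderOf_eq_one σ
  obtain ⟨gr, hgr, hpow⟩ := pow_psuDiag_psuField g σ r
  rw [hpow] at h
  obtain ⟨c, hc⟩ := (eq_one_of_psuDiag_mul_psuField_eq_one hF hn _ _ h).2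
  set G : Matrix (Fin n) (Fin n) F := ((g : GL (Fin n) F) : Matrix (Fin n) (Fin n) F) with hGdef
  have hc1 : ((gr : GL (Fin n) F) : Matrix (Fin n) (Fin n) F) = c • 1 := by
    rw [hc, Matrix.scalar_apply, Matrix.smul_one_eq_diagonal]
  have hc' : cocyc σ G r = c • (1 : Matrix (Fin n) (Fin n) F) := by
    rw [← hgr, hc1]
  have hcq : c * c ^ q = 1 := norm_eq_one_of_scalar_gu hF (by omega) gr c hc1
  obtain ⟨B, z, hB, hGB⟩ := hilbert90_gu_matrix hF (by omega) σ hr hσ hq G (gu_mstar hF g) c hcq hc'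
  obtain ⟨Bg, hBg⟩ := exists_gu_of_matrix hF B hB
  refine ⟨Bg, ?_⟩
  rw [conj_psuField]
  congr 1
  -- `g` and `B σ(B)⁻¹` differ by the scalar `z`
  apply psuDiag_eq_of_smul g (Bg * (guMap σ Bg)⁻¹) z
  have h1 : ((g : GL (Fin n) F) : Matrix (Fin n) (Fin n) F) *
      (((guMap σ Bg : ↥(Cfsg.GU n F q)) : GL (Fin n) F) : Matrix (Fin n) (Fin n) F) =
      z • ((Bg : GL (Fin n) F) : Matrix (Fin n) (Fin n) F) := by
    rw [guMap_coe, hBg]
    exact hGB
  have h2 : ((g : GL (Fin n) F) : Matrix (Fin n) (Fin n) F) =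
      ((g : GL (Fin n) F) : Matrix (Fin n) (Fin n) F) *
      (((guMap σ Bg : ↥(Cfsg.GU n F q)) : GL (Fin n) F) : Matrix (Fin n) (Fin n) F) *
      ((((guMap σ Bg : ↥(Cfsg.GU n F q)) : GL (Fin n) F)⁻¹ : GL (Fin n) F) :
        Matrix (Fin n) (Fin n) F) := by
    rw [Matrix.mul_assoc, gl_mul_inv_coe, Matrix.mul_one]
  rw [h2, h1, Matrix.smul_mul]
  rfl

end Group

end Cfsg.Agent.Lib.Helper43
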