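/-
helper43: field automorphisms of `PSU_n(F, q)`: elements of the coset `Inndiag · x` of the right order are
`Inndiag`-conjugate to `x` (S2711 from normality of `Inndiag`).
-/
import Mathlib
import Cfsg.Agent.Lib.Helper43.PSUH90
import Cfsg.Agent.Lib.Helper43.PSpFieldCoset

set_option autoImplicit false

namespace Cfsg.Agent.Lib.Helper43

open scoped MatrixGroups Matrix
open Matrix

variable {n : ℕ} {F : Type*} [Field F] {q : ℕ}

/-- a field automorphism class, normalised -/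
theorem exists_conj_eq_psuField {x : MulAut (Cfsg.PSU n F q)} (hx : Cfsg.IsFieldAutClassPSU x) :
    ∃ (α : MulAut (Cfsg.PSU n F q)) (σ : RingAut F), σ ≠ 1 ∧ Odd (orderOf σ) ∧
      α * x * α⁻¹ = psuField σ := by
  obtain ⟨α, φ, σ, hσ, hodd, hφ, h⟩ := hx
  refine ⟨α, σ, hσ, hodd, ?_⟩
  rw [h]
  exact (isFieldAutPSUOf_iff σ φ).mp hφ

variable [Fintype F]

/-- **S2711 from normality of `Inndiag`** -/
theorem psu_field_coset_main (hF : Fintype.card F = q ^ 2) (hn : 3 ≤ n)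
    (hN : InndiagNormalPSU n F q)
    (x δ : MulAut (Cfsg.PSU n F q)) (hx : Cfsg.IsFieldAutClassPSU x) {r q₀ : ℕ}
    (hxr : orderOf x = r) (hq : q = q₀ ^ r) (hδ : δ ∈ Cfsg.inndiagPSU n F q) :
    orderOf (δ * x) = r ↔ Cfsg.IsConjUnder (Cfsg.inndiagPSU n F q) x (δ * x) := by
  constructor
  · intro hy
    obtain ⟨α, σ, -, hodd, hασ⟩ := exists_conj_eq_psuField hx
    have hσr : orderOf σ = r := by
      rw [← orderOf_psuField hF hn σ, ← hασ, orderOf_conj', hxr]
    rw [hσr] at hodd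
    rw [inndiagPSU_eq_range] at hδ
    obtain ⟨d, rfl⟩ := hδ
    obtain ⟨d', hd'⟩ := hN α d
    have hy' : α * (psuDiag d * x) * α⁻¹ = psuDiag d' * psuField σ := by
      rw [← hd', ← hασ]; group
    have hpow : ((psuDiag d' : MulAut (Cfsg.PSU n F q)) * psuField σ) ^ r = 1 := by
      rw [← hy', ← hy, ← orderOf_conj' α (psuDiag d * x)]
      exact pow_orderOf_eq_one _
    obtain ⟨B, hB⟩ := field_coset_conj_psu hF hn σ hodd hσr hq d' hpow
    apply isConjUnder_of_conj_psu hN α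
    rw [hy', hασ]
    exact ⟨psuDiag B, psuDiag_mem_inndiagPSU B, hB⟩
  · rintro ⟨h, -, hy⟩
    rw [hy, orderOf_conj', hxr]

/-- arithmetic of a field automorphism class of `PSU_n(q)`, `q = p ^ f` -/
theorem field_class_arith (hF : Fintype.card F = q ^ 2) (hn : 3 ≤ n) {p f : ℕ} [Fact p.Prime]
    (hq : q = p ^ f) (x : MulAut (Cfsg.PSU n F q)) (hx : Cfsg.IsFieldAutClassPSU x) {r : ℕ}
    (hxr : orderOf x = r) : Odd r ∧ r ∣ f ∧ q = (p ^ (f / r)) ^ r := by
  obtain ⟨α, σ, -, hodd, hασ⟩ := exists_conj_eq_psuField hx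
  have hσr : orderOf σ = r := by
    rw [← orderOf_psuField hF hn σ, ← hασ, orderOf_conj', hxr]
  rw [hσr] at hodd
  have hF' : Fintype.card F = p ^ (2 * f) := by rw [hF, hq, ← pow_mul, mul_comm]
  have h1 := (Cfsg.Agent.Lib.Helper45.PSLField.card_fixF hF' σ hodd.pos hσr).1
  have hcop : Nat.Coprime r 2 := Nat.Coprime.symm (Nat.coprime_two_left.mpr hodd)
  have hrf : r ∣ f := hcop.dvd_of_dvd_mul_left h1
  refine ⟨hodd, hrf, ?_⟩
  rw [← pow_mul, Nat.div_mul_cancel hrf, hq]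

/-- **S2711**, given normality of `Inndiag` -/
theorem psu_field_coset_S2711 {p f : ℕ} [Fact p.Prime] (hq : q = p ^ f)
    (hF : Fintype.card F = q ^ 2) (hn : 3 ≤ n) (hN : InndiagNormalPSU n F q)
    (x δ : MulAut (Cfsg.PSU n F q)) (hx : Cfsg.IsFieldAutClassPSU x) {r : ℕ}
    (hxr : orderOf x = r) (hδ : δ ∈ Cfsg.inndiagPSU n F q) :
    orderOf (δ * x) = r ↔ Cfsg.IsConjUnder (Cfsg.inndiagPSU n F q) x (δ * x) := by
  obtain ⟨-, -, hq'⟩ := field_class_arith hF hn hq x hx hxr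
  exact psu_field_coset_main hF hn hN x δ hx hxr hq' hδ

end Cfsg.Agent.Lib.Helper43
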