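/-
helper43: the centraliser of a standard field automorphism `φ_σ` (σ of odd order) in `Inndiag(PSU_n(F, q))` is the image of
`GU_n(F₀, q₀)`, `F₀` the fixed field of `σ`, and is isomorphic to `PGU_n(F₀, q₀)`.
-/
import Mathlib
import Cfsg.Agent.Lib.Helper43.PSUFieldCoset

set_option autoImplicit false

namespace Cfsg.Agent.Lib.Helper43

open scoped MatrixGroups Matrix
open Matrix Cfsg.Agent.Lib.Helper5 Cfsg.Agent.Lib.Helper45.PSLField

variable {n : ℕ} {F : Type*} [Field F] [Fintype F] {q : ℕ}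
  {F₀ : Type*} [Field F₀] [Fintype F₀] {q₀ : ℕ}

theorem mstar_map_hom (hF : Fintype.card F = q ^ 2) (hF₀ : Fintype.card F₀ = q₀ ^ 2)
    (j : F₀ →+* F) (hjq : ∀ a : F₀, j a ^ q = j (a ^ q₀)) (A : Matrix (Fin n) (Fin n) F₀) :
    mstar (qAut hF) (A.map j) = (mstar (qAut hF₀) A).map j := by
  ext k l
  rw [mstar_apply, Matrix.map_apply, Matrix.map_apply, mstar_apply, qAut_apply, qAut_apply, hjq]

theorem glMap_mem_GU_of_hom (hF : Fintype.card F = q ^ 2) (hF₀ : Fintype.card F₀ = q₀ ^ 2)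
    (j : F₀ →+* F) (hjq : ∀ a : F₀, j a ^ q = j (a ^ q₀)) (A : GL (Fin n) F₀)
    (hA : A ∈ Cfsg.GU n F₀ q₀) : Matrix.GeneralLinearGroup.map j A ∈ Cfsg.GU n F q := by
  rw [mem_GU_iff_mstar hF₀] at hA
  rw [mem_GU_iff_mstar hF]
  show mstar (qAut hF) ((A : Matrix (Fin n) (Fin n) F₀).map j) *
    (A : Matrix (Fin n) (Fin n) F₀).map j = 1
  rw [mstar_map_hom hF hF₀ j hjq, ← Matrix.map_mul, hA, Matrix.map_one _ (map_zero _) (map_one _)]

/-- `GU(F₀) → GU(F)` along a field embedding -/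
noncomputable def guSub (hF : Fintype.card F = q ^ 2) (hF₀ : Fintype.card F₀ = q₀ ^ 2)
    (j : F₀ →+* F) (hjq : ∀ a : F₀, j a ^ q = j (a ^ q₀)) :
    ↥(Cfsg.GU n F₀ q₀) →* ↥(Cfsg.GU n F q) where
  toFun A := ⟨Matrix.GeneralLinearGroup.map j A.1, glMap_mem_GU_of_hom hF hF₀ j hjq A.1 A.2⟩
  map_one' := by
    apply Subtype.ext
    show Matrix.GeneralLinearGroup.map j (1 : GL (Fin n) F₀) = 1
    rw [map_one]
  map_mul' a b := by
    apply Subtype.ext
    show Matrix.GeneralLinearGroup.map j (a.1 * b.1) = _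
    rw [map_mul]
    rfl

theorem guSub_coe (hF : Fintype.card F = q ^ 2) (hF₀ : Fintype.card F₀ = q₀ ^ 2)
    (j : F₀ →+* F) (hjq : ∀ a : F₀, j a ^ q = j (a ^ q₀)) (A : ↥(Cfsg.GU n F₀ q₀)) :
    (((guSub hF hF₀ j hjq A : ↥(Cfsg.GU n F q)) : GL (Fin n) F) : Matrix (Fin n) (Fin n) F) =
    ((A : GL (Fin n) F₀) : Matrix (Fin n) (Fin n) F₀).map j := rfl

/-- inner-diagonal automorphisms of `PSU(F)` coming from a subfield -/
noncomputable def subDiagPSU (hF : Fintype.card F = q ^ 2) (hF₀ : Fintype.card F₀ = q₀ ^ 2)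
    (j : F₀ →+* F) (hjq : ∀ a : F₀, j a ^ q = j (a ^ q₀)) :
    ↥(Cfsg.GU n F₀ q₀) →* MulAut (Cfsg.PSU n F q) :=
  psuDiag.comp (guSub hF hF₀ j hjq)

theorem subDiagPSU_apply (hF : Fintype.card F = q ^ 2) (hF₀ : Fintype.card F₀ = q₀ ^ 2)
    (j : F₀ →+* F) (hjq : ∀ a : F₀, j a ^ q = j (a ^ q₀)) (A : ↥(Cfsg.GU n F₀ q₀)) :
    subDiagPSU hF hF₀ j hjq A = (psuDiag (guSub hF hF₀ j hjq A) : MulAut (Cfsg.PSU n F q)) := rfl

theorem guMap_guSub (hF : Fintype.card F = q ^ 2) (hF₀ : Fintype.card F₀ = q₀ ^ 2)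
    (j : F₀ →+* F) (hjq : ∀ a : F₀, j a ^ q = j (a ^ q₀)) (σ : RingAut F)
    (hj : ∀ a, σ (j a) = j a) (A : ↥(Cfsg.GU n F₀ q₀)) :
    guMap σ (guSub hF hF₀ j hjq A) = guSub hF hF₀ j hjq A := by
  apply Subtype.ext
  apply Units.ext
  rw [guMap_coe, guSub_coe]
  ext k l
  rw [Matrix.map_apply, Matrix.map_apply]
  exact hj _

theorem subDiagPSU_comm (hF : Fintype.card F = q ^ 2) (hF₀ : Fintype.card F₀ = q₀ ^ 2)
    (j : F₀ →+* F) (hjq : ∀ a : F₀, j a ^ q = j (a ^ q₀)) (σ : RingAut F)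
    (hj : ∀ a, σ (j a) = j a) (A : ↥(Cfsg.GU n F₀ q₀)) :
    (psuField σ : MulAut (Cfsg.PSU n F q)) * subDiagPSU hF hF₀ j hjq A =
      subDiagPSU hF hF₀ j hjq A * psuField σ := by
  rw [subDiagPSU_apply, psuField_mul_psuDiag, guMap_guSub hF hF₀ j hjq σ hj]

theorem ker_subDiagPSU (hF : Fintype.card F = q ^ 2) (hF₀ : Fintype.card F₀ = q₀ ^ 2) (hn : 3 ≤ n)
    (j : F₀ →+* F) (hjq : ∀ a : F₀, j a ^ q = j (a ^ q₀)) :
    (subDiagPSU hF hF₀ j hjq : ↥(Cfsg.GU n F₀ q₀) →* MulAut (Cfsg.PSU n F q)).ker =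
      (Cfsg.Geo.scalars (Fin n) F₀).subgroupOf (Cfsg.GU n F₀ q₀) := by
  ext A
  rw [MonoidHom.mem_ker, subDiagPSU_apply, psuDiag_eq_one_iff hF hn, Subgroup.mem_subgroupOf,
    Cfsg.Geo.mem_scalars_iff, guSub_coe]
  set A' : Matrix (Fin n) (Fin n) F₀ := ((A : GL (Fin n) F₀) : Matrix (Fin n) (Fin n) F₀) with hA'
  have h0n : 0 < n := by omega
  constructor
  · rintro ⟨c, hc⟩
    have hdiag : ∀ k, j (A' k k) = c := by
      intro k
      have := congrFun (congrFun hc k) k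
      simpa using this
    have hoff : ∀ k l, k ≠ l → A' k l = 0 := by
      intro k l hkl
      have := congrFun (congrFun hc k) l
      rw [Matrix.map_apply, Matrix.smul_apply, Matrix.one_apply_ne hkl, smul_zero] at this
      exact (map_eq_zero j).mp this
    set k₀ : Fin n := ⟨0, h0n⟩
    have hc0 : A' k₀ k₀ ≠ 0 := by
      intro h0
      have h1 := hdiag k₀
      rw [h0, map_zero] at h1
      have h2 : A'.map j = 0 := by rw [hc, ← h1, zero_smul]
      have h3 : A' = 0 := by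
        ext k l
        have := congrFun (congrFun h2 k) l
        rw [Matrix.map_apply, Matrix.zero_apply] at this
        exact (map_eq_zero j).mp this
      exact gu_coe_ne_zero (by omega) (A : GL (Fin n) F₀) h3
    refine ⟨Units.mk0 (A' k₀ k₀) hc0, ?_⟩
    rw [Units.val_mk0]
    ext k l
    by_cases hkl : k = l
    · subst hkl
      rw [Matrix.smul_apply, Matrix.one_apply_eq, smul_eq_mul, mul_one]
      apply j.injective
      rw [hdiag, hdiag]
    · rw [Matrix.smul_apply, Matrix.one_apply_ne hkl, smul_zero]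
      exact hoff k l hkl
  · rintro ⟨c, hc⟩
    refine ⟨j (c : F₀), ?_⟩
    rw [hc]
    ext k l
    by_cases hkl : k = l
    · subst hkl
      simp
    · simp [Matrix.one_apply_ne hkl]

omit [Fintype F₀] in
/-- the `q`-power map on the image of the fixed field -/
theorem pow_q_of_embedding (hF : Fintype.card F = q ^ 2) (σ : RingAut F) {r : ℕ} (hr : Odd r)
    (hσ : orderOf σ = r) (hq : q = q₀ ^ r) (j : F₀ →+* F) (hj : ∀ a, σ (j a) = j a) (a : F₀) :
    j a ^ q = j (a ^ q₀) := by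
  rw [Cfsg.Agent.Lib.Helper37.pow_q_eq_of_fixed σ hr hq hF hσ (j a) (hj a), map_pow]

/-- the centraliser of `φ_σ` in `Inndiag(PSU)` is the image of `GU` of the fixed field -/
theorem mem_inndiag_centralizer_iff_psu (hF : Fintype.card F = q ^ 2)
    (hF₀ : Fintype.card F₀ = q₀ ^ 2) (hn : 3 ≤ n) (σ : RingAut F) {r : ℕ} (hr : Odd r)
    (hσ : orderOf σ = r) (hq : q = q₀ ^ r) (j : F₀ →+* F)
    (hj : ∀ a : F, σ a = a ↔ ∃ b, j b = a) (hjq : ∀ a : F₀, j a ^ q = j (a ^ q₀))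
    (β : MulAut (Cfsg.PSU n F q)) :
    β ∈ Cfsg.inndiagPSU n F q ⊓ Subgroup.centralizer {psuField σ} ↔
      ∃ A : ↥(Cfsg.GU n F₀ q₀), subDiagPSU hF hF₀ j hjq A = β := by
  have hj' : ∀ a, σ (j a) = j a := fun a => (hj (j a)).mpr ⟨a, rfl⟩
  have hr0 : 0 < r := hr.pos
  have h1n : 1 ≤ n := by omega
  rw [Subgroup.mem_inf]
  constructor
  · rintro ⟨hβ1, hβ2⟩
    rw [inndiagPSU_eq_range] at hβ1
    obtain ⟨g, rfl⟩ := hβ1
    have hc : (psuField σ : MulAut (Cfsg.PSU n F q)) * psuDiag g = psuDiag g * psuField σ :=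
      (Subgroup.mem_centralizer_iff.mp hβ2) _ rfl
    rw [psuField_mul_psuDiag] at hc
    have hc2 := mul_right_cancel hc
    obtain ⟨c, hc3⟩ := (psuDiag_eq_iff hF hn _ _).mp hc2
    set G : Matrix (Fin n) (Fin n) F := ((g : GL (Fin n) F) : Matrix (Fin n) (Fin n) F) with hG
    have hsemi : G.map σ = c • G := by
      rw [guMap_coe] at hc3
      exact hc3
    obtain ⟨b, hb0, hb⟩ := exists_fixed_multiple σ hr0 hσ G
      (gu_coe_ne_zero h1n (g : GL (Fin n) F)) _ hsemi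
    -- the norm of `b` is fixed by `σ`
    set N : F := b * b ^ q with hN
    have hN0 : N ≠ 0 := mul_ne_zero hb0 (pow_ne_zero _ hb0)
    have hbG : mstar (qAut hF) (b • G) * (b • G) = N • (1 : Matrix (Fin n) (Fin n) F) := by
      rw [mstar_smul, Matrix.smul_mul, Matrix.mul_smul, gu_mstar hF g, smul_smul, qAut_apply, hN,
        mul_comm]
    have hNσ : σ N = N := by
      have h1 := congrArg (fun M : Matrix (Fin n) (Fin n) F => M.map σ) hbG
      beta_reduce at h1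
      have h2 : (mstar (qAut hF) (b • G) * (b • G)).map σ =
          mstar (qAut hF) ((b • G).map σ) * (b • G).map σ := by
        rw [mstar_map σ (qAut hF) (qAut_comm hF σ)]
        exact Matrix.map_mul (f := ((σ : F ≃+* F) : F →+* F))
      rw [h2, hb, hbG] at h1
      have h3 := congrFun (congrFun h1 ⟨0, h1n⟩) ⟨0, h1n⟩
      rw [Matrix.map_apply, Matrix.smul_apply, Matrix.one_apply_eq, smul_eq_mul, mul_one] at h3
      exact h3.symm
    have hNq : N ^ q = N := norm_pow_q hF b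
    obtain ⟨s, hsσ, hs⟩ := Cfsg.Agent.Lib.Helper37.hnorm_of_fixed σ hr hq hF hσ N⁻¹
      (inv_ne_zero hN0) (by rw [map_inv₀, hNσ]) (by rw [inv_pow, hNq])
    set b' : F := s * b with hb'
    have hb'σ : (b' • G).map σ = b' • G := by
      have h1 : (b' • G).map σ = s • (b • G).map σ := by
        ext k l
        simp only [hb', Matrix.map_apply, Matrix.smul_apply, smul_eq_mul, map_mul, hsσ, mul_assoc]
      rw [h1, hb, smul_smul]
    have hb'G : mstar (qAut hF) (b' • G) * (b' • G) = 1 := by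
      rw [mstar_smul, Matrix.smul_mul, Matrix.mul_smul, gu_mstar hF g, smul_smul, qAut_apply, hb']
      have : (s * b) ^ q * (s * b) = (s * s ^ q) * N := by rw [hN]; ring
      rw [this, hs, inv_mul_cancel₀ hN0, one_smul]
    have hent : ∀ k l, ∃ a : F₀, j a = b' * G k l := by
      intro k l
      apply (hj _).mp
      have := congrFun (congrFun hb'σ k) l
      simpa using this
    choose a ha using hent
    have hmap : (Matrix.of a).map j = b' • G := by
      ext k l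
      rw [Matrix.map_apply, Matrix.of_apply, ha, Matrix.smul_apply, smul_eq_mul]
    have hA₀ : mstar (qAut hF₀) (Matrix.of a) * Matrix.of a = 1 := by
      have hinj : Function.Injective (fun M : Matrix (Fin n) (Fin n) F₀ => M.map j) := by
        intro M N' hMN
        ext k l
        apply j.injective
        exact congrFun (congrFun hMN k) l
      apply hinj
      show (mstar (qAut hF₀) (Matrix.of a) * Matrix.of a).map j =
        (1 : Matrix (Fin n) (Fin n) F₀).map j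
      rw [Matrix.map_mul, ← mstar_map_hom hF hF₀ j hjq, hmap, hb'G,
        Matrix.map_one _ (map_zero _) (map_one _)]
    obtain ⟨Ag, hAg⟩ := exists_gu_of_matrix hF₀ (Matrix.of a) hA₀
    refine ⟨Ag, ?_⟩
    rw [subDiagPSU_apply]
    apply psuDiag_eq_of_smul _ g b'
    rw [guSub_coe, hAg, hmap]
  · rintro ⟨A, rfl⟩
    refine ⟨psuDiag_mem_inndiagPSU _, ?_⟩
    rw [Subgroup.mem_centralizer_iff]
    intro h hh
    rw [Set.mem_singleton_iff] at hh
    subst hh
    exact subDiagPSU_comm hF hF₀ j hjq σ hj' A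

/-- `C_{Inndiag}(φ_σ) ≅ PGU_n(F₀, q₀)` -/
theorem nonempty_centralizer_equiv_psu (hF : Fintype.card F = q ^ 2)
    (hF₀ : Fintype.card F₀ = q₀ ^ 2) (hn : 3 ≤ n) (σ : RingAut F) {r : ℕ} (hr : Odd r)
    (hσ : orderOf σ = r) (hq : q = q₀ ^ r) (j : F₀ →+* F)
    (hj : ∀ a : F, σ a = a ↔ ∃ b, j b = a) :
    Nonempty (↥(Cfsg.inndiagPSU n F q ⊓ Subgroup.centralizer {psuField σ}) ≃*
      Cfsg.PGU n F₀ q₀) := by
  have hj' : ∀ a, σ (j a) = j a := fun a => (hj (j a)).mpr ⟨a, rfl⟩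
  have hjq : ∀ a : F₀, j a ^ q = j (a ^ q₀) := pow_q_of_embedding hF σ hr hσ hq j hj'
  have h1 : Cfsg.inndiagPSU n F q ⊓ Subgroup.centralizer {psuField σ} =
      (subDiagPSU hF hF₀ j hjq : ↥(Cfsg.GU n F₀ q₀) →* MulAut (Cfsg.PSU n F q)).range := by
    ext β
    rw [mem_inndiag_centralizer_iff_psu hF hF₀ hn σ hr hσ hq j hj hjq]
    rfl
  exact ⟨(MulEquiv.subgroupCongr h1).trans
    ((QuotientGroup.quotientKerEquivRange (subDiagPSU hF hF₀ j hjq)).symm.trans
      (QuotientGroup.quotientMulEquivOfEq (ker_subDiagPSU hF hF₀ hn j hjq)))⟩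

omit [Fintype F] in
/-- transfer of the centraliser in `Inndiag` along conjugation -/
theorem nonempty_centralizer_conj_equiv_psu (hN : InndiagNormalPSU n F q)
    (α x : MulAut (Cfsg.PSU n F q)) :
    Nonempty (↥(Cfsg.inndiagPSU n F q ⊓ Subgroup.centralizer {x}) ≃*
      ↥(Cfsg.inndiagPSU n F q ⊓ Subgroup.centralizer {α * x * α⁻¹})) := by
  have h1 : (Cfsg.inndiagPSU n F q ⊓ Subgroup.centralizer {x}).map
      ((MulAut.conj α : MulAut (Cfsg.PSU n F q) ≃* _) : MulAut (Cfsg.PSU n F q) →* _) =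
      Cfsg.inndiagPSU n F q ⊓ Subgroup.centralizer {α * x * α⁻¹} := by
    ext β
    rw [Subgroup.mem_map, Subgroup.mem_inf]
    constructor
    · rintro ⟨γ, hγ, rfl⟩
      rw [Subgroup.mem_inf] at hγ
      obtain ⟨hγ1, hγ2⟩ := hγ
      refine ⟨conj_mem_inndiagPSU hN α hγ1, ?_⟩
      rw [Subgroup.mem_centralizer_iff] at hγ2 ⊢
      intro h hh
      rw [Set.mem_singleton_iff] at hh
      subst hh
      have := hγ2 x rfl
      show α * x * α⁻¹ * (α * γ * α⁻¹) = α * γ * α⁻¹ * (α * x * α⁻¹)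
      calc α * x * α⁻¹ * (α * γ * α⁻¹) = α * (x * γ) * α⁻¹ := by group
        _ = α * (γ * x) * α⁻¹ := by rw [this]
        _ = _ := by group
    · rintro ⟨hβ1, hβ2⟩
      refine ⟨α⁻¹ * β * α, Subgroup.mem_inf.mpr ⟨?_, ?_⟩, ?_⟩
      · have := conj_mem_inndiagPSU hN α⁻¹ hβ1
        rwa [inv_inv] at this
      · rw [Subgroup.mem_centralizer_iff] at hβ2 ⊢
        intro h hh
        rw [Set.mem_singleton_iff] at hh
        subst hh
        have := hβ2 _ rfl
        calc h * (α⁻¹ * β * α) = α⁻¹ * (α * h * α⁻¹ * β) * α := by group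
          _ = α⁻¹ * (β * (α * h * α⁻¹)) * α := by rw [this]
          _ = _ := by group
      · show α * (α⁻¹ * β * α) * α⁻¹ = β
        group
  exact ⟨((MulAut.conj α : MulAut (Cfsg.PSU n F q) ≃* _).subgroupMap _).trans
    (MulEquiv.subgroupCongr h1)⟩

end Cfsg.Agent.Lib.Helper43
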