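/-
helper43: the `Inndiag`-class of a standard field automorphism `φ_σ` (σ of odd order) of `PSU_n(F, q)` splits into
`|U₁ : j(U₁(F₀)) · U₁ⁿ|` classes under the inner automorphisms (`U₁` the group of norm-one elements).
-/
import Mathlib
import Cfsg.Agent.Lib.Helper43.PSUCentralizer
import Cfsg.Agent.Lib.Helper43.PSpSplit
import Cfsg.Agent.Lib.Helper13.GU
import Cfsg.Agent.Lib.Helper45.PSLField.Split

set_option autoImplicit false

namespace Cfsg.Agent.Lib.Helper43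

open scoped MatrixGroups Matrix
open Matrix Cfsg.Agent.Lib.Helper5 Cfsg.Agent.Lib.Helper45.PSLField Cfsg.Agent.Lib.Helper13

variable {n : ℕ} {F : Type*} [Field F] [Fintype F] {q : ℕ}
  {F₀ : Type*} [Field F₀] [Fintype F₀] {q₀ : ℕ}

/-- the determinant `GU → U₁` -/
noncomputable def guDet (hF : Fintype.card F = q ^ 2) : ↥(Cfsg.GU n F q) →* ↥(U1 F q) where
  toFun g := ⟨Matrix.GeneralLinearGroup.det g.1, by
    rw [mem_U1_iff]
    exact det_pow_of_mem_GU hF g.2⟩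
  map_one' := Subtype.ext (map_one _)
  map_mul' _ _ := Subtype.ext (map_mul _ _ _)

theorem guDet_coe (hF : Fintype.card F = q ^ 2) (g : ↥(Cfsg.GU n F q)) :
    (((guDet hF g : ↥(U1 F q)) : Fˣ) : F) =
      ((g : GL (Fin n) F) : Matrix (Fin n) (Fin n) F).det := rfl

theorem guDet_surjective (hF : Fintype.card F = q ^ 2) (hn : 1 ≤ n) (u : ↥(U1 F q)) :
    ∃ g : ↥(Cfsg.GU n F q), guDet hF g = u := by
  have hu := (mem_U1_iff (u : Fˣ)).mp u.2
  refine ⟨⟨diagGL n F (Function.update (fun _ => (1 : Fˣ)) ⟨0, hn⟩ (u : Fˣ)),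
    diagGL_mem_GU _ ?_⟩, ?_⟩
  · intro i
    by_cases hi : i = ⟨0, hn⟩
    · rw [hi, Function.update_self]; exact hu
    · rw [Function.update_of_ne hi, Units.val_one, one_pow]
  · apply Subtype.ext
    apply Units.ext
    rw [guDet_coe]
    exact det_diagGL_update ⟨0, hn⟩ (u : Fˣ)

omit [Fintype F] [Fintype F₀] in
theorem u1Map_mem (j : F₀ →+* F) (hjq : ∀ a : F₀, j a ^ q = j (a ^ q₀)) (x : F₀ˣ)
    (hx : x ∈ U1 F₀ q₀) : Units.map (j : F₀ →* F) x ∈ U1 F q := by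
  rw [mem_U1_iff] at hx ⊢
  show (j (x : F₀)) ^ (q + 1) = 1
  rw [pow_succ, hjq, ← map_mul, ← pow_succ, hx, map_one]

/-- `U₁(F₀) → U₁(F)` -/
noncomputable def u1Map (j : F₀ →+* F) (hjq : ∀ a : F₀, j a ^ q = j (a ^ q₀)) :
    ↥(U1 F₀ q₀) →* ↥(U1 F q) where
  toFun x := ⟨Units.map (j : F₀ →* F) x.1, u1Map_mem j hjq x.1 x.2⟩
  map_one' := Subtype.ext (map_one _)
  map_mul' _ _ := Subtype.ext (map_mul _ _ _)

omit [Fintype F] [Fintype F₀] in
theorem u1Map_injective (j : F₀ →+* F) (hjq : ∀ a : F₀, j a ^ q = j (a ^ q₀)) :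
    Function.Injective (u1Map j hjq) := by
  intro a b hab
  apply Subtype.ext
  apply Units.ext
  apply j.injective
  exact congrArg (fun x : ↥(U1 F q) => ((x : Fˣ) : F)) hab

omit [Fintype F] in
theorem card_range_u1Map (hF₀ : Fintype.card F₀ = q₀ ^ 2) (j : F₀ →+* F)
    (hjq : ∀ a : F₀, j a ^ q = j (a ^ q₀)) :
    Nat.card (u1Map j hjq : ↥(U1 F₀ q₀) →* ↥(U1 F q)).range = q₀ + 1 := by
  rw [← card_U1 hF₀]
  exact Nat.card_congr (MonoidHom.ofInjective (u1Map_injective j hjq)).symm.toEquiv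

theorem guDet_guSub (hF : Fintype.card F = q ^ 2) (hF₀ : Fintype.card F₀ = q₀ ^ 2)
    (j : F₀ →+* F) (hjq : ∀ a : F₀, j a ^ q = j (a ^ q₀)) (A : ↥(Cfsg.GU n F₀ q₀)) :
    guDet hF (guSub hF hF₀ j hjq A) = u1Map j hjq (guDet hF₀ A) := by
  apply Subtype.ext
  apply Units.ext
  rw [guDet_coe, guSub_coe]
  show _ = j (((A : GL (Fin n) F₀) : Matrix (Fin n) (Fin n) F₀).det)
  rw [RingHom.map_det]
  rfl

theorem guDet_toGU (hF : Fintype.card F = q ^ 2) (s : ↥(Cfsg.SU n F q)) :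
    guDet hF (toGU s) = 1 := by
  apply Subtype.ext
  apply Units.ext
  rw [guDet_coe, toGU_coe]
  exact s.1.2

/-- a scalar relating two elements of `GU` has norm one, and the determinants differ by its `n`-th power -/
theorem guDet_of_smul (hF : Fintype.card F = q ^ 2) (hn : 1 ≤ n) (a b : ↥(Cfsg.GU n F q)) (c : F)
    (h : ((a : GL (Fin n) F) : Matrix (Fin n) (Fin n) F) =
      c • ((b : GL (Fin n) F) : Matrix (Fin n) (Fin n) F)) :
    ∃ u : ↥(U1 F q), ((u : Fˣ) : F) = c ∧ guDet hF a = u ^ n * guDet hF b := by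
  have h1 : (((a * b⁻¹ : ↥(Cfsg.GU n F q)) : GL (Fin n) F) : Matrix (Fin n) (Fin n) F) =
      c • 1 := by
    rw [Subgroup.coe_mul, Matrix.GeneralLinearGroup.coe_mul, h, Matrix.smul_mul]
    congr 1
    exact gl_mul_inv_coe _
  have hc := norm_eq_one_of_scalar_gu hF hn (a * b⁻¹) c h1
  have hc0 : c ≠ 0 := by
    intro h0
    rw [h0, zero_mul] at hc
    exact zero_ne_one hc
  refine ⟨⟨Units.mk0 c hc0, ?_⟩, rfl, ?_⟩
  · rw [mem_U1_iff, Units.val_mk0, pow_succ']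
    exact hc
  · apply Subtype.ext
    apply Units.ext
    rw [guDet_coe, h, Matrix.det_smul, Fintype.card_fin]
    rfl

/-- an inner-diagonal automorphism of `PSU` is inner iff the determinant is an `n`-th power in `U₁` -/
theorem psuDiag_mem_inn_iff (hF : Fintype.card F = q ^ 2) (hn : 3 ≤ n) (g : ↥(Cfsg.GU n F q)) :
    (psuDiag g : MulAut (Cfsg.PSU n F q)) ∈ Cfsg.Inn (Cfsg.PSU n F q) ↔
      guDet hF g ∈ (powMonoidHom n : ↥(U1 F q) →* ↥(U1 F q)).range := by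
  rw [mem_inn_psu_iff]
  constructor
  · rintro ⟨s, hs⟩
    obtain ⟨c, hc⟩ := (psuDiag_eq_iff hF hn _ _).mp hs
    obtain ⟨u, -, hu⟩ := guDet_of_smul hF (by omega) g (toGU s) c hc
    refine ⟨u, ?_⟩
    rw [hu, guDet_toGU, mul_one, powMonoidHom_apply]
  · rintro ⟨u, hu⟩
    rw [powMonoidHom_apply] at hu
    set c : F := ((u : Fˣ) : F) with hc
    have hc0 : c ≠ 0 := (u : Fˣ).ne_zero
    have hcq : c * c ^ q = 1 := by
      have := (mem_U1_iff (u : Fˣ)).mp u.2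
      rw [pow_succ'] at this
      exact this
    set G : Matrix (Fin n) (Fin n) F := ((g : GL (Fin n) F) : Matrix (Fin n) (Fin n) F) with hG
    have hdetG : G.det = c ^ n := by
      have := congrArg (fun x : ↥(U1 F q) => ((x : Fˣ) : F)) hu
      simp only [guDet_coe] at this
      rw [← this]
      rfl
    have hdet : (c⁻¹ • G).det = 1 := by
      rw [Matrix.det_smul, Fintype.card_fin, hdetG, inv_pow, inv_mul_cancel₀ (pow_ne_zero _ hc0)]
    have hcq' : c⁻¹ * (c⁻¹) ^ q = 1 := by rw [inv_pow, ← mul_inv, hcq, inv_one]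
    have hpres : ∀ x y : Fin n → F,
        Cfsg.hermForm n F q ((c⁻¹ • G) *ᵥ x) ((c⁻¹ • G) *ᵥ y) = Cfsg.hermForm n F q x y := by
      intro x y
      rw [Matrix.smul_mulVec, Matrix.smul_mulVec, Cfsg.Agent.Lib.Helper5.hermForm_smul_left,
        Cfsg.Agent.Lib.Helper5.hermForm_smul_right,
        ← mul_assoc, hcq', one_mul]
      exact (mem_GU_iff' g.1).mp g.2 x y
    refine ⟨⟨⟨c⁻¹ • G, hdet⟩, hpres⟩, ?_⟩
    apply psuDiag_eq_of_smul _ _ c
    rw [toGU_coe]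
    show G = c • (c⁻¹ • G)
    rw [smul_smul, mul_inv_cancel₀ hc0, one_smul]

/-- the number of `Inn`-classes in the `Inndiag`-class of `φ_σ` (unitary case) -/
theorem splitClassCount_psuField (hF : Fintype.card F = q ^ 2)
    (hF₀ : Fintype.card F₀ = q₀ ^ 2) (hn : 3 ≤ n) (σ : RingAut F) {r : ℕ} (hr : Odd r)
    (hσ : orderOf σ = r) (hq : q = q₀ ^ r) (j : F₀ →+* F)
    (hj : ∀ a : F, σ a = a ↔ ∃ b, j b = a) (hjq : ∀ a : F₀, j a ^ q = j (a ^ q₀)) :
    Cfsg.splitClassCount (Cfsg.inndiagPSU n F q) (Cfsg.Inn (Cfsg.PSU n F q)) (psuField σ) =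
      ((u1Map j hjq : ↥(U1 F₀ q₀) →* ↥(U1 F q)).range ⊔
        (powMonoidHom n : ↥(U1 F q) →* ↥(U1 F q)).range).index := by
  have hj' : ∀ a, σ (j a) = j a := fun a => (hj (j a)).mpr ⟨a, rfl⟩
  have h1n : 1 ≤ n := by omega
  unfold Subgroup.index
  apply splitClassCount_eq_card (Cfsg.inndiagPSU n F q) (Cfsg.Inn (Cfsg.PSU n F q)) (psuField σ)
    (psuDiag : ↥(Cfsg.GU n F q) →* MulAut (Cfsg.PSU n F q)) inndiagPSU_eq_range.symm
    (fun g : ↥(Cfsg.GU n F q) => (QuotientGroup.mk (guDet hF g) :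
      ↥(U1 F q) ⧸ ((u1Map j hjq : ↥(U1 F₀ q₀) →* ↥(U1 F q)).range ⊔
        (powMonoidHom n : ↥(U1 F q) →* ↥(U1 F q)).range)))
  · intro x
    obtain ⟨c, rfl⟩ := QuotientGroup.mk_surjective x
    obtain ⟨g, rfl⟩ := guDet_surjective hF h1n c
    exact ⟨g, rfl⟩
  · intro g₁ g₂
    show (QuotientGroup.mk (guDet hF g₁) :
      ↥(U1 F q) ⧸ ((u1Map j hjq : ↥(U1 F₀ q₀) →* ↥(U1 F q)).range ⊔
        (powMonoidHom n : ↥(U1 F q) →* ↥(U1 F q)).range)) =
      QuotientGroup.mk (guDet hF g₂) ↔ _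
    rw [QuotientGroup.eq]
    constructor
    · intro hmem
      rw [Subgroup.mem_sup] at hmem
      obtain ⟨y, ⟨κ, rfl⟩, z, ⟨u, rfl⟩, hyz⟩ := hmem
      obtain ⟨A, hA⟩ := guDet_surjective hF₀ h1n κ⁻¹
      have hinn : (psuDiag (g₂ * guSub hF hF₀ j hjq A * g₁⁻¹) : MulAut (Cfsg.PSU n F q)) ∈
          Cfsg.Inn (Cfsg.PSU n F q) := by
        rw [psuDiag_mem_inn_iff hF hn]
        refine ⟨u, ?_⟩
        rw [map_mul, map_mul, map_inv, guDet_guSub, hA, map_inv]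
        exact commGroup_aux2 _ _ _ _ hyz
      refine ⟨_, hinn, ?_⟩
      apply conj_eq_of_comm _ (subDiagPSU hF hF₀ j hjq A) _ _ _
        (subDiagPSU_comm hF hF₀ j hjq σ hj' A)
      rw [subDiagPSU_apply, ← map_mul, ← map_mul, inv_mul_cancel_right]
    · rintro ⟨k, hk, hz⟩
      rw [mem_inn_psu_iff] at hk
      obtain ⟨s, rfl⟩ := hk
      have hcomm := comm_of_conj_eq _ _ _ _ hz
      rw [← map_inv, ← map_mul, ← map_mul] at hcomm
      have hmem : (psuDiag (g₂⁻¹ * toGU s * g₁) : MulAut (Cfsg.PSU n F q)) ∈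
          Cfsg.inndiagPSU n F q ⊓ Subgroup.centralizer {psuField σ} := by
        refine Subgroup.mem_inf.mpr ⟨psuDiag_mem_inndiagPSU _, ?_⟩
        rw [Subgroup.mem_centralizer_iff]
        intro h hh
        rw [Set.mem_singleton_iff] at hh
        subst hh
        exact hcomm
      obtain ⟨A, hA⟩ := (mem_inndiag_centralizer_iff_psu hF hF₀ hn σ hr hσ hq j hj hjq _).mp hmem
      rw [subDiagPSU_apply] at hA
      obtain ⟨c, hc⟩ := (psuDiag_eq_iff hF hn _ _).mp hA.symm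
      obtain ⟨v, -, hv⟩ := guDet_of_smul hF h1n _ _ c hc
      rw [map_mul, map_mul, map_inv, guDet_toGU, mul_one, guDet_guSub] at hv
      rw [commGroup_aux3 _ _ _ _ hv]
      apply Subgroup.mul_mem
      · exact Subgroup.mem_sup_left (Subgroup.inv_mem _ ⟨_, rfl⟩)
      · refine Subgroup.mem_sup_right (Subgroup.inv_mem _ ⟨v, ?_⟩)
        rw [powMonoidHom_apply]

end Cfsg.Agent.Lib.Helper43
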