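/-
helper43: structure of `Out(PSU_n(F, q))`, `n ≥ 3`, assuming that every automorphism is standard
(`β = psuDiag g * psuField σ`).
-/
import Mathlib
import Cfsg.Agent.Lib.Helper43.PSUSplit
import Cfsg.Agent.Lib.Helper43.PSLnOut

set_option autoImplicit false

namespace Cfsg.Agent.Lib.Helper43

open scoped MatrixGroups Matrix
open Matrix Cfsg.Agent.Lib.Helper13

variable {n : ℕ} {F : Type*} [Field F] [Fintype F] {q : ℕ}

/-- every automorphism of `PSU_n(F, q)` is standard -/
def AllStdAutPSU (n : ℕ) (F : Type*) [Field F] (q : ℕ) : Prop :=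
  ∀ β : MulAut (Cfsg.PSU n F q), ∃ (σ : RingAut F) (g : ↥(Cfsg.GU n F q)),
    β = psuDiag g * psuField σ

omit [Fintype F] in
theorem allStdAutPSU_of_gamma (h : Cfsg.gammaPSU n F q = ⊤) : AllStdAutPSU n F q := by
  intro β
  obtain ⟨g, σ, hβ⟩ := exists_std_of_gammaPSU_eq_top h β
  exact ⟨σ, g, hβ⟩

/-- the field part of an automorphism -/
noncomputable def fieldPartPSU (hF : Fintype.card F = q ^ 2) (hn : 3 ≤ n)
    (hstd : AllStdAutPSU n F q) : MulAut (Cfsg.PSU n F q) →* RingAut F where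
  toFun β := Classical.choose (hstd β)
  map_one' := by
    obtain ⟨g, hg⟩ := Classical.choose_spec (hstd 1)
    have h1 : (psuDiag g : MulAut (Cfsg.PSU n F q)) * psuField (Classical.choose (hstd 1)) =
        psuDiag 1 * psuField 1 := by
      rw [← hg, map_one, map_one, one_mul]
    exact field_part_unique_psu hF hn _ _ _ _ h1
  map_mul' β β' := by
    obtain ⟨g, hg⟩ := Classical.choose_spec (hstd (β * β'))
    obtain ⟨g₁, hg₁⟩ := Classical.choose_spec (hstd β)
    obtain ⟨g₂, hg₂⟩ := Classical.choose_spec (hstd β')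
    set σ := Classical.choose (hstd (β * β')) with hσ
    set σ₁ := Classical.choose (hstd β) with hσ₁
    set σ₂ := Classical.choose (hstd β') with hσ₂
    have h1 : (psuDiag g : MulAut (Cfsg.PSU n F q)) * psuField σ =
        psuDiag (g₁ * guMap σ₁ g₂) * psuField (σ₁ * σ₂) := by
      rw [← hg]
      conv_lhs => rw [hg₁, hg₂]
      rw [map_mul, map_mul]
      calc psuDiag g₁ * psuField σ₁ * (psuDiag g₂ * psuField σ₂)
          = psuDiag g₁ * (psuField σ₁ * psuDiag g₂) * psuField σ₂ := by simp only [mul_assoc]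
        _ = _ := by rw [psuField_mul_psuDiag]; simp only [mul_assoc]
    exact field_part_unique_psu hF hn _ _ _ _ h1

theorem fieldPartPSU_spec (hF : Fintype.card F = q ^ 2) (hn : 3 ≤ n)
    (hstd : AllStdAutPSU n F q) (β : MulAut (Cfsg.PSU n F q)) :
    ∃ g : ↥(Cfsg.GU n F q), β = psuDiag g * psuField (fieldPartPSU hF hn hstd β) :=
  Classical.choose_spec (hstd β)

theorem fieldPartPSU_eq (hF : Fintype.card F = q ^ 2) (hn : 3 ≤ n)
    (hstd : AllStdAutPSU n F q) (g : ↥(Cfsg.GU n F q)) (σ : RingAut F) :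
    fieldPartPSU hF hn hstd (psuDiag g * psuField σ) = σ := by
  obtain ⟨g', hg'⟩ := fieldPartPSU_spec hF hn hstd (psuDiag g * psuField σ)
  exact (field_part_unique_psu hF hn _ _ _ _ hg').symm

theorem ker_fieldPartPSU (hF : Fintype.card F = q ^ 2) (hn : 3 ≤ n)
    (hstd : AllStdAutPSU n F q) :
    (fieldPartPSU hF hn hstd).ker =
      (psuDiag : ↥(Cfsg.GU n F q) →* MulAut (Cfsg.PSU n F q)).range := by
  ext β
  rw [MonoidHom.mem_ker, MonoidHom.mem_range]
  constructor
  · intro h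
    obtain ⟨g, hg⟩ := fieldPartPSU_spec hF hn hstd β
    rw [h, map_one, mul_one] at hg
    exact ⟨g, hg.symm⟩
  · rintro ⟨g, rfl⟩
    have := fieldPartPSU_eq hF hn hstd g 1
    rwa [map_one, mul_one] at this

theorem inn_le_ker_fieldPartPSU (hF : Fintype.card F = q ^ 2) (hn : 3 ≤ n)
    (hstd : AllStdAutPSU n F q) :
    Cfsg.Inn (Cfsg.PSU n F q) ≤ (fieldPartPSU hF hn hstd).ker := by
  rw [ker_fieldPartPSU]
  intro t ht
  obtain ⟨s, rfl⟩ := (mem_inn_psu_iff t).mp ht
  exact ⟨toGU s, rfl⟩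

/-- the field part of an outer automorphism -/
noncomputable def outFieldPartPSU (hF : Fintype.card F = q ^ 2) (hn : 3 ≤ n)
    (hstd : AllStdAutPSU n F q) : Cfsg.Out (Cfsg.PSU n F q) →* RingAut F :=
  QuotientGroup.lift _ (fieldPartPSU hF hn hstd) (inn_le_ker_fieldPartPSU hF hn hstd)

theorem outFieldPartPSU_surjective (hF : Fintype.card F = q ^ 2) (hn : 3 ≤ n)
    (hstd : AllStdAutPSU n F q) : Function.Surjective (outFieldPartPSU hF hn hstd) := by
  intro σ
  refine ⟨QuotientGroup.mk (psuField σ), ?_⟩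
  show fieldPartPSU hF hn hstd (psuField σ) = σ
  have := fieldPartPSU_eq hF hn hstd 1 σ
  rwa [map_one, one_mul] at this

omit [Fintype F] in
/-- the outer diagonal automorphisms -/
noncomputable def outDiagGU : ↥(Cfsg.GU n F q) →* Cfsg.Out (Cfsg.PSU n F q) :=
  (QuotientGroup.mk' _).comp psuDiag

theorem ker_outFieldPartPSU (hF : Fintype.card F = q ^ 2) (hn : 3 ≤ n)
    (hstd : AllStdAutPSU n F q) :
    (outFieldPartPSU hF hn hstd).ker = (outDiagGU : ↥(Cfsg.GU n F q) →* _).range := by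
  ext x
  obtain ⟨β, rfl⟩ := QuotientGroup.mk_surjective x
  rw [MonoidHom.mem_ker, MonoidHom.mem_range]
  show fieldPartPSU hF hn hstd β = 1 ↔ _
  rw [← MonoidHom.mem_ker, ker_fieldPartPSU, MonoidHom.mem_range]
  constructor
  · rintro ⟨g, rfl⟩
    exact ⟨g, rfl⟩
  · rintro ⟨g, hg⟩
    have h1 : (QuotientGroup.mk (psuDiag g) : Cfsg.Out (Cfsg.PSU n F q)) = QuotientGroup.mk β := hg
    rw [QuotientGroup.eq] at h1
    obtain ⟨s, hs⟩ := (mem_inn_psu_iff _).mp h1
    refine ⟨g * toGU s, ?_⟩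
    rw [map_mul, ← hs, mul_inv_cancel_left]

/-- the determinant modulo `n`-th powers of `U₁` -/
noncomputable def guDetModPow (hF : Fintype.card F = q ^ 2) (n : ℕ) :
    ↥(Cfsg.GU n F q) →* ↥(U1 F q) ⧸ (powMonoidHom n : ↥(U1 F q) →* ↥(U1 F q)).range :=
  (QuotientGroup.mk' _).comp (guDet hF)

theorem guDetModPow_surjective (hF : Fintype.card F = q ^ 2) (hn : 1 ≤ n) :
    Function.Surjective (guDetModPow hF n : ↥(Cfsg.GU n F q) →* _) := by
  intro x
  obtain ⟨c, rfl⟩ := QuotientGroup.mk_surjective x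
  obtain ⟨g, rfl⟩ := guDet_surjective hF hn c
  exact ⟨g, rfl⟩

theorem ker_outDiagGU (hF : Fintype.card F = q ^ 2) (hn : 3 ≤ n) :
    (outDiagGU : ↥(Cfsg.GU n F q) →* _).ker = (guDetModPow hF n).ker := by
  ext g
  rw [MonoidHom.mem_ker, MonoidHom.mem_ker]
  unfold outDiagGU guDetModPow
  rw [MonoidHom.comp_apply, MonoidHom.comp_apply, QuotientGroup.mk'_apply, QuotientGroup.mk'_apply,
    QuotientGroup.eq_one_iff, QuotientGroup.eq_one_iff]
  exact psuDiag_mem_inn_iff hF hn g

/-- the kernel of the field part is `U₁ / U₁ⁿ` -/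
noncomputable def kerOutFieldPartPSUEquiv (hF : Fintype.card F = q ^ 2) (hn : 3 ≤ n)
    (hstd : AllStdAutPSU n F q) :
    (outFieldPartPSU hF hn hstd).ker ≃*
      ↥(U1 F q) ⧸ (powMonoidHom n : ↥(U1 F q) →* ↥(U1 F q)).range :=
  (MulEquiv.subgroupCongr (ker_outFieldPartPSU hF hn hstd)).trans
    ((QuotientGroup.quotientKerEquivRange (outDiagGU : ↥(Cfsg.GU n F q) →* _)).symm.trans
      ((QuotientGroup.quotientMulEquivOfEq (ker_outDiagGU hF hn)).trans
        (QuotientGroup.quotientKerEquivOfSurjective (guDetModPow hF n)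
          (guDetModPow_surjective hF (by omega)))))

/-- structure of `Out(PSU_n(F, q))` for `n ≥ 3`, given that all automorphisms are standard -/
theorem out_psu_structure_of_allStdAut {p f : ℕ} [Fact p.Prime] (hf : 1 ≤ f) (hq : q = p ^ f)
    (hF : Fintype.card F = q ^ 2) (hn : 3 ≤ n) (hstd : AllStdAutPSU n F q) :
    ∃ φ : Cfsg.Out (Cfsg.PSU n F q) →* Multiplicative (ZMod (2 * f)),
      Function.Surjective φ ∧ IsCyclic φ.ker ∧ Nat.card φ.ker = Nat.gcd n (q + 1) := by
  have hFp : Fintype.card F = p ^ (2 * f) := by rw [hF, hq, ← pow_mul, mul_comm]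
  have hchar : CharP F p := charP_of_card' (by omega) hFp
  obtain ⟨e⟩ := ringAut_mulEquiv_zmod' (F := F) p (2 * f) hFp
  have hker : (e.toMonoidHom.comp (outFieldPartPSU hF hn hstd)).ker =
      (outFieldPartPSU hF hn hstd).ker := by
    ext x
    rw [MonoidHom.mem_ker, MonoidHom.mem_ker, MonoidHom.comp_apply]
    exact e.map_eq_one_iff
  refine ⟨e.toMonoidHom.comp (outFieldPartPSU hF hn hstd), ?_, ?_, ?_⟩
  · exact e.surjective.comp (outFieldPartPSU_surjective hF hn hstd)
  · rw [hker]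
    have h1 : IsCyclic (↥(U1 F q) ⧸ (powMonoidHom n : ↥(U1 F q) →* ↥(U1 F q)).range) :=
      isCyclic_of_surjective (QuotientGroup.mk' _) (QuotientGroup.mk'_surjective _)
    exact isCyclic_of_surjective (kerOutFieldPartPSUEquiv hF hn hstd).symm.toMonoidHom
      (kerOutFieldPartPSUEquiv hF hn hstd).symm.surjective
  · rw [hker, Nat.card_congr (kerOutFieldPartPSUEquiv hF hn hstd).toEquiv,
      ← Subgroup.index_eq_card, IsCyclic.index_powMonoidHom_range, card_U1 hF, Nat.gcd_comm]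

end Cfsg.Agent.Lib.Helper43
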