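/-
helper43: `Ω(Q)/Z(Ω(Q))` has even order for a non-degenerate quadratic form in dimension at
least three over a finite field of odd characteristic (module for S2686/S2687/S2733).
-/
import Mathlib
import Cfsg.Agent.Lib.Helper44.LBOrth3
import Cfsg.Agent.Lib.Helper44.EichlerOdd
import Cfsg.Agent.Lib.Helper36.LocalBalance.OmegaComm

set_option autoImplicit false

namespace Cfsg.Agent.Lib.Helper43

open Cfsg.Agent.Lib.Helper13 hiding isoGroup mem_isoGroup
open Cfsg.Agent.Lib.Helper36 Cfsg.Agent.Lib.Helper36.LocalBalance Cfsg.Agent.Lib.Helper44 Module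
  Matrix

variable {ι : Type} [Fintype ι] [DecidableEq ι] {F : Type*} [Field F]

local notation "pol" => QuadraticMap.polar

/-- the product of two commuting reflections -/
theorem two_refl_apply (Q : QuadraticForm F (ι → F)) (a b : ι → F) (hab : pol (⇑Q) a b = 0)
    (x : ι → F) :
    (Cfsg.reflectionMatrix (⇑Q) a * Cfsg.reflectionMatrix (⇑Q) b) *ᵥ x =
      x - ((Q b)⁻¹ * pol (⇑Q) b x) • b - ((Q a)⁻¹ * pol (⇑Q) a x) • a := by
  rw [← Matrix.mulVec_mulVec, reflectionMatrix_mulVec_eq_reflLin,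
    reflectionMatrix_mulVec_eq_reflLin, reflLin_apply, reflLin_apply,
    QuadraticMap.polar_sub_right, QuadraticMap.polar_smul_right, hab, smul_eq_mul, mul_zero,
    sub_zero]

/-- it is an involution -/
theorem two_refl_sq (Q : QuadraticForm F (ι → F)) (a b : ι → F)
    (ha : Q a ≠ 0) (hb : Q b ≠ 0) (hab : pol (⇑Q) a b = 0) :
    (Cfsg.reflectionMatrix (⇑Q) a * Cfsg.reflectionMatrix (⇑Q) b) *
      (Cfsg.reflectionMatrix (⇑Q) a * Cfsg.reflectionMatrix (⇑Q) b) = 1 := by
  have hba : pol (⇑Q) b a = 0 := by rw [QuadraticMap.polar_comm]; exact hab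
  apply matrix_eq_of_mulVec
  intro x
  rw [← Matrix.mulVec_mulVec, two_refl_apply Q a b hab x, two_refl_apply Q a b hab,
    Matrix.one_mulVec]
  simp only [QuadraticMap.polar_sub_right, QuadraticMap.polar_smul_right, hab, hba, smul_eq_mul,
    mul_zero, sub_zero, polar_self']
  have e1 : (Q b)⁻¹ * (pol (⇑Q) b x - (Q b)⁻¹ * pol (⇑Q) b x * (2 * Q b)) =
      -((Q b)⁻¹ * pol (⇑Q) b x) := by
    field_simp
    ring
  have e2 : (Q a)⁻¹ * (pol (⇑Q) a x - (Q a)⁻¹ * pol (⇑Q) a x * (2 * Q a)) =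
      -((Q a)⁻¹ * pol (⇑Q) a x) := by
    field_simp
    ring
  rw [e1, e2, neg_smul, neg_smul]
  abel

omit [DecidableEq ι] in
/-- a non-zero vector orthogonal to two given vectors, in dimension at least three -/
theorem exists_perp_two (Q : QuadraticForm F (ι → F)) (hdim : 3 ≤ Fintype.card ι)
    (a b : ι → F) : ∃ x : ι → F, x ≠ 0 ∧ pol (⇑Q) a x = 0 ∧ pol (⇑Q) b x = 0 := by
  set L : (ι → F) →ₗ[F] F × F :=
    (QuadraticMap.polarBilin Q a).prod (QuadraticMap.polarBilin Q b) with hL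
  have hlt : finrank F (F × F) < finrank F (ι → F) := by
    rw [Module.finrank_fintype_fun_eq_card, Module.finrank_prod, Module.finrank_self]
    omega
  have hker := LinearMap.ker_ne_bot_of_finrank_lt (f := L) hlt
  obtain ⟨x, hx, hx0⟩ := (Submodule.ne_bot_iff _).mp hker
  refine ⟨x, hx0, ?_, ?_⟩
  · have := congrArg Prod.fst (LinearMap.mem_ker.mp hx)
    exact this
  · have := congrArg Prod.snd (LinearMap.mem_ker.mp hx)
    exact this

/-- **(c)**: `Ω(Q)/Z(Ω(Q))` has even order -/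
theorem two_dvd_card_OmegaGL_quot [Fintype F] [DecidableEq F] (h2 : (2 : F) ≠ 0)
    (hdim : 3 ≤ Fintype.card ι) (Q : QuadraticForm F (ι → F))
    (hQ : (QuadraticMap.polarBilin Q).Nondegenerate) :
    2 ∣ Nat.card (↥(OmegaGL ⇑Q) ⧸ Subgroup.center ↥(OmegaGL ⇑Q)) := by
  have hfr : finrank F (ι → F) = Fintype.card ι := Module.finrank_fintype_fun_eq_card F
  obtain ⟨a, ha1⟩ := exists_Q_eq Q hQ h2 (by rw [hfr]; omega) 1 one_ne_zero
  have ha : Q a ≠ 0 := by rw [ha1]; exact one_ne_zero
  obtain ⟨b, hab, hb⟩ := exists_perp_norm Q hQ h2 (by rw [hfr]; exact hdim) a ha (Q a) ha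
  have hb0 : Q b ≠ 0 := by rw [hb]; exact ha
  obtain ⟨A, hAΩ, hAmat⟩ := exists_OmegaGL_two_refl Q hQ h2 (by omega) a b ha hb
  have hAA : A * A = 1 := by
    apply Units.ext
    rw [Units.val_mul, hAmat, Units.val_one]
    exact two_refl_sq Q a b ha hb0 hab
  -- `A` is not a scalar
  have hAns : ∀ c : F, (A : Matrix ι ι F) ≠ c • (1 : Matrix ι ι F) := by
    intro c hc
    obtain ⟨x, hx0, hax, hbx⟩ := exists_perp_two Q hdim a b
    have ha0 : a ≠ 0 := by
      rintro rfl
      exact ha (QuadraticMap.map_zero Q)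
    have e1 : (A : Matrix ι ι F) *ᵥ a = -a := by
      rw [hAmat, two_refl_apply Q a b hab, QuadraticMap.polar_comm, hab, mul_zero, zero_smul,
        sub_zero, polar_self']
      have : (Q a)⁻¹ * (2 * Q a) = 2 := by field_simp
      rw [this, two_smul]
      abel
    have e2 : (A : Matrix ι ι F) *ᵥ x = x := by
      rw [hAmat, two_refl_apply Q a b hab, hax, hbx, mul_zero, zero_smul, mul_zero, zero_smul,
        sub_zero, sub_zero]
    rw [hc, Matrix.smul_mulVec, Matrix.one_mulVec] at e1 e2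
    have hc1 : c = -1 := by
      obtain ⟨i, hi⟩ : ∃ i, a i ≠ 0 := by
        by_contra hcon
        apply ha0
        funext i
        by_contra hne
        exact hcon ⟨i, hne⟩
      have h3 := congrFun e1 i
      rw [Pi.smul_apply, Pi.neg_apply, smul_eq_mul] at h3
      have h4 : (c + 1) * a i = 0 := by linear_combination h3
      have := (mul_eq_zero.mp h4).resolve_right hi
      linear_combination this
    rw [hc1] at e2
    apply hx0
    have h5 : (2 : F) • x = 0 := by
      rw [two_smul]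
      have : (-1 : F) • x = -x := neg_one_smul F x
      rw [this] at e2
      nth_rewrite 1 [← e2]
      exact neg_add_cancel x
    exact (smul_eq_zero.mp h5).resolve_left h2
  set Ab : ↥(OmegaGL ⇑Q) ⧸ Subgroup.center ↥(OmegaGL ⇑Q) :=
    QuotientGroup.mk (⟨A, hAΩ⟩ : ↥(OmegaGL ⇑Q)) with hAb
  have hAb2 : Ab ^ 2 = 1 := by
    rw [hAb, ← QuotientGroup.mk_pow, pow_two]
    have : (⟨A, hAΩ⟩ : ↥(OmegaGL ⇑Q)) * ⟨A, hAΩ⟩ = 1 := Subtype.ext hAA
    rw [this, QuotientGroup.mk_one]
  have hAb1 : Ab ≠ 1 := by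
    intro h1
    rw [hAb, QuotientGroup.eq_one_iff] at h1
    obtain ⟨-, c, hc⟩ := LB.cent_orth Q hQ h2 hdim (RingHom.id F) (RingEquiv.refl F) A (by
      intro B hB
      refine ⟨1, ?_⟩
      have e1 : ((B : Matrix ι ι F).map (RingHom.id F)).map (RingEquiv.refl F) =
          (B : Matrix ι ι F) := by
        ext i j
        rfl
      have e2 : (B : Matrix ι ι F).map (RingHom.id F) = (B : Matrix ι ι F) := by
        ext i j
        rfl
      rw [e1, e2, one_smul]
      have h3 := Subgroup.mem_center_iff.mp h1 ⟨B, hB⟩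
      have h4 := congrArg (fun y : ↥(OmegaGL ⇑Q) => ((y : GL ι F) : Matrix ι ι F)) h3
      exact h4.symm)
    exact hAns c hc
  have hord : orderOf Ab = 2 := orderOf_eq_prime hAb2 hAb1
  rw [← hord]
  exact orderOf_dvd_natCard Ab

/-- the image of the centre under an isomorphism -/
theorem map_center_of_mulEquiv {G H : Type*} [Group G] [Group H] (e : G ≃* H) :
    (Subgroup.center G).map e.toMonoidHom = Subgroup.center H := by
  ext z
  constructor
  · rintro ⟨w, hw, rfl⟩
    rw [Subgroup.mem_center_iff]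
    intro y
    have h1 := Subgroup.mem_center_iff.mp hw (e.symm y)
    have h2 := congrArg e h1
    rw [map_mul, map_mul, e.apply_symm_apply] at h2
    exact h2
  · intro hz
    refine ⟨e.symm z, ?_, e.apply_symm_apply z⟩
    show e.symm z ∈ Subgroup.center G
    rw [Subgroup.mem_center_iff]
    intro y
    have h1 := Subgroup.mem_center_iff.mp hz (e y)
    apply e.injective
    rw [map_mul, map_mul, e.apply_symm_apply]
    exact h1

/-- **(c')**: `PΩ(Q)` has even order -/
theorem two_dvd_card_POmega [Fintype F] [DecidableEq F] (h2 : (2 : F) ≠ 0)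
    (hdim : 3 ≤ Fintype.card ι) (Q : QuadraticForm F (ι → F))
    (hQ : (QuadraticMap.polarBilin Q).Nondegenerate) :
    2 ∣ Nat.card (Cfsg.POmega F ⇑Q) := by
  let e : ↥(Cfsg.Omega F ⇑Q) ≃* ↥(OmegaGL ⇑Q) :=
    (Cfsg.Omega F ⇑Q).equivMapOfInjective _ (Subgroup.subtype_injective _)
  have he := map_center_of_mulEquiv e
  rw [Nat.card_congr (QuotientGroup.congr _ _ e he).toEquiv]
  exact two_dvd_card_OmegaGL_quot h2 hdim Q hQ

end Cfsg.Agent.Lib.Helper43
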