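/-
helper43: squares and subfields of finite fields of odd characteristic:
* an automorphism of odd order fixes some non-square;
* the elements of the subfield of index two are squares.
-/
import Mathlib
import Cfsg.Agent.Lib.Helper45.PSLField.Norm

set_option autoImplicit false

namespace Cfsg.Agent.Lib.Helper43

open Cfsg.Agent.Lib.Helper45.PSLField

variable {F : Type*} [Field F] [Fintype F]

theorem isSquare_ringAut_iff (τ : RingAut F) (a : F) : IsSquare (τ a) ↔ IsSquare a := by
  constructor
  · rintro ⟨b, hb⟩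
    refine ⟨τ⁻¹ b, ?_⟩
    have := congrArg (τ⁻¹ : RingAut F) hb
    rw [map_mul] at this
    rw [← this]
    exact (τ.symm_apply_apply a).symm
  · rintro ⟨b, rfl⟩
    exact ⟨τ b, map_mul τ b b⟩

theorem quadraticChar_ringAut [DecidableEq F] (τ : RingAut F) (a : F) :
    quadraticChar F (τ a) = quadraticChar F a := by
  by_cases ha : a = 0
  · subst ha; rw [map_zero]
  · have hτa : τ a ≠ 0 := (map_ne_zero τ).mpr ha
    by_cases hs : IsSquare a
    · rw [(quadraticChar_one_iff_isSquare ha).mpr hs,
        (quadraticChar_one_iff_isSquare hτa).mpr ((isSquare_ringAut_iff τ a).mpr hs)]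
    · rw [quadraticChar_neg_one_iff_not_isSquare.mpr hs,
        quadraticChar_neg_one_iff_not_isSquare.mpr (fun h => hs ((isSquare_ringAut_iff τ a).mp h))]

/-- an automorphism of odd order of a finite field of odd characteristic fixes a non-square -/
theorem exists_fixed_nonsquare (h2 : (2 : F) ≠ 0) (σ : RingAut F) {r : ℕ} (hr : Odd r)
    (hσ : orderOf σ = r) : ∃ η : F, σ η = η ∧ η ≠ 0 ∧ ¬ IsSquare η := by
  classical
  have hchar : ringChar F ≠ 2 := by
    intro h
    apply h2
    have : ((2 : ℕ) : F) = 0 := by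
      rw [← h]; exact ringChar.Nat.cast_ringChar
    exact_mod_cast this
  obtain ⟨η₀, hη₀⟩ := FiniteField.exists_nonsquare hchar
  have hη₀0 : η₀ ≠ 0 := by
    rintro rfl
    exact hη₀ IsSquare.zero
  have hσr : σ ^ r = 1 := by rw [← hσ]; exact pow_orderOf_eq_one σ
  refine ⟨nrm σ η₀ r, map_nrm σ hσr η₀, nrm_ne_zero σ hη₀0 r, ?_⟩
  rw [← quadraticChar_neg_one_iff_not_isSquare]
  unfold nrm
  rw [map_prod]
  have : ∀ i ∈ Finset.range r, quadraticChar F ((σ ^ i) η₀) = -1 := by
    intro i _
    rw [quadraticChar_ringAut, quadraticChar_neg_one_iff_not_isSquare]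
    exact hη₀
  rw [Finset.prod_congr rfl this, Finset.prod_const, Finset.card_range]
  exact hr.neg_one_pow

/-- the elements of the subfield of index two are squares -/
theorem isSquare_of_card_sq {F₀ : Type*} [Field F₀] [Fintype F₀] (j : F₀ →+* F)
    (hcard : Fintype.card F = Fintype.card F₀ ^ 2) (h2 : (2 : F) ≠ 0) (a : F₀) :
    IsSquare (j a) := by
  have hchar : ringChar F ≠ 2 := by
    intro h
    apply h2
    have : ((2 : ℕ) : F) = 0 := by
      rw [← h]; exact ringChar.Nat.cast_ringChar
    exact_mod_cast this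
  by_cases ha : a = 0
  · subst ha
    rw [map_zero]
    exact IsSquare.zero
  · have hja : j a ≠ 0 := (map_ne_zero j).mpr ha
    rw [FiniteField.isSquare_iff hchar hja, hcard]
    set q₀ := Fintype.card F₀ with hq₀
    have hq₀odd : q₀ % 2 = 1 := by
      have hFodd : Fintype.card F % 2 = 1 := FiniteField.odd_card_of_char_ne_two hchar
      rw [hcard] at hFodd
      rcases Nat.even_or_odd q₀ with he | ho
      · exfalso
        have : Even (q₀ ^ 2) := he.pow_of_ne_zero (by norm_num)
        rw [Nat.even_iff] at this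
        omega
      · exact Nat.odd_iff.mp ho
    have hq₀pos : 1 ≤ q₀ := Fintype.card_pos
    have hexp : q₀ ^ 2 / 2 = (q₀ - 1) * ((q₀ + 1) / 2) := by
      obtain ⟨t, ht⟩ : ∃ t, q₀ = 2 * t + 1 := ⟨q₀ / 2, by omega⟩
      rw [ht]
      have h1 : (2 * t + 1) ^ 2 = 2 * (2 * t * (t + 1)) + 1 := by ring
      have h3 : (2 * t + 1 + 1) / 2 = t + 1 := by omega
      have h4 : 2 * t + 1 - 1 = 2 * t := by omega
      rw [h1, h3, h4]
      omega
    rw [hexp, pow_mul, ← map_pow, FiniteField.pow_card_sub_one_eq_one a ha, map_one, one_pow]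

end Cfsg.Agent.Lib.Helper43
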