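/-
helper43: over a finite field of odd characteristic every invertible symmetric matrix of odd size
`2m+1` is congruent to a scalar multiple of the Gram matrix of `x₀² + Σ xᵢ yᵢ`
(classification of odd-dimensional quadratic forms up to similarity, from S2618).
-/
import Mathlib
import Cfsg.Agent.S2618
import Cfsg.Agent.Lib.Helper44.OddQF
import Cfsg.Agent.Lib.Helper44.MinusQF

set_option autoImplicit false

namespace Cfsg.Agent.Lib.Helper43

open scoped MatrixGroups Matrix
open Matrix Cfsg.Agent.Lib.Helper44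

variable {m : ℕ} {K : Type*} [Field K]

/-- the Gram matrix of the polar form of `x₀² + Σ xᵢ yᵢ` -/
def oddGram (m : ℕ) (K : Type*) [Field K] :
    Matrix (Unit ⊕ (Fin m ⊕ Fin m)) (Unit ⊕ (Fin m ⊕ Fin m)) K :=
  Matrix.of fun k l =>
    match k, l with
    | Sum.inl _, Sum.inl _ => 2
    | Sum.inr (Sum.inl i), Sum.inr (Sum.inr j) => if i = j then 1 else 0
    | Sum.inr (Sum.inr i), Sum.inr (Sum.inl j) => if i = j then 1 else 0
    | _, _ => 0

theorem gramStd_quadFormOdd : gramStd (Cfsg.quadFormOdd m K) = oddGram m K := by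
  ext k l
  rw [gramStd_apply, ← oddQF_coe, oddQF_polar]
  rcases k with u | i | i <;> rcases l with u' | j | j <;>
    simp [oddGram, Pi.single_apply, eq_comm]

theorem oddGram_map {K' : Type*} [Field K'] (j : K →+* K') :
    (oddGram m K).map j = oddGram m K' := by
  ext k l
  rcases k with u | i | i <;> rcases l with u' | i' | i' <;>
    simp [oddGram, Matrix.map_apply, apply_ite, map_ofNat]

theorem oddGram_transpose : (oddGram m K)ᵀ = oddGram m K := by
  ext k l
  rcases k with u | i | i <;> rcases l with u' | i' | i' <;>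
    simp [oddGram, Matrix.transpose_apply, eq_comm]

/-- classification up to similarity in Gram form -/
theorem exists_congr_oddGram [Finite K] (h2 : (2 : K) ≠ 0)
    (K₀ : Matrix (Unit ⊕ (Fin m ⊕ Fin m)) (Unit ⊕ (Fin m ⊕ Fin m)) K) (hsym : K₀ᵀ = K₀)
    (hdet : K₀.det ≠ 0) :
    ∃ (C : Matrix (Unit ⊕ (Fin m ⊕ Fin m)) (Unit ⊕ (Fin m ⊕ Fin m)) K) (d : K), d ≠ 0 ∧
      Cᵀ * K₀ * C = d • oddGram m K := by
  classical
  set B : LinearMap.BilinForm K (Unit ⊕ (Fin m ⊕ Fin m) → K) := Matrix.toBilin' K₀ with hB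
  have hBsymm : ∀ x y, B x y = B y x := by
    intro x y
    rw [hB, Matrix.toBilin'_apply', Matrix.toBilin'_apply', Matrix.dotProduct_mulVec,
      ← Matrix.mulVec_transpose, hsym, dotProduct_comm]
  set Q₀ : QuadraticForm K (Unit ⊕ (Fin m ⊕ Fin m) → K) :=
    LinearMap.BilinMap.toQuadraticMap B with hQ₀
  have hQ₀app : ∀ x, Q₀ x = B x x := fun x => LinearMap.BilinMap.toQuadraticMap_apply B x
  have hpolar : ∀ x y, QuadraticMap.polar (⇑Q₀) x y = 2 * B x y := by
    intro x y
    rw [hQ₀, LinearMap.BilinMap.polar_toQuadraticMap, hBsymm y x, two_mul]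
  have hBnd : ∀ x, (∀ y, B x y = 0) → x = 0 := by
    intro x hx
    apply (Matrix.separatingLeft_def.mp (Matrix.nondegenerate_of_det_ne_zero hdet).separatingLeft) x
    intro w
    rw [← Matrix.toBilin'_apply']
    exact hx w
  have hnd : (QuadraticMap.polarBilin Q₀).Nondegenerate := by
    constructor
    · intro x hx
      apply hBnd x
      intro y
      have := hx y
      rw [QuadraticMap.polarBilin_apply_apply, hpolar] at this
      exact (mul_eq_zero.mp this).resolve_left h2
    · intro y hy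
      apply hBnd y
      intro x
      have := hy x
      rw [QuadraticMap.polarBilin_apply_apply, hpolar, hBsymm] at this
      exact (mul_eq_zero.mp this).resolve_left h2
  have hfr : Module.finrank K (Unit ⊕ (Fin m ⊕ Fin m) → K) = 2 * m + 1 := by
    rw [Module.finrank_fintype_fun_eq_card, Fintype.card_sum, Fintype.card_sum, Fintype.card_fin,
      Fintype.card_unit]
    ring
  obtain ⟨b, hb0, hb0o, hbs, hbef, hbee⟩ := Cfsg.Agent.S2618.result hfr Q₀ hnd
  set d : K := Q₀ (b (Sum.inl ())) with hd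
  -- rescale the `f`-vectors by `d`
  set w : Unit ⊕ (Fin m ⊕ Fin m) → Kˣ := fun k =>
    match k with
    | Sum.inr (Sum.inr _) => Units.mk0 d hb0
    | _ => 1 with hw
  set c := b.unitsSMul w with hc
  have hBhalf : ∀ x y, B x y = 2⁻¹ * QuadraticMap.polar (⇑Q₀) x y := by
    intro x y
    rw [hpolar, ← mul_assoc, inv_mul_cancel₀ h2, one_mul]
  have hc0 : c (Sum.inl ()) = b (Sum.inl ()) := by
    rw [hc, Module.Basis.unitsSMul_apply]
    simp [hw]
  have hce : ∀ i, c (Sum.inr (Sum.inl i)) = b (Sum.inr (Sum.inl i)) := by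
    intro i
    rw [hc, Module.Basis.unitsSMul_apply]
    simp [hw]
  have hcf : ∀ i, c (Sum.inr (Sum.inr i)) = d • b (Sum.inr (Sum.inr i)) := by
    intro i
    rw [hc, Module.Basis.unitsSMul_apply]
    simp [hw, Units.smul_def]
  refine ⟨(Pi.basisFun K (Unit ⊕ (Fin m ⊕ Fin m))).toMatrix c, 2⁻¹ * d,
    mul_ne_zero (inv_ne_zero h2) hb0, ?_⟩
  have h1 := LinearMap.BilinForm.toMatrix_mul_basis_toMatrix
    (b := Pi.basisFun K (Unit ⊕ (Fin m ⊕ Fin m))) c B
  have h3 : LinearMap.BilinForm.toMatrix (Pi.basisFun K (Unit ⊕ (Fin m ⊕ Fin m))) B = K₀ := by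
    rw [LinearMap.BilinForm.toMatrix_basisFun, hB, LinearMap.BilinForm.toMatrix'_toBilin']
  rw [h3] at h1
  rw [h1]
  ext k l
  rw [LinearMap.BilinForm.toMatrix_apply, Matrix.smul_apply, smul_eq_mul]
  have hpc : ∀ x y, QuadraticMap.polar (⇑Q₀) x y = QuadraticMap.polar (⇑Q₀) y x :=
    fun x y => QuadraticMap.polar_comm _ _ _
  rcases k with u | i | i <;> rcases l with u' | j | j
  · -- (0,0)
    rw [hc0, ← hQ₀app]
    simp only [oddGram, Matrix.of_apply]
    rw [← hd]
    field_simp
  · rw [hc0, hce, hBhalf, (hb0o j).1]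
    simp [oddGram]
  · rw [hc0, hcf, hBhalf, QuadraticMap.polar_smul_right, (hb0o j).2]
    simp [oddGram]
  · rw [hc0, hce, hBhalf, hpc, (hb0o i).1]
    simp [oddGram]
  · rw [hce, hce, hBhalf, (hbee i j).1]
    simp [oddGram]
  · rw [hce, hcf, hBhalf, QuadraticMap.polar_smul_right, hbef i j]
    simp only [oddGram, Matrix.of_apply, smul_eq_mul]
    split_ifs <;> ring
  · rw [hc0, hcf, hBhalf, QuadraticMap.polar_smul_left, hpc, (hb0o i).2]
    simp [oddGram]
  · rw [hcf, hce, hBhalf, QuadraticMap.polar_smul_left, hpc, hbef j i]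
    simp only [oddGram, Matrix.of_apply, smul_eq_mul]
    by_cases hij : i = j
    · subst hij; simp
    · have : ¬ j = i := fun h => hij h.symm
      simp [hij, this]
  · rw [hcf, hcf, hBhalf, QuadraticMap.polar_smul_left, QuadraticMap.polar_smul_right,
      (hbee i j).2]
    simp [oddGram]

end Cfsg.Agent.Lib.Helper43
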