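/-
helper43: the odd-dimensional orthogonal group `Ω_{2m+1}(F)` (form `x₀² + Σ xᵢ yᵢ`): the
hypotheses of the general field-automorphism coset theorem, and S2735.
-/
import Mathlib
import Cfsg.Agent.Lib.Helper43.OFieldCoset
import Cfsg.Agent.Lib.Helper43.OddClass
import Cfsg.Agent.S2694

set_option autoImplicit false

namespace Cfsg.Agent.Lib.Helper43

open scoped MatrixGroups Matrix
open Matrix Cfsg.Agent.Lib.Helper45.PSLField Cfsg.Agent.Lib.Helper36 Cfsg.Agent.Lib.Helper44

variable {m : ℕ} {F : Type*} [Field F]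

theorem fieldCompat_quadFormOdd : FieldCompat (Cfsg.quadFormOdd m F) := by
  intro σ v
  unfold Cfsg.quadFormOdd vmap
  rw [map_add, map_pow, map_sum]
  simp only [map_mul]

theorem fieldCompat_oddQF : FieldCompat (⇑(oddQF m F)) := by
  rw [oddQF_coe]
  exact fieldCompat_quadFormOdd

theorem two_ne_zero_of_odd_card' [Fintype F] (hodd : Odd (Fintype.card F)) : (2 : F) ≠ 0 := by
  intro h
  rw [Cfsg.Agent.Lib.Helper44.two_eq_zero_iff_even_card] at h
  rcases hodd with ⟨k, hk⟩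
  omega

theorem oddQF_single_inl (i : Fin m) :
    oddQF m F (Pi.single (Sum.inr (Sum.inl i)) 1) = 0 := by
  rw [oddQF_coe]
  unfold Cfsg.quadFormOdd
  simp

theorem card_odd_index : Fintype.card (Unit ⊕ (Fin m ⊕ Fin m)) = 2 * m + 1 := by
  rw [Fintype.card_sum, Fintype.card_sum, Fintype.card_fin, Fintype.card_unit]
  ring

/-- the kernel of the standard parametrisation for `Ω_{2m+1}` -/
theorem oKernelProp_oddQF [Fintype F] (h2 : (2 : F) ≠ 0) (hm : 3 ≤ m) :
    OKernelProp (fieldCompat_oddQF (m := m) (F := F)) := by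
  classical
  intro g σ h
  set i₁ : Fin m := ⟨0, by omega⟩ with hi₁
  set i₂ : Fin m := ⟨1, by omega⟩ with hi₂
  have hi : i₁ ≠ i₂ := by
    intro h'
    have := congrArg Fin.val h'
    simp [hi₁, hi₂] at this
  set p : Unit ⊕ (Fin m ⊕ Fin m) → F := Pi.single (Sum.inr (Sum.inl i₁)) 1 with hp
  set w : Unit ⊕ (Fin m ⊕ Fin m) → F := Pi.single (Sum.inr (Sum.inl i₂)) 1 with hw
  have hpw : QuadraticMap.polar (⇑(oddQF m F)) p w = 0 := by
    rw [oddQF_polar, hp, hw]
    simp
  have hN0 : eichN (⇑(oddQF m F)) p w ≠ 0 := by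
    intro h0
    have h1 := eichN_mulVec (oddQF m F) p w (Pi.single (Sum.inr (Sum.inr i₂)) 1)
    rw [h0, Matrix.zero_mulVec, oddQF_polar, oddQF_polar] at h1
    have h3 := congrFun h1 (Sum.inr (Sum.inl i₁))
    have hi' : ¬ i₂ = i₁ := fun h => hi h.symm
    simp [hp, hw, Pi.single_apply, hi'] at h3
  exact eq_one_of_simAut_mul_oField_eq_one (oddQF m F) fieldCompat_oddQF (oddQF_nondeg m F h2) h2
    (by rw [card_odd_index]; omega) p w (oddQF_single_inl i₁) (oddQF_single_inl i₂) hpw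
    (fun τ => vmap_single τ _) (fun τ => vmap_single τ _) hN0 g σ h

theorem gammaPOmega_transport {ι : Type} [Fintype ι] [DecidableEq ι]
    (f f' : (ι → F) → F) (hf : f = f') (h : Cfsg.gammaPOmega F f' = ⊤) :
    Cfsg.gammaPOmega F f = ⊤ := by
  subst hf
  exact h

/-- every automorphism of `Ω_{2m+1}(F)` is standard -/
theorem oAllStd_oddQF [Fintype F] (hodd : Odd (Fintype.card F)) (hm : 3 ≤ m) :
    OAllStd (fieldCompat_oddQF (m := m) (F := F)) := by
  intro β
  exact exists_std_of_gammaPOmega_eq_top fieldCompat_oddQF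
    (gammaPOmega_transport _ _ (oddQF_coe m F) (Cfsg.Agent.S2694.result hodd hm)) β

theorem gramStd_oddQF : gramStd (⇑(oddQF m F)) = oddGram m F := by
  rw [oddQF_coe, gramStd_quadFormOdd]

/-- classification over the fixed field -/
theorem gramClassOver_oddQF [Finite F] (h2 : (2 : F) ≠ 0) (σ : RingAut F) :
    GramClassOver σ (gramStd (⇑(oddQF m F))) := by
  intro K₀ hsym hdet
  have h2' : (2 : fixF σ) ≠ 0 := by
    intro h
    apply h2
    have := congrArg (fixF σ).subtype h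
    rw [map_ofNat, map_zero] at this
    exact this
  obtain ⟨C, d, hd0, hC⟩ := exists_congr_oddGram h2' K₀ hsym hdet
  refine ⟨C, d, hd0, ?_⟩
  have := congrArg (fun M : Matrix _ _ (fixF σ) => M.map (fixF σ).subtype) hC
  simp only [Matrix.map_mul, Matrix.transpose_map] at this
  rw [this, gramStd_oddQF, ← oddGram_map (m := m) (fixF σ).subtype]
  ext k l
  simp [Matrix.map_apply, Matrix.smul_apply]

theorem gramStd_oddQF_det [Finite F] (h2 : (2 : F) ≠ 0) :
    (gramStd (⇑(oddQF m F))).det ≠ 0 :=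
  (nondeg_iff_gramStd_det_ne_zero (oddQF m F)).mp (oddQF_nondeg m F h2)

/-- **S2735** -/
theorem odd_field_coset [Fintype F] (hodd : Odd (Fintype.card F)) (hm : 3 ≤ m)
    (x δ : MulAut (Cfsg.POmega F (Cfsg.quadFormOdd m F)))
    (hx : Cfsg.IsFieldAutClassPOmega (Cfsg.quadFormOdd m F) x) {r : ℕ} (hr : 0 < r)
    (hxr : orderOf x = r) (hδ : δ ∈ Cfsg.pgoAut F (Cfsg.quadFormOdd m F)) :
    orderOf (δ * x) = r ↔ Cfsg.IsConjUnder (Cfsg.pgoAut F (Cfsg.quadFormOdd m F)) x (δ * x) := by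
  have h2 : (2 : F) ≠ 0 := two_ne_zero_of_odd_card' hodd
  exact o_field_coset_main' (oddQF m F) fieldCompat_oddQF h2 (gramStd_oddQF_det h2)
    (oKernelProp_oddQF h2 hm) (oAllStd_oddQF hodd hm) (gramClassOver_oddQF h2)
    (Cfsg.quadFormOdd m F) (oddQF_coe m F) x δ hx hr hxr hδ

end Cfsg.Agent.Lib.Helper43
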