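/-
helper43: field automorphisms of prime order of `Ω_{2m+1}(F)` (`|F|` odd, `m ≥ 3`): `r ∣ f`, the
centraliser in `Inndiag = PGO` is `PGO_{2m+1}(F₀)`, and the `PGO`-class is one `Inn`-class if `r` is
odd and two if `r = 2` (S2714).
-/
import Mathlib
import Cfsg.Agent.Lib.Helper43.OSplit
import Cfsg.Agent.Lib.Helper43.OSquares
import Cfsg.Agent.Lib.Helper43.OddField

set_option autoImplicit false

namespace Cfsg.Agent.Lib.Helper43

open scoped MatrixGroups Matrix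
open Matrix Cfsg.Agent.Lib.Helper45.PSLField Cfsg.Agent.Lib.Helper36 Cfsg.Agent.Lib.Helper44

variable {m : ℕ} {F : Type*} [Field F] {F₀ : Type*} [Field F₀]

theorem oddQF_hom (j : F₀ →+* F) (v : Unit ⊕ (Fin m ⊕ Fin m) → F₀) :
    oddQF m F (fun i => j (v i)) = j (oddQF m F₀ v) := by
  rw [oddQF_coe, oddQF_coe]
  unfold Cfsg.quadFormOdd
  rw [map_add, map_pow, map_sum]
  simp only [map_mul]

theorem gramCompat_oddQF (j : F₀ →+* F) :
    GramCompat j (⇑(oddQF m F₀)) (⇑(oddQF m F)) := by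
  unfold GramCompat
  rw [gramStd_oddQF, gramStd_oddQF, oddGram_map]

theorem oddQF_e0 : oddQF m F (Pi.single (Sum.inl ()) 1) = 1 := by
  rw [oddQF_coe]
  unfold Cfsg.quadFormOdd
  simp

/-- a vector of norm `η` with coordinates `1`, `η` -/
def oddVecEta (hm : 1 ≤ m) (η : F) : Unit ⊕ (Fin m ⊕ Fin m) → F :=
  fun k => match k with
    | Sum.inl _ => 0
    | Sum.inr (Sum.inl i) => if i = ⟨0, hm⟩ then 1 else 0
    | Sum.inr (Sum.inr i) => if i = ⟨0, hm⟩ then η else 0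

theorem oddQF_oddVecEta (hm : 1 ≤ m) (η : F) : oddQF m F (oddVecEta hm η) = η := by
  rw [oddQF_coe]
  unfold Cfsg.quadFormOdd oddVecEta
  simp

theorem vmap_oddVecEta (hm : 1 ≤ m) (σ : F ≃+* F) (η : F) (hη : σ η = η) :
    vmap σ (oddVecEta hm η) = oddVecEta hm η := by
  funext k
  unfold vmap oddVecEta
  rcases k with u | i | i
  · simp
  · by_cases h : i = ⟨0, hm⟩ <;> simp [h]
  · by_cases h : i = ⟨0, hm⟩ <;> simp [h, hη]

/-- S2714 for the form `⇑(oddQF m F)` -/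
theorem odd_field_centralizer_aux [Fintype F] [Fintype F₀] {p f : ℕ} [Fact p.Prime]
    (hF : Fintype.card F = p ^ f) (hodd : Odd (Fintype.card F)) (hm : 3 ≤ m)
    (x : MulAut (Cfsg.POmega F (⇑(oddQF m F))))
    (hx : Cfsg.IsFieldAutClassPOmega (⇑(oddQF m F)) x) {r : ℕ} (hr : r.Prime)
    (hxr : orderOf x = r) (hF₀ : Fintype.card F₀ = p ^ (f / r)) :
    r ∣ f ∧
    Nonempty (↥(Cfsg.pgoAut F (⇑(oddQF m F)) ⊓ Subgroup.centralizer {x}) ≃*
      ↥(Cfsg.pgoAut F₀ (⇑(oddQF m F₀)))) ∧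
    (Odd r → Cfsg.splitClassCount (Cfsg.pgoAut F (⇑(oddQF m F)))
      (Cfsg.Inn (Cfsg.POmega F (⇑(oddQF m F)))) x = 1) ∧
    (r = 2 → Cfsg.splitClassCount (Cfsg.pgoAut F (⇑(oddQF m F)))
      (Cfsg.Inn (Cfsg.POmega F (⇑(oddQF m F)))) x = 2) := by
  classical
  have h2 : (2 : F) ≠ 0 := two_ne_zero_of_odd_card' hodd
  have hQ : FieldCompat (⇑(oddQF m F)) := fieldCompat_oddQF
  have hker : OKernelProp hQ := oKernelProp_oddQF h2 hm
  have hstd : OAllStd hQ := oAllStd_oddQF hodd hm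
  have hdet : (gramStd (⇑(oddQF m F))).det ≠ 0 := gramStd_oddQF_det h2
  have hnd := oddQF_nondeg m F h2
  obtain ⟨α, σ, -, hα⟩ := exists_conj_eq_oField hQ hx
  have hσr : orderOf σ = r := by
    rw [← orderOf_oField hker σ, ← hα, orderOf_conj_o, hxr]
  obtain ⟨hrf, -⟩ := card_fixF hF σ hr.pos hσr
  obtain ⟨j, hj⟩ := exists_embedding_fixF hF σ hr.pos hσr F₀ hF₀
  have h2₀ : (2 : F₀) ≠ 0 := two_ne_zero_of_hom j h2
  have hnd₀ := oddQF_nondeg m F₀ h2₀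
  have hQ₀ : FieldCompat (⇑(oddQF m F₀)) := fieldCompat_oddQF
  have hker₀ : OKernelProp hQ₀ := oKernelProp_oddQF h2₀ hm
  have hS : GramCompat j (⇑(oddQF m F₀)) (⇑(oddQF m F)) := gramCompat_oddQF j
  have hne : Nonempty (Unit ⊕ (Fin m ⊕ Fin m)) := ⟨Sum.inl ()⟩
  have hcard : Fintype.card (Unit ⊕ (Fin m ⊕ Fin m)) = 2 * m + 1 := card_odd_index
  have hdim : 5 ≤ Fintype.card (Unit ⊕ (Fin m ⊕ Fin m)) := by rw [hcard]; omega
  have hH : ∀ h, h ∈ Cfsg.pgoAut F (⇑(oddQF m F)) ↔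
      α * h * α⁻¹ ∈ Cfsg.pgoAut F (⇑(oddQF m F)) := by
    intro h
    constructor
    · intro hh
      rw [pgoAut_eq] at hh
      obtain ⟨d, rfl⟩ := hh
      obtain ⟨d', hd'⟩ := oNormal hstd α d
      rw [hd']
      exact simAut_mem_pgoAut _ d'
    · intro hh
      rw [pgoAut_eq] at hh
      obtain ⟨d, hd⟩ := hh
      obtain ⟨d', hd'⟩ := oNormal hstd α⁻¹ d
      rw [hd, inv_inv] at hd'
      have h3 : α⁻¹ * (α * h * α⁻¹) * α = h := by group
      rw [h3] at hd'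
      rw [hd']
      exact simAut_mem_pgoAut _ d'
  have hK : ∀ k, k ∈ Cfsg.Inn (Cfsg.POmega F (⇑(oddQF m F))) ↔
      α * k * α⁻¹ ∈ Cfsg.Inn (Cfsg.POmega F (⇑(oddQF m F))) := by
    have hnorm : (Cfsg.Inn (Cfsg.POmega F (⇑(oddQF m F)))).Normal := Cfsg.innNormal _
    intro k
    constructor
    · intro hk
      exact hnorm.conj_mem k hk α
    · intro hk
      have := hnorm.conj_mem _ hk α⁻¹
      have h3 : α⁻¹ * (α * k * α⁻¹) * α⁻¹⁻¹ = k := by group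
      rwa [h3] at this
  refine ⟨hrf, ?_, ?_, ?_⟩
  · obtain ⟨e1⟩ := nonempty_centralizer_conj_equiv_abs (Cfsg.pgoAut F (⇑(oddQF m F))) α x hH
    rw [hα] at e1
    obtain ⟨e2⟩ := nonempty_centralizer_equiv_o (oddQF m F₀) (oddQF m F) j hS h2 hdet hQ hker hker₀
      σ hr.pos hσr hj
    exact ⟨e1.trans e2⟩
  · intro hrodd
    rw [splitClassCount_conj _ _ α x hH hK, hα]
    obtain ⟨η, hση, hη0, hηns⟩ := exists_fixed_nonsquare h2 σ hrodd hσr
    have hm1 : 1 ≤ m := by omega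
    exact splitClassCount_oField_eq_one (oddQF m F) hQ hnd h2 hdim m hcard σ
      (Pi.single (Sum.inl ()) 1) (oddVecEta hm1 η) (vmap_single σ _)
      (vmap_oddVecEta hm1 σ η hση) oddQF_e0 (by rw [oddQF_oddVecEta]; exact hη0)
      (by rw [oddQF_oddVecEta]; exact hηns)
  · intro hr2
    rw [splitClassCount_conj _ _ α x hH hK, hα]
    have hcardsq : Fintype.card F = Fintype.card F₀ ^ 2 := by
      rw [hF, hF₀, hr2, ← pow_mul]
      congr 1
      rw [hr2] at hrf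
      exact (Nat.div_mul_cancel hrf).symm
    have hsq : ∀ a : F₀, IsSquare (j a) := isSquare_of_card_sq j hcardsq h2
    exact splitClassCount_oField_eq_two (oddQF m F₀) (oddQF m F) j hS (oddQF_hom j) h2 hdet hQ
      hnd₀ hnd hker hdim m hcard σ hr.pos hσr hj hsq

/-- transport along equalities of the underlying functions -/
theorem odd_field_centralizer_transport [Fintype F] [Fintype F₀] {p f : ℕ} [Fact p.Prime]
    (hF : Fintype.card F = p ^ f) (hodd : Odd (Fintype.card F)) (hm : 3 ≤ m)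
    (g : (Unit ⊕ (Fin m ⊕ Fin m) → F) → F) (hg : ⇑(oddQF m F) = g)
    (g₀ : (Unit ⊕ (Fin m ⊕ Fin m) → F₀) → F₀) (hg₀ : ⇑(oddQF m F₀) = g₀)
    (x : MulAut (Cfsg.POmega F g))
    (hx : Cfsg.IsFieldAutClassPOmega g x) {r : ℕ} (hr : r.Prime)
    (hxr : orderOf x = r) (hF₀ : Fintype.card F₀ = p ^ (f / r)) :
    r ∣ f ∧
    Nonempty (↥(Cfsg.pgoAut F g ⊓ Subgroup.centralizer {x}) ≃* ↥(Cfsg.pgoAut F₀ g₀)) ∧
    (Odd r → Cfsg.splitClassCount (Cfsg.pgoAut F g) (Cfsg.Inn (Cfsg.POmega F g)) x = 1) ∧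
    (r = 2 → Cfsg.splitClassCount (Cfsg.pgoAut F g) (Cfsg.Inn (Cfsg.POmega F g)) x = 2) := by
  subst hg
  subst hg₀
  exact odd_field_centralizer_aux hF hodd hm x hx hr hxr hF₀

/-- **S2714** -/
theorem odd_field_centralizer_main [Fintype F] [Fintype F₀] {p f : ℕ} [Fact p.Prime]
    (hF : Fintype.card F = p ^ f) (hodd : Odd (Fintype.card F)) (hm : 3 ≤ m)
    (x : MulAut (Cfsg.POmega F (Cfsg.quadFormOdd m F)))
    (hx : Cfsg.IsFieldAutClassPOmega (Cfsg.quadFormOdd m F) x) {r : ℕ} (hr : r.Prime)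
    (hxr : orderOf x = r) (hF₀ : Fintype.card F₀ = p ^ (f / r)) :
    r ∣ f ∧
    Nonempty (↥(Cfsg.pgoAut F (Cfsg.quadFormOdd m F) ⊓ Subgroup.centralizer {x}) ≃*
      ↥(Cfsg.pgoAut F₀ (Cfsg.quadFormOdd m F₀))) ∧
    (Odd r → Cfsg.splitClassCount (Cfsg.pgoAut F (Cfsg.quadFormOdd m F))
      (Cfsg.Inn (Cfsg.POmega F (Cfsg.quadFormOdd m F))) x = 1) ∧
    (r = 2 → Cfsg.splitClassCount (Cfsg.pgoAut F (Cfsg.quadFormOdd m F))
      (Cfsg.Inn (Cfsg.POmega F (Cfsg.quadFormOdd m F))) x = 2) :=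
  odd_field_centralizer_transport hF hodd hm _ (oddQF_coe m F) _ (oddQF_coe m F₀) x hx hr hxr hF₀

end Cfsg.Agent.Lib.Helper43
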