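/-
helper43: rank-one, square-zero endomorphisms ("transvection parts") are conjugate under the special
linear group in dimension at least 3.
-/
import Mathlib

set_option autoImplicit false

namespace Cfsg.Agent.Lib.Helper43

open Module

section

variable {K : Type*} [Field K]

/-- glue two linear equivalences along complementary subspaces -/
theorem exists_equiv_of_isCompl {V V' : Type*} [AddCommGroup V] [Module K V] [AddCommGroup V']
    [Module K V'] (U W : Submodule K V) (h : IsCompl U W) (U' W' : Submodule K V')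
    (h' : IsCompl U' W') (eU : U ≃ₗ[K] U') (eW : W ≃ₗ[K] W') :
    ∃ e : V ≃ₗ[K] V', (∀ u : U, e u = eU u) ∧ (∀ w : W, e w = eW w) := by
  refine ⟨(Submodule.prodEquivOfIsCompl U W h).symm ≪≫ₗ (eU.prodCongr eW) ≪≫ₗ
    (Submodule.prodEquivOfIsCompl U' W' h'), ?_, ?_⟩
  · intro u
    simp only [LinearEquiv.trans_apply, Submodule.prodEquivOfIsCompl_symm_apply_left,
      LinearEquiv.prodCongr_apply, map_zero, Submodule.coe_prodEquivOfIsCompl',
      ZeroMemClass.coe_zero, add_zero]
  · intro w
    simp only [LinearEquiv.trans_apply, Submodule.prodEquivOfIsCompl_symm_apply_right,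
      LinearEquiv.prodCongr_apply, map_zero, Submodule.coe_prodEquivOfIsCompl',
      ZeroMemClass.coe_zero, zero_add]

/-- between spaces of equal finite dimension there is a linear equivalence carrying a given non-zero
vector to a given non-zero vector -/
theorem exists_equiv_apply_eq {W W' : Type*} [AddCommGroup W] [Module K W] [AddCommGroup W']
    [Module K W'] [FiniteDimensional K W] [FiniteDimensional K W']
    (hdim : finrank K W = finrank K W') (a : W) (ha : a ≠ 0) (a' : W') (ha' : a' ≠ 0) :
    ∃ e : W ≃ₗ[K] W', e a = a' := by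
  obtain ⟨C, hC⟩ := Submodule.exists_isCompl (K ∙ a)
  obtain ⟨C', hC'⟩ := Submodule.exists_isCompl (K ∙ a')
  have h1 := Submodule.finrank_add_eq_of_isCompl hC
  have h2 := Submodule.finrank_add_eq_of_isCompl hC'
  rw [finrank_span_singleton ha] at h1
  rw [finrank_span_singleton ha'] at h2
  have hCdim : finrank K C = finrank K C' := by omega
  let eL : (K ∙ a) ≃ₗ[K] (K ∙ a') :=
    (LinearEquiv.toSpanNonzeroSingleton K W a ha).symm ≪≫ₗ
      LinearEquiv.toSpanNonzeroSingleton K W' a' ha'
  obtain ⟨e, he, -⟩ := exists_equiv_of_isCompl (K ∙ a) C hC (K ∙ a') C' hC' eL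
    (LinearEquiv.ofFinrankEq _ _ hCdim)
  refine ⟨e, ?_⟩
  have := he ⟨a, Submodule.mem_span_singleton_self a⟩
  rw [this]
  have h3 : (LinearEquiv.toSpanNonzeroSingleton K W a ha).symm
      ⟨a, Submodule.mem_span_singleton_self a⟩ = 1 := by
    rw [LinearEquiv.symm_apply_eq, LinearEquiv.toSpanNonzeroSingleton_one]
  simp only [eL, LinearEquiv.trans_apply, h3, LinearEquiv.toSpanNonzeroSingleton_one]

variable {V : Type*} [AddCommGroup V] [Module K V] [FiniteDimensional K V]

omit [FiniteDimensional K V] in
/-- structure of a rank-one square-zero endomorphism -/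
theorem rankOne_structure (N : Module.End K V) (hrank : finrank K (LinearMap.range N) = 1)
    (hsq : N * N = 0) :
    ∃ b : V, N b ≠ 0 ∧ N (N b) = 0 ∧ (∀ x, ∃ c : K, N x = c • N b) ∧
      IsCompl (LinearMap.ker N) (K ∙ b) := by
  have hne : ∃ b, N b ≠ 0 := by
    by_contra hcon
    push Not at hcon
    have : LinearMap.range N = ⊥ := by
      rw [eq_bot_iff]
      rintro _ ⟨x, rfl⟩
      rw [hcon x]; exact Submodule.zero_mem _
    rw [this, finrank_bot] at hrank
    omega
  obtain ⟨b, hb⟩ := hne
  have hNN : ∀ x, N (N x) = 0 := by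
    intro x
    have : (N * N) x = 0 := by rw [hsq]; rfl
    exact this
  have hspan : ∀ x, ∃ c : K, N x = c • N b := by
    intro x
    have hb' : (⟨N b, LinearMap.mem_range_self N b⟩ : LinearMap.range N) ≠ 0 := by
      intro h0
      exact hb (congrArg Subtype.val h0)
    have := (finrank_eq_one_iff_of_nonzero' _ hb').mp hrank ⟨N x, LinearMap.mem_range_self N x⟩
    obtain ⟨c, hc⟩ := this
    exact ⟨c, (congrArg Subtype.val hc).symm⟩
  refine ⟨b, hb, hNN b, hspan, ?_⟩
  constructor
  · rw [Submodule.disjoint_def]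
    intro x hx hxb
    obtain ⟨c, rfl⟩ := Submodule.mem_span_singleton.mp hxb
    have h1 : N (c • b) = 0 := hx
    rw [map_smul, smul_eq_zero] at h1
    rcases h1 with h1 | h1
    · rw [h1, zero_smul]
    · exact absurd h1 hb
  · rw [codisjoint_iff, eq_top_iff]
    intro x _
    obtain ⟨c, hc⟩ := hspan x
    have h1 : x - c • b ∈ LinearMap.ker N := by
      rw [LinearMap.mem_ker, map_sub, map_smul, hc, sub_self]
    have h2 : c • b ∈ K ∙ b := Submodule.smul_mem _ _ (Submodule.mem_span_singleton_self b)
    have : x = (x - c • b) + c • b := by abel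
    rw [this]
    exact Submodule.add_mem_sup h1 h2

/-- two rank-one square-zero endomorphisms are conjugate under `GL` -/
theorem rankOne_conj (N N' : Module.End K V) (hrank : finrank K (LinearMap.range N) = 1)
    (hsq : N * N = 0) (hrank' : finrank K (LinearMap.range N') = 1) (hsq' : N' * N' = 0) :
    ∃ P : V ≃ₗ[K] V, ∀ x, P (N x) = N' (P x) := by
  obtain ⟨b, hb, hNNb, hspan, hcompl⟩ := rankOne_structure N hrank hsq
  obtain ⟨b', hb', hNNb', hspan', hcompl'⟩ := rankOne_structure N' hrank' hsq'
  have hkerdim : finrank K (LinearMap.ker N) = finrank K (LinearMap.ker N') := by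
    have h1 := LinearMap.finrank_range_add_finrank_ker N
    have h2 := LinearMap.finrank_range_add_finrank_ker N'
    omega
  have hbne : b ≠ 0 := fun h => hb (by rw [h, map_zero])
  have hbne' : b' ≠ 0 := fun h => hb' (by rw [h, map_zero])
  -- the equivalence on the kernels
  have ha : (⟨N b, hNNb⟩ : LinearMap.ker N) ≠ 0 := fun h => hb (congrArg Subtype.val h)
  have ha' : (⟨N' b', hNNb'⟩ : LinearMap.ker N') ≠ 0 := fun h => hb' (congrArg Subtype.val h)
  obtain ⟨eH, heH⟩ := exists_equiv_apply_eq hkerdim _ ha _ ha'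
  let eB : (K ∙ b) ≃ₗ[K] (K ∙ b') :=
    (LinearEquiv.toSpanNonzeroSingleton K V b hbne).symm ≪≫ₗ
      LinearEquiv.toSpanNonzeroSingleton K V b' hbne'
  obtain ⟨P, hPH, hPB⟩ := exists_equiv_of_isCompl _ _ hcompl _ _ hcompl' eH eB
  have hPb : P b = b' := by
    have := hPB ⟨b, Submodule.mem_span_singleton_self b⟩
    rw [this]
    have h3 : (LinearEquiv.toSpanNonzeroSingleton K V b hbne).symm
        ⟨b, Submodule.mem_span_singleton_self b⟩ = 1 := by
      rw [LinearEquiv.symm_apply_eq, LinearEquiv.toSpanNonzeroSingleton_one]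
    simp only [eB, LinearEquiv.trans_apply, h3, LinearEquiv.toSpanNonzeroSingleton_one]
  have hPa : P (N b) = N' b' := by
    have := hPH ⟨N b, hNNb⟩
    rw [this, heH]
  refine ⟨P, fun x => ?_⟩
  obtain ⟨c, hc⟩ := hspan x
  have hx : x - c • b ∈ LinearMap.ker N := by
    rw [LinearMap.mem_ker, map_sub, map_smul, hc, sub_self]
  have hPx : P (x - c • b) ∈ LinearMap.ker N' := by
    have := hPH ⟨x - c • b, hx⟩
    rw [this]
    exact (eH ⟨x - c • b, hx⟩).2
  have h1 : N' (P x) = c • N' b' := by
    have : x = (x - c • b) + c • b := by abel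
    rw [this, map_add, map_add, LinearMap.mem_ker.mp hPx, zero_add, map_smul, map_smul, hPb]
  rw [hc, map_smul, hPa, h1]

/-- a dilation commuting with a rank-one square-zero endomorphism, with prescribed determinant -/
theorem exists_commuting_dilation (N : Module.End K V) (hrank : finrank K (LinearMap.range N) = 1)
    (hsq : N * N = 0) (hdim : 3 ≤ finrank K V) (c : K) :
    ∃ D : Module.End K V, LinearMap.det D = c ∧ D * N = N ∧ N * D = N := by
  have hle : LinearMap.range N ≤ LinearMap.ker N := by
    rintro _ ⟨x, rfl⟩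
    rw [LinearMap.mem_ker]
    have : (N * N) x = 0 := by rw [hsq]; rfl
    exact this
  have h1 := LinearMap.finrank_range_add_finrank_ker N
  have hlt : LinearMap.range N < LinearMap.ker N := by
    apply lt_of_le_of_ne hle
    intro heq
    have h2 : finrank K (LinearMap.ker N) = 1 := by rw [← heq]; exact hrank
    omega
  obtain ⟨v, hvker, hvrange⟩ := SetLike.exists_of_lt hlt
  obtain ⟨f, hfv, hfrange⟩ := Submodule.exists_le_ker_of_notMem hvrange
  set ψ : Module.Dual K V := ((c - 1) * (f v)⁻¹) • f with hψ
  have hψv : ψ v = c - 1 := by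
    rw [hψ, LinearMap.smul_apply, smul_eq_mul, mul_assoc, inv_mul_cancel₀ hfv, mul_one]
  have hψN : ∀ x, ψ (N x) = 0 := by
    intro x
    have : f (N x) = 0 := hfrange (LinearMap.mem_range_self N x)
    rw [hψ, LinearMap.smul_apply, this, smul_zero]
  refine ⟨LinearMap.transvection ψ v, ?_, ?_, ?_⟩
  · rw [LinearMap.transvection.det, hψv]; ring
  · ext x
    rw [Module.End.mul_apply, LinearMap.transvection.apply, hψN, zero_smul, add_zero]
  · ext x
    rw [Module.End.mul_apply, LinearMap.transvection.apply, map_add, map_smul,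
      LinearMap.mem_ker.mp hvker, smul_zero, add_zero]

/-- two rank-one square-zero endomorphisms are conjugate under `SL` in dimension at least 3 -/
theorem rankOne_conj_det_one (N N' : Module.End K V) (hrank : finrank K (LinearMap.range N) = 1)
    (hsq : N * N = 0) (hrank' : finrank K (LinearMap.range N') = 1) (hsq' : N' * N' = 0)
    (hdim : 3 ≤ finrank K V) :
    ∃ P : Module.End K V, LinearMap.det P = 1 ∧ P * N = N' * P := by
  obtain ⟨P, hP⟩ := rankOne_conj N N' hrank hsq hrank' hsq'
  have hdet : LinearMap.det (P : Module.End K V) ≠ 0 := (LinearEquiv.isUnit_det' P).ne_zero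
  obtain ⟨D, hDdet, hDN, hND⟩ := exists_commuting_dilation N hrank hsq hdim
    (LinearMap.det (P : Module.End K V))⁻¹
  refine ⟨(P : Module.End K V) * D, ?_, ?_⟩
  · rw [map_mul, hDdet, mul_inv_cancel₀ hdet]
  · have hPN : (P : Module.End K V) * N = N' * (P : Module.End K V) := by
      ext x
      exact hP x
    calc (P : Module.End K V) * D * N = (P : Module.End K V) * (D * N) := mul_assoc _ _ _
      _ = (P : Module.End K V) * N := by rw [hDN]
      _ = (P : Module.End K V) * (N * D) := by rw [hND]
      _ = ((P : Module.End K V) * N) * D := (mul_assoc _ _ _).symm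
      _ = (N' * (P : Module.End K V)) * D := by rw [hPN]
      _ = N' * ((P : Module.End K V) * D) := mul_assoc _ _ _

end

end Cfsg.Agent.Lib.Helper43
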