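import Mathlib
import Cfsg.Agent.Lib.Helper43.TransvectionConj

/-!
# The centralizer of a transvection in `GL_n(q)`

Rank-one matrices as `vecMulVec v f`; the action of `GL_n` on pairs (vector, covector);
the count of the pairs `(v, f)` with `v ≠ 0`, `f ≠ 0`, `f ⬝ v = 0`.
-/

namespace Cfsg.Agent.Lib.Helper43

open Matrix

section

variable {F : Type*} [Field F] {n : ℕ}

/-- two rank-one decompositions of the same matrix differ by a scalar -/
theorem vecMulVec_eq_vecMulVec {a f v' h : Fin n → F} (hf : f ≠ 0) (hv' : v' ≠ 0)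
    (heq : vecMulVec a f = vecMulVec v' h) : ∃ c : F, a = c • v' ∧ h = c • f := by
  obtain ⟨i, hi⟩ := Function.ne_iff.mp hf
  obtain ⟨j, hj⟩ := Function.ne_iff.mp hv'
  have hfi : f i ≠ 0 := hi
  have hvj : v' j ≠ 0 := hj
  have key : ∀ k l, a k * f l = v' k * h l := fun k l => by
    have := congrFun (congrFun heq k) l
    simpa [vecMulVec_apply] using this
  refine ⟨h i / f i, ?_, ?_⟩
  · ext k
    have := key k i
    simp only [Pi.smul_apply, smul_eq_mul]
    field_simp
    linear_combination this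
  · ext l
    have h1 := key j i
    have h2 := key j l
    simp only [Pi.smul_apply, smul_eq_mul]
    field_simp
    apply mul_left_cancel₀ hvj
    linear_combination (-(f i)) * h2 + (f l) * h1

/-- a rank-one square-zero matrix is `vecMulVec v f` with `f ⬝ v = 0` -/
theorem exists_vecMulVec_of_rankOne (N : Matrix (Fin n) (Fin n) F) (hrank : N.rank = 1)
    (hsq : N * N = 0) :
    ∃ v f : Fin n → F, v ≠ 0 ∧ f ≠ 0 ∧ f ⬝ᵥ v = 0 ∧ N = vecMulVec v f := by
  classical
  let L := Matrix.toLinAlgEquiv' (R := F) (n := Fin n)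
  obtain ⟨b, hb, hNNb, hspan, -⟩ := rankOne_structure (L N) hrank
    (by rw [← map_mul, hsq, map_zero])
  have hL : ∀ x, L N x = N *ᵥ x := fun x => rfl
  rw [hL] at hb
  choose c hc using hspan
  let v : Fin n → F := N *ᵥ b
  let f : Fin n → F := fun i => c (Pi.single i 1)
  have hN : N = vecMulVec v f := by
    ext j i
    have := congrFun (hc (Pi.single i 1)) j
    rw [hL, hL] at this
    rw [Matrix.mulVec_single_one] at this
    simp only [vecMulVec_apply, v, f]
    rw [mul_comm]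
    simpa using this
  have hv : v ≠ 0 := hb
  have hf : f ≠ 0 := by
    intro hf0
    rw [hf0, Matrix.vecMulVec_zero] at hN
    rw [hN] at hb
    simp at hb
  refine ⟨v, f, hv, hf, ?_, hN⟩
  have h1 : N *ᵥ v = 0 := by
    have := hNNb
    rw [hL, hL] at this
    exact this
  rw [hN, vecMulVec_mulVec] at h1
  rw [op_smul_eq_smul] at h1
  rcases smul_eq_zero.mp h1 with h2 | h2
  · exact h2
  · exact absurd h2 hv

/-- the range of `vecMulVec v f` is the line spanned by `v` -/
theorem finrank_range_vecMulVec {v f : Fin n → F} (hv : v ≠ 0) (hf : f ≠ 0) :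
    Module.finrank F (LinearMap.range
      (Matrix.toLinAlgEquiv' (R := F) (n := Fin n) (vecMulVec v f))) = 1 := by
  classical
  have hL : ∀ x, Matrix.toLinAlgEquiv' (R := F) (n := Fin n) (vecMulVec v f) x =
      (f ⬝ᵥ x) • v := by
    intro x
    show vecMulVec v f *ᵥ x = _
    rw [vecMulVec_mulVec, op_smul_eq_smul]
  have : LinearMap.range (Matrix.toLinAlgEquiv' (R := F) (n := Fin n) (vecMulVec v f)) =
      Submodule.span F {v} := by
    apply le_antisymm
    · rintro _ ⟨x, rfl⟩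
      rw [hL]
      exact Submodule.smul_mem _ _ (Submodule.mem_span_singleton_self v)
    · rw [Submodule.span_singleton_le_iff_mem]
      obtain ⟨i, hi⟩ := Function.ne_iff.mp hf
      have hfi : f i ≠ 0 := hi
      refine ⟨Pi.single i (f i)⁻¹, ?_⟩
      rw [hL, dotProduct_single, mul_inv_cancel₀ hfi, one_smul]
  rw [this, finrank_span_singleton hv]

/-- `GL_n` is transitive on the pairs `(v, f)` with `v ≠ 0`, `f ≠ 0`, `f ⬝ v = 0` -/
theorem exists_GL_map_pair {v f v' f' : Fin n → F} (hv : v ≠ 0) (hf : f ≠ 0) (hfv : f ⬝ᵥ v = 0)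
    (hv' : v' ≠ 0) (hf' : f' ≠ 0) (hfv' : f' ⬝ᵥ v' = 0) :
    ∃ g : GL (Fin n) F, (g : Matrix (Fin n) (Fin n) F) *ᵥ v = v' ∧
      f' ᵥ* (g : Matrix (Fin n) (Fin n) F) = f := by
  classical
  let L := Matrix.toLinAlgEquiv' (R := F) (n := Fin n)
  have hsq : ∀ {a b : Fin n → F}, b ⬝ᵥ a = 0 → L (vecMulVec a b) * L (vecMulVec a b) = 0 := by
    intro a b hab
    rw [← map_mul, vecMulVec_mul_vecMulVec, hab, zero_smul, vecMulVec_zero, map_zero]
  obtain ⟨P, hP⟩ := rankOne_conj (L (vecMulVec v f)) (L (vecMulVec v' f'))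
    (finrank_range_vecMulVec hv hf) (hsq hfv) (finrank_range_vecMulVec hv' hf') (hsq hfv')
  set M : Matrix (Fin n) (Fin n) F := L.symm P with hM
  have hLM : L M = P := L.apply_symm_apply P
  have hdet : M.det ≠ 0 := by
    have h1 : LinearMap.det (L M) = M.det := by
      show LinearMap.det (Matrix.toLin' M) = M.det
      rw [LinearMap.det_toLin']
    rw [← h1, hLM]
    exact (LinearEquiv.isUnit_det' P).ne_zero
  have hcomm : M * vecMulVec v f = vecMulVec v' f' * M := by
    apply L.injective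
    rw [map_mul, map_mul, hLM]
    apply LinearMap.ext
    intro x
    exact hP x
  rw [mul_vecMulVec, vecMulVec_mul] at hcomm
  obtain ⟨c, hc1, hc2⟩ := vecMulVec_eq_vecMulVec hf hv' hcomm
  have hMv : M *ᵥ v ≠ 0 := by
    intro h0
    have h1 : (L M) v = 0 := h0
    rw [hLM] at h1
    have h2 : P v = 0 := h1
    exact hv (by simpa using h2)
  have hc : c ≠ 0 := by
    rintro rfl
    rw [zero_smul] at hc1
    exact hMv hc1
  let G0 : GL (Fin n) F := Matrix.GeneralLinearGroup.mkOfDetNeZero M hdet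
  refine ⟨Matrix.GeneralLinearGroup.scalar (Fin n) (Units.mk0 c⁻¹ (inv_ne_zero hc)) * G0, ?_, ?_⟩
  · have : ((Matrix.GeneralLinearGroup.scalar (Fin n) (Units.mk0 c⁻¹ (inv_ne_zero hc)) * G0 :
        GL (Fin n) F) : Matrix (Fin n) (Fin n) F) = c⁻¹ • M := by
      rw [Units.val_mul, Matrix.GeneralLinearGroup.coe_scalar]
      simp [G0, Matrix.GeneralLinearGroup.mkOfDetNeZero, Matrix.smul_eq_diagonal_mul]
    rw [this, Matrix.smul_mulVec, hc1, smul_smul, inv_mul_cancel₀ hc, one_smul]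
  · have : ((Matrix.GeneralLinearGroup.scalar (Fin n) (Units.mk0 c⁻¹ (inv_ne_zero hc)) * G0 :
        GL (Fin n) F) : Matrix (Fin n) (Fin n) F) = c⁻¹ • M := by
      rw [Units.val_mul, Matrix.GeneralLinearGroup.coe_scalar]
      simp [G0, Matrix.GeneralLinearGroup.mkOfDetNeZero, Matrix.smul_eq_diagonal_mul]
    rw [this, Matrix.vecMul_smul, hc2, smul_smul, inv_mul_cancel₀ hc, one_smul]

/-- pairs (vector, covector), acted on by `GL_n` -/
@[ext] structure VecPair (n : ℕ) (F : Type*) where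
  /-- the vector -/
  vec : Fin n → F
  /-- the covector -/
  cov : Fin n → F

/-- `VecPair` as a product -/
def VecPair.equivProd (n : ℕ) (F : Type*) : VecPair n F ≃ (Fin n → F) × (Fin n → F) where
  toFun p := (p.vec, p.cov)
  invFun p := ⟨p.1, p.2⟩
  left_inv _ := rfl
  right_inv _ := rfl

instance [Finite F] : Finite (VecPair n F) := Finite.of_equiv _ (VecPair.equivProd n F).symm

noncomputable instance : MulAction (GL (Fin n) F) (VecPair n F) where
  smul g p := ⟨(g : Matrix (Fin n) (Fin n) F) *ᵥ p.vec,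
    p.cov ᵥ* ((g⁻¹ : GL (Fin n) F) : Matrix (Fin n) (Fin n) F)⟩
  one_smul p := by
    show (⟨((1 : GL (Fin n) F) : Matrix (Fin n) (Fin n) F) *ᵥ p.vec,
      p.cov ᵥ* (((1 : GL (Fin n) F)⁻¹ : GL (Fin n) F) : Matrix (Fin n) (Fin n) F)⟩ : VecPair n F) = p
    simp
  mul_smul g h p := by
    show (⟨((g * h : GL (Fin n) F) : Matrix (Fin n) (Fin n) F) *ᵥ p.vec,
      p.cov ᵥ* (((g * h)⁻¹ : GL (Fin n) F) : Matrix (Fin n) (Fin n) F)⟩ : VecPair n F) =
      ⟨(g : Matrix (Fin n) (Fin n) F) *ᵥ ((h : Matrix (Fin n) (Fin n) F) *ᵥ p.vec),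
        (p.cov ᵥ* ((h⁻¹ : GL (Fin n) F) : Matrix (Fin n) (Fin n) F)) ᵥ*
          ((g⁻¹ : GL (Fin n) F) : Matrix (Fin n) (Fin n) F)⟩
    rw [_root_.mul_inv_rev, Units.val_mul, Units.val_mul, Matrix.mulVec_mulVec, Matrix.vecMul_vecMul]

theorem VecPair.smul_vec (g : GL (Fin n) F) (p : VecPair n F) :
    (g • p).vec = (g : Matrix (Fin n) (Fin n) F) *ᵥ p.vec := rfl

theorem VecPair.smul_cov (g : GL (Fin n) F) (p : VecPair n F) :
    (g • p).cov = p.cov ᵥ* ((g⁻¹ : GL (Fin n) F) : Matrix (Fin n) (Fin n) F) := rfl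

theorem GL_inv_mulVec_mulVec (g : GL (Fin n) F) (x : Fin n → F) :
    ((g⁻¹ : GL (Fin n) F) : Matrix (Fin n) (Fin n) F) *ᵥ
      ((g : Matrix (Fin n) (Fin n) F) *ᵥ x) = x := by
  rw [Matrix.mulVec_mulVec, ← Units.val_mul, inv_mul_cancel, Units.val_one, Matrix.one_mulVec]

theorem GL_vecMul_vecMul_inv (g : GL (Fin n) F) (x : Fin n → F) :
    (x ᵥ* (g : Matrix (Fin n) (Fin n) F)) ᵥ*
      ((g⁻¹ : GL (Fin n) F) : Matrix (Fin n) (Fin n) F) = x := by
  rw [Matrix.vecMul_vecMul, ← Units.val_mul, mul_inv_cancel, Units.val_one, Matrix.vecMul_one]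

theorem GL_vecMul_inv_vecMul (g : GL (Fin n) F) (x : Fin n → F) :
    (x ᵥ* ((g⁻¹ : GL (Fin n) F) : Matrix (Fin n) (Fin n) F)) ᵥ*
      (g : Matrix (Fin n) (Fin n) F) = x := by
  rw [Matrix.vecMul_vecMul, ← Units.val_mul, inv_mul_cancel, Units.val_one, Matrix.vecMul_one]

/-- the set of pairs `(v, f)` with `v ≠ 0`, `f ≠ 0`, `f ⬝ v = 0` -/
def pairSet (n : ℕ) (F : Type*) [Field F] : Set (VecPair n F) :=
  {p | p.vec ≠ 0 ∧ p.cov ≠ 0 ∧ p.cov ⬝ᵥ p.vec = 0}

/-- the orbit of a pair in `pairSet` is the whole of `pairSet` -/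
theorem orbit_eq_pairSet {p : VecPair n F} (hp : p ∈ pairSet n F) :
    MulAction.orbit (GL (Fin n) F) p = pairSet n F := by
  obtain ⟨hv, hf, hfv⟩ := hp
  ext p'
  constructor
  · rintro ⟨g, rfl⟩
    refine ⟨?_, ?_, ?_⟩
    · show (g • p).vec ≠ 0
      rw [VecPair.smul_vec]
      intro h0
      apply hv
      rw [← GL_inv_mulVec_mulVec g p.vec, h0, Matrix.mulVec_zero]
    · show (g • p).cov ≠ 0
      rw [VecPair.smul_cov]
      intro h0
      apply hf
      rw [← GL_vecMul_inv_vecMul g p.cov, h0, Matrix.zero_vecMul]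
    · show (g • p).cov ⬝ᵥ (g • p).vec = 0
      rw [VecPair.smul_cov, VecPair.smul_vec, ← Matrix.dotProduct_mulVec,
        GL_inv_mulVec_mulVec, hfv]
  · rintro ⟨hv', hf', hfv'⟩
    obtain ⟨g, hg1, hg2⟩ := exists_GL_map_pair hv hf hfv hv' hf' hfv'
    refine ⟨g, ?_⟩
    apply VecPair.ext
    · show (g • p).vec = p'.vec
      rw [VecPair.smul_vec, hg1]
    · show (g • p).cov = p'.cov
      rw [VecPair.smul_cov, ← hg2, GL_vecMul_vecMul_inv]

end

section count

theorem natCard_subtype_ne {α : Type*} [Finite α] (a : α) :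
    Nat.card {x : α // x ≠ a} = Nat.card α - 1 := by
  classical
  have := Fintype.ofFinite α
  have h : Nat.card ({x : α | x ≠ a} : Set α) = Nat.card α - 1 := by
    rw [Nat.card_eq_fintype_card, Nat.card_eq_fintype_card]
    exact Set.card_ne_eq a
  exact h

variable {F : Type*} [Field F] {n : ℕ}

/-- the functional `f ↦ f ⬝ v` -/
def dotL (v : Fin n → F) : (Fin n → F) →ₗ[F] F where
  toFun f := f ⬝ᵥ v
  map_add' a b := add_dotProduct a b v
  map_smul' c a := by simp [smul_dotProduct]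

theorem dotL_apply (v f : Fin n → F) : dotL v f = f ⬝ᵥ v := rfl

variable [Fintype F]

theorem card_cov {v : Fin n → F} (hv : v ≠ 0) :
    Nat.card {f : Fin n → F // f ≠ 0 ∧ f ⬝ᵥ v = 0} = Fintype.card F ^ (n - 1) - 1 := by
  classical
  obtain ⟨i, hi⟩ := Function.ne_iff.mp hv
  have hvi : v i ≠ 0 := hi
  have hsurj : Function.Surjective (dotL v) := by
    intro c
    refine ⟨Pi.single i (c / v i), ?_⟩
    rw [dotL_apply, single_dotProduct, div_mul_cancel₀ c hvi]
  have hrange : LinearMap.range (dotL v) = ⊤ := LinearMap.range_eq_top.mpr hsurj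
  have h1 := LinearMap.finrank_range_add_finrank_ker (dotL v)
  rw [hrange, finrank_top, Module.finrank_self, Module.finrank_fin_fun] at h1
  have hker : Module.finrank F (LinearMap.ker (dotL v)) = n - 1 := by omega
  have hcard : Nat.card (LinearMap.ker (dotL v)) = Fintype.card F ^ (n - 1) := by
    rw [Module.natCard_eq_pow_finrank (K := F), hker, Nat.card_eq_fintype_card]
  let e : {f : Fin n → F // f ≠ 0 ∧ f ⬝ᵥ v = 0} ≃
      {x : LinearMap.ker (dotL v) // x ≠ 0} :=
    { toFun := fun f => ⟨⟨f.1, f.2.2⟩, fun h => f.2.1 (congrArg Subtype.val h)⟩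
      invFun := fun x => ⟨x.1.1, fun h => x.2 (Subtype.ext h), x.1.2⟩
      left_inv := fun _ => rfl
      right_inv := fun _ => rfl }
  rw [Nat.card_congr e, natCard_subtype_ne, hcard]

theorem card_pairSet :
    Nat.card (pairSet n F) = (Fintype.card F ^ n - 1) * (Fintype.card F ^ (n - 1) - 1) := by
  classical
  let e : pairSet n F ≃ Σ v : {v : Fin n → F // v ≠ 0},
      {f : Fin n → F // f ≠ 0 ∧ f ⬝ᵥ v.1 = 0} :=
    { toFun := fun p => ⟨⟨p.1.vec, p.2.1⟩, ⟨p.1.cov, p.2.2⟩⟩
      invFun := fun s => ⟨⟨s.1.1, s.2.1⟩, s.1.2, s.2.2⟩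
      left_inv := fun _ => rfl
      right_inv := fun _ => rfl }
  rw [Nat.card_congr e, Nat.card_sigma]
  have : ∀ v : {v : Fin n → F // v ≠ 0},
      Nat.card {f : Fin n → F // f ≠ 0 ∧ f ⬝ᵥ v.1 = 0} = Fintype.card F ^ (n - 1) - 1 :=
    fun v => card_cov v.2
  simp_rw [this]
  rw [Finset.sum_const, Finset.card_univ, smul_eq_mul, ← Nat.card_eq_fintype_card,
    natCard_subtype_ne, Nat.card_eq_fintype_card, Fintype.card_fun, Fintype.card_fin]

/-- orbit-stabilizer for a pair in `pairSet` -/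
theorem card_stabilizer_mul {p : VecPair n F} (hp : p ∈ pairSet n F) :
    Nat.card (MulAction.stabilizer (GL (Fin n) F) p) *
      ((Fintype.card F ^ n - 1) * (Fintype.card F ^ (n - 1) - 1)) =
      Nat.card (GL (Fin n) F) := by
  rw [← card_pairSet, ← orbit_eq_pairSet hp, Nat.card_coe_set_eq, ← MulAction.index_stabilizer,
    Subgroup.card_mul_index]

omit [Fintype F] in
theorem GL_scalar_mul_val (u : Fˣ) (g : GL (Fin n) F) :
    ((Matrix.GeneralLinearGroup.scalar (Fin n) u * g : GL (Fin n) F) :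
      Matrix (Fin n) (Fin n) F) = (u : F) • (g : Matrix (Fin n) (Fin n) F) := by
  rw [Units.val_mul, Matrix.GeneralLinearGroup.coe_scalar]
  simp [Matrix.smul_eq_diagonal_mul]

omit [Fintype F] in
theorem mem_stabilizer_vecPair_iff (g : GL (Fin n) F) (p : VecPair n F) :
    g ∈ MulAction.stabilizer (GL (Fin n) F) p ↔
      (g : Matrix (Fin n) (Fin n) F) *ᵥ p.vec = p.vec ∧
        p.cov ᵥ* (g : Matrix (Fin n) (Fin n) F) = p.cov := by
  rw [MulAction.mem_stabilizer_iff, VecPair.ext_iff, VecPair.smul_vec, VecPair.smul_cov]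
  constructor
  · rintro ⟨h1, h2⟩
    refine ⟨h1, ?_⟩
    conv_lhs => rw [← h2]
    exact GL_vecMul_inv_vecMul g p.cov
  · rintro ⟨h1, h2⟩
    refine ⟨h1, ?_⟩
    conv_lhs => rw [← h2]
    exact GL_vecMul_vecMul_inv g p.cov

/-- the centralizer of the transvection `1 + v fᵀ` is `F^× ×` the stabilizer of `(v, f)` -/
theorem card_centralizer_eq_mul (t : GL (Fin n) F) {p : VecPair n F} (hp : p ∈ pairSet n F)
    (ht : (t : Matrix (Fin n) (Fin n) F) = 1 + vecMulVec p.vec p.cov) :
    Nat.card (Subgroup.centralizer ({t} : Set (GL (Fin n) F))) =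
      (Fintype.card F - 1) * Nat.card (MulAction.stabilizer (GL (Fin n) F) p) := by
  classical
  obtain ⟨hv, hf, hfv⟩ := hp
  have hcomm_iff : ∀ g : GL (Fin n) F, g ∈ Subgroup.centralizer ({t} : Set (GL (Fin n) F)) ↔
      (g : Matrix (Fin n) (Fin n) F) * vecMulVec p.vec p.cov =
        vecMulVec p.vec p.cov * (g : Matrix (Fin n) (Fin n) F) := by
    intro g
    rw [Subgroup.mem_centralizer_singleton_iff, Units.ext_iff, Units.val_mul, Units.val_mul, ht,
      mul_add, add_mul, mul_one, one_mul, add_right_inj]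
  have hmem : ∀ (u : Fˣ) (s : GL (Fin n) F), s ∈ MulAction.stabilizer (GL (Fin n) F) p →
      Matrix.GeneralLinearGroup.scalar (Fin n) u * s ∈
        Subgroup.centralizer ({t} : Set (GL (Fin n) F)) := by
    intro u s hs
    rw [mem_stabilizer_vecPair_iff] at hs
    rw [hcomm_iff, GL_scalar_mul_val, Matrix.smul_mul, Matrix.mul_smul, mul_vecMulVec,
      vecMulVec_mul, hs.1, hs.2]
  let ψ : Fˣ × MulAction.stabilizer (GL (Fin n) F) p →
      Subgroup.centralizer ({t} : Set (GL (Fin n) F)) :=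
    fun x => ⟨Matrix.GeneralLinearGroup.scalar (Fin n) x.1 * x.2.1, hmem x.1 x.2.1 x.2.2⟩
  have hψ : Function.Bijective ψ := by
    constructor
    · rintro ⟨u, s, hs⟩ ⟨u', s', hs'⟩ h
      have h1 : Matrix.GeneralLinearGroup.scalar (Fin n) u * s =
          Matrix.GeneralLinearGroup.scalar (Fin n) u' * s' := congrArg Subtype.val h
      rw [mem_stabilizer_vecPair_iff] at hs hs'
      have h2 := congrArg (fun g : GL (Fin n) F => (g : Matrix (Fin n) (Fin n) F) *ᵥ p.vec) h1
      simp only [GL_scalar_mul_val, Matrix.smul_mulVec, hs.1, hs'.1] at h2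
      have h3 : ((u : F) - (u' : F)) • p.vec = 0 := by rw [sub_smul, h2, sub_self]
      have h4 : (u : F) = (u' : F) := by
        rcases smul_eq_zero.mp h3 with h5 | h5
        · exact sub_eq_zero.mp h5
        · exact absurd h5 hv
      have h5 : u = u' := Units.ext h4
      subst h5
      have h6 : s = s' := mul_left_cancel h1
      subst h6
      rfl
    · rintro ⟨g, hg⟩
      have hg' := (hcomm_iff g).mp hg
      rw [mul_vecMulVec, vecMulVec_mul] at hg'
      obtain ⟨c, hc1, hc2⟩ := vecMulVec_eq_vecMulVec hf hv hg'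
      have hc : c ≠ 0 := by
        rintro rfl
        rw [zero_smul] at hc1
        apply hv
        rw [← GL_inv_mulVec_mulVec g p.vec, hc1, Matrix.mulVec_zero]
      let u : Fˣ := Units.mk0 c hc
      have hs : Matrix.GeneralLinearGroup.scalar (Fin n) u⁻¹ * g ∈
          MulAction.stabilizer (GL (Fin n) F) p := by
        rw [mem_stabilizer_vecPair_iff, GL_scalar_mul_val, Matrix.smul_mulVec, Matrix.vecMul_smul,
          hc1, hc2, smul_smul, smul_smul]
        simp [u, hc]
      refine ⟨(u, ⟨_, hs⟩), ?_⟩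
      apply Subtype.ext
      show Matrix.GeneralLinearGroup.scalar (Fin n) u *
        (Matrix.GeneralLinearGroup.scalar (Fin n) u⁻¹ * g) = g
      rw [← mul_assoc, ← map_mul, mul_inv_cancel, map_one, one_mul]
  rw [Nat.card_congr (Equiv.ofBijective ψ hψ).symm, Nat.card_prod, Nat.card_units,
    Nat.card_eq_fintype_card]

end count

end Cfsg.Agent.Lib.Helper43
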