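import Mathlib
import Cfsg.Agent.Lib.Helper5.Symplectic
import Cfsg.Agent.Lib.Helper5.SymplecticOrder
import Cfsg.Agent.Lib.Helper43.TransvectionCentralizer

/-!
# Symplectic transvections and their centralizers (characteristic two)

An element `t` of `Sp_2m(F)` with `rank (t - 1) = 1` is a symplectic transvection
`x ↦ x + a ω(x, w) w`; in characteristic two its centralizer in `Sp_2m(F)` is the stabilizer of `w`.
-/

namespace Cfsg.Agent.Lib.Helper43

open Matrix Cfsg.Agent.Lib.Helper5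

section general

variable {F : Type*} [Field F] {ι : Type*} [Fintype ι] [DecidableEq ι]

/-- a rank-one matrix is `vecMulVec w h` -/
theorem exists_vecMulVec_of_rank_eq_one (N : Matrix ι ι F) (hrank : N.rank = 1) :
    ∃ w h : ι → F, w ≠ 0 ∧ h ≠ 0 ∧ N = vecMulVec w h := by
  classical
  have hrank' : Module.finrank F (LinearMap.range N.mulVecLin) = 1 := hrank
  have hne : ∃ b, N *ᵥ b ≠ 0 := by
    by_contra hcon
    push Not at hcon
    have : LinearMap.range N.mulVecLin = ⊥ := by
      rw [eq_bot_iff]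
      rintro _ ⟨x, rfl⟩
      rw [Matrix.mulVecLin_apply, hcon x]; exact Submodule.zero_mem _
    rw [this, finrank_bot] at hrank'
    omega
  obtain ⟨b, hb⟩ := hne
  have hspan : ∀ x, ∃ c : F, N *ᵥ x = c • N *ᵥ b := by
    intro x
    have hb' : (⟨N *ᵥ b, ⟨b, rfl⟩⟩ : LinearMap.range N.mulVecLin) ≠ 0 := by
      intro h0
      exact hb (congrArg Subtype.val h0)
    have := (finrank_eq_one_iff_of_nonzero' _ hb').mp hrank' ⟨N *ᵥ x, ⟨x, rfl⟩⟩
    obtain ⟨c, hc⟩ := this
    exact ⟨c, (congrArg Subtype.val hc).symm⟩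
  choose c hc using hspan
  have hN : N = vecMulVec (N *ᵥ b) (fun i => c (Pi.single i 1)) := by
    ext j i
    have := congrFun (hc (Pi.single i 1)) j
    rw [Matrix.mulVec_single_one] at this
    simp only [vecMulVec_apply]
    rw [mul_comm]
    simpa using this
  refine ⟨N *ᵥ b, fun i => c (Pi.single i 1), hb, ?_, hN⟩
  intro hf0
  rw [hf0, Matrix.vecMulVec_zero] at hN
  rw [hN] at hb
  simp at hb

end general

section symplectic

variable {F : Type*} [Field F] {l : Type*} [Fintype l] [DecidableEq l]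

/-- an element of `Sp` with `rank (t - 1) = 1` is a symplectic transvection -/
theorem exists_sympTransvecMat_of_rank_eq_one (t : symplecticGroup l F)
    (ht : ((t : Matrix (l ⊕ l) (l ⊕ l) F) - 1).rank = 1) :
    ∃ (w : l ⊕ l → F) (a : F), w ≠ 0 ∧ a ≠ 0 ∧
      (t : Matrix (l ⊕ l) (l ⊕ l) F) = sympTransvecMat w a := by
  classical
  obtain ⟨w, h, hw, hh, hN⟩ := exists_vecMulVec_of_rank_eq_one _ ht
  have ht1 : (t : Matrix (l ⊕ l) (l ⊕ l) F) = 1 + vecMulVec w h := by
    rw [← hN]; abel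
  have htx : ∀ x, (t : Matrix (l ⊕ l) (l ⊕ l) F) *ᵥ x = x + (h ⬝ᵥ x) • w := by
    intro x
    rw [ht1, add_mulVec, one_mulVec, vecMulVec_mulVec, op_smul_eq_smul]
  have hform := mem_symplecticGroup_iff_form.mp t.2
  -- the key identity
  have key : ∀ x y, (h ⬝ᵥ y) * sympForm l F x w = (h ⬝ᵥ x) * sympForm l F y w := by
    intro x y
    have h1 := hform x y
    rw [htx, htx] at h1
    simp only [sympForm_add_left, sympForm_add_right, sympForm_smul_left, sympForm_smul_right,
      sympForm_self, mul_zero, add_zero] at h1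
    rw [sympForm_swap (R := F) y w] at h1
    linear_combination h1
  obtain ⟨u, hu⟩ := exists_sympForm_ne_zero hw
  have hu' : sympForm l F u w ≠ 0 := by
    rw [sympForm_swap (R := F) w u]; exact neg_ne_zero.mpr hu
  set a : F := (h ⬝ᵥ u) / sympForm l F u w with ha
  have hhy : ∀ y, h ⬝ᵥ y = a * sympForm l F y w := by
    intro y
    have := key u y
    rw [ha]
    field_simp
    linear_combination this
  have hh' : h = a • (J l F *ᵥ w) := by
    ext i
    have := hhy (Pi.single i 1)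
    rw [dotProduct_single, mul_one] at this
    rw [this, sympForm_def, single_dotProduct, one_mul]
    rfl
  have ha0 : a ≠ 0 := by
    intro h0
    apply hh
    rw [hh', h0, zero_smul]
  refine ⟨w, a, hw, ha0, ?_⟩
  rw [ht1, hh', sympTransvecMat, vecMulVec_smul]

/-- in characteristic two, an element of `Sp` commutes with the transvection along `w` iff it
fixes `w` -/
theorem commute_sympTransvecMat_iff [CharP F 2] (g t : symplecticGroup l F) {w : l ⊕ l → F} {a : F}
    (hw : w ≠ 0) (ha : a ≠ 0) (ht : (t : Matrix (l ⊕ l) (l ⊕ l) F) = sympTransvecMat w a) :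
    g * t = t * g ↔ (g : Matrix (l ⊕ l) (l ⊕ l) F) *ᵥ w = w := by
  classical
  have htx : ∀ x, (t : Matrix (l ⊕ l) (l ⊕ l) F) *ᵥ x = x + (a * sympForm l F x w) • w := by
    intro x; rw [ht, sympTransvecMat_mulVec]
  have hgform := mem_symplecticGroup_iff_form.mp g.2
  have hiff : g * t = t * g ↔ ∀ x, (g : Matrix (l ⊕ l) (l ⊕ l) F) *ᵥ
      ((t : Matrix (l ⊕ l) (l ⊕ l) F) *ᵥ x) = (t : Matrix (l ⊕ l) (l ⊕ l) F) *ᵥ
        ((g : Matrix (l ⊕ l) (l ⊕ l) F) *ᵥ x) := by
    rw [Subtype.ext_iff]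
    show (g : Matrix (l ⊕ l) (l ⊕ l) F) * (t : Matrix (l ⊕ l) (l ⊕ l) F) =
      (t : Matrix (l ⊕ l) (l ⊕ l) F) * (g : Matrix (l ⊕ l) (l ⊕ l) F) ↔ _
    constructor
    · intro h x
      rw [mulVec_mulVec, mulVec_mulVec, h]
    · intro h
      apply Matrix.toLin'.injective
      apply LinearMap.ext
      intro x
      rw [Matrix.toLin'_apply, Matrix.toLin'_apply, ← mulVec_mulVec, ← mulVec_mulVec, h]
  rw [hiff]
  constructor
  · intro h
    obtain ⟨u, hu⟩ := exists_sympForm_ne_zero hw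
    have hu' : sympForm l F u w ≠ 0 := by
      rw [sympForm_swap (R := F) w u]; exact neg_ne_zero.mpr hu
    have h1 : ∀ x, (sympForm l F x w) • ((g : Matrix (l ⊕ l) (l ⊕ l) F) *ᵥ w) =
        (sympForm l F ((g : Matrix (l ⊕ l) (l ⊕ l) F) *ᵥ x) w) • w := by
      intro x
      have h2 := h x
      rw [htx, htx, mulVec_add, mulVec_smul, add_right_inj, mul_smul, mul_smul] at h2
      exact smul_right_injective _ ha h2
    set c : F := sympForm l F ((g : Matrix (l ⊕ l) (l ⊕ l) F) *ᵥ u) w / sympForm l F u w with hc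
    have hgw : (g : Matrix (l ⊕ l) (l ⊕ l) F) *ᵥ w = c • w := by
      have h3 := h1 u
      rw [hc, div_eq_inv_mul, mul_smul, ← h3, smul_smul, inv_mul_cancel₀ hu', one_smul]
    have hgw0 : (g : Matrix (l ⊕ l) (l ⊕ l) F) *ᵥ w ≠ 0 := by
      intro h0
      apply hw
      have h4 : ((g⁻¹ : symplecticGroup l F) : Matrix (l ⊕ l) (l ⊕ l) F) *ᵥ
          ((g : Matrix (l ⊕ l) (l ⊕ l) F) *ᵥ w) = w := by
        rw [mulVec_mulVec, ← Submonoid.coe_mul, inv_mul_cancel, Submonoid.coe_one, one_mulVec]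
      rw [← h4, h0, mulVec_zero]
    have hc0 : c ≠ 0 := by
      intro h0
      rw [h0, zero_smul] at hgw
      exact hgw0 hgw
    -- `ω(g u, w) = c⁻¹ ω(u, w)`
    have h5 : sympForm l F ((g : Matrix (l ⊕ l) (l ⊕ l) F) *ᵥ u) w = c⁻¹ * sympForm l F u w := by
      have h6 : w = c⁻¹ • ((g : Matrix (l ⊕ l) (l ⊕ l) F) *ᵥ w) := by
        rw [hgw, smul_smul, inv_mul_cancel₀ hc0, one_smul]
      conv_lhs => rw [h6]
      rw [sympForm_smul_right, hgform]
    have h7 : c * c = 1 := by
      have h8 : c = c⁻¹ := by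
        conv_lhs => rw [hc]
        rw [h5, mul_div_assoc, div_self hu', mul_one]
      calc c * c = c * c⁻¹ := by rw [← h8]
        _ = 1 := mul_inv_cancel₀ hc0
    have h9 : c = 1 := by
      have h10 : (c - 1) * (c - 1) = 0 := by
        have h2 : (2 : F) = 0 := CharTwo.two_eq_zero
        linear_combination h7 - c * h2 + h2
      have := mul_self_eq_zero.mp h10
      exact sub_eq_zero.mp this
    rw [hgw, h9, one_smul]
  · intro hgw x
    rw [htx, htx, mulVec_add, mulVec_smul, hgw]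
    congr 3
    conv_rhs => rw [← hgw]
    rw [hgform]

/-- vectors, acted on by the symplectic group -/
@[ext] structure SpVec (l : Type*) (F : Type*) where
  /-- the underlying vector -/
  vec : l ⊕ l → F

/-- `SpVec` as the type of vectors -/
def SpVec.equivFun (l : Type*) (F : Type*) : SpVec l F ≃ (l ⊕ l → F) where
  toFun p := p.vec
  invFun v := ⟨v⟩
  left_inv _ := rfl
  right_inv _ := rfl

instance [Finite F] : Finite (SpVec l F) := Finite.of_equiv _ (SpVec.equivFun l F).symm

instance : MulAction (symplecticGroup l F) (SpVec l F) where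
  smul g p := ⟨(g : Matrix (l ⊕ l) (l ⊕ l) F) *ᵥ p.vec⟩
  one_smul p := by
    show (⟨((1 : symplecticGroup l F) : Matrix (l ⊕ l) (l ⊕ l) F) *ᵥ p.vec⟩ : SpVec l F) = p
    rw [Submonoid.coe_one, one_mulVec]
  mul_smul g h p := by
    show (⟨((g * h : symplecticGroup l F) : Matrix (l ⊕ l) (l ⊕ l) F) *ᵥ p.vec⟩ : SpVec l F) =
      ⟨(g : Matrix (l ⊕ l) (l ⊕ l) F) *ᵥ ((h : Matrix (l ⊕ l) (l ⊕ l) F) *ᵥ p.vec)⟩
    rw [Submonoid.coe_mul, mulVec_mulVec]

theorem SpVec.smul_vec (g : symplecticGroup l F) (p : SpVec l F) :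
    (g • p).vec = (g : Matrix (l ⊕ l) (l ⊕ l) F) *ᵥ p.vec := rfl

theorem orbit_spVec {w : l ⊕ l → F} (hw : w ≠ 0) :
    MulAction.orbit (symplecticGroup l F) (⟨w⟩ : SpVec l F) = {p | p.vec ≠ 0} := by
  ext p
  constructor
  · rintro ⟨g, rfl⟩
    show (g • (⟨w⟩ : SpVec l F)).vec ≠ 0
    rw [SpVec.smul_vec]
    intro h0
    apply hw
    have h4 : ((g⁻¹ : symplecticGroup l F) : Matrix (l ⊕ l) (l ⊕ l) F) *ᵥ
        ((g : Matrix (l ⊕ l) (l ⊕ l) F) *ᵥ w) = w := by
      rw [mulVec_mulVec, ← Submonoid.coe_mul, inv_mul_cancel, Submonoid.coe_one, one_mulVec]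
    rw [← h4, h0, mulVec_zero]
  · intro hp
    obtain ⟨g, hg⟩ := symplecticGroup_transitive hw hp
    refine ⟨g, ?_⟩
    apply SpVec.ext
    show (g • (⟨w⟩ : SpVec l F)).vec = p.vec
    rw [SpVec.smul_vec, hg]

theorem card_spVec_ne_zero [Fintype F] :
    Nat.card {p : SpVec l F // p.vec ≠ 0} = Fintype.card F ^ (2 * Fintype.card l) - 1 := by
  classical
  let e : {p : SpVec l F // p.vec ≠ 0} ≃ {v : l ⊕ l → F // v ≠ 0} :=
    { toFun := fun p => ⟨p.1.vec, p.2⟩
      invFun := fun v => ⟨⟨v.1⟩, v.2⟩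
      left_inv := fun _ => rfl
      right_inv := fun _ => rfl }
  rw [Nat.card_congr e, natCard_subtype_ne, Nat.card_eq_fintype_card, Fintype.card_fun,
    Fintype.card_sum, two_mul]

theorem card_stabilizer_spVec_mul [Fintype F] {w : l ⊕ l → F} (hw : w ≠ 0) :
    Nat.card (MulAction.stabilizer (symplecticGroup l F) (⟨w⟩ : SpVec l F)) *
      (Fintype.card F ^ (2 * Fintype.card l) - 1) = Nat.card (symplecticGroup l F) := by
  have h1 : Nat.card ({p : SpVec l F | p.vec ≠ 0} : Set (SpVec l F)) =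
      Fintype.card F ^ (2 * Fintype.card l) - 1 := card_spVec_ne_zero
  rw [← h1, ← orbit_spVec hw, Nat.card_coe_set_eq, ← MulAction.index_stabilizer,
    Subgroup.card_mul_index]

/-- in characteristic two the centralizer of a symplectic transvection is a vector stabilizer -/
theorem centralizer_sympTransvec_eq [CharP F 2] (t : symplecticGroup l F) {w : l ⊕ l → F} {a : F}
    (hw : w ≠ 0) (ha : a ≠ 0) (ht : (t : Matrix (l ⊕ l) (l ⊕ l) F) = sympTransvecMat w a) :
    Subgroup.centralizer ({t} : Set (symplecticGroup l F)) =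
      MulAction.stabilizer (symplecticGroup l F) (⟨w⟩ : SpVec l F) := by
  ext g
  rw [Subgroup.mem_centralizer_singleton_iff, commute_sympTransvecMat_iff g t hw ha ht,
    MulAction.mem_stabilizer_iff, SpVec.ext_iff, SpVec.smul_vec]

/-- the centralizer order of a symplectic transvection in characteristic two -/
theorem card_centralizer_sympTransvec_mul [Fintype F] [CharP F 2] (t : symplecticGroup l F)
    (ht : ((t : Matrix (l ⊕ l) (l ⊕ l) F) - 1).rank = 1) :
    Nat.card (Subgroup.centralizer ({t} : Set (symplecticGroup l F))) *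
      (Fintype.card F ^ (2 * Fintype.card l) - 1) = Nat.card (symplecticGroup l F) := by
  obtain ⟨w, a, hw, ha, htw⟩ := exists_sympTransvecMat_of_rank_eq_one t ht
  rw [centralizer_sympTransvec_eq t hw ha htw, card_stabilizer_spVec_mul hw]

end symplectic

end Cfsg.Agent.Lib.Helper43
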