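import Mathlib
import Cfsg.Prelude.Def_Classical
import Cfsg.Agent.Lib.Helper36.OrthConj
import Cfsg.Agent.Lib.Helper36.AltEven

set_option autoImplicit false

/-!
# Involution classes of an orthogonal group in characteristic two: invariants and counting skeleton

For a quadratic form `Q` on `ι → F` (finite field of characteristic two, non-degenerate polar form), the
conjugacy class of an involution `t` of `O(Q)` is determined by the rank of `t - 1` and by whether
`x ↦ polar Q x ((t - 1) x)` vanishes identically.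
-/

namespace Cfsg.Agent.Lib.Helper43

open Matrix Module

variable {ι : Type} [Fintype ι] [DecidableEq ι] {F : Type*} [Field F]

/-- The alternating-type predicate of an isometry. -/
def OrthTypeA (Q : QuadraticForm F (ι → F)) (A : Matrix ι ι F) : Prop :=
  ∀ x, QuadraticMap.polar (⇑Q) x ((A - 1) *ᵥ x) = 0

theorem orth_coe_mul_self (Q : (ι → F) → F) (c : ↥(Cfsg.isometryGroup F Q)) (hc : orderOf c = 2) :
    ((c : GL ι F) : Matrix ι ι F) * ((c : GL ι F) : Matrix ι ι F) = 1 := by
  have h2 : c ^ 2 = 1 := by rw [← hc]; exact pow_orderOf_eq_one c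
  have := congrArg (fun x : ↥(Cfsg.isometryGroup F Q) => ((x : GL ι F) : Matrix ι ι F)) h2
  simpa [pow_two] using this

theorem orth_apply (Q : (ι → F) → F) (c : ↥(Cfsg.isometryGroup F Q)) (u : ι → F) :
    Q (((c : GL ι F) : Matrix ι ι F) *ᵥ u) = Q u := c.2 u u

/-- Equal invariants imply conjugacy. -/
theorem orth_isConj_of_invariants [Fintype F] [CharP F 2] (Q : QuadraticForm F (ι → F))
    (hQ : (QuadraticMap.polarBilin Q).Nondegenerate)
    (t s : ↥(Cfsg.isometryGroup F (⇑Q))) (ht : orderOf t = 2) (hs : orderOf s = 2)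
    (hrank : (((t : GL ι F) : Matrix ι ι F) - 1).rank = (((s : GL ι F) : Matrix ι ι F) - 1).rank)
    (halt : OrthTypeA Q ((t : GL ι F) : Matrix ι ι F) ↔ OrthTypeA Q ((s : GL ι F) : Matrix ι ι F)) :
    IsConj t s := by
  classical
  set A : Matrix ι ι F := ((t : GL ι F) : Matrix ι ι F) with hA
  set A' : Matrix ι ι F := ((s : GL ι F) : Matrix ι ι F) with hA'
  have hA2 := orth_coe_mul_self (⇑Q) t ht
  have hA'2 := orth_coe_mul_self (⇑Q) s hs
  have hNa2 : ∀ x, (A - 1).mulVecLin ((A - 1).mulVecLin x) = 0 := fun x => by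
    simp only [mulVecLin_apply, mulVec_mulVec, Cfsg.Agent.Lib.Helper36.sub_one_mul_self_gen A hA2,
      zero_mulVec]
  have hNb2 : ∀ x, (A' - 1).mulVecLin ((A' - 1).mulVecLin x) = 0 := fun x => by
    simp only [mulVecLin_apply, mulVec_mulVec, Cfsg.Agent.Lib.Helper36.sub_one_mul_self_gen A' hA'2,
      zero_mulVec]
  have hQa : ∀ v, Q (v + (A - 1).mulVecLin v) = Q v := fun v => by
    rw [mulVecLin_apply, sub_mulVec, one_mulVec, add_sub_cancel]
    exact orth_apply (⇑Q) t v
  have hQb : ∀ v, Q (v + (A' - 1).mulVecLin v) = Q v := fun v => by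
    rw [mulVecLin_apply, sub_mulVec, one_mulVec, add_sub_cancel]
    exact orth_apply (⇑Q) s v
  have hrank' : finrank F (LinearMap.range (A - 1).mulVecLin) =
      finrank F (LinearMap.range (A' - 1).mulVecLin) := hrank
  have halt' : (∀ x, QuadraticMap.polar (⇑Q) x ((A - 1).mulVecLin x) = 0) ↔
      (∀ x, QuadraticMap.polar (⇑Q) x ((A' - 1).mulVecLin x) = 0) := halt
  obtain ⟨T, hT, hTN⟩ := Cfsg.Agent.Lib.Helper36.exists_isometry_conj_orth Q hQ (A - 1).mulVecLin
    (A' - 1).mulVecLin hNa2 hNb2 hQa hQb hrank' halt'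
  have h1 : LinearMap.toMatrix' (T : (ι → F) →ₗ[F] (ι → F)) *
      LinearMap.toMatrix' (T.symm : (ι → F) →ₗ[F] (ι → F)) = 1 := by
    rw [← LinearMap.toMatrix'_comp]
    simp
  have h2 : LinearMap.toMatrix' (T.symm : (ι → F) →ₗ[F] (ι → F)) *
      LinearMap.toMatrix' (T : (ι → F) →ₗ[F] (ι → F)) = 1 := by
    rw [← LinearMap.toMatrix'_comp]
    simp
  let c0 : GL ι F := ⟨LinearMap.toMatrix' (T : (ι → F) →ₗ[F] (ι → F)),
    LinearMap.toMatrix' (T.symm : (ι → F) →ₗ[F] (ι → F)), h1, h2⟩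
  have hc0 : (c0 : Matrix ι ι F) = LinearMap.toMatrix' (T : (ι → F) →ₗ[F] (ι → F)) := rfl
  have hc0mem : c0 ∈ Cfsg.isometryGroup F (⇑Q) := by
    intro u v
    show Q ((c0 : Matrix ι ι F) *ᵥ u) = Q u
    rw [hc0, LinearMap.toMatrix'_mulVec]
    exact hT u
  have hMA : (c0 : Matrix ι ι F) * A = A' * (c0 : Matrix ι ι F) := by
    have e1 : (c0 : Matrix ι ι F) * (A - 1) = (A' - 1) * (c0 : Matrix ι ι F) := by
      have hcomp : (T : (ι → F) →ₗ[F] (ι → F)) ∘ₗ (A - 1).mulVecLin =
          (A' - 1).mulVecLin ∘ₗ (T : (ι → F) →ₗ[F] (ι → F)) := LinearMap.ext hTN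
      have := congrArg LinearMap.toMatrix' hcomp
      rw [LinearMap.toMatrix'_comp, LinearMap.toMatrix'_comp, ← Matrix.toLin'_apply',
        ← Matrix.toLin'_apply', LinearMap.toMatrix'_toLin', LinearMap.toMatrix'_toLin'] at this
      exact this
    have e4 : A = (A - 1) + 1 := by rw [sub_add_cancel]
    have e5 : A' = (A' - 1) + 1 := by rw [sub_add_cancel]
    rw [e4, e5, Matrix.mul_add, Matrix.add_mul, e1, Matrix.mul_one, Matrix.one_mul]
  rw [isConj_iff]
  refine ⟨⟨c0, hc0mem⟩, ?_⟩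
  rw [mul_inv_eq_iff_eq_mul]
  apply Subtype.ext
  apply Units.ext
  simp only [Subgroup.coe_mul, Units.val_mul]
  exact hMA

/-- The invariants are conjugation invariant (one direction for the type). -/
theorem orth_invariants_of_conj (Q : QuadraticForm F (ι → F))
    (a b c : ↥(Cfsg.isometryGroup F (⇑Q))) (h : c * a * c⁻¹ = b) :
    (((a : GL ι F) : Matrix ι ι F) - 1).rank = (((b : GL ι F) : Matrix ι ι F) - 1).rank ∧
    (OrthTypeA Q ((a : GL ι F) : Matrix ι ι F) → OrthTypeA Q ((b : GL ι F) : Matrix ι ι F)) := by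
  rw [mul_inv_eq_iff_eq_mul] at h
  set A : Matrix ι ι F := ((a : GL ι F) : Matrix ι ι F) with hA
  set B : Matrix ι ι F := ((b : GL ι F) : Matrix ι ι F) with hB
  set C : Matrix ι ι F := ((c : GL ι F) : Matrix ι ι F) with hC
  have hcm : C * A = B * C := by
    have := congrArg (fun x : ↥(Cfsg.isometryGroup F (⇑Q)) => ((x : GL ι F) : Matrix ι ι F)) h
    simpa using this
  have hCinv : C * (((c : GL ι F)⁻¹ : GL ι F) : Matrix ι ι F) = 1 := by
    rw [hC, ← Units.val_mul, mul_inv_cancel, Units.val_one]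
  have hdc : IsUnit C.det := by
    have := congrArg det hCinv
    rw [det_mul, det_one] at this
    exact IsUnit.of_mul_eq_one _ this
  have e1 : (B - 1) * C = C * (A - 1) := by
    rw [Matrix.sub_mul, Matrix.mul_sub, hcm, Matrix.one_mul, Matrix.mul_one]
  constructor
  · rw [← rank_mul_eq_right_of_isUnit_det C (A - 1) hdc, ← e1,
      rank_mul_eq_left_of_isUnit_det C (B - 1) hdc]
  · intro ha v
    obtain ⟨w, rfl⟩ : ∃ w, v = C *ᵥ w :=
      ⟨(((c : GL ι F)⁻¹ : GL ι F) : Matrix ι ι F) *ᵥ v, by rw [mulVec_mulVec, hCinv, one_mulVec]⟩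
    have hpol : ∀ u v, QuadraticMap.polar (⇑Q) (C *ᵥ u) (C *ᵥ v) = QuadraticMap.polar (⇑Q) u v := by
      intro u v
      unfold QuadraticMap.polar
      rw [← mulVec_add, orth_apply (⇑Q) c, orth_apply (⇑Q) c, orth_apply (⇑Q) c]
    rw [mulVec_mulVec, e1, ← mulVec_mulVec, hpol]
    exact ha w

theorem orth_invariants_of_isConj (Q : QuadraticForm F (ι → F))
    (a b : ↥(Cfsg.isometryGroup F (⇑Q))) (h : IsConj a b) :
    (((a : GL ι F) : Matrix ι ι F) - 1).rank = (((b : GL ι F) : Matrix ι ι F) - 1).rank ∧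
    (OrthTypeA Q ((a : GL ι F) : Matrix ι ι F) ↔ OrthTypeA Q ((b : GL ι F) : Matrix ι ι F)) := by
  obtain ⟨c, hc⟩ := isConj_iff.mp h
  have h1 := orth_invariants_of_conj Q a b c hc
  have hc' : c⁻¹ * b * c⁻¹⁻¹ = a := by
    rw [← hc]; group
  have h2 := orth_invariants_of_conj Q b a c⁻¹ hc'
  exact ⟨h1.1, h1.2, h2.2⟩

theorem matrix_eq_zero_of_rank_eq_zero (A : Matrix ι ι F) (h : A.rank = 0) : A = 0 := by
  unfold Matrix.rank at h
  rw [Submodule.finrank_eq_zero, LinearMap.range_eq_bot] at h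
  rw [← Matrix.toLin'_apply', LinearEquiv.map_eq_zero_iff] at h
  exact h

theorem orth_rank_pos (Q : (ι → F) → F) (g : ↥(Cfsg.isometryGroup F Q)) (hg : orderOf g = 2) :
    1 ≤ (((g : GL ι F) : Matrix ι ι F) - 1).rank := by
  by_contra hcon
  have h0 : (((g : GL ι F) : Matrix ι ι F) - 1).rank = 0 := by omega
  have h0' := matrix_eq_zero_of_rank_eq_zero _ h0
  have h1 : g = 1 := by
    apply Subtype.ext
    apply Units.ext
    exact sub_eq_zero.mp h0'
  rw [h1, orderOf_one] at hg
  omega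

theorem orth_rank_le [CharP F 2] (Q : (ι → F) → F) (g : ↥(Cfsg.isometryGroup F Q))
    (hg : orderOf g = 2) :
    2 * (((g : GL ι F) : Matrix ι ι F) - 1).rank ≤ Fintype.card ι := by
  have h := Cfsg.Agent.Lib.Helper36.sub_one_mul_self_gen _ (orth_coe_mul_self Q g hg)
  have h2 := rank_add_rank_le_card_of_mul_eq_zero h
  omega

theorem orth_orderOf_eq_two (Q : (ι → F) → F) (g : ↥(Cfsg.isometryGroup F Q))
    (hsq : ((g : GL ι F) : Matrix ι ι F) * ((g : GL ι F) : Matrix ι ι F) = 1)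
    (hr : 1 ≤ (((g : GL ι F) : Matrix ι ι F) - 1).rank) : orderOf g = 2 := by
  have : Fact (Nat.Prime 2) := ⟨Nat.prime_two⟩
  apply orderOf_eq_prime
  · apply Subtype.ext
    apply Units.ext
    rw [pow_two]
    exact hsq
  · intro h1
    rw [h1] at hr
    simp at hr

/-- Gram matrix description of the polar form. -/
theorem polar_eq_dotProduct (Q : QuadraticForm F (ι → F)) (x y : ι → F) :
    QuadraticMap.polar (⇑Q) x y =
      x ⬝ᵥ ((LinearMap.BilinForm.toMatrix' (QuadraticMap.polarBilin Q)) *ᵥ y) := by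
  have h := Matrix.toBilin'_apply' (LinearMap.BilinForm.toMatrix' (QuadraticMap.polarBilin Q)) x y
  rw [Matrix.toBilin'_toMatrix'] at h
  rw [← h]
  rfl

/-- An involution of alternating type has `t - 1` of even rank. -/
theorem orth_even_rank_of_typeA (Q : QuadraticForm F (ι → F))
    (hQ : (QuadraticMap.polarBilin Q).Nondegenerate) (A : Matrix ι ι F) (hA : OrthTypeA Q A) :
    Even (A - 1).rank := by
  set G := LinearMap.BilinForm.toMatrix' (QuadraticMap.polarBilin Q) with hG
  have hGdet : IsUnit G.det := by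
    have h1 : G.Nondegenerate := by
      rw [hG]
      exact (LinearMap.BilinForm.nondegenerate_toMatrix'_iff).mpr hQ
    exact isUnit_iff_ne_zero.mpr ((Matrix.nondegenerate_iff_det_ne_zero).mp h1)
  rw [← rank_mul_eq_right_of_isUnit_det G (A - 1) hGdet]
  apply Cfsg.Agent.Lib.Helper36.even_rank_of_alt_matrix
  intro x
  rw [← mulVec_mulVec, ← polar_eq_dotProduct]
  exact hA x

/-- Counting skeleton: a family of involutions, separated by the invariants and exhausting them,
parametrises the classes of involutions. -/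
theorem card_orth_involution_classes [Fintype F] [CharP F 2] (Q : QuadraticForm F (ι → F))
    (hQ : (QuadraticMap.polarBilin Q).Nondegenerate) {X : Type*}
    (rep : X → ↥(Cfsg.isometryGroup F (⇑Q))) (hrep : ∀ x, orderOf (rep x) = 2)
    (hinj : ∀ x y, (((rep x : GL ι F) : Matrix ι ι F) - 1).rank =
        (((rep y : GL ι F) : Matrix ι ι F) - 1).rank →
      (OrthTypeA Q ((rep x : GL ι F) : Matrix ι ι F) ↔
        OrthTypeA Q ((rep y : GL ι F) : Matrix ι ι F)) → x = y)
    (hsurj : ∀ g : ↥(Cfsg.isometryGroup F (⇑Q)), orderOf g = 2 →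
      ∃ x, (((rep x : GL ι F) : Matrix ι ι F) - 1).rank = (((g : GL ι F) : Matrix ι ι F) - 1).rank ∧
        (OrthTypeA Q ((rep x : GL ι F) : Matrix ι ι F) ↔
          OrthTypeA Q ((g : GL ι F) : Matrix ι ι F))) :
    Nat.card {C : ConjClasses ↥(Cfsg.isometryGroup F (⇑Q)) //
      ∃ g : ↥(Cfsg.isometryGroup F (⇑Q)), ConjClasses.mk g = C ∧ orderOf g = 2} = Nat.card X := by
  let φ : X → {C : ConjClasses ↥(Cfsg.isometryGroup F (⇑Q)) //
      ∃ g : ↥(Cfsg.isometryGroup F (⇑Q)), ConjClasses.mk g = C ∧ orderOf g = 2} :=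
    fun x => ⟨ConjClasses.mk (rep x), rep x, rfl, hrep x⟩
  have hφ : Function.Bijective φ := by
    constructor
    · intro x y hxy
      have h1 : ConjClasses.mk (rep x) = ConjClasses.mk (rep y) := congrArg Subtype.val hxy
      rw [ConjClasses.mk_eq_mk_iff_isConj] at h1
      obtain ⟨hr, ht⟩ := orth_invariants_of_isConj Q _ _ h1
      exact hinj x y hr ht
    · rintro ⟨C, g, rfl, hg⟩
      obtain ⟨x, hx1, hx2⟩ := hsurj g hg
      refine ⟨x, ?_⟩
      apply Subtype.ext
      show ConjClasses.mk (rep x) = ConjClasses.mk g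
      rw [ConjClasses.mk_eq_mk_iff_isConj]
      exact orth_isConj_of_invariants Q hQ (rep x) g (hrep x) hg hx1 hx2
  rw [← Nat.card_congr (Equiv.ofBijective φ hφ)]

end Cfsg.Agent.Lib.Helper43
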