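import Mathlib
import Cfsg.Prelude.Def_Classical
import Cfsg.Agent.Lib.Helper43.OrthInvolClasses
import Cfsg.Agent.Lib.Helper36.OmegaConjMatrix

set_option autoImplicit false

/-!
# Involution classes of `Ω(Q)` in characteristic two when no `O(Q)`-class splits
-/

namespace Cfsg.Agent.Lib.Helper43

open Matrix Module Cfsg.Agent.Lib.Helper36 Cfsg.Agent.Lib.Helper13

variable {ι : Type} [Fintype ι] [DecidableEq ι] {F : Type*} [Field F]

/-- Counting skeleton for `Ω(Q)`: if the fixed space of no even-rank involution is totally singular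
(so that no class splits), the classes of involutions of `Ω(Q)` are parametrised by a family of
even-rank involutions of `O(Q)` separated by, and exhausting, the invariants. -/
theorem card_omega_involution_classes_of_no_split [Fintype F] [CharP F 2]
    (Q : QuadraticForm F (ι → F))
    (hQ : (QuadraticMap.polarBilin Q).Nondegenerate)
    (hF : (∀ a b : F, ∃ x : F, x ≠ a ∧ x ≠ b) ∨ Fintype.card ι ≠ 4) {X : Type*}
    (rep : X → ↥(Cfsg.isometryGroup F (⇑Q))) (hrep : ∀ x, orderOf (rep x) = 2)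
    (heven : ∀ x, Even (((rep x : GL ι F) : Matrix ι ι F) - 1).rank)
    (hinj : ∀ x y, (((rep x : GL ι F) : Matrix ι ι F) - 1).rank =
        (((rep y : GL ι F) : Matrix ι ι F) - 1).rank →
      (OrthTypeA Q ((rep x : GL ι F) : Matrix ι ι F) ↔
        OrthTypeA Q ((rep y : GL ι F) : Matrix ι ι F)) → x = y)
    (hsurj : ∀ g : ↥(Cfsg.isometryGroup F (⇑Q)), orderOf g = 2 →
      Even (((g : GL ι F) : Matrix ι ι F) - 1).rank →
      ∃ x, (((rep x : GL ι F) : Matrix ι ι F) - 1).rank = (((g : GL ι F) : Matrix ι ι F) - 1).rank ∧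
        (OrthTypeA Q ((rep x : GL ι F) : Matrix ι ι F) ↔
          OrthTypeA Q ((g : GL ι F) : Matrix ι ι F)))
    (hnts : ∀ g : ↥(Cfsg.isometryGroup F (⇑Q)), orderOf g = 2 →
      Even (((g : GL ι F) : Matrix ι ι F) - 1).rank →
      ¬ IsTS Q (fixSp ((g : GL ι F) : Matrix ι ι F).mulVecLin)) :
    Nat.card {C : ConjClasses ↥(Cfsg.Omega F (⇑Q)) //
      ∃ g : ↥(Cfsg.Omega F (⇑Q)), ConjClasses.mk g = C ∧ orderOf g = 2} = Nat.card X := by
  have hsq : ∀ a : F, IsSquare a := fun a => FiniteField.isSquare_of_char_two (ringChar.eq F 2) a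
  have hmem : ∀ t : ↥(Cfsg.isometryGroup F (⇑Q)),
      t ∈ Cfsg.Omega F (⇑Q) ↔ Even (((t : GL ι F) : Matrix ι ι F) - 1).rank :=
    fun t => mem_Omega_iff_even_rank Q hQ hF hsq t
  let φ : X → {C : ConjClasses ↥(Cfsg.Omega F (⇑Q)) //
      ∃ g : ↥(Cfsg.Omega F (⇑Q)), ConjClasses.mk g = C ∧ orderOf g = 2} :=
    fun x => ⟨ConjClasses.mk ⟨rep x, (hmem _).mpr (heven x)⟩, ⟨rep x, (hmem _).mpr (heven x)⟩, rfl, by
      rw [← Subgroup.orderOf_coe]
      exact hrep x⟩
  have hφ : Function.Bijective φ := by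
    constructor
    · intro x y hxy
      have h1 : ConjClasses.mk (⟨rep x, (hmem _).mpr (heven x)⟩ : ↥(Cfsg.Omega F (⇑Q))) =
          ConjClasses.mk ⟨rep y, (hmem _).mpr (heven y)⟩ := congrArg Subtype.val hxy
      rw [ConjClasses.mk_eq_mk_iff_isConj] at h1
      obtain ⟨c, hc⟩ := isConj_iff.mp h1
      have h2 : IsConj (rep x) (rep y) := by
        rw [isConj_iff]
        refine ⟨(c : ↥(Cfsg.isometryGroup F (⇑Q))), ?_⟩
        have := congrArg (Subtype.val) hc
        simpa using this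
      obtain ⟨hr, ht⟩ := orth_invariants_of_isConj Q _ _ h2
      exact hinj x y hr ht
    · rintro ⟨C, s, rfl, hs⟩
      have hs2 : orderOf (s : ↥(Cfsg.isometryGroup F (⇑Q))) = 2 := by
        rw [Subgroup.orderOf_coe]; exact hs
      have hse : Even ((((s : ↥(Cfsg.isometryGroup F (⇑Q))) : GL ι F) : Matrix ι ι F) - 1).rank :=
        (hmem _).mp s.2
      obtain ⟨x, hx1, hx2⟩ := hsurj _ hs2 hse
      refine ⟨x, ?_⟩
      apply Subtype.ext
      show ConjClasses.mk (⟨rep x, (hmem _).mpr (heven x)⟩ : ↥(Cfsg.Omega F (⇑Q))) = ConjClasses.mk s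
      rw [ConjClasses.mk_eq_mk_iff_isConj]
      have hconj := orth_isConj_of_invariants Q hQ (rep x) (s : ↥(Cfsg.isometryGroup F (⇑Q)))
        (hrep x) hs2 hx1 hx2
      obtain ⟨g, hg, hgc⟩ := exists_Omega_conj_of_not_ts Q hQ hF hsq (rep x)
        (s : ↥(Cfsg.isometryGroup F (⇑Q))) hconj (hnts (rep x) (hrep x) (heven x))
      rw [isConj_iff]
      refine ⟨⟨g, hg⟩, ?_⟩
      apply Subtype.ext
      simpa using hgc
  rw [← Nat.card_congr (Equiv.ofBijective φ hφ)]

end Cfsg.Agent.Lib.Helper43
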