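import Mathlib
import Cfsg.Prelude.Def_Classical
import Cfsg.Agent.Lib.Helper43.OmegaInvolClasses
import Cfsg.Agent.Lib.Helper94.MaxSingularBridge

set_option autoImplicit false

/-!
# `Ω(Q)` has index two in `O(Q)`; centralisers of involutions with maximal totally singular range;
counting skeleton with one splitting class
-/

namespace Cfsg.Agent.Lib.Helper43

open Matrix Module Cfsg.Agent.Lib.Helper36

variable {ι : Type} [Fintype ι] [DecidableEq ι] {F : Type*} [Field F]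

/-- `Ω(Q)` has index two in `O(Q)` (characteristic two, perfect field). -/
theorem omega_index_two [CharP F 2] (Q : QuadraticForm F (ι → F))
    (hQ : (QuadraticMap.polarBilin Q).Nondegenerate)
    (hF : (∀ a b : F, ∃ x : F, x ≠ a ∧ x ≠ b) ∨ Fintype.card ι ≠ 4)
    (hsq : ∀ a : F, IsSquare a) (hne : ∃ v : ι → F, Q v ≠ 0) :
    (Cfsg.Omega F (⇑Q)).index = 2 := by
  have hF' : (∀ a b : F, ∃ x : F, x ≠ a ∧ x ≠ b) ∨ Module.finrank F (ι → F) ≠ 4 := by
    rw [Module.finrank_fintype_fun_eq_card]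
    exact hF
  have h13 := Cfsg.Agent.Lib.Helper13.commutator_isoGroup_index Q hQ hF' hsq hne
  rw [Cfsg.Agent.Lib.Helper94.isoGroup13_eq_isoGroup36] at h13
  have hcomap : Cfsg.Omega F (⇑Q) =
      (commutator ↥(isoGroup Q)).comap (isometryGroupEquiv Q).toMonoidHom := by
    ext t
    exact mem_commutator_iff_equiv (isometryGroupEquiv Q) t
  rw [hcomap, Subgroup.index_comap_of_surjective _ (isometryGroupEquiv Q).surjective]
  exact h13

/-- An involution of alternating type has totally singular range of `t - 1`. -/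
theorem orth_typeA_range_singular (Q : QuadraticForm F (ι → F))
    (t : ↥(Cfsg.isometryGroup F (⇑Q)))
    (hA : OrthTypeA Q ((t : GL ι F) : Matrix ι ι F)) :
    ∀ u ∈ LinearMap.range (((t : GL ι F) : Matrix ι ι F) - 1).mulVecLin, Q u = 0 := by
  rintro u ⟨v, rfl⟩
  have h1 : Q (((t : GL ι F) : Matrix ι ι F) *ᵥ v) = Q v := orth_apply (⇑Q) t v
  have h2 : ((t : GL ι F) : Matrix ι ι F) *ᵥ v = v + (((t : GL ι F) : Matrix ι ι F) - 1) *ᵥ v := by
    rw [sub_mulVec, one_mulVec, add_sub_cancel]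
  rw [h2, QuadraticMap.map_add Q v ((((t : GL ι F) : Matrix ι ι F) - 1) *ᵥ v), hA v, add_zero] at h1
  rw [mulVecLin_apply]
  exact left_eq_add.mp h1.symm

/-- The centraliser in `O(Q)` of an involution of alternating type with `rank (t - 1)` half the
dimension lies in `Ω(Q)`. -/
theorem centralizer_le_omega [CharP F 2] (Q : QuadraticForm F (ι → F))
    (hQ : (QuadraticMap.polarBilin Q).Nondegenerate)
    (hF : (∀ a b : F, ∃ x : F, x ≠ a ∧ x ≠ b) ∨ Fintype.card ι ≠ 4)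
    (hsq : ∀ a : F, IsSquare a) (t c : ↥(Cfsg.isometryGroup F (⇑Q)))
    (hA : OrthTypeA Q ((t : GL ι F) : Matrix ι ι F))
    (hrank : 2 * (((t : GL ι F) : Matrix ι ι F) - 1).rank = Fintype.card ι)
    (hc : c * t = t * c) : c ∈ Cfsg.Omega F (⇑Q) := by
  have hF' : (∀ a b : F, ∃ x : F, x ≠ a ∧ x ≠ b) ∨ Module.finrank F (ι → F) ≠ 4 := by
    rw [Module.finrank_fintype_fun_eq_card]
    exact hF
  set A : Matrix ι ι F := ((t : GL ι F) : Matrix ι ι F) with hAdef
  set C : Matrix ι ι F := ((c : GL ι F) : Matrix ι ι F) with hCdef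
  have hCA : C * A = A * C := by
    have := congrArg (fun x : ↥(Cfsg.isometryGroup F (⇑Q)) => ((x : GL ι F) : Matrix ι ι F)) hc
    simpa using this
  have hCN : C * (A - 1) = (A - 1) * C := by
    rw [Matrix.mul_sub, Matrix.sub_mul, hCA, Matrix.mul_one, Matrix.one_mul]
  set U : Submodule F (ι → F) := LinearMap.range (A - 1).mulVecLin with hUdef
  have hU : ∀ u ∈ U, Q u = 0 := orth_typeA_range_singular Q t hA
  have hdim : 2 * finrank F U = finrank F (ι → F) := by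
    rw [Module.finrank_fintype_fun_eq_card]
    exact hrank
  set g := Cfsg.Agent.Lib.Helper94.glEquiv ι F (c : GL ι F) with hg
  have hgOG : g ∈ Cfsg.Agent.Lib.Helper94.OG (⇑Q) := Cfsg.Agent.Lib.Helper94.glEquiv_mem_OG (⇑Q) c
  have hg13 : g ∈ Cfsg.Agent.Lib.Helper13.isoGroup Q := by
    rw [← Cfsg.Agent.Lib.Helper94.OG_eq_isoGroup]
    exact hgOG
  have hpar := Cfsg.Agent.Lib.Helper94.par_eq_of_max_singular Q hQ U hU hdim g hg13
  have hmap : U.map (g : (ι → F) →ₗ[F] (ι → F)) ≤ U := by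
    rintro _ ⟨u, ⟨v, rfl⟩, rfl⟩
    refine ⟨C *ᵥ v, ?_⟩
    show (A - 1) *ᵥ (C *ᵥ v) = g ((A - 1) *ᵥ v)
    rw [hg, Cfsg.Agent.Lib.Helper94.glEquiv_apply, mulVec_mulVec, mulVec_mulVec, hCN]
  have hinf : (U ⊓ U.map (g : (ι → F) →ₗ[F] (ι → F)) : Submodule F (ι → F)) =
      U.map (g : (ι → F) →ₗ[F] (ι → F)) := inf_eq_right.mpr hmap
  rw [hinf, LinearEquiv.finrank_map_eq, Nat.sub_self, Nat.cast_zero] at hpar
  have hmem := Cfsg.Agent.Lib.Helper94.mem_commutator_of_par_eq_zero Q hQ hF' hsq g hgOG hpar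
  exact (Cfsg.Agent.Lib.Helper94.mem_Omega_iff (⇑Q) c).mpr hmem

/-- Counting skeleton for `Ω(Q)` with exactly one splitting class: the class of `rep x₀`, whose
centraliser lies in `Ω(Q)`, splits in two, all others do not split. -/
theorem card_omega_involution_classes_one_split [Fintype F] [CharP F 2]
    (Q : QuadraticForm F (ι → F))
    (hQ : (QuadraticMap.polarBilin Q).Nondegenerate)
    (hF : (∀ a b : F, ∃ x : F, x ≠ a ∧ x ≠ b) ∨ Fintype.card ι ≠ 4) {X : Type*} [Finite X]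
    (rep : X → ↥(Cfsg.isometryGroup F (⇑Q))) (hrep : ∀ x, orderOf (rep x) = 2)
    (heven : ∀ x, Even (((rep x : GL ι F) : Matrix ι ι F) - 1).rank)
    (hinj : ∀ x y, (((rep x : GL ι F) : Matrix ι ι F) - 1).rank =
        (((rep y : GL ι F) : Matrix ι ι F) - 1).rank →
      (OrthTypeA Q ((rep x : GL ι F) : Matrix ι ι F) ↔
        OrthTypeA Q ((rep y : GL ι F) : Matrix ι ι F)) → x = y)
    (hsurj : ∀ g : ↥(Cfsg.isometryGroup F (⇑Q)), orderOf g = 2 →
      Even (((g : GL ι F) : Matrix ι ι F) - 1).rank →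
      ∃ x, (((rep x : GL ι F) : Matrix ι ι F) - 1).rank = (((g : GL ι F) : Matrix ι ι F) - 1).rank ∧
        (OrthTypeA Q ((rep x : GL ι F) : Matrix ι ι F) ↔
          OrthTypeA Q ((g : GL ι F) : Matrix ι ι F)))
    (x₀ : X) (hne : ∃ v : ι → F, Q v ≠ 0)
    (hnts : ∀ x, x ≠ x₀ → ¬ IsTS Q (fixSp ((rep x : GL ι F) : Matrix ι ι F).mulVecLin))
    (hcent : ∀ c : ↥(Cfsg.isometryGroup F (⇑Q)), c * rep x₀ = rep x₀ * c → c ∈ Cfsg.Omega F (⇑Q)) :
    Nat.card {C : ConjClasses ↥(Cfsg.Omega F (⇑Q)) //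
      ∃ g : ↥(Cfsg.Omega F (⇑Q)), ConjClasses.mk g = C ∧ orderOf g = 2} = Nat.card X + 1 := by
  classical
  have hsq : ∀ a : F, IsSquare a := fun a => FiniteField.isSquare_of_char_two (ringChar.eq F 2) a
  have hmem : ∀ t : ↥(Cfsg.isometryGroup F (⇑Q)),
      t ∈ Cfsg.Omega F (⇑Q) ↔ Even (((t : GL ι F) : Matrix ι ι F) - 1).rank :=
    fun t => mem_Omega_iff_even_rank Q hQ hF hsq t
  have hidx := omega_index_two Q hQ hF hsq hne
  have hmul : ∀ a b : ↥(Cfsg.isometryGroup F (⇑Q)),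
      a * b ∈ Cfsg.Omega F (⇑Q) ↔ (a ∈ Cfsg.Omega F (⇑Q) ↔ b ∈ Cfsg.Omega F (⇑Q)) :=
    fun a b => Subgroup.mul_mem_iff_of_index_two hidx
  obtain ⟨r, hr⟩ : ∃ r : ↥(Cfsg.isometryGroup F (⇑Q)), r ∉ Cfsg.Omega F (⇑Q) := by
    by_contra hcon
    push Not at hcon
    have htop : Cfsg.Omega F (⇑Q) = ⊤ := by
      rw [eq_top_iff]
      intro x _
      exact hcon x
    rw [htop, Subgroup.index_top] at hidx
    omega
  have hrinv : r⁻¹ ∉ Cfsg.Omega F (⇑Q) := fun h => hr ((Subgroup.inv_mem_iff _).mp h)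
  have hnormal : (Cfsg.Omega F (⇑Q)).Normal := by
    show (commutator ↥(Cfsg.isometryGroup F (⇑Q))).Normal
    infer_instance
  have hrepmem : (rep x₀) ∈ Cfsg.Omega F (⇑Q) := (hmem _).mpr (heven x₀)
  have hconjmem : r * (rep x₀) * r⁻¹ ∈ Cfsg.Omega F (⇑Q) := hnormal.conj_mem (rep x₀) hrepmem r
  have hconjord : orderOf (r * (rep x₀) * r⁻¹) = 2 := by
    rw [← MulAut.conj_apply, MulEquiv.orderOf_eq]
    exact hrep x₀
  let φ : X ⊕ Unit → {C : ConjClasses ↥(Cfsg.Omega F (⇑Q)) //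
      ∃ g : ↥(Cfsg.Omega F (⇑Q)), ConjClasses.mk g = C ∧ orderOf g = 2} :=
    Sum.elim
      (fun x => ⟨ConjClasses.mk ⟨rep x, (hmem _).mpr (heven x)⟩,
        ⟨rep x, (hmem _).mpr (heven x)⟩, rfl, by
          rw [← Subgroup.orderOf_coe]
          exact hrep x⟩)
      (fun _ => ⟨ConjClasses.mk ⟨r * (rep x₀) * r⁻¹, hconjmem⟩, ⟨r * (rep x₀) * r⁻¹, hconjmem⟩, rfl, by
          rw [← Subgroup.orderOf_coe]
          exact hconjord⟩)
  -- the mixed case of injectivity
  have hmixed : ∀ x, ConjClasses.mk (⟨rep x, (hmem _).mpr (heven x)⟩ : ↥(Cfsg.Omega F (⇑Q))) ≠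
      ConjClasses.mk ⟨r * (rep x₀) * r⁻¹, hconjmem⟩ := by
    intro x h1
    rw [ConjClasses.mk_eq_mk_iff_isConj] at h1
    obtain ⟨c, hc⟩ := isConj_iff.mp h1
    have hc' : (c : ↥(Cfsg.isometryGroup F (⇑Q))) * rep x * (c : ↥(Cfsg.isometryGroup F (⇑Q)))⁻¹ =
        r * (rep x₀) * r⁻¹ := by
      have := congrArg (Subtype.val) hc
      simpa using this
    have h2 : IsConj (rep x) (rep x₀) := by
      rw [isConj_iff]
      refine ⟨r⁻¹ * (c : ↥(Cfsg.isometryGroup F (⇑Q))), ?_⟩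
      calc r⁻¹ * (c : ↥(Cfsg.isometryGroup F (⇑Q))) * rep x *
            (r⁻¹ * (c : ↥(Cfsg.isometryGroup F (⇑Q))))⁻¹
          = r⁻¹ * ((c : ↥(Cfsg.isometryGroup F (⇑Q))) * rep x *
              (c : ↥(Cfsg.isometryGroup F (⇑Q)))⁻¹) * r := by group
        _ = (rep x₀) := by rw [hc']; group
    obtain ⟨hr', ht'⟩ := orth_invariants_of_isConj Q _ _ h2
    have hx : x = x₀ := hinj x x₀ hr' ht'
    rw [hx] at hc'
    have hcomm : r⁻¹ * (c : ↥(Cfsg.isometryGroup F (⇑Q))) * (rep x₀) =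
        (rep x₀) * (r⁻¹ * (c : ↥(Cfsg.isometryGroup F (⇑Q)))) := by
      have h3 : (c : ↥(Cfsg.isometryGroup F (⇑Q))) * (rep x₀) = r * (rep x₀) * r⁻¹ *
          (c : ↥(Cfsg.isometryGroup F (⇑Q))) := by
        rw [← hc']; group
      calc r⁻¹ * (c : ↥(Cfsg.isometryGroup F (⇑Q))) * (rep x₀)
          = r⁻¹ * ((c : ↥(Cfsg.isometryGroup F (⇑Q))) * (rep x₀)) := by group
        _ = r⁻¹ * (r * (rep x₀) * r⁻¹ * (c : ↥(Cfsg.isometryGroup F (⇑Q)))) := by rw [h3]
        _ = (rep x₀) * (r⁻¹ * (c : ↥(Cfsg.isometryGroup F (⇑Q)))) := by group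
    have h4 := hcent _ hcomm
    rw [hmul] at h4
    exact hrinv (h4.mpr c.2)
  have hφ : Function.Bijective φ := by
    constructor
    · intro x y hxy
      cases x with
      | inl x =>
        cases y with
        | inl y =>
          have h1 : ConjClasses.mk (⟨rep x, (hmem _).mpr (heven x)⟩ : ↥(Cfsg.Omega F (⇑Q))) =
              ConjClasses.mk ⟨rep y, (hmem _).mpr (heven y)⟩ := congrArg Subtype.val hxy
          rw [ConjClasses.mk_eq_mk_iff_isConj] at h1
          obtain ⟨c, hc⟩ := isConj_iff.mp h1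
          have h2 : IsConj (rep x) (rep y) := by
            rw [isConj_iff]
            refine ⟨(c : ↥(Cfsg.isometryGroup F (⇑Q))), ?_⟩
            have := congrArg (Subtype.val) hc
            simpa using this
          obtain ⟨hr', ht'⟩ := orth_invariants_of_isConj Q _ _ h2
          rw [hinj x y hr' ht']
        | inr y =>
          exact absurd (congrArg Subtype.val hxy) (hmixed x)
      | inr x =>
        cases y with
        | inl y =>
          exact absurd (congrArg Subtype.val hxy).symm (hmixed y)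
        | inr y => rfl
    · rintro ⟨C, s, rfl, hs⟩
      have hs2 : orderOf (s : ↥(Cfsg.isometryGroup F (⇑Q))) = 2 := by
        rw [Subgroup.orderOf_coe]; exact hs
      have hse : Even ((((s : ↥(Cfsg.isometryGroup F (⇑Q))) : GL ι F) : Matrix ι ι F) - 1).rank :=
        (hmem _).mp s.2
      obtain ⟨x, hx1, hx2⟩ := hsurj _ hs2 hse
      have hconj := orth_isConj_of_invariants Q hQ (rep x) (s : ↥(Cfsg.isometryGroup F (⇑Q)))
        (hrep x) hs2 hx1 hx2
      by_cases hx : x = x₀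
      · rw [hx] at hconj
        obtain ⟨g, hg⟩ := isConj_iff.mp hconj
        by_cases hgm : g ∈ Cfsg.Omega F (⇑Q)
        · refine ⟨Sum.inl x₀, ?_⟩
          apply Subtype.ext
          show ConjClasses.mk (⟨rep x₀, (hmem _).mpr (heven x₀)⟩ : ↥(Cfsg.Omega F (⇑Q))) =
            ConjClasses.mk s
          rw [ConjClasses.mk_eq_mk_iff_isConj, isConj_iff]
          refine ⟨⟨g, hgm⟩, ?_⟩
          apply Subtype.ext
          simpa using hg
        · refine ⟨Sum.inr (), ?_⟩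
          apply Subtype.ext
          show ConjClasses.mk (⟨r * (rep x₀) * r⁻¹, hconjmem⟩ : ↥(Cfsg.Omega F (⇑Q))) = ConjClasses.mk s
          rw [ConjClasses.mk_eq_mk_iff_isConj, isConj_iff]
          have hgr : g * r⁻¹ ∈ Cfsg.Omega F (⇑Q) := by
            rw [hmul]
            exact ⟨fun h => absurd h hgm, fun h => absurd h hrinv⟩
          refine ⟨⟨g * r⁻¹, hgr⟩, ?_⟩
          apply Subtype.ext
          show g * r⁻¹ * (r * (rep x₀) * r⁻¹) * (g * r⁻¹)⁻¹ = (s : ↥(Cfsg.isometryGroup F (⇑Q)))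
          rw [← hg]
          group
      · refine ⟨Sum.inl x, ?_⟩
        apply Subtype.ext
        show ConjClasses.mk (⟨rep x, (hmem _).mpr (heven x)⟩ : ↥(Cfsg.Omega F (⇑Q))) =
          ConjClasses.mk s
        rw [ConjClasses.mk_eq_mk_iff_isConj]
        obtain ⟨g, hg, hgc⟩ := exists_Omega_conj_of_not_ts Q hQ hF hsq (rep x)
          (s : ↥(Cfsg.isometryGroup F (⇑Q))) hconj (hnts x hx)
        rw [isConj_iff]
        refine ⟨⟨g, hg⟩, ?_⟩
        apply Subtype.ext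
        simpa using hgc
  have hu : Nat.card Unit = 1 := Nat.card_unique
  rw [← Nat.card_congr (Equiv.ofBijective φ hφ), Nat.card_sum, hu]

end Cfsg.Agent.Lib.Helper43
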