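/-
helper43: congruence of projective similarity groups of one-argument forms along a linear
change of coordinates (given by a pair of mutually inverse rectangular matrices), and the matrix
description of the similarity group of the sum-of-squares form.
-/
import Mathlib
import Cfsg.Prelude.Def_LieTypeDatum

set_option autoImplicit false

namespace Cfsg.Agent.Lib.Helper43

open scoped MatrixGroups Matrix
open Matrix

section congr

variable {ι₁ ι₂ : Type} [Fintype ι₁] [DecidableEq ι₁] [Fintype ι₂] [DecidableEq ι₂]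
  {K : Type*} [Field K]

/-- conjugation `g ↦ A g B` between general linear groups, for mutually inverse `A`, `B` -/
def glConjRect (A : Matrix ι₁ ι₂ K) (B : Matrix ι₂ ι₁ K) (hAB : A * B = 1) (hBA : B * A = 1) :
    GL ι₂ K →* GL ι₁ K where
  toFun g := ⟨A * (g : Matrix ι₂ ι₂ K) * B, A * ((g⁻¹ : GL ι₂ K) : Matrix ι₂ ι₂ K) * B, by
      rw [Matrix.mul_assoc (A * (g : Matrix ι₂ ι₂ K)), ← Matrix.mul_assoc B, ← Matrix.mul_assoc B,
        hBA, Matrix.one_mul, Matrix.mul_assoc A, ← Matrix.mul_assoc (g : Matrix ι₂ ι₂ K),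
        ← Units.val_mul, mul_inv_cancel, Units.val_one, Matrix.one_mul, hAB], by
      rw [Matrix.mul_assoc (A * ((g⁻¹ : GL ι₂ K) : Matrix ι₂ ι₂ K)), ← Matrix.mul_assoc B,
        ← Matrix.mul_assoc B, hBA, Matrix.one_mul, Matrix.mul_assoc A,
        ← Matrix.mul_assoc ((g⁻¹ : GL ι₂ K) : Matrix ι₂ ι₂ K),
        ← Units.val_mul, inv_mul_cancel, Units.val_one, Matrix.one_mul, hAB]⟩
  map_one' := by
    apply Units.ext
    show A * ((1 : GL ι₂ K) : Matrix ι₂ ι₂ K) * B = 1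
    rw [Units.val_one, Matrix.mul_one, hAB]
  map_mul' g h := by
    apply Units.ext
    show A * ((g * h : GL ι₂ K) : Matrix ι₂ ι₂ K) * B =
      A * (g : Matrix ι₂ ι₂ K) * B * (A * (h : Matrix ι₂ ι₂ K) * B)
    rw [Units.val_mul, Matrix.mul_assoc (A * (g : Matrix ι₂ ι₂ K)), ← Matrix.mul_assoc B,
      ← Matrix.mul_assoc B, hBA, Matrix.one_mul]
    simp only [Matrix.mul_assoc]

theorem glConjRect_coe (A : Matrix ι₁ ι₂ K) (B : Matrix ι₂ ι₁ K) (hAB : A * B = 1)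
    (hBA : B * A = 1) (g : GL ι₂ K) :
    ((glConjRect A B hAB hBA g : GL ι₁ K) : Matrix ι₁ ι₁ K) = A * (g : Matrix ι₂ ι₂ K) * B := rfl

theorem glConjRect_glConjRect (A : Matrix ι₁ ι₂ K) (B : Matrix ι₂ ι₁ K) (hAB : A * B = 1)
    (hBA : B * A = 1) (g : GL ι₁ K) :
    glConjRect A B hAB hBA (glConjRect B A hBA hAB g) = g := by
  apply Units.ext
  rw [glConjRect_coe, glConjRect_coe]
  calc A * (B * (g : Matrix ι₁ ι₁ K) * A) * B
      = (A * B) * (g : Matrix ι₁ ι₁ K) * (A * B) := by simp only [Matrix.mul_assoc]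
    _ = (g : Matrix ι₁ ι₁ K) := by rw [hAB, Matrix.one_mul, Matrix.mul_one]

theorem glConjRect_mem_quadSim (Q₁ : (ι₁ → K) → K) (Q₂ : (ι₂ → K) → K)
    (A : Matrix ι₁ ι₂ K) (B : Matrix ι₂ ι₁ K) (hAB : A * B = 1)
    (hBA : B * A = 1) (hQ : ∀ v, Q₁ (A *ᵥ v) = Q₂ v) (g : GL ι₂ K) :
    glConjRect A B hAB hBA g ∈ Cfsg.Geo.quadSimilarityGroup Q₁ ↔
      g ∈ Cfsg.Geo.quadSimilarityGroup Q₂ := by
  constructor
  · rintro ⟨c, hc⟩
    refine ⟨c, fun v => ?_⟩
    have h1 := hc (A *ᵥ v)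
    rw [glConjRect_coe, Matrix.mulVec_mulVec, Matrix.mul_assoc, hBA, Matrix.mul_one,
      ← Matrix.mulVec_mulVec, hQ, hQ] at h1
    exact h1
  · rintro ⟨c, hc⟩
    refine ⟨c, fun w => ?_⟩
    have h1 := hc (B *ᵥ w)
    rw [glConjRect_coe, ← Matrix.mulVec_mulVec, ← Matrix.mulVec_mulVec, hQ, h1, ← hQ,
      Matrix.mulVec_mulVec, hAB, Matrix.one_mulVec]

theorem glConjRect_mem_scalars (A : Matrix ι₁ ι₂ K) (B : Matrix ι₂ ι₁ K) (hAB : A * B = 1)
    (hBA : B * A = 1) (g : GL ι₂ K) :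
    glConjRect A B hAB hBA g ∈ Cfsg.Geo.scalars ι₁ K ↔ g ∈ Cfsg.Geo.scalars ι₂ K := by
  rw [Cfsg.Geo.mem_scalars_iff, Cfsg.Geo.mem_scalars_iff, glConjRect_coe]
  constructor
  · rintro ⟨c, hc⟩
    refine ⟨c, ?_⟩
    calc (g : Matrix ι₂ ι₂ K) = (B * A) * (g : Matrix ι₂ ι₂ K) * (B * A) := by
          rw [hBA, Matrix.one_mul, Matrix.mul_one]
      _ = B * (A * (g : Matrix ι₂ ι₂ K) * B) * A := by simp only [Matrix.mul_assoc]
      _ = (c : K) • 1 := by
          rw [hc, Matrix.mul_smul, Matrix.mul_one, Matrix.smul_mul, hBA]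
  · rintro ⟨c, hc⟩
    refine ⟨c, ?_⟩
    rw [hc, Matrix.mul_smul, Matrix.mul_one, Matrix.smul_mul, hAB]

/-- equivalent one-argument forms have isomorphic projective similarity groups -/
theorem projQuot_quadSim_congr (Q₁ : (ι₁ → K) → K) (Q₂ : (ι₂ → K) → K)
    (A : Matrix ι₁ ι₂ K) (B : Matrix ι₂ ι₁ K) (hAB : A * B = 1)
    (hBA : B * A = 1) (hQ : ∀ v, Q₁ (A *ᵥ v) = Q₂ v) :
    Nonempty (Cfsg.projQuot (Cfsg.Geo.quadSimilarityGroup Q₂) ≃*
      Cfsg.projQuot (Cfsg.Geo.quadSimilarityGroup Q₁)) := by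
  -- the restricted homomorphism
  let f₀ : ↥(Cfsg.Geo.quadSimilarityGroup Q₂) →* ↥(Cfsg.Geo.quadSimilarityGroup Q₁) :=
    { toFun := fun g => ⟨glConjRect A B hAB hBA g.1,
        (glConjRect_mem_quadSim Q₁ Q₂ A B hAB hBA hQ g.1).mpr g.2⟩
      map_one' := by
        apply Subtype.ext
        show glConjRect A B hAB hBA (1 : GL ι₂ K) = 1
        rw [map_one]
      map_mul' := fun g h => by
        apply Subtype.ext
        show glConjRect A B hAB hBA (g.1 * h.1) = _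
        rw [map_mul]
        rfl }
  let f : ↥(Cfsg.Geo.quadSimilarityGroup Q₂) →* Cfsg.projQuot (Cfsg.Geo.quadSimilarityGroup Q₁) :=
    (QuotientGroup.mk' _).comp f₀
  have hsurj : Function.Surjective f := by
    intro x
    obtain ⟨h, rfl⟩ := QuotientGroup.mk_surjective x
    have hmem : glConjRect B A hBA hAB h.1 ∈ Cfsg.Geo.quadSimilarityGroup Q₂ := by
      rw [← glConjRect_mem_quadSim Q₁ Q₂ A B hAB hBA hQ, glConjRect_glConjRect]
      exact h.2
    refine ⟨⟨glConjRect B A hBA hAB h.1, hmem⟩, ?_⟩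
    show QuotientGroup.mk (f₀ ⟨glConjRect B A hBA hAB h.1, hmem⟩) = QuotientGroup.mk h
    congr 1
    apply Subtype.ext
    exact glConjRect_glConjRect A B hAB hBA h.1
  have hker : f.ker = (Cfsg.Geo.scalars ι₂ K).subgroupOf (Cfsg.Geo.quadSimilarityGroup Q₂) := by
    ext g
    rw [MonoidHom.mem_ker, Subgroup.mem_subgroupOf]
    show (QuotientGroup.mk (f₀ g) : Cfsg.projQuot (Cfsg.Geo.quadSimilarityGroup Q₁)) = 1 ↔ _
    rw [QuotientGroup.eq_one_iff, Subgroup.mem_subgroupOf]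
    exact glConjRect_mem_scalars A B hAB hBA g.1
  exact ⟨(QuotientGroup.quotientMulEquivOfEq hker.symm).trans
    (QuotientGroup.quotientKerEquivOfSurjective f hsurj)⟩

end congr

end Cfsg.Agent.Lib.Helper43
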