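/-
helper43: the sum-of-squares form; its similarity group in matrix terms; over a field with
`a² + b² = -1` and `2 ≠ 0` the sum of `4k` squares is the plus-type form.
-/
import Mathlib
import Cfsg.Agent.Lib.Helper43.FormCongr

set_option autoImplicit false
set_option linter.unusedSimpArgs false

namespace Cfsg.Agent.Lib.Helper43

open scoped MatrixGroups Matrix
open Matrix

variable {K : Type*} [Field K]

/-- the sum-of-squares form on `K^n` -/
def sumSq (n : ℕ) (K : Type*) [Field K] (w : Fin n → K) : K := ∑ i, w i ^ 2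

theorem sumSq_mulVec {n : ℕ} (M : Matrix (Fin n) (Fin n) K) (w : Fin n → K) :
    sumSq n K (M *ᵥ w) = w ⬝ᵥ ((Mᵀ * M) *ᵥ w) := by
  unfold sumSq
  rw [← Matrix.mulVec_mulVec, Matrix.dotProduct_mulVec, Matrix.vecMul_transpose]
  simp only [dotProduct, pow_two]

theorem sumSq_eq_dotProduct {n : ℕ} (w : Fin n → K) : sumSq n K w = w ⬝ᵥ w := by
  unfold sumSq
  simp only [dotProduct, pow_two]

/-- a symmetric matrix whose quadratic form vanishes is zero (char ≠ 2) -/
theorem eq_zero_of_quad_zero {n : ℕ} (h2 : (2 : K) ≠ 0) (S : Matrix (Fin n) (Fin n) K)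
    (hS : Sᵀ = S) (h : ∀ w : Fin n → K, w ⬝ᵥ (S *ᵥ w) = 0) : S = 0 := by
  have hb : ∀ u v : Fin n → K, u ⬝ᵥ (S *ᵥ v) = 0 := by
    intro u v
    have h1 := h (u + v)
    rw [Matrix.mulVec_add, add_dotProduct, dotProduct_add, dotProduct_add, h u, h v, zero_add,
      add_zero] at h1
    have h3 : v ⬝ᵥ (S *ᵥ u) = u ⬝ᵥ (S *ᵥ v) := by
      rw [Matrix.dotProduct_mulVec, ← Matrix.mulVec_transpose, hS, dotProduct_comm]
    rw [h3, ← two_mul] at h1
    exact (mul_eq_zero.mp h1).resolve_left h2
  ext i j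
  have := hb (Pi.single i 1) (Pi.single j 1)
  rw [Matrix.mulVec_single_one, single_dotProduct, one_mul] at this
  simpa using this

theorem mem_sumSqSim_iff {n : ℕ} (h2 : (2 : K) ≠ 0) (g : GL (Fin n) K) :
    g ∈ Cfsg.Geo.quadSimilarityGroup (sumSq n K) ↔
      ∃ c : Kˣ, (g : Matrix (Fin n) (Fin n) K)ᵀ * (g : Matrix (Fin n) (Fin n) K) =
        (c : K) • (1 : Matrix (Fin n) (Fin n) K) := by
  constructor
  · rintro ⟨c, hc⟩
    refine ⟨c, ?_⟩
    set G : Matrix (Fin n) (Fin n) K := (g : Matrix (Fin n) (Fin n) K) with hG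
    have h0 : Gᵀ * G - (c : K) • (1 : Matrix (Fin n) (Fin n) K) = 0 := by
      apply eq_zero_of_quad_zero h2
      · rw [Matrix.transpose_sub, Matrix.transpose_mul, Matrix.transpose_transpose,
          Matrix.transpose_smul, Matrix.transpose_one]
      · intro w
        have h1 := hc w
        rw [sumSq_mulVec, sumSq_eq_dotProduct] at h1
        rw [Matrix.sub_mulVec, dotProduct_sub, h1, Matrix.smul_mulVec, Matrix.one_mulVec,
          dotProduct_smul, smul_eq_mul, sub_self]
    exact sub_eq_zero.mp h0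
  · rintro ⟨c, hc⟩
    refine ⟨c, fun w => ?_⟩
    rw [sumSq_mulVec, hc, Matrix.smul_mulVec, Matrix.one_mulVec, dotProduct_smul, smul_eq_mul,
      sumSq_eq_dotProduct]

/-! ### sum of `4k` squares is the plus form -/

section plus

variable (K) in
/-- coordinate functionals -/
abbrev cX (k : ℕ) (x : Fin (k + k) ⊕ Fin (k + k)) :
    ((Fin (k + k) ⊕ Fin (k + k)) → K) →ₗ[K] K := LinearMap.proj x

/-- the change of coordinates from the plus form to the sum of squares -/
noncomputable def plusToSq (a b : K) (k : ℕ) :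
    ((Fin (k + k) ⊕ Fin (k + k)) → K) →ₗ[K] ((Fin (k + k) ⊕ Fin (k + k)) → K) :=
  LinearMap.pi (Sum.elim
    (Fin.addCases
      (fun t => cX K k (.inl (Fin.castAdd k t)) + (1 / 4 : K) • cX K k (.inr (Fin.castAdd k t)))
      (fun t => a • cX K k (.inl (Fin.castAdd k t)) - (a / 4) • cX K k (.inr (Fin.castAdd k t))
        - b • cX K k (.inl (Fin.natAdd k t)) + (b / 4) • cX K k (.inr (Fin.natAdd k t))))
    (Fin.addCases
      (fun t => b • cX K k (.inl (Fin.castAdd k t)) - (b / 4) • cX K k (.inr (Fin.castAdd k t))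
        + a • cX K k (.inl (Fin.natAdd k t)) - (a / 4) • cX K k (.inr (Fin.natAdd k t)))
      (fun t => cX K k (.inl (Fin.natAdd k t)) + (1 / 4 : K) • cX K k (.inr (Fin.natAdd k t)))))

theorem plusToSq_inl_cast (a b : K) (k : ℕ) (v : (Fin (k + k) ⊕ Fin (k + k)) → K) (t : Fin k) :
    plusToSq a b k v (.inl (Fin.castAdd k t)) =
      v (.inl (Fin.castAdd k t)) + 1 / 4 * v (.inr (Fin.castAdd k t)) := by
  simp only [plusToSq, LinearMap.pi_apply, Sum.elim_inl, Sum.elim_inr, Fin.addCases_left,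
    Fin.addCases_right, LinearMap.add_apply, LinearMap.sub_apply, LinearMap.smul_apply,
    LinearMap.proj_apply, smul_eq_mul]

theorem plusToSq_inl_nat (a b : K) (k : ℕ) (v : (Fin (k + k) ⊕ Fin (k + k)) → K) (t : Fin k) :
    plusToSq a b k v (.inl (Fin.natAdd k t)) =
      a * v (.inl (Fin.castAdd k t)) - a / 4 * v (.inr (Fin.castAdd k t))
        - b * v (.inl (Fin.natAdd k t)) + b / 4 * v (.inr (Fin.natAdd k t)) := by
  simp only [plusToSq, LinearMap.pi_apply, Sum.elim_inl, Sum.elim_inr, Fin.addCases_left,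
    Fin.addCases_right, LinearMap.add_apply, LinearMap.sub_apply, LinearMap.smul_apply,
    LinearMap.proj_apply, smul_eq_mul]

theorem plusToSq_inr_cast (a b : K) (k : ℕ) (v : (Fin (k + k) ⊕ Fin (k + k)) → K) (t : Fin k) :
    plusToSq a b k v (.inr (Fin.castAdd k t)) =
      b * v (.inl (Fin.castAdd k t)) - b / 4 * v (.inr (Fin.castAdd k t))
        + a * v (.inl (Fin.natAdd k t)) - a / 4 * v (.inr (Fin.natAdd k t)) := by
  simp only [plusToSq, LinearMap.pi_apply, Sum.elim_inl, Sum.elim_inr, Fin.addCases_left,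
    Fin.addCases_right, LinearMap.add_apply, LinearMap.sub_apply, LinearMap.smul_apply,
    LinearMap.proj_apply, smul_eq_mul]

theorem plusToSq_inr_nat (a b : K) (k : ℕ) (v : (Fin (k + k) ⊕ Fin (k + k)) → K) (t : Fin k) :
    plusToSq a b k v (.inr (Fin.natAdd k t)) =
      v (.inl (Fin.natAdd k t)) + 1 / 4 * v (.inr (Fin.natAdd k t)) := by
  simp only [plusToSq, LinearMap.pi_apply, Sum.elim_inl, Sum.elim_inr, Fin.addCases_left,
    Fin.addCases_right, LinearMap.add_apply, LinearMap.sub_apply, LinearMap.smul_apply,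
    LinearMap.proj_apply, smul_eq_mul]

theorem plusToSq_form (h2 : (2 : K) ≠ 0) (a b : K) (hab : a ^ 2 + b ^ 2 = -1) (k : ℕ)
    (v : (Fin (k + k) ⊕ Fin (k + k)) → K) :
    ∑ x, plusToSq a b k v x ^ 2 = Cfsg.quadFormPlus (k + k) K v := by
  have h4 : (4 : K) ≠ 0 := by
    have : (4 : K) = 2 * 2 := by norm_num
    rw [this]
    exact mul_ne_zero h2 h2
  unfold Cfsg.quadFormPlus
  rw [Fintype.sum_sum_type, Fin.sum_univ_add, Fin.sum_univ_add, Fin.sum_univ_add]
  simp only [plusToSq_inl_cast, plusToSq_inl_nat, plusToSq_inr_cast, plusToSq_inr_nat]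
  rw [← Finset.sum_add_distrib, ← Finset.sum_add_distrib, ← Finset.sum_add_distrib,
    ← Finset.sum_add_distrib]
  apply Finset.sum_congr rfl
  intro t _
  set x₁ := v (.inl (Fin.castAdd k t))
  set y₁ := v (.inr (Fin.castAdd k t))
  set x₂ := v (.inl (Fin.natAdd k t))
  set y₂ := v (.inr (Fin.natAdd k t))
  field_simp
  linear_combination ((4 * x₁ - y₁) ^ 2 + (4 * x₂ - y₂) ^ 2) * hab

theorem plusToSq_injective (h2 : (2 : K) ≠ 0) (a b : K) (hab : a ^ 2 + b ^ 2 = -1) (k : ℕ) :
    Function.Injective (plusToSq a b k) := by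
  rw [injective_iff_map_eq_zero]
  intro v hv
  have h4 : (4 : K) ≠ 0 := by
    have : (4 : K) = 2 * 2 := by norm_num
    rw [this]
    exact mul_ne_zero h2 h2
  have key : ∀ t : Fin k, v (.inl (Fin.castAdd k t)) = 0 ∧ v (.inr (Fin.castAdd k t)) = 0 ∧
      v (.inl (Fin.natAdd k t)) = 0 ∧ v (.inr (Fin.natAdd k t)) = 0 := by
    intro t
    have e1 := congrFun hv (.inl (Fin.castAdd k t))
    have e2 := congrFun hv (.inl (Fin.natAdd k t))
    have e3 := congrFun hv (.inr (Fin.castAdd k t))
    have e4 := congrFun hv (.inr (Fin.natAdd k t))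
    rw [plusToSq_inl_cast] at e1
    rw [plusToSq_inl_nat] at e2
    rw [plusToSq_inr_cast] at e3
    rw [plusToSq_inr_nat] at e4
    simp only [Pi.zero_apply] at e1 e2 e3 e4
    set x₁ := v (.inl (Fin.castAdd k t))
    set y₁ := v (.inr (Fin.castAdd k t))
    set x₂ := v (.inl (Fin.natAdd k t))
    set y₂ := v (.inr (Fin.natAdd k t))
    -- u₁ = x₁ - y₁/4, u₂ = x₂ - y₂/4
    have hu1 : x₁ - 1 / 4 * y₁ = 0 := by
      have : -(x₁ - 1 / 4 * y₁) = 0 := by
        linear_combination a * e2 + b * e3 - (x₁ - 1 / 4 * y₁) * hab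
      exact neg_eq_zero.mp this
    have hu2 : x₂ - 1 / 4 * y₂ = 0 := by
      have : -(x₂ - 1 / 4 * y₂) = 0 := by
        linear_combination (-b) * e2 + a * e3 - (x₂ - 1 / 4 * y₂) * hab
      exact neg_eq_zero.mp this
    have hx1 : x₁ = 0 := by
      have : 2 * x₁ = 0 := by linear_combination e1 + hu1
      exact (mul_eq_zero.mp this).resolve_left h2
    have hx2 : x₂ = 0 := by
      have : 2 * x₂ = 0 := by linear_combination e4 + hu2
      exact (mul_eq_zero.mp this).resolve_left h2
    have hy1 : y₁ = 0 := by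
      have : 1 / 4 * y₁ = 0 := by linear_combination e1 - hx1
      exact (mul_eq_zero.mp this).resolve_left (one_div_ne_zero h4)
    have hy2 : y₂ = 0 := by
      have : 1 / 4 * y₂ = 0 := by linear_combination e4 - hx2
      exact (mul_eq_zero.mp this).resolve_left (one_div_ne_zero h4)
    exact ⟨hx1, hy1, hx2, hy2⟩
  funext x
  rcases x with i | i
  · refine Fin.addCases (fun t => ?_) (fun t => ?_) i
    · exact (key t).1
    · exact (key t).2.2.1
  · refine Fin.addCases (fun t => ?_) (fun t => ?_) i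
    · exact (key t).2.1
    · exact (key t).2.2.2

end plus

/-- a form that becomes the sum of squares after an injective linear change of coordinates has the
projective similarity group of the sum of squares -/
theorem pgo_congr_sumSq {ι : Type} [Fintype ι] [DecidableEq ι] (Q : (ι → K) → K)
    (T : (ι → K) →ₗ[K] (ι → K)) (hT : Function.Injective T)
    (hQ : ∀ v, ∑ x, T v x ^ 2 = Q v) {n : ℕ} (e : ι ≃ Fin n) :
    Nonempty (Cfsg.projQuot (Cfsg.Geo.quadSimilarityGroup Q) ≃*
      Cfsg.projQuot (Cfsg.Geo.quadSimilarityGroup (sumSq n K))) := by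
  set Te : (ι → K) ≃ₗ[K] (ι → K) := LinearEquiv.ofInjectiveEndo T hT with hTe
  have hTe_apply : ∀ v, Te v = T v := fun v => rfl
  set P : Matrix ι ι K := LinearMap.toMatrix' T with hP
  set P' : Matrix ι ι K := LinearMap.toMatrix' (Te.symm : (ι → K) →ₗ[K] (ι → K)) with hP'
  have hPP' : P * P' = 1 := by
    rw [hP, hP', ← LinearMap.toMatrix'_comp]
    have : T ∘ₗ (Te.symm : (ι → K) →ₗ[K] (ι → K)) = LinearMap.id := by
      apply LinearMap.ext
      intro v
      show T (Te.symm v) = v
      rw [← hTe_apply, LinearEquiv.apply_symm_apply]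
    rw [this, LinearMap.toMatrix'_id]
  have hP'P : P' * P = 1 := mul_eq_one_comm.mp hPP'
  refine projQuot_quadSim_congr (sumSq n K) Q (P.submatrix e.symm (Equiv.refl ι))
    (P'.submatrix (Equiv.refl ι) e.symm) ?_ ?_ ?_
  · rw [Matrix.submatrix_mul_equiv, hPP', Matrix.submatrix_one_equiv]
  · rw [Matrix.submatrix_mul_equiv, hP'P]
    rfl
  · intro v
    rw [← hQ v]
    unfold sumSq
    rw [← Equiv.sum_comp e]
    apply Finset.sum_congr rfl
    intro x _
    congr 1
    rw [Matrix.submatrix_mulVec_equiv, Function.comp_apply, Equiv.symm_apply_apply, hP,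
      LinearMap.toMatrix'_mulVec]
    rfl

/-- `−1` is a sum of two squares in a finite field of odd order -/
theorem exists_sq_add_sq_eq_neg_one [Fintype K] (hodd : Fintype.card K % 2 = 1) :
    ∃ a b : K, a ^ 2 + b ^ 2 = -1 := by
  classical
  obtain ⟨a, b, hab⟩ := FiniteField.exists_root_sum_quadratic (R := K)
    (f := Polynomial.X ^ 2) (g := Polynomial.X ^ 2 + 1) (Polynomial.degree_X_pow 2)
    (by
      rw [Polynomial.degree_add_eq_left_of_degree_lt]
      · exact Polynomial.degree_X_pow 2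
      · rw [Polynomial.degree_X_pow, Polynomial.degree_one]
        norm_num) hodd
  refine ⟨a, b, ?_⟩
  simp only [Polynomial.eval_pow, Polynomial.eval_X, Polynomial.eval_add, Polynomial.eval_one]
    at hab
  linear_combination hab

/-- over a finite field of odd order the sum of `4k` squares is the plus form: projective
conformal orthogonal groups agree -/
theorem pgo_plus_equiv_sumSq [Fintype K] (hodd : Fintype.card K % 2 = 1) {n m : ℕ}
    (hnm : n = 2 * m) (h4 : 4 ∣ n) :
    Nonempty (Cfsg.PGO K (Cfsg.quadFormPlus m K) ≃*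
      Cfsg.projQuot (Cfsg.Geo.quadSimilarityGroup (sumSq n K))) := by
  have h2 : (2 : K) ≠ 0 := by
    intro h
    have hchar : ringChar K = 2 := by
      have hdvd : ringChar K ∣ 2 := (ringChar.spec K 2).mp (by exact_mod_cast h)
      rcases (Nat.dvd_prime Nat.prime_two).mp hdvd with h1 | h1
      · exact absurd h1 (CharP.ringChar_ne_one)
      · exact h1
    have := FiniteField.even_card_of_char_two hchar
    omega
  obtain ⟨k, rfl⟩ : ∃ k, m = k + k := by
    obtain ⟨c, hc⟩ := h4
    exact ⟨c, by omega⟩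
  obtain ⟨a, b, hab⟩ := exists_sq_add_sq_eq_neg_one (K := K) hodd
  have e : (Fin (k + k) ⊕ Fin (k + k)) ≃ Fin n := by
    subst hnm
    exact finSumFinEquiv.trans (finCongr (by omega))
  exact pgo_congr_sumSq (Cfsg.quadFormPlus (k + k) K) (plusToSq a b k)
    (plusToSq_injective h2 a b hab k) (plusToSq_form h2 a b hab k) e

end Cfsg.Agent.Lib.Helper43
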