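/-
helper43: the centraliser in `Inndiag(PSL_n(F))` of the inverse-transpose automorphism is the
projective similarity group of the sum-of-squares form (`char F ≠ 2`); identification of that
form with the plus or minus form over a finite field of odd order in even dimension.
-/
import Mathlib
import Cfsg.Agent.Lib.Helper43.PSLnGraphField
import Cfsg.Agent.Lib.Helper43.SumSqPlus

set_option autoImplicit false
set_option linter.unusedSimpArgs false

namespace Cfsg.Agent.Lib.Helper43

open scoped MatrixGroups Matrix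
open Matrix

variable {n : ℕ} {F : Type*} [Field F]

theorem pslTwist_one :
    (pslTwist (1 : RingAut F) : MulAut (Matrix.ProjectiveSpecialLinearGroup (Fin n) F)) =
      pslInvT := by
  unfold pslTwist
  rw [map_one, one_mul]

theorem glStar_one_coe (k : GL (Fin n) F) :
    ((glStar (1 : RingAut F) k : GL (Fin n) F) : Matrix (Fin n) (Fin n) F) =
      (k : Matrix (Fin n) (Fin n) F)ᵀ := by
  rw [glStar_coe]
  congr 1

theorem pslDiag_mem_centralizer_pslInvT_iff (hn : 2 ≤ n) (h2 : (2 : F) ≠ 0) (k : GL (Fin n) F) :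
    (pslDiag k : MulAut (Matrix.ProjectiveSpecialLinearGroup (Fin n) F)) ∈
        Subgroup.centralizer {pslInvT} ↔
      k ∈ Cfsg.Geo.quadSimilarityGroup (sumSq n F) := by
  rw [← pslTwist_one, pslDiag_mem_centralizer_pslTwist_iff hn 1 k, mem_sumSqSim_iff h2]
  constructor
  · rintro ⟨c, hc⟩
    refine ⟨c, ?_⟩
    have h1 : glStar (1 : RingAut F) k * k = Matrix.GeneralLinearGroup.scalar (Fin n) c := by
      have h3 : glStar (1 : RingAut F) k = k⁻¹ * Matrix.GeneralLinearGroup.scalar (Fin n) c := by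
        rw [← hc]; group
      have hcen : Matrix.GeneralLinearGroup.scalar (Fin n) c ∈ Subgroup.center (GL (Fin n) F) := by
        rw [Matrix.GeneralLinearGroup.center_eq_range_scalar]
        exact ⟨c, rfl⟩
      rw [h3, mul_assoc, ← Subgroup.mem_center_iff.mp hcen k, ← mul_assoc, inv_mul_cancel,
        one_mul]
    have h4 := congrArg (fun g : GL (Fin n) F => (g : Matrix (Fin n) (Fin n) F)) h1
    beta_reduce at h4
    rw [Units.val_mul, glStar_one_coe, scalar_coe] at h4
    exact h4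
  · rintro ⟨c, hc⟩
    refine ⟨c, ?_⟩
    have h1 : glStar (1 : RingAut F) k * k = Matrix.GeneralLinearGroup.scalar (Fin n) c := by
      apply Units.ext
      rw [Units.val_mul, glStar_one_coe, scalar_coe]
      exact hc
    have h3 : glStar (1 : RingAut F) k = Matrix.GeneralLinearGroup.scalar (Fin n) c * k⁻¹ := by
      rw [← h1]; group
    have hcen : Matrix.GeneralLinearGroup.scalar (Fin n) c ∈ Subgroup.center (GL (Fin n) F) := by
      rw [Matrix.GeneralLinearGroup.center_eq_range_scalar]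
      exact ⟨c, rfl⟩
    rw [h3, ← mul_assoc, Subgroup.mem_center_iff.mp hcen k, mul_assoc, mul_inv_cancel, mul_one]

/-- the homomorphism from the similarities of the sum of squares to the centraliser -/
noncomputable def sqToCentralizer (hn : 2 ≤ n) (h2 : (2 : F) ≠ 0) :
    ↥(Cfsg.Geo.quadSimilarityGroup (sumSq n F)) →*
      ↥(Cfsg.inndiagPSL n F ⊓ Subgroup.centralizer
        {(pslInvT : MulAut (Matrix.ProjectiveSpecialLinearGroup (Fin n) F))}) where
  toFun h := ⟨pslDiag h.1, Subgroup.mem_inf.mpr ⟨pslDiag_mem_inndiagPSL h.1,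
    (pslDiag_mem_centralizer_pslInvT_iff hn h2 h.1).mpr h.2⟩⟩
  map_one' := Subtype.ext (map_one _)
  map_mul' a b := Subtype.ext (map_mul _ _ _)

theorem sqToCentralizer_coe (hn : 2 ≤ n) (h2 : (2 : F) ≠ 0)
    (h : ↥(Cfsg.Geo.quadSimilarityGroup (sumSq n F))) :
    ((sqToCentralizer hn h2 h : ↥(Cfsg.inndiagPSL n F ⊓ Subgroup.centralizer
        {(pslInvT : MulAut (Matrix.ProjectiveSpecialLinearGroup (Fin n) F))})) :
        MulAut (Matrix.ProjectiveSpecialLinearGroup (Fin n) F)) = pslDiag h.1 := rfl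

theorem ker_sqToCentralizer (hn : 2 ≤ n) (h2 : (2 : F) ≠ 0) :
    (sqToCentralizer (n := n) (F := F) hn h2).ker =
      (Cfsg.Geo.scalars (Fin n) F).subgroupOf (Cfsg.Geo.quadSimilarityGroup (sumSq n F)) := by
  ext h
  rw [MonoidHom.mem_ker, Subgroup.mem_subgroupOf, Subtype.ext_iff, sqToCentralizer_coe]
  have h1 : (pslDiag h.1 : MulAut (Matrix.ProjectiveSpecialLinearGroup (Fin n) F)) = 1 ↔
      h.1 ∈ (pslDiag : GL (Fin n) F →*
        MulAut (Matrix.ProjectiveSpecialLinearGroup (Fin n) F)).ker := by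
    rw [MonoidHom.mem_ker]
  show (pslDiag h.1 : MulAut (Matrix.ProjectiveSpecialLinearGroup (Fin n) F)) = 1 ↔ _
  rw [h1, ker_pslDiag hn, Matrix.GeneralLinearGroup.center_eq_range_scalar]
  rfl

theorem sqToCentralizer_surjective (hn : 2 ≤ n) (h2 : (2 : F) ≠ 0) :
    Function.Surjective (sqToCentralizer (n := n) (F := F) hn h2) := by
  rintro ⟨β, hβ⟩
  obtain ⟨hβ1, hβ2⟩ := Subgroup.mem_inf.mp hβ
  rw [inndiagPSL_eq_range] at hβ1
  obtain ⟨k, rfl⟩ := hβ1
  exact ⟨⟨k, (pslDiag_mem_centralizer_pslInvT_iff hn h2 k).mp hβ2⟩, rfl⟩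

/-- `C_{Inndiag}(ι) ≅ PGO(sum of squares)` -/
theorem nonempty_centralizer_pslInvT_equiv (hn : 2 ≤ n) (h2 : (2 : F) ≠ 0) :
    Nonempty (↥(Cfsg.inndiagPSL n F ⊓ Subgroup.centralizer
        {(pslInvT : MulAut (Matrix.ProjectiveSpecialLinearGroup (Fin n) F))}) ≃*
      Cfsg.projQuot (Cfsg.Geo.quadSimilarityGroup (sumSq n F))) :=
  ⟨((QuotientGroup.quotientMulEquivOfEq (ker_sqToCentralizer hn h2).symm).trans
    (QuotientGroup.quotientKerEquivOfSurjective _ (sqToCentralizer_surjective hn h2))).symm⟩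

/-! ### the plus form when `-1` is a square -/

section forms

variable {K : Type*} [Field K]

variable (K) in
/-- coordinate functionals -/
abbrev cY (m : ℕ) (x : Fin m ⊕ Fin m) : ((Fin m ⊕ Fin m) → K) →ₗ[K] K := LinearMap.proj x

/-- change of coordinates from the plus form to the sum of squares when `i² = -1` -/
noncomputable def plusToSqI (i : K) (m : ℕ) :
    ((Fin m ⊕ Fin m) → K) →ₗ[K] ((Fin m ⊕ Fin m) → K) :=
  LinearMap.pi (Sum.elim
    (fun t => (1 / 2 : K) • (cY K m (Sum.inl t) + cY K m (Sum.inr t)))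
    (fun t => (1 / (2 * i) : K) • (cY K m (Sum.inl t) - cY K m (Sum.inr t))))

theorem plusToSqI_inl (i : K) (m : ℕ) (v : (Fin m ⊕ Fin m) → K) (t : Fin m) :
    plusToSqI i m v (.inl t) = 1 / 2 * (v (.inl t) + v (.inr t)) := by
  simp only [plusToSqI, LinearMap.pi_apply, Sum.elim_inl, LinearMap.smul_apply,
    LinearMap.add_apply, LinearMap.proj_apply, smul_eq_mul]

theorem plusToSqI_inr (i : K) (m : ℕ) (v : (Fin m ⊕ Fin m) → K) (t : Fin m) :
    plusToSqI i m v (.inr t) = 1 / (2 * i) * (v (.inl t) - v (.inr t)) := by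
  simp only [plusToSqI, LinearMap.pi_apply, Sum.elim_inr, LinearMap.smul_apply,
    LinearMap.sub_apply, LinearMap.proj_apply, smul_eq_mul]

theorem plusToSqI_form (h2 : (2 : K) ≠ 0) (i : K) (hi : i ^ 2 = -1) (m : ℕ)
    (v : (Fin m ⊕ Fin m) → K) :
    ∑ x, plusToSqI i m v x ^ 2 = Cfsg.quadFormPlus m K v := by
  have hi0 : i ≠ 0 := by
    rintro rfl
    norm_num at hi
  unfold Cfsg.quadFormPlus
  rw [Fintype.sum_sum_type]
  simp only [plusToSqI_inl, plusToSqI_inr]
  rw [← Finset.sum_add_distrib]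
  apply Finset.sum_congr rfl
  intro t _
  set x := v (.inl t)
  set y := v (.inr t)
  field_simp
  linear_combination ((x - y) ^ 2) * hi

theorem plusToSqI_injective (h2 : (2 : K) ≠ 0) (i : K) (hi : i ^ 2 = -1) (m : ℕ) :
    Function.Injective (plusToSqI i m) := by
  have hi0 : i ≠ 0 := by
    rintro rfl
    norm_num at hi
  rw [injective_iff_map_eq_zero]
  intro v hv
  have key : ∀ t : Fin m, v (.inl t) = 0 ∧ v (.inr t) = 0 := by
    intro t
    have e1 := congrFun hv (.inl t)
    have e2 := congrFun hv (.inr t)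
    rw [plusToSqI_inl] at e1
    rw [plusToSqI_inr] at e2
    simp only [Pi.zero_apply] at e1 e2
    have e1' : v (.inl t) + v (.inr t) = 0 :=
      (mul_eq_zero.mp e1).resolve_left (one_div_ne_zero h2)
    have e2' : v (.inl t) - v (.inr t) = 0 :=
      (mul_eq_zero.mp e2).resolve_left (one_div_ne_zero (mul_ne_zero h2 hi0))
    have hx : v (.inl t) = 0 := by
      have : 2 * v (.inl t) = 0 := by linear_combination e1' + e2'
      exact (mul_eq_zero.mp this).resolve_left h2
    have hy : v (.inr t) = 0 := by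
      have : 2 * v (.inr t) = 0 := by linear_combination e1' - e2'
      exact (mul_eq_zero.mp this).resolve_left h2
    exact ⟨hx, hy⟩
  funext x
  rcases x with t | t
  · exact (key t).1
  · exact (key t).2

/-- change of coordinates from the minus form with binary part `z₁² + z₂²` to the sum of squares -/
noncomputable def minusToSq (a b : K) (k : ℕ) :
    (((Fin (k + k) ⊕ Fin (k + k)) ⊕ Fin 2) → K) →ₗ[K]
      (((Fin (k + k) ⊕ Fin (k + k)) ⊕ Fin 2) → K) :=
  LinearMap.pi (Sum.elim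
    (fun x => (LinearMap.proj x ∘ₗ plusToSq a b k) ∘ₗ LinearMap.funLeft K K Sum.inl)
    (fun z => LinearMap.proj (Sum.inr z)))

theorem minusToSq_inl (a b : K) (k : ℕ) (v : ((Fin (k + k) ⊕ Fin (k + k)) ⊕ Fin 2) → K)
    (x : Fin (k + k) ⊕ Fin (k + k)) :
    minusToSq a b k v (.inl x) = plusToSq a b k (v ∘ Sum.inl) x := by
  simp only [minusToSq, LinearMap.pi_apply, Sum.elim_inl, LinearMap.comp_apply,
    LinearMap.proj_apply]
  rfl

theorem minusToSq_inr (a b : K) (k : ℕ) (v : ((Fin (k + k) ⊕ Fin (k + k)) ⊕ Fin 2) → K)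
    (z : Fin 2) :
    minusToSq a b k v (.inr z) = v (.inr z) := by
  simp only [minusToSq, LinearMap.pi_apply, Sum.elim_inr, LinearMap.proj_apply]

theorem minusToSq_form (h2 : (2 : K) ≠ 0) (a b : K) (hab : a ^ 2 + b ^ 2 = -1) (k : ℕ)
    (v : ((Fin (k + k) ⊕ Fin (k + k)) ⊕ Fin 2) → K) :
    ∑ x, minusToSq a b k v x ^ 2 = Cfsg.quadFormMinus (k + k) K 0 1 v := by
  unfold Cfsg.quadFormMinus
  rw [Fintype.sum_sum_type]
  simp only [minusToSq_inl, minusToSq_inr]
  rw [plusToSq_form h2 a b hab k (v ∘ Sum.inl), Fin.sum_univ_two]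
  unfold Cfsg.quadFormPlus
  simp only [Function.comp_apply]
  ring

theorem minusToSq_injective (h2 : (2 : K) ≠ 0) (a b : K) (hab : a ^ 2 + b ^ 2 = -1) (k : ℕ) :
    Function.Injective (minusToSq a b k) := by
  rw [injective_iff_map_eq_zero]
  intro v hv
  have h1 : plusToSq a b k (v ∘ Sum.inl) = 0 := by
    funext x
    have := congrFun hv (.inl x)
    rw [minusToSq_inl] at this
    exact this
  have h3 : v ∘ Sum.inl = 0 :=
    (injective_iff_map_eq_zero (plusToSq a b k)).mp (plusToSq_injective h2 a b hab k) _ h1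
  funext x
  rcases x with x | z
  · exact congrFun h3 x
  · have := congrFun hv (.inr z)
    rw [minusToSq_inr] at this
    exact this

end forms

theorem two_ne_zero_of_card_odd {K : Type*} [Field K] [Fintype K]
    (hodd : Fintype.card K % 2 = 1) : (2 : K) ≠ 0 := by
  intro h
  have hchar : ringChar K = 2 := by
    have hdvd : ringChar K ∣ 2 := (ringChar.spec K 2).mp (by exact_mod_cast h)
    rcases (Nat.dvd_prime Nat.prime_two).mp hdvd with h1 | h1
    · exact absurd h1 (CharP.ringChar_ne_one)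
    · exact h1
  have := FiniteField.even_card_of_char_two hchar
  omega

/-- S2703 body -/
theorem psl_invT_centralizer_main [Fintype F] (hodd : Odd (Fintype.card F)) {m : ℕ}
    (hm : 2 ≤ m) (hnm : n = 2 * m)
    (ι : MulAut (Matrix.ProjectiveSpecialLinearGroup (Fin n) F))
    (hι : Cfsg.IsInverseTransposeAutPSL ι) :
    (Even (n * (Fintype.card F - 1) / 4) →
      Nonempty (↥(Cfsg.inndiagPSL n F ⊓ Subgroup.centralizer {ι}) ≃*
        Cfsg.PGO F (Cfsg.quadFormPlus m F))) ∧
    (¬ Even (n * (Fintype.card F - 1) / 4) →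
      ∃ a b : F, (∀ z₁ z₂ : F, z₁ ^ 2 + a * z₁ * z₂ + b * z₂ ^ 2 = 0 → z₁ = 0 ∧ z₂ = 0) ∧
        Nonempty (↥(Cfsg.inndiagPSL n F ⊓ Subgroup.centralizer {ι}) ≃*
          Cfsg.PGO F (Cfsg.quadFormMinus (m - 1) F a b))) := by
  have hι' : ι = pslInvT := (isInverseTransposeAutPSL_iff ι).mp hι
  subst hι'
  have hn : 2 ≤ n := by omega
  have hodd' : Fintype.card F % 2 = 1 := Nat.odd_iff.mp hodd
  have h2 : (2 : F) ≠ 0 := two_ne_zero_of_card_odd hodd'
  obtain ⟨e₁⟩ := nonempty_centralizer_pslInvT_equiv (n := n) (F := F) hn h2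
  obtain ⟨r, hr⟩ : ∃ r, Fintype.card F = 2 * r + 1 := ⟨Fintype.card F / 2, by omega⟩
  have hE : n * (Fintype.card F - 1) / 4 = m * r := by
    rw [hnm, hr]
    apply Nat.div_eq_of_eq_mul_left (by norm_num)
    rw [Nat.add_sub_cancel]
    ring
  rw [hE]
  constructor
  · intro hev
    rcases Nat.even_mul.mp hev with hme | hre
    · -- `4 ∣ n`
      have h4 : 4 ∣ n := by
        obtain ⟨c, hc⟩ := hme
        exact ⟨c, by omega⟩
      obtain ⟨e₂⟩ := pgo_plus_equiv_sumSq (K := F) hodd' hnm h4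
      exact ⟨e₁.trans e₂.symm⟩
    · -- `q ≡ 1 (mod 4)`
      have hq4 : Fintype.card F % 4 ≠ 3 := by
        obtain ⟨c, hc⟩ := hre
        omega
      obtain ⟨i, hi⟩ := (FiniteField.isSquare_neg_one_iff (F := F)).mpr hq4
      have hi2 : i ^ 2 = -1 := by rw [pow_two, ← hi]
      have e : (Fin m ⊕ Fin m) ≃ Fin n := by
        subst hnm
        exact finSumFinEquiv.trans (finCongr (by omega))
      obtain ⟨e₂⟩ := pgo_congr_sumSq (Cfsg.quadFormPlus m F) (plusToSqI i m)
        (plusToSqI_injective h2 i hi2 m) (plusToSqI_form h2 i hi2 m) e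
      exact ⟨e₁.trans e₂.symm⟩
  · intro hnev
    have hmo : Odd m := by
      by_contra h
      exact hnev (Nat.even_mul.mpr (Or.inl (Nat.not_odd_iff_even.mp h)))
    have hro : Odd r := by
      by_contra h
      exact hnev (Nat.even_mul.mpr (Or.inr (Nat.not_odd_iff_even.mp h)))
    have hq4 : Fintype.card F % 4 = 3 := by
      obtain ⟨c, hc⟩ := hro
      omega
    have hns : ¬ IsSquare (-1 : F) := by
      rw [FiniteField.isSquare_neg_one_iff]
      exact fun h => h hq4
    refine ⟨0, 1, ?_, ?_⟩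
    · intro z₁ z₂ hz
      have hz' : z₁ ^ 2 = -(z₂ ^ 2) := by linear_combination hz
      have hz2 : z₂ = 0 := by
        by_contra h0
        apply hns
        refine ⟨z₁ / z₂, ?_⟩
        field_simp
        linear_combination -hz'
      refine ⟨?_, hz2⟩
      rw [hz2] at hz'
      have : z₁ ^ 2 = 0 := by rw [hz']; ring
      exact pow_eq_zero_iff (two_ne_zero) |>.mp this
    · obtain ⟨k, hk⟩ : ∃ k, m = k + k + 1 := by
        obtain ⟨c, hc⟩ := hmo
        exact ⟨c, by omega⟩
      subst hk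
      obtain ⟨a, b, hab⟩ := exists_sq_add_sq_eq_neg_one (K := F) hodd'
      have e : ((Fin (k + k) ⊕ Fin (k + k)) ⊕ Fin 2) ≃ Fin n := by
        subst hnm
        exact (Equiv.sumCongr finSumFinEquiv (Equiv.refl _)).trans
          (finSumFinEquiv.trans (finCongr (by omega)))
      obtain ⟨e₂⟩ := pgo_congr_sumSq (Cfsg.quadFormMinus (k + k) F 0 1) (minusToSq a b k)
        (minusToSq_injective h2 a b hab k) (minusToSq_form h2 a b hab k) e
      exact ⟨e₁.trans e₂.symm⟩

end Cfsg.Agent.Lib.Helper43
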