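import Mathlib

/-!
# Case (b) of the graph half for `PΩ⁻` (helper43, for S2733 [G-B]), part 1

The quadratic extension `L = F(√μ)` as `QuadraticAlgebra F μ 0`, and the `L`-structure on `F^ι`
defined by a matrix `g` with `g * g = μ • 1`: an `F`-linear equivalence
`Ψ : (Fin k → L) ≃ₗ[F] (ι → F)` with `Ψ (ω • c) = g *ᵥ Ψ c`.
-/

set_option autoImplicit false
set_option linter.unusedSectionVars false
set_option linter.unusedVariables false

namespace Cfsg.Agent.Lib.Helper43.MinusGB

open Matrix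

variable {F : Type*} [Field F]

/-- the quadratic extension `F(√μ)` -/
abbrev QL (μ : F) : Type _ := QuadraticAlgebra F μ 0

/-- the irreducibility fact needed for the field structure of `QL μ` -/
theorem fact_of_not_isSquare (μ : F) (hμ : ¬ IsSquare μ) : Fact (∀ r : F, r ^ 2 ≠ μ + 0 * r) := by
  refine ⟨fun r hr => hμ ⟨r, ?_⟩⟩
  rw [zero_mul, add_zero] at hr
  rw [← hr, pow_two]

noncomputable instance instFintypeQL (μ : F) [Fintype F] : Fintype (QL μ) :=
  Fintype.ofEquiv (F × F) (QuadraticAlgebra.equivProd μ 0).symm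

/-- the generator `√μ` -/
abbrev om (μ : F) : QL μ := QuadraticAlgebra.omega

theorem om_mul_om (μ : F) : om μ * om μ = algebraMap F (QL μ) μ := by
  rw [QuadraticAlgebra.omega_mul_omega_eq_algebraMap, map_zero, zero_mul, add_zero]

theorem eq_re_add_im (μ : F) (z : QL μ) :
    z = algebraMap F (QL μ) z.re + algebraMap F (QL μ) z.im * om μ := by
  ext <;> simp

theorem smul_eq_re_im {μ : F} {κ : Type*} (z : QL μ) (c : κ → QL μ) :
    z • c = z.re • c + z.im • (om μ • c) := by
  conv_lhs => rw [eq_re_add_im μ z]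
  rw [add_smul, mul_smul, algebraMap_smul, algebraMap_smul]

variable {ι : Type} [Fintype ι] [DecidableEq ι]

/-- the `L`-structure defined by `g` admits coordinates -/
theorem exists_Psi (μ : F) [Fact (∀ r : F, r ^ 2 ≠ μ + 0 * r)] (g : Matrix ι ι F)
    (hgg : g * g = μ • (1 : Matrix ι ι F)) (k : ℕ) (hk : Fintype.card ι = 2 * k) :
    ∃ Ψ : (Fin k → QL μ) ≃ₗ[F] (ι → F), ∀ c, Ψ (om μ • c) = g *ᵥ Ψ c := by
  classical
  let gE : Module.End F (ι → F) := Matrix.toLin' g
  have hgE : gE * gE = μ • (1 : Module.End F (ι → F)) + (0 : F) • gE := by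
    rw [zero_smul, add_zero]
    show Matrix.toLin' g * Matrix.toLin' g = _
    rw [Module.End.mul_eq_comp, ← Matrix.toLin'_mul, hgg, map_smul, Matrix.toLin'_one]
    rfl
  let ρ : QL μ →ₐ[F] Module.End F (ι → F) := QuadraticAlgebra.lift ⟨gE, hgE⟩
  let _inst : Module (QL μ) (ι → F) := Module.compHom (ι → F) (ρ : QL μ →+* Module.End F (ι → F))
  have hsmul : ∀ (l : QL μ) (v : ι → F), l • v = ρ l v := fun _ _ => rfl
  have : IsScalarTower F (QL μ) (ι → F) := ⟨fun x l v => by
    rw [hsmul, hsmul, map_smul]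
    rfl⟩
  have : Module.Finite (QL μ) (ι → F) := Module.Finite.of_restrictScalars_finite F (QL μ) (ι → F)
  have hfr : Module.finrank (QL μ) (ι → F) = k := by
    have h1 := Module.finrank_mul_finrank F (QL μ) (ι → F)
    rw [QuadraticAlgebra.finrank_eq_two, Module.finrank_fintype_fun_eq_card, hk] at h1
    omega
  let bL := Module.finBasisOfFinrankEq (QL μ) (ι → F) hfr
  refine ⟨(bL.equivFun.symm).restrictScalars F, ?_⟩
  intro c
  show bL.equivFun.symm (om μ • c) = g *ᵥ bL.equivFun.symm c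
  rw [map_smul, hsmul]
  generalize bL.equivFun.symm c = v
  show (QuadraticAlgebra.lift ⟨gE, hgE⟩ : QL μ →ₐ[F] Module.End F (ι → F)) (om μ) v = _
  rw [QuadraticAlgebra.lift_apply_apply]
  show ((0 : F) • (1 : Module.End F (ι → F)) + (1 : F) • gE) v = _
  rw [zero_smul, zero_add, one_smul]
  exact Matrix.toLin'_apply g v

end Cfsg.Agent.Lib.Helper43.MinusGB
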