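import Mathlib
import Cfsg.Agent.Lib.Helper43.MinusGB1

/-!
# Case (b) of the graph half for `PΩ⁻` (helper43, for S2733 [G-B]), part 2

Restriction of scalars along `Ψ : (κ → L) ≃ₗ[F] (ι → F)`: the injective monoid homomorphism
`resM Ψ : Matrix κ κ L →* Matrix ι ι F`, its `GL` version, and (for `L = F(√μ)`,
`Ψ (ω • c) = g *ᵥ Ψ c`) the description of its image as the commutant of `g`.
-/

set_option autoImplicit false
set_option linter.unusedSectionVars false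
set_option linter.unusedVariables false

namespace Cfsg.Agent.Lib.Helper43.MinusGB

open Matrix

section general

variable {F : Type*} [Field F] {L : Type*} [Field L] [Algebra F L]
  {ι κ : Type} [Fintype ι] [DecidableEq ι] [Fintype κ] [DecidableEq κ]

/-- the `F`-linear endomorphism of `F^ι` corresponding to an `L`-matrix -/
noncomputable def resLin (Ψ : (κ → L) ≃ₗ[F] (ι → F)) (A : Matrix κ κ L) :
    (ι → F) →ₗ[F] (ι → F) :=
  (Ψ.toLinearMap ∘ₗ ((Matrix.toLin' A).restrictScalars F)) ∘ₗ Ψ.symm.toLinearMap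

theorem resLin_apply (Ψ : (κ → L) ≃ₗ[F] (ι → F)) (A : Matrix κ κ L) (v : ι → F) :
    resLin Ψ A v = Ψ (A *ᵥ Ψ.symm v) := rfl

/-- restriction of scalars on matrices -/
noncomputable def resM (Ψ : (κ → L) ≃ₗ[F] (ι → F)) : Matrix κ κ L →* Matrix ι ι F where
  toFun A := LinearMap.toMatrix' (resLin Ψ A)
  map_one' := by
    have : resLin Ψ (1 : Matrix κ κ L) = LinearMap.id := by
      apply LinearMap.ext
      intro v
      rw [resLin_apply, Matrix.one_mulVec, LinearEquiv.apply_symm_apply]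
      rfl
    rw [this, LinearMap.toMatrix'_id]
  map_mul' A B := by
    have : resLin Ψ (A * B) = resLin Ψ A ∘ₗ resLin Ψ B := by
      apply LinearMap.ext
      intro v
      rw [LinearMap.comp_apply, resLin_apply, resLin_apply, resLin_apply,
        LinearEquiv.symm_apply_apply, Matrix.mulVec_mulVec]
    rw [this, LinearMap.toMatrix'_comp]

theorem resM_mulVec (Ψ : (κ → L) ≃ₗ[F] (ι → F)) (A : Matrix κ κ L) (c : κ → L) :
    resM Ψ A *ᵥ Ψ c = Ψ (A *ᵥ c) := by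
  show LinearMap.toMatrix' (resLin Ψ A) *ᵥ Ψ c = _
  rw [← Matrix.toLin'_apply, Matrix.toLin'_toMatrix', resLin_apply, LinearEquiv.symm_apply_apply]

theorem resM_mulVec' (Ψ : (κ → L) ≃ₗ[F] (ι → F)) (A : Matrix κ κ L) (v : ι → F) :
    resM Ψ A *ᵥ v = Ψ (A *ᵥ Ψ.symm v) := by
  conv_lhs => rw [← Ψ.apply_symm_apply v]
  rw [resM_mulVec]

omit [DecidableEq κ] in
theorem matrix_eq_of_mulVec {M N : Matrix κ κ L} (h : ∀ c, M *ᵥ c = N *ᵥ c) : M = N := by
  classical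
  ext i j
  have := congrFun (h (Pi.single j 1)) i
  rwa [Matrix.mulVec_single_one, Matrix.mulVec_single_one] at this

theorem matrix_eq_of_mulVec_Psi (Ψ : (κ → L) ≃ₗ[F] (ι → F)) {M N : Matrix ι ι F}
    (h : ∀ c, M *ᵥ Ψ c = N *ᵥ Ψ c) : M = N := by
  apply matrix_eq_of_mulVec
  intro v
  have := h (Ψ.symm v)
  rwa [LinearEquiv.apply_symm_apply] at this

theorem resM_injective (Ψ : (κ → L) ≃ₗ[F] (ι → F)) : Function.Injective (resM Ψ) := by
  intro A B hAB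
  apply matrix_eq_of_mulVec
  intro c
  apply Ψ.injective
  rw [← resM_mulVec, ← resM_mulVec, hAB]

/-- restriction of scalars on `GL` -/
noncomputable def resGL (Ψ : (κ → L) ≃ₗ[F] (ι → F)) : GL κ L →* GL ι F :=
  Units.map (resM Ψ)

theorem resGL_coe (Ψ : (κ → L) ≃ₗ[F] (ι → F)) (A : GL κ L) :
    ((resGL Ψ A : GL ι F) : Matrix ι ι F) = resM Ψ (A : Matrix κ κ L) := rfl

theorem resGL_injective (Ψ : (κ → L) ≃ₗ[F] (ι → F)) : Function.Injective (resGL Ψ) := by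
  intro A B hAB
  apply Units.ext
  apply resM_injective Ψ
  rw [← resGL_coe, ← resGL_coe, hAB]

end general

section quad

variable {F : Type*} [Field F] {μ : F} [Fact (∀ r : F, r ^ 2 ≠ μ + 0 * r)]
  {ι κ : Type} [Fintype ι] [DecidableEq ι] [Fintype κ] [DecidableEq κ]

theorem Psi_smul (Ψ : (κ → QL μ) ≃ₗ[F] (ι → F)) (g : Matrix ι ι F)
    (hΨ : ∀ c, Ψ (om μ • c) = g *ᵥ Ψ c) (z : QL μ) (c : κ → QL μ) :
    Ψ (z • c) = z.re • Ψ c + z.im • (g *ᵥ Ψ c) := by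
  rw [smul_eq_re_im, map_add, map_smul, map_smul, hΨ]

theorem Psi_symm_mulVec (Ψ : (κ → QL μ) ≃ₗ[F] (ι → F)) (g : Matrix ι ι F)
    (hΨ : ∀ c, Ψ (om μ • c) = g *ᵥ Ψ c) (v : ι → F) :
    Ψ.symm (g *ᵥ v) = om μ • Ψ.symm v := by
  apply Ψ.injective
  rw [hΨ, LinearEquiv.apply_symm_apply, LinearEquiv.apply_symm_apply]

/-- restricted matrices commute with `g` -/
theorem resM_comm (Ψ : (κ → QL μ) ≃ₗ[F] (ι → F)) (g : Matrix ι ι F)
    (hΨ : ∀ c, Ψ (om μ • c) = g *ᵥ Ψ c) (A : Matrix κ κ (QL μ)) :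
    resM Ψ A * g = g * resM Ψ A := by
  apply matrix_eq_of_mulVec_Psi Ψ
  intro c
  rw [← Matrix.mulVec_mulVec, ← Matrix.mulVec_mulVec, ← hΨ, resM_mulVec, resM_mulVec, ← hΨ,
    Matrix.mulVec_smul]

/-- the matrix `g` itself is the restriction of the scalar `ω` -/
theorem resM_om (Ψ : (κ → QL μ) ≃ₗ[F] (ι → F)) (g : Matrix ι ι F)
    (hΨ : ∀ c, Ψ (om μ • c) = g *ᵥ Ψ c) :
    resM Ψ (om μ • (1 : Matrix κ κ (QL μ))) = g := by
  apply matrix_eq_of_mulVec_Psi Ψ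
  intro c
  rw [resM_mulVec, Matrix.smul_mulVec, Matrix.one_mulVec, hΨ]

/-- restriction of a scalar matrix -/
theorem resM_scalar (Ψ : (κ → QL μ) ≃ₗ[F] (ι → F)) (g : Matrix ι ι F)
    (hΨ : ∀ c, Ψ (om μ • c) = g *ᵥ Ψ c) (z : QL μ) :
    resM Ψ (z • (1 : Matrix κ κ (QL μ))) = z.re • (1 : Matrix ι ι F) + z.im • g := by
  apply matrix_eq_of_mulVec_Psi Ψ
  intro c
  rw [resM_mulVec, Matrix.smul_mulVec, Matrix.one_mulVec, Psi_smul Ψ g hΨ, Matrix.add_mulVec,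
    Matrix.smul_mulVec, Matrix.smul_mulVec, Matrix.one_mulVec]

/-- a matrix commuting with `g` is a restriction -/
theorem exists_resM_of_comm (Ψ : (κ → QL μ) ≃ₗ[F] (ι → F)) (g : Matrix ι ι F)
    (hΨ : ∀ c, Ψ (om μ • c) = g *ᵥ Ψ c) (t : Matrix ι ι F) (ht : t * g = g * t) :
    ∃ A : Matrix κ κ (QL μ), resM Ψ A = t := by
  let ℓ : (κ → QL μ) →ₗ[QL μ] (κ → QL μ) :=
    { toFun := fun c => Ψ.symm (t *ᵥ Ψ c)
      map_add' := by
        intro c d
        rw [map_add, Matrix.mulVec_add, map_add]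
      map_smul' := by
        intro z c
        rw [RingHom.id_apply, Psi_smul Ψ g hΨ, Matrix.mulVec_add, Matrix.mulVec_smul,
          Matrix.mulVec_smul, Matrix.mulVec_mulVec, ht, ← Matrix.mulVec_mulVec, map_add, map_smul,
          map_smul, Psi_symm_mulVec Ψ g hΨ, ← smul_eq_re_im] }
  refine ⟨LinearMap.toMatrix' ℓ, ?_⟩
  apply matrix_eq_of_mulVec_Psi Ψ
  intro c
  rw [resM_mulVec, ← Matrix.toLin'_apply, Matrix.toLin'_toMatrix']
  show Ψ (Ψ.symm (t *ᵥ Ψ c)) = _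
  rw [LinearEquiv.apply_symm_apply]

/-- an invertible matrix commuting with `g` is a restriction -/
theorem exists_resGL_of_comm (Ψ : (κ → QL μ) ≃ₗ[F] (ι → F)) (g : Matrix ι ι F)
    (hΨ : ∀ c, Ψ (om μ • c) = g *ᵥ Ψ c) (t : GL ι F)
    (ht : (t : Matrix ι ι F) * g = g * (t : Matrix ι ι F)) :
    ∃ A : GL κ (QL μ), resGL Ψ A = t := by
  have ht' : ((t⁻¹ : GL ι F) : Matrix ι ι F) * g = g * ((t⁻¹ : GL ι F) : Matrix ι ι F) := by
    have h1 : ((t⁻¹ : GL ι F) : Matrix ι ι F) * (t : Matrix ι ι F) = 1 := by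
      rw [← Units.val_mul, inv_mul_cancel, Units.val_one]
    have h2 : (t : Matrix ι ι F) * ((t⁻¹ : GL ι F) : Matrix ι ι F) = 1 := by
      rw [← Units.val_mul, mul_inv_cancel, Units.val_one]
    calc ((t⁻¹ : GL ι F) : Matrix ι ι F) * g
        = ((t⁻¹ : GL ι F) : Matrix ι ι F) * g * ((t : Matrix ι ι F) *
            ((t⁻¹ : GL ι F) : Matrix ι ι F)) := by rw [h2, Matrix.mul_one]
      _ = ((t⁻¹ : GL ι F) : Matrix ι ι F) * (g * (t : Matrix ι ι F)) *
            ((t⁻¹ : GL ι F) : Matrix ι ι F) := by simp only [Matrix.mul_assoc]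
      _ = ((t⁻¹ : GL ι F) : Matrix ι ι F) * ((t : Matrix ι ι F) * g) *
            ((t⁻¹ : GL ι F) : Matrix ι ι F) := by rw [ht]
      _ = (((t⁻¹ : GL ι F) : Matrix ι ι F) * (t : Matrix ι ι F)) * g *
            ((t⁻¹ : GL ι F) : Matrix ι ι F) := by simp only [Matrix.mul_assoc]
      _ = g * ((t⁻¹ : GL ι F) : Matrix ι ι F) := by rw [h1, Matrix.one_mul]
  obtain ⟨A, hA⟩ := exists_resM_of_comm Ψ g hΨ (t : Matrix ι ι F) ht
  obtain ⟨A', hA'⟩ := exists_resM_of_comm Ψ g hΨ ((t⁻¹ : GL ι F) : Matrix ι ι F) ht'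
  have h1 : A * A' = 1 := by
    apply resM_injective Ψ
    rw [map_mul, hA, hA', map_one, ← Units.val_mul, mul_inv_cancel, Units.val_one]
  have h2 : A' * A = 1 := by
    apply resM_injective Ψ
    rw [map_mul, hA, hA', map_one, ← Units.val_mul, inv_mul_cancel, Units.val_one]
  refine ⟨⟨A, A', h1, h2⟩, ?_⟩
  apply Units.ext
  rw [resGL_coe]
  exact hA

end quad

end Cfsg.Agent.Lib.Helper43.MinusGB
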