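import Mathlib
import Cfsg.Agent.Lib.Helper43.MinusGB2
import Cfsg.Agent.Lib.Helper37.LBM.Norm

/-!
# Case (b) of the graph half for `PΩ⁻` (helper43, for S2733 [G-B]), part 3

The `L`-quadratic form `Q_L` on `L^κ` with `Q (Ψ c) = 2 (Q_L c).re`, its non-degeneracy, and the
identification of its isometry group with the centraliser of `g` in `O(Q)`.
-/

set_option autoImplicit false
set_option linter.unusedSectionVars false
set_option linter.unusedVariables false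

namespace Cfsg.Agent.Lib.Helper43.MinusGB

open Matrix Cfsg.Agent.Lib.Helper36 Cfsg.Agent.Lib.Helper37.LBM

local notation "pol" => QuadraticMap.polar

section form

variable {F : Type*} [Field F] {μ : F} [Fact (∀ r : F, r ^ 2 ≠ μ + 0 * r)]
  {ι κ : Type} [Fintype ι] [DecidableEq ι] [Fintype κ] [DecidableEq κ]

theorem polar_g_g (Q : QuadraticForm F (ι → F)) (g : Matrix ι ι F)
    (hmult : ∀ v, Q (g *ᵥ v) = μ * Q v) (u v : ι → F) :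
    pol (⇑Q) (g *ᵥ u) (g *ᵥ v) = μ * pol (⇑Q) u v := by
  unfold QuadraticMap.polar
  rw [← Matrix.mulVec_add, hmult, hmult, hmult]
  ring

theorem polar_g_left (Q : QuadraticForm F (ι → F)) (g : Matrix ι ι F)
    (hmult : ∀ v, Q (g *ᵥ v) = μ * Q v) (hgg : g * g = μ • (1 : Matrix ι ι F)) (hμ0 : μ ≠ 0)
    (u v : ι → F) : pol (⇑Q) (g *ᵥ u) v = pol (⇑Q) u (g *ᵥ v) := by
  have h1 : v = g *ᵥ (μ⁻¹ • (g *ᵥ v)) := by
    rw [Matrix.mulVec_smul, Matrix.mulVec_mulVec, hgg, Matrix.smul_mulVec, Matrix.one_mulVec,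
      smul_smul, inv_mul_cancel₀ hμ0, one_smul]
  conv_lhs => rw [h1]
  rw [polar_g_g Q g hmult, QuadraticMap.polar_smul_right, smul_eq_mul, ← mul_assoc,
    mul_inv_cancel₀ hμ0, one_mul]

theorem g_g_mulVec (g : Matrix ι ι F) (hgg : g * g = μ • (1 : Matrix ι ι F)) (v : ι → F) :
    g *ᵥ (g *ᵥ v) = μ • v := by
  rw [Matrix.mulVec_mulVec, hgg, Matrix.smul_mulVec, Matrix.one_mulVec]

/-- the underlying function of the `L`-bilinear form -/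
noncomputable def betaFun (Q : QuadraticForm F (ι → F)) (g : Matrix ι ι F)
    (Ψ : (κ → QL μ) ≃ₗ[F] (ι → F)) (c d : κ → QL μ) : QL μ :=
  ⟨pol (⇑Q) (Ψ c) (Ψ d) / 4, μ⁻¹ * pol (⇑Q) (Ψ c) (g *ᵥ Ψ d) / 4⟩

theorem betaFun_comm (Q : QuadraticForm F (ι → F)) (g : Matrix ι ι F)
    (Ψ : (κ → QL μ) ≃ₗ[F] (ι → F))
    (hmult : ∀ v, Q (g *ᵥ v) = μ * Q v) (hgg : g * g = μ • (1 : Matrix ι ι F)) (hμ0 : μ ≠ 0)
    (c d : κ → QL μ) : betaFun Q g Ψ c d = betaFun Q g Ψ d c := by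
  unfold betaFun
  ext
  · show pol (⇑Q) (Ψ c) (Ψ d) / 4 = pol (⇑Q) (Ψ d) (Ψ c) / 4
    rw [QuadraticMap.polar_comm]
  · show μ⁻¹ * pol (⇑Q) (Ψ c) (g *ᵥ Ψ d) / 4 = μ⁻¹ * pol (⇑Q) (Ψ d) (g *ᵥ Ψ c) / 4
    rw [← polar_g_left Q g hmult hgg hμ0 (Ψ d), QuadraticMap.polar_comm]

theorem betaFun_add_left (Q : QuadraticForm F (ι → F)) (g : Matrix ι ι F)
    (Ψ : (κ → QL μ) ≃ₗ[F] (ι → F)) (c₁ c₂ d : κ → QL μ) :
    betaFun Q g Ψ (c₁ + c₂) d = betaFun Q g Ψ c₁ d + betaFun Q g Ψ c₂ d := by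
  unfold betaFun
  ext
  · show pol (⇑Q) (Ψ (c₁ + c₂)) (Ψ d) / 4 =
      pol (⇑Q) (Ψ c₁) (Ψ d) / 4 + pol (⇑Q) (Ψ c₂) (Ψ d) / 4
    rw [map_add, QuadraticMap.polar_add_left]
    ring
  · show μ⁻¹ * pol (⇑Q) (Ψ (c₁ + c₂)) (g *ᵥ Ψ d) / 4 =
      μ⁻¹ * pol (⇑Q) (Ψ c₁) (g *ᵥ Ψ d) / 4 + μ⁻¹ * pol (⇑Q) (Ψ c₂) (g *ᵥ Ψ d) / 4
    rw [map_add, QuadraticMap.polar_add_left]
    ring

theorem betaFun_smul_left (Q : QuadraticForm F (ι → F)) (g : Matrix ι ι F)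
    (Ψ : (κ → QL μ) ≃ₗ[F] (ι → F)) (hΨ : ∀ c, Ψ (om μ • c) = g *ᵥ Ψ c)
    (hmult : ∀ v, Q (g *ᵥ v) = μ * Q v) (hgg : g * g = μ • (1 : Matrix ι ι F)) (hμ0 : μ ≠ 0)
    (z : QL μ) (c d : κ → QL μ) :
    betaFun Q g Ψ (z • c) d = z * betaFun Q g Ψ c d := by
  unfold betaFun
  ext
  · rw [QuadraticAlgebra.re_mul]
    show pol (⇑Q) (Ψ (z • c)) (Ψ d) / 4 =
      z.re * (pol (⇑Q) (Ψ c) (Ψ d) / 4) + μ * z.im * (μ⁻¹ * pol (⇑Q) (Ψ c) (g *ᵥ Ψ d) / 4)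
    rw [Psi_smul Ψ g hΨ, QuadraticMap.polar_add_left, QuadraticMap.polar_smul_left,
      QuadraticMap.polar_smul_left, polar_g_left Q g hmult hgg hμ0, smul_eq_mul, smul_eq_mul]
    field_simp
  · rw [QuadraticAlgebra.im_mul]
    show μ⁻¹ * pol (⇑Q) (Ψ (z • c)) (g *ᵥ Ψ d) / 4 =
      z.re * (μ⁻¹ * pol (⇑Q) (Ψ c) (g *ᵥ Ψ d) / 4) + z.im * (pol (⇑Q) (Ψ c) (Ψ d) / 4) +
        0 * z.im * (μ⁻¹ * pol (⇑Q) (Ψ c) (g *ᵥ Ψ d) / 4)
    rw [Psi_smul Ψ g hΨ, QuadraticMap.polar_add_left, QuadraticMap.polar_smul_left,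
      QuadraticMap.polar_smul_left, polar_g_g Q g hmult, smul_eq_mul, smul_eq_mul]
    field_simp
    ring

/-- the `L`-bilinear form `β` with `β c c = Q_L c` -/
noncomputable def betaL (Q : QuadraticForm F (ι → F)) (g : Matrix ι ι F)
    (Ψ : (κ → QL μ) ≃ₗ[F] (ι → F)) (hΨ : ∀ c, Ψ (om μ • c) = g *ᵥ Ψ c)
    (hmult : ∀ v, Q (g *ᵥ v) = μ * Q v) (hgg : g * g = μ • (1 : Matrix ι ι F)) (hμ0 : μ ≠ 0) :
    (κ → QL μ) →ₗ[QL μ] (κ → QL μ) →ₗ[QL μ] QL μ :=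
  LinearMap.mk₂ (QL μ) (betaFun Q g Ψ)
    (fun c₁ c₂ d => betaFun_add_left Q g Ψ c₁ c₂ d)
    (fun z c d => by
      rw [smul_eq_mul]
      exact betaFun_smul_left Q g Ψ hΨ hmult hgg hμ0 z c d)
    (fun c d₁ d₂ => by
      rw [betaFun_comm Q g Ψ hmult hgg hμ0 c, betaFun_comm Q g Ψ hmult hgg hμ0 c,
        betaFun_comm Q g Ψ hmult hgg hμ0 c]
      exact betaFun_add_left Q g Ψ d₁ d₂ c)
    (fun z c d => by
      rw [smul_eq_mul, betaFun_comm Q g Ψ hmult hgg hμ0 c, betaFun_comm Q g Ψ hmult hgg hμ0 c]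
      exact betaFun_smul_left Q g Ψ hΨ hmult hgg hμ0 z d c)

/-- the `L`-quadratic form `Q_L` -/
noncomputable def formL (Q : QuadraticForm F (ι → F)) (g : Matrix ι ι F)
    (Ψ : (κ → QL μ) ≃ₗ[F] (ι → F)) (hΨ : ∀ c, Ψ (om μ • c) = g *ᵥ Ψ c)
    (hmult : ∀ v, Q (g *ᵥ v) = μ * Q v) (hgg : g * g = μ • (1 : Matrix ι ι F)) (hμ0 : μ ≠ 0) :
    QuadraticForm (QL μ) (κ → QL μ) :=
  LinearMap.BilinMap.toQuadraticMap (betaL Q g Ψ hΨ hmult hgg hμ0)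

theorem formL_apply (Q : QuadraticForm F (ι → F)) (g : Matrix ι ι F)
    (Ψ : (κ → QL μ) ≃ₗ[F] (ι → F)) (hΨ : ∀ c, Ψ (om μ • c) = g *ᵥ Ψ c)
    (hmult : ∀ v, Q (g *ᵥ v) = μ * Q v) (hgg : g * g = μ • (1 : Matrix ι ι F)) (hμ0 : μ ≠ 0)
    (c : κ → QL μ) : formL Q g Ψ hΨ hmult hgg hμ0 c = betaFun Q g Ψ c c := rfl

theorem formL_re (Q : QuadraticForm F (ι → F)) (g : Matrix ι ι F)
    (Ψ : (κ → QL μ) ≃ₗ[F] (ι → F)) (hΨ : ∀ c, Ψ (om μ • c) = g *ᵥ Ψ c)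
    (hmult : ∀ v, Q (g *ᵥ v) = μ * Q v) (hgg : g * g = μ • (1 : Matrix ι ι F)) (hμ0 : μ ≠ 0)
    (h2 : (2 : F) ≠ 0) (c : κ → QL μ) :
    Q (Ψ c) = 2 * (formL Q g Ψ hΨ hmult hgg hμ0 c).re := by
  rw [formL_apply]
  show Q (Ψ c) = 2 * (pol (⇑Q) (Ψ c) (Ψ c) / 4)
  rw [QuadraticMap.polar_self, nsmul_eq_mul, Nat.cast_ofNat]
  have h4 : (4 : F) ≠ 0 := by
    have : (4 : F) = 2 * 2 := by norm_num
    rw [this]
    exact mul_ne_zero h2 h2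
  field_simp
  ring

theorem formL_im (Q : QuadraticForm F (ι → F)) (g : Matrix ι ι F)
    (Ψ : (κ → QL μ) ≃ₗ[F] (ι → F)) (hΨ : ∀ c, Ψ (om μ • c) = g *ᵥ Ψ c)
    (hmult : ∀ v, Q (g *ᵥ v) = μ * Q v) (hgg : g * g = μ • (1 : Matrix ι ι F)) (hμ0 : μ ≠ 0)
    (c : κ → QL μ) :
    (formL Q g Ψ hΨ hmult hgg hμ0 c).im = μ⁻¹ * pol (⇑Q) (Ψ c) (g *ᵥ Ψ c) / 4 := rfl

theorem formL_polar (Q : QuadraticForm F (ι → F)) (g : Matrix ι ι F)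
    (Ψ : (κ → QL μ) ≃ₗ[F] (ι → F)) (hΨ : ∀ c, Ψ (om μ • c) = g *ᵥ Ψ c)
    (hmult : ∀ v, Q (g *ᵥ v) = μ * Q v) (hgg : g * g = μ • (1 : Matrix ι ι F)) (hμ0 : μ ≠ 0)
    (c d : κ → QL μ) :
    pol (⇑(formL Q g Ψ hΨ hmult hgg hμ0)) c d = 2 * betaFun Q g Ψ c d := by
  unfold formL
  rw [LinearMap.BilinMap.polar_toQuadraticMap]
  show betaFun Q g Ψ c d + betaFun Q g Ψ d c = _
  rw [betaFun_comm Q g Ψ hmult hgg hμ0 d c, two_mul]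

/-- `Q_L` is non-degenerate -/
theorem formL_nondeg (Q : QuadraticForm F (ι → F))
    (hQ : (QuadraticMap.polarBilin Q).Nondegenerate) (g : Matrix ι ι F)
    (Ψ : (κ → QL μ) ≃ₗ[F] (ι → F)) (hΨ : ∀ c, Ψ (om μ • c) = g *ᵥ Ψ c)
    (hmult : ∀ v, Q (g *ᵥ v) = μ * Q v) (hgg : g * g = μ • (1 : Matrix ι ι F)) (hμ0 : μ ≠ 0)
    (h2 : (2 : F) ≠ 0) :
    (QuadraticMap.polarBilin (formL Q g Ψ hΨ hmult hgg hμ0)).Nondegenerate := by
  have hleft : ∀ c : κ → QL μ,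
      (∀ d, pol (⇑(formL Q g Ψ hΨ hmult hgg hμ0)) c d = 0) → c = 0 := by
    intro c hc
    have h1 : Ψ c = 0 := by
      apply hQ.1 (Ψ c)
      intro v
      have h3 := hc (Ψ.symm v)
      rw [formL_polar] at h3
      have h4 := congrArg QuadraticAlgebra.re h3
      rw [QuadraticAlgebra.re_mul] at h4
      have h5 : (betaFun Q g Ψ c (Ψ.symm v)).re = pol (⇑Q) (Ψ c) v / 4 := by
        show pol (⇑Q) (Ψ c) (Ψ (Ψ.symm v)) / 4 = _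
        rw [LinearEquiv.apply_symm_apply]
      rw [h5] at h4
      have h6 : ((2 : QL μ)).re = 2 := rfl
      have h7 : ((2 : QL μ)).im = 0 := rfl
      rw [h6, h7, mul_zero, zero_mul, add_zero, QuadraticAlgebra.re_zero] at h4
      rw [QuadraticMap.polarBilin_apply_apply]
      have h4' : (4 : F) ≠ 0 := by
        have : (4 : F) = 2 * 2 := by norm_num
        rw [this]
        exact mul_ne_zero h2 h2
      rcases mul_eq_zero.mp h4 with h | h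
      · exact absurd h h2
      · rcases div_eq_zero_iff.mp h with h | h
        · exact h
        · exact absurd h h4'
    have := Ψ.injective (h1.trans (map_zero Ψ).symm)
    exact this
  constructor
  · intro c hc
    apply hleft c
    intro d
    have := hc d
    rwa [QuadraticMap.polarBilin_apply_apply] at this
  · intro d hd
    apply hleft d
    intro c
    have := hd c
    rw [QuadraticMap.polarBilin_apply_apply] at this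
    rw [QuadraticMap.polar_comm]
    exact this

end form

end Cfsg.Agent.Lib.Helper43.MinusGB
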