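import Mathlib
import Cfsg.Agent.Lib.Helper43.MinusGB3

/-!
# Case (b) of the graph half for `PΩ⁻` (helper43, for S2733 [G-B]), part 4

`O(Q_L) ≅ C_{O(Q)}(g)` through restriction of scalars, and the homomorphism
`φ : Ω(Q_L) → GL_ι(F)` with range `C_{O(Q)}(g)'`.
-/

set_option autoImplicit false
set_option linter.unusedSectionVars false
set_option linter.unusedVariables false

namespace Cfsg.Agent.Lib.Helper43.MinusGB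

open Matrix Cfsg.Agent.Lib.Helper36 Cfsg.Agent.Lib.Helper37.LBM

local notation "pol" => QuadraticMap.polar

section iso

variable {F : Type*} [Field F] {μ : F} [Fact (∀ r : F, r ^ 2 ≠ μ + 0 * r)]
  {ι κ : Type} [Fintype ι] [DecidableEq ι] [Fintype κ] [DecidableEq κ]

theorem polar_of_isometry (Q : QuadraticForm F (ι → F)) (t : Matrix ι ι F)
    (ht : ∀ v, Q (t *ᵥ v) = Q v) (u v : ι → F) :
    pol (⇑Q) (t *ᵥ u) (t *ᵥ v) = pol (⇑Q) u v := by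
  unfold QuadraticMap.polar
  rw [← Matrix.mulVec_add, ht, ht, ht]

/-- isometries of `Q_L` restrict to isometries of `Q` -/
theorem isometry_resM (Q : QuadraticForm F (ι → F)) (g : Matrix ι ι F)
    (Ψ : (κ → QL μ) ≃ₗ[F] (ι → F)) (hΨ : ∀ c, Ψ (om μ • c) = g *ᵥ Ψ c)
    (hmult : ∀ v, Q (g *ᵥ v) = μ * Q v) (hgg : g * g = μ • (1 : Matrix ι ι F)) (hμ0 : μ ≠ 0)
    (h2 : (2 : F) ≠ 0) (A : Matrix κ κ (QL μ))
    (hA : ∀ c, formL Q g Ψ hΨ hmult hgg hμ0 (A *ᵥ c) = formL Q g Ψ hΨ hmult hgg hμ0 c)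
    (v : ι → F) : Q (resM Ψ A *ᵥ v) = Q v := by
  obtain ⟨c, rfl⟩ := Ψ.surjective v
  rw [resM_mulVec, formL_re Q g Ψ hΨ hmult hgg hμ0 h2, hA, ← formL_re Q g Ψ hΨ hmult hgg hμ0 h2]

/-- conversely -/
theorem isometry_of_resM (Q : QuadraticForm F (ι → F)) (g : Matrix ι ι F)
    (Ψ : (κ → QL μ) ≃ₗ[F] (ι → F)) (hΨ : ∀ c, Ψ (om μ • c) = g *ᵥ Ψ c)
    (hmult : ∀ v, Q (g *ᵥ v) = μ * Q v) (hgg : g * g = μ • (1 : Matrix ι ι F)) (hμ0 : μ ≠ 0)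
    (h2 : (2 : F) ≠ 0) (A : Matrix κ κ (QL μ))
    (hA : ∀ v, Q (resM Ψ A *ᵥ v) = Q v) (c : κ → QL μ) :
    formL Q g Ψ hΨ hmult hgg hμ0 (A *ᵥ c) = formL Q g Ψ hΨ hmult hgg hμ0 c := by
  have h4 : (2 : F)⁻¹ * 2 = 1 := inv_mul_cancel₀ h2
  ext
  · have h1 := formL_re Q g Ψ hΨ hmult hgg hμ0 h2 (A *ᵥ c)
    have h3 := formL_re Q g Ψ hΨ hmult hgg hμ0 h2 c
    rw [← resM_mulVec, hA, h3] at h1
    have := congrArg (fun x => (2 : F)⁻¹ * x) h1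
    simp only [← mul_assoc, h4, one_mul] at this
    exact this.symm
  · rw [formL_im, formL_im, ← resM_mulVec]
    have h5 : g *ᵥ (resM Ψ A *ᵥ Ψ c) = resM Ψ A *ᵥ (g *ᵥ Ψ c) := by
      rw [Matrix.mulVec_mulVec, Matrix.mulVec_mulVec, resM_comm Ψ g hΨ A]
    rw [h5, polar_of_isometry Q (resM Ψ A) hA]

/-- membership in the isometry groups corresponds -/
theorem resGL_mem_isometryGroup_iff (Q : QuadraticForm F (ι → F)) (g : Matrix ι ι F)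
    (Ψ : (κ → QL μ) ≃ₗ[F] (ι → F)) (hΨ : ∀ c, Ψ (om μ • c) = g *ᵥ Ψ c)
    (hmult : ∀ v, Q (g *ᵥ v) = μ * Q v) (hgg : g * g = μ • (1 : Matrix ι ι F)) (hμ0 : μ ≠ 0)
    (h2 : (2 : F) ≠ 0) (A : GL κ (QL μ)) :
    resGL Ψ A ∈ Cfsg.isometryGroup F (⇑Q) ↔
      A ∈ Cfsg.isometryGroup (QL μ) (⇑(formL Q g Ψ hΨ hmult hgg hμ0)) := by
  rw [mem_isometryGroup_iff', mem_isometryGroup_iff', resGL_coe]
  constructor
  · intro h c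
    exact isometry_of_resM Q g Ψ hΨ hmult hgg hμ0 h2 _ h c
  · intro h v
    exact isometry_resM Q g Ψ hΨ hmult hgg hμ0 h2 _ h v

/-- `O(Q_L)` maps onto the centraliser of `g` in `O(Q)` -/
theorem map_resGL_isometryGroup (Q : QuadraticForm F (ι → F)) (g : GL ι F)
    (Ψ : (κ → QL μ) ≃ₗ[F] (ι → F)) (hΨ : ∀ c, Ψ (om μ • c) = (g : Matrix ι ι F) *ᵥ Ψ c)
    (hmult : ∀ v, Q ((g : Matrix ι ι F) *ᵥ v) = μ * Q v)
    (hgg : (g : Matrix ι ι F) * (g : Matrix ι ι F) = μ • (1 : Matrix ι ι F)) (hμ0 : μ ≠ 0)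
    (h2 : (2 : F) ≠ 0) :
    (Cfsg.isometryGroup (QL μ) (⇑(formL Q (g : Matrix ι ι F) Ψ hΨ hmult hgg hμ0))).map (resGL Ψ) =
      centO (⇑Q) g := by
  ext t
  rw [mem_centO_iff]
  constructor
  · rintro ⟨A, hA, rfl⟩
    refine ⟨(resGL_mem_isometryGroup_iff Q _ Ψ hΨ hmult hgg hμ0 h2 A).mpr hA, ?_⟩
    apply Units.ext
    rw [Units.val_mul, Units.val_mul, resGL_coe]
    exact resM_comm Ψ _ hΨ _
  · rintro ⟨ht1, ht2⟩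
    have ht2' : (t : Matrix ι ι F) * (g : Matrix ι ι F) = (g : Matrix ι ι F) * (t : Matrix ι ι F) := by
      rw [← Units.val_mul, ← Units.val_mul, ht2]
    obtain ⟨A, rfl⟩ := exists_resGL_of_comm Ψ _ hΨ t ht2'
    exact ⟨A, (resGL_mem_isometryGroup_iff Q _ Ψ hΨ hmult hgg hμ0 h2 A).mp ht1, rfl⟩

/-- the homomorphism `φ : Ω(Q_L) → GL_ι(F)` -/
noncomputable def phiB (Q : QuadraticForm F (ι → F)) (g : GL ι F)
    (Ψ : (κ → QL μ) ≃ₗ[F] (ι → F)) (hΨ : ∀ c, Ψ (om μ • c) = (g : Matrix ι ι F) *ᵥ Ψ c)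
    (hmult : ∀ v, Q ((g : Matrix ι ι F) *ᵥ v) = μ * Q v)
    (hgg : (g : Matrix ι ι F) * (g : Matrix ι ι F) = μ • (1 : Matrix ι ι F)) (hμ0 : μ ≠ 0) :
    ↥(Cfsg.Omega (QL μ) (⇑(formL Q (g : Matrix ι ι F) Ψ hΨ hmult hgg hμ0))) →* GL ι F :=
  (resGL Ψ).comp ((Cfsg.isometryGroup (QL μ)
    (⇑(formL Q (g : Matrix ι ι F) Ψ hΨ hmult hgg hμ0))).subtype.comp
    (Cfsg.Omega (QL μ) (⇑(formL Q (g : Matrix ι ι F) Ψ hΨ hmult hgg hμ0))).subtype)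

theorem phiB_apply (Q : QuadraticForm F (ι → F)) (g : GL ι F)
    (Ψ : (κ → QL μ) ≃ₗ[F] (ι → F)) (hΨ : ∀ c, Ψ (om μ • c) = (g : Matrix ι ι F) *ᵥ Ψ c)
    (hmult : ∀ v, Q ((g : Matrix ι ι F) *ᵥ v) = μ * Q v)
    (hgg : (g : Matrix ι ι F) * (g : Matrix ι ι F) = μ • (1 : Matrix ι ι F)) (hμ0 : μ ≠ 0)
    (s : ↥(Cfsg.Omega (QL μ) (⇑(formL Q (g : Matrix ι ι F) Ψ hΨ hmult hgg hμ0)))) :
    phiB Q g Ψ hΨ hmult hgg hμ0 s = resGL Ψ ((s : ↥(Cfsg.isometryGroup (QL μ)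
      (⇑(formL Q (g : Matrix ι ι F) Ψ hΨ hmult hgg hμ0)))) : GL κ (QL μ)) := rfl

theorem phiB_injective (Q : QuadraticForm F (ι → F)) (g : GL ι F)
    (Ψ : (κ → QL μ) ≃ₗ[F] (ι → F)) (hΨ : ∀ c, Ψ (om μ • c) = (g : Matrix ι ι F) *ᵥ Ψ c)
    (hmult : ∀ v, Q ((g : Matrix ι ι F) *ᵥ v) = μ * Q v)
    (hgg : (g : Matrix ι ι F) * (g : Matrix ι ι F) = μ • (1 : Matrix ι ι F)) (hμ0 : μ ≠ 0) :
    Function.Injective (phiB Q g Ψ hΨ hmult hgg hμ0) := by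
  intro s s' h
  rw [phiB_apply, phiB_apply] at h
  exact Subtype.ext (Subtype.ext (resGL_injective Ψ h))

theorem phiB_range (Q : QuadraticForm F (ι → F)) (g : GL ι F)
    (Ψ : (κ → QL μ) ≃ₗ[F] (ι → F)) (hΨ : ∀ c, Ψ (om μ • c) = (g : Matrix ι ι F) *ᵥ Ψ c)
    (hmult : ∀ v, Q ((g : Matrix ι ι F) *ᵥ v) = μ * Q v)
    (hgg : (g : Matrix ι ι F) * (g : Matrix ι ι F) = μ • (1 : Matrix ι ι F)) (hμ0 : μ ≠ 0)
    (h2 : (2 : F) ≠ 0) :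
    (phiB Q g Ψ hΨ hmult hgg hμ0).range = ⁅centO (⇑Q) g, centO (⇑Q) g⁆ := by
  rw [← map_resGL_isometryGroup Q g Ψ hΨ hmult hgg hμ0 h2, ← Subgroup.map_commutator,
    ← OmegaGL_eq_commutator]
  unfold phiB OmegaGL
  rw [MonoidHom.range_comp, MonoidHom.range_comp, Subgroup.range_subtype]

theorem phiB_mem_OmegaGL (Q : QuadraticForm F (ι → F)) (g : GL ι F)
    (Ψ : (κ → QL μ) ≃ₗ[F] (ι → F)) (hΨ : ∀ c, Ψ (om μ • c) = (g : Matrix ι ι F) *ᵥ Ψ c)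
    (hmult : ∀ v, Q ((g : Matrix ι ι F) *ᵥ v) = μ * Q v)
    (hgg : (g : Matrix ι ι F) * (g : Matrix ι ι F) = μ • (1 : Matrix ι ι F)) (hμ0 : μ ≠ 0)
    (A : GL κ (QL μ)) (hA : A ∈ OmegaGL (⇑(formL Q (g : Matrix ι ι F) Ψ hΨ hmult hgg hμ0))) :
    ∃ s, phiB Q g Ψ hΨ hmult hgg hμ0 s = resGL Ψ A := by
  obtain ⟨s, hs, rfl⟩ := hA
  exact ⟨⟨s, hs⟩, rfl⟩

end iso

end Cfsg.Agent.Lib.Helper43.MinusGB
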