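import Mathlib
import Cfsg.Agent.Lib.Helper43.MinusGB4
import Cfsg.Agent.Lib.Helper44.LBOrth3

/-!
# Case (b) of the graph half for `PΩ⁻` (helper43, for S2733 [G-B]), part 5

Semilinear maps `v ↦ h τ(v)` commuting up to scalars with `g` and with `φ(Ω(Q_L))`:
the induced semilinear map over `L`.
-/

set_option autoImplicit false
set_option linter.unusedSectionVars false
set_option linter.unusedVariables false

namespace Cfsg.Agent.Lib.Helper43.MinusGB

open Matrix Cfsg.Agent.Lib.Helper36 Cfsg.Agent.Lib.Helper37.LBM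

local notation "pol" => QuadraticMap.polar

section semilinear

variable {F : Type*} [Field F] {ι : Type} [Fintype ι] [DecidableEq ι]

/-- the semilinear map `v ↦ h τ(v)` -/
def semiT (h : Matrix ι ι F) (τ : F ≃+* F) (v : ι → F) : ι → F := h *ᵥ (fun i => τ (v i))

theorem semiT_add (h : Matrix ι ι F) (τ : F ≃+* F) (u v : ι → F) :
    semiT h τ (u + v) = semiT h τ u + semiT h τ v := by
  unfold semiT
  rw [← Matrix.mulVec_add]
  congr 1
  funext i
  exact map_add τ (u i) (v i)

theorem semiT_smul (h : Matrix ι ι F) (τ : F ≃+* F) (x : F) (v : ι → F) :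
    semiT h τ (x • v) = τ x • semiT h τ v := by
  unfold semiT
  rw [← Matrix.mulVec_smul]
  congr 1
  funext i
  exact map_mul τ x (v i)

theorem semiT_mulVec (h : Matrix ι ι F) (τ : F ≃+* F) (M : Matrix ι ι F) (v : ι → F) :
    semiT h τ (M *ᵥ v) = (h * M.map τ) *ᵥ (fun i => τ (v i)) := by
  unfold semiT
  rw [← Matrix.mulVec_mulVec]
  congr 1
  funext i
  exact RingHom.map_mulVec (τ : F →+* F) M v i

theorem semiT_comm_of_eq (h : Matrix ι ι F) (τ : F ≃+* F) (M : Matrix ι ι F) (c : F)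
    (hM : h * M.map τ = c • (M * h)) (v : ι → F) :
    semiT h τ (M *ᵥ v) = c • (M *ᵥ semiT h τ v) := by
  rw [semiT_mulVec, hM, Matrix.smul_mulVec, ← Matrix.mulVec_mulVec]
  rfl

theorem semiT_injective (h : Matrix ι ι F) (hh : IsUnit h) (τ : F ≃+* F) :
    Function.Injective (semiT h τ) := by
  intro u v huv
  have h1 := (Matrix.mulVec_injective_iff_isUnit.mpr hh) huv
  funext i
  exact τ.injective (congrFun h1 i)

theorem semiT_refl (h : Matrix ι ι F) (v : ι → F) : semiT h (RingEquiv.refl F) v = h *ᵥ v := rfl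

/-- the matrix form of a commutation relation in `GL` -/
theorem coe_comm_rel (h k : GL ι F) (τ : F ≃+* F) (c : Fˣ)
    (hc : h * Cfsg.Agent.Lib.Helper36.glMap τ k = Matrix.GeneralLinearGroup.scalar ι c * (k * h)) :
    (h : Matrix ι ι F) * (k : Matrix ι ι F).map τ =
      (c : F) • ((k : Matrix ι ι F) * (h : Matrix ι ι F)) := by
  have h1 := congrArg Units.val hc
  rw [Units.val_mul, Units.val_mul, Cfsg.Agent.Lib.Helper36.glMap_coe,
    Matrix.GeneralLinearGroup.coe_scalar,
    Units.val_mul, Matrix.scalar_apply, ← Matrix.smul_eq_diagonal_mul] at h1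
  exact h1

/-- the multiplier relation `c² μ = τ(μ)` -/
theorem sq_mul_eq (h : Matrix ι ι F) (hh : IsUnit h) [Nonempty ι] (τ : F ≃+* F) (g : Matrix ι ι F)
    (μ c : F) (hgg : g * g = μ • (1 : Matrix ι ι F)) (hc : h * g.map τ = c • (g * h)) :
    c * c * μ = τ μ := by
  have h1 : h * (g * g).map τ = (c * c * μ) • h := by
    rw [Matrix.map_mul (f := τ), ← Matrix.mul_assoc, hc, Matrix.smul_mul,
      Matrix.mul_assoc, hc, Matrix.mul_smul, ← Matrix.mul_assoc, hgg, Matrix.smul_mul,
      Matrix.one_mul, smul_smul, smul_smul]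
  have h3 : (μ • (1 : Matrix ι ι F)).map τ = τ μ • (1 : Matrix ι ι F) := by
    ext i j
    rw [Matrix.map_apply, Matrix.smul_apply, Matrix.smul_apply, Matrix.one_apply]
    split_ifs
    · rw [smul_eq_mul, smul_eq_mul, mul_one, mul_one]
    · rw [smul_eq_mul, smul_eq_mul, mul_zero, mul_zero, map_zero]
  rw [hgg, h3, Matrix.mul_smul, Matrix.mul_one] at h1
  obtain ⟨u, hu⟩ := hh
  have h4 : (τ μ - c * c * μ) • h = 0 := by
    rw [sub_smul, h1, sub_self]
  have h5 : (τ μ - c * c * μ) • (1 : Matrix ι ι F) = 0 := by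
    have : (τ μ - c * c * μ) • (h * (u⁻¹ : (Matrix ι ι F)ˣ)) = 0 := by
      rw [← Matrix.smul_mul, h4, Matrix.zero_mul]
    rw [← hu, Units.mul_inv] at this
    exact this
  obtain ⟨i⟩ := ‹Nonempty ι›
  have h6 := congrFun (congrFun h5 i) i
  rw [Matrix.smul_apply, Matrix.one_apply_eq, smul_eq_mul, mul_one, Matrix.zero_apply] at h6
  exact (sub_eq_zero.mp h6).symm

end semilinear

section tauL

variable {F : Type*} [Field F] {μ : F} [Fact (∀ r : F, r ^ 2 ≠ μ + 0 * r)]

/-- the automorphism of `L` extending `τ` with `ω ↦ c ω` -/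
noncomputable def tauL (τ : F ≃+* F) (c : F) (hc0 : c ≠ 0) (hc : c * c * μ = τ μ) :
    QL μ ≃+* QL μ where
  toFun z := ⟨τ z.re, c * τ z.im⟩
  invFun z := ⟨τ.symm z.re, τ.symm (c⁻¹ * z.im)⟩
  left_inv z := by
    ext
    · show τ.symm (τ z.re) = z.re
      rw [RingEquiv.symm_apply_apply]
    · show τ.symm (c⁻¹ * (c * τ z.im)) = z.im
      rw [← mul_assoc, inv_mul_cancel₀ hc0, one_mul, RingEquiv.symm_apply_apply]
  right_inv z := by
    ext
    · show τ (τ.symm z.re) = z.re
      rw [RingEquiv.apply_symm_apply]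
    · show c * τ (τ.symm (c⁻¹ * z.im)) = z.im
      rw [RingEquiv.apply_symm_apply, ← mul_assoc, mul_inv_cancel₀ hc0, one_mul]
  map_mul' z w := by
    ext
    · rw [QuadraticAlgebra.re_mul]
      show τ (z * w).re = τ z.re * τ w.re + μ * (c * τ z.im) * (c * τ w.im)
      rw [QuadraticAlgebra.re_mul, map_add, map_mul, map_mul, map_mul, ← hc]
      ring
    · rw [QuadraticAlgebra.im_mul]
      show c * τ (z * w).im = τ z.re * (c * τ w.im) + (c * τ z.im) * τ w.re +
        0 * (c * τ z.im) * (c * τ w.im)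
      rw [QuadraticAlgebra.im_mul, map_add, map_add, map_mul, map_mul, map_mul, map_mul, map_zero]
      ring
  map_add' z w := by
    ext
    · show τ (z + w).re = τ z.re + τ w.re
      rw [QuadraticAlgebra.re_add, map_add]
    · show c * τ (z + w).im = c * τ z.im + c * τ w.im
      rw [QuadraticAlgebra.im_add, map_add, mul_add]

theorem tauL_re (τ : F ≃+* F) (c : F) (hc0 : c ≠ 0) (hc : c * c * μ = τ μ) (z : QL μ) :
    (tauL τ c hc0 hc z).re = τ z.re := rfl

theorem tauL_im (τ : F ≃+* F) (c : F) (hc0 : c ≠ 0) (hc : c * c * μ = τ μ) (z : QL μ) :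
    (tauL τ c hc0 hc z).im = c * τ z.im := rfl

end tauL

end Cfsg.Agent.Lib.Helper43.MinusGB
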