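import Mathlib
import Cfsg.Agent.Lib.Helper43.MinusGB5

/-!
# Case (b) of the graph half for `PΩ⁻` (helper43, for S2733 [G-B]), part 6

The `L`-semilinear map `T' = Ψ⁻¹ ∘ T ∘ Ψ` and its matrix.
-/

set_option autoImplicit false
set_option linter.unusedSectionVars false
set_option linter.unusedVariables false

namespace Cfsg.Agent.Lib.Helper43.MinusGB

open Matrix Cfsg.Agent.Lib.Helper36 Cfsg.Agent.Lib.Helper37.LBM

local notation "pol" => QuadraticMap.polar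

section Tp

variable {F : Type*} [Field F] {μ : F} [Fact (∀ r : F, r ^ 2 ≠ μ + 0 * r)]
  {ι κ : Type} [Fintype ι] [DecidableEq ι] [Fintype κ] [DecidableEq κ]

/-- the transported semilinear map, as an additive map -/
noncomputable def TpHom (Ψ : (κ → QL μ) ≃ₗ[F] (ι → F)) (h : Matrix ι ι F) (τ : F ≃+* F) :
    (κ → QL μ) →+ (κ → QL μ) where
  toFun c := Ψ.symm (semiT h τ (Ψ c))
  map_zero' := by
    have : semiT h τ (0 : ι → F) = 0 := by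
      unfold semiT
      have : (fun i => τ ((0 : ι → F) i)) = 0 := by
        funext i
        exact map_zero τ
      rw [this, Matrix.mulVec_zero]
    rw [map_zero, this, map_zero]
  map_add' c d := by
    rw [map_add, semiT_add, map_add]

theorem TpHom_apply (Ψ : (κ → QL μ) ≃ₗ[F] (ι → F)) (h : Matrix ι ι F) (τ : F ≃+* F)
    (c : κ → QL μ) : TpHom Ψ h τ c = Ψ.symm (semiT h τ (Ψ c)) := rfl

theorem Psi_TpHom (Ψ : (κ → QL μ) ≃ₗ[F] (ι → F)) (h : Matrix ι ι F) (τ : F ≃+* F)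
    (c : κ → QL μ) : Ψ (TpHom Ψ h τ c) = semiT h τ (Ψ c) := by
  rw [TpHom_apply, LinearEquiv.apply_symm_apply]

/-- `T'` is `τ̃`-semilinear -/
theorem TpHom_smul (Ψ : (κ → QL μ) ≃ₗ[F] (ι → F)) (g : Matrix ι ι F)
    (hΨ : ∀ c, Ψ (om μ • c) = g *ᵥ Ψ c) (h : Matrix ι ι F) (τ : F ≃+* F)
    (c₀ : F) (hc0 : c₀ ≠ 0) (hc : c₀ * c₀ * μ = τ μ) (hg : h * g.map τ = c₀ • (g * h))
    (z : QL μ) (c : κ → QL μ) :
    TpHom Ψ h τ (z • c) = tauL τ c₀ hc0 hc z • TpHom Ψ h τ c := by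
  apply Ψ.injective
  rw [Psi_TpHom, Psi_smul Ψ g hΨ, Psi_smul Ψ g hΨ, semiT_add, semiT_smul, semiT_smul,
    semiT_comm_of_eq h τ g c₀ hg, Psi_TpHom, tauL_re, tauL_im, smul_smul, mul_comm (τ z.im) c₀]

/-- the matrix of `T'` -/
noncomputable def hP (Ψ : (κ → QL μ) ≃ₗ[F] (ι → F)) (h : Matrix ι ι F) (τ : F ≃+* F) :
    Matrix κ κ (QL μ) :=
  Matrix.of (fun i j => TpHom Ψ h τ (Pi.single j 1) i)

theorem TpHom_eq_mulVec (Ψ : (κ → QL μ) ≃ₗ[F] (ι → F)) (g : Matrix ι ι F)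
    (hΨ : ∀ c, Ψ (om μ • c) = g *ᵥ Ψ c) (h : Matrix ι ι F) (τ : F ≃+* F)
    (c₀ : F) (hc0 : c₀ ≠ 0) (hc : c₀ * c₀ * μ = τ μ) (hg : h * g.map τ = c₀ • (g * h))
    (c : κ → QL μ) :
    TpHom Ψ h τ c = hP Ψ h τ *ᵥ (fun j => tauL τ c₀ hc0 hc (c j)) := by
  conv_lhs => rw [pi_eq_sum_univ' c]
  rw [map_sum]
  funext i
  rw [Finset.sum_apply]
  show _ = ∑ j, hP Ψ h τ i j * tauL τ c₀ hc0 hc (c j)
  apply Finset.sum_congr rfl
  intro j _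
  rw [TpHom_smul Ψ g hΨ h τ c₀ hc0 hc hg, Pi.smul_apply, smul_eq_mul, mul_comm]
  rfl

theorem TpHom_injective (Ψ : (κ → QL μ) ≃ₗ[F] (ι → F)) (h : Matrix ι ι F) (hh : IsUnit h)
    (τ : F ≃+* F) : Function.Injective (TpHom Ψ h τ) := by
  intro c d hcd
  rw [TpHom_apply, TpHom_apply] at hcd
  exact Ψ.injective (semiT_injective h hh τ (Ψ.symm.injective hcd))

theorem comp_tauL_surj (τ : F ≃+* F) (c₀ : F) (hc0 : c₀ ≠ 0) (hc : c₀ * c₀ * μ = τ μ)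
    (d : κ → QL μ) : ∃ c : κ → QL μ, (fun j => tauL τ c₀ hc0 hc (c j)) = d :=
  ⟨fun j => (tauL τ c₀ hc0 hc).symm (d j), by
    funext j
    exact RingEquiv.apply_symm_apply _ _⟩

theorem isUnit_hP (Ψ : (κ → QL μ) ≃ₗ[F] (ι → F)) (g : Matrix ι ι F)
    (hΨ : ∀ c, Ψ (om μ • c) = g *ᵥ Ψ c) (h : Matrix ι ι F) (hh : IsUnit h) (τ : F ≃+* F)
    (c₀ : F) (hc0 : c₀ ≠ 0) (hc : c₀ * c₀ * μ = τ μ) (hg : h * g.map τ = c₀ • (g * h)) :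
    IsUnit (hP Ψ h τ) := by
  rw [← Matrix.mulVec_injective_iff_isUnit]
  intro d₁ d₂ hd
  obtain ⟨c₁, rfl⟩ := comp_tauL_surj τ c₀ hc0 hc d₁
  obtain ⟨c₂, rfl⟩ := comp_tauL_surj τ c₀ hc0 hc d₂
  rw [← TpHom_eq_mulVec Ψ g hΨ h τ c₀ hc0 hc hg, ← TpHom_eq_mulVec Ψ g hΨ h τ c₀ hc0 hc hg] at hd
  rw [TpHom_injective Ψ h hh τ hd]

/-- the relation with restricted matrices -/
theorem hP_comm (Ψ : (κ → QL μ) ≃ₗ[F] (ι → F)) (g : Matrix ι ι F)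
    (hΨ : ∀ c, Ψ (om μ • c) = g *ᵥ Ψ c) (h : Matrix ι ι F) (τ : F ≃+* F)
    (c₀ : F) (hc0 : c₀ ≠ 0) (hc : c₀ * c₀ * μ = τ μ) (hg : h * g.map τ = c₀ • (g * h))
    (A : Matrix κ κ (QL μ)) (cA : F) (hA : h * (resM Ψ A).map τ = cA • (resM Ψ A * h)) :
    hP Ψ h τ * A.map (tauL τ c₀ hc0 hc) = algebraMap F (QL μ) cA • (A * hP Ψ h τ) := by
  apply matrix_eq_of_mulVec
  intro d
  obtain ⟨c, rfl⟩ := comp_tauL_surj τ c₀ hc0 hc d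
  have h1 : (A.map (tauL τ c₀ hc0 hc)) *ᵥ (fun j => tauL τ c₀ hc0 hc (c j)) =
      fun j => tauL τ c₀ hc0 hc ((A *ᵥ c) j) := by
    funext i
    exact (RingHom.map_mulVec ((tauL τ c₀ hc0 hc : QL μ ≃+* QL μ) : QL μ →+* QL μ) A c i).symm
  rw [← Matrix.mulVec_mulVec, h1, ← TpHom_eq_mulVec Ψ g hΨ h τ c₀ hc0 hc hg, Matrix.smul_mulVec,
    ← Matrix.mulVec_mulVec, ← TpHom_eq_mulVec Ψ g hΨ h τ c₀ hc0 hc hg]
  apply Ψ.injective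
  rw [Psi_TpHom, ← resM_mulVec, semiT_comm_of_eq h τ _ cA hA, algebraMap_smul, map_smul,
    ← resM_mulVec, Psi_TpHom]

end Tp

end Cfsg.Agent.Lib.Helper43.MinusGB
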