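import Mathlib
import Cfsg.Agent.Lib.Helper43.MinusGB6

/-!
# Case (b) of the graph half for `PΩ⁻` (helper43, for S2733 [G-B]), part 7

The condition `d5` of `lb_pomega_generic` in case (b): a semisimilarity pair `(h, τ)` commuting up
to scalars with `g` and with `φ(Ω(Q_L))` has `τ = 1` and `h ∈ Fˣ ∪ Fˣ g`.
-/

set_option autoImplicit false
set_option linter.unusedSectionVars false
set_option linter.unusedVariables false

namespace Cfsg.Agent.Lib.Helper43.MinusGB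

open Matrix Cfsg.Agent.Lib.Helper36 Cfsg.Agent.Lib.Helper37.LBM

local notation "pol" => QuadraticMap.polar

section d5

variable {F : Type*} [Field F] {μ : F} [Fact (∀ r : F, r ^ 2 ≠ μ + 0 * r)]
  {ι κ : Type} [Fintype ι] [DecidableEq ι] [Fintype κ] [DecidableEq κ]

/-- `v ↦ B(v, g v)` is not proportional to `Q` -/
theorem no_const_polar (Q : QuadraticForm F (ι → F))
    (hQ : (QuadraticMap.polarBilin Q).Nondegenerate) (g : Matrix ι ι F)
    (hmult : ∀ v, Q (g *ᵥ v) = μ * Q v) (hgg : g * g = μ • (1 : Matrix ι ι F)) (hμ0 : μ ≠ 0)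
    (h2 : (2 : F) ≠ 0) (hμ : ¬ IsSquare μ) [Nonempty ι] (κ₁ : F)
    (hκ : ∀ v, pol (⇑Q) v (g *ᵥ v) = κ₁ * Q v) : False := by
  have h1 : ∀ u v, 2 * pol (⇑Q) u (g *ᵥ v) = κ₁ * pol (⇑Q) u v := by
    intro u v
    have e1 := hκ (u + v)
    rw [Matrix.mulVec_add, QuadraticMap.polar_add_left, QuadraticMap.polar_add_right,
      QuadraticMap.polar_add_right, hκ u, hκ v] at e1
    have e2 : pol (⇑Q) v (g *ᵥ u) = pol (⇑Q) u (g *ᵥ v) := by
      rw [QuadraticMap.polar_comm, polar_g_left Q g hmult hgg hμ0]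
    have e3 : Q (u + v) = Q u + Q v + pol (⇑Q) u v := QuadraticMap.map_add Q u v
    rw [e2, e3] at e1
    linear_combination e1
  have h3 : ∀ v, (2 : F) • (g *ᵥ v) = κ₁ • v := by
    intro v
    have : (2 : F) • (g *ᵥ v) - κ₁ • v = 0 := by
      apply hQ.2
      intro u
      rw [QuadraticMap.polarBilin_apply_apply, QuadraticMap.polar_sub_right,
        QuadraticMap.polar_smul_right, QuadraticMap.polar_smul_right, smul_eq_mul, smul_eq_mul, h1,
        sub_self]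
    exact sub_eq_zero.mp this
  obtain ⟨i⟩ := ‹Nonempty ι›
  have h4 : (4 : F) • (g *ᵥ (g *ᵥ (Pi.single i 1 : ι → F))) =
      (κ₁ * κ₁) • (Pi.single i 1 : ι → F) := by
    have := h3 (g *ᵥ (Pi.single i 1 : ι → F))
    calc (4 : F) • (g *ᵥ (g *ᵥ (Pi.single i 1 : ι → F)))
        = (2 : F) • ((2 : F) • (g *ᵥ (g *ᵥ (Pi.single i 1 : ι → F)))) := by
          rw [smul_smul]; norm_num
      _ = (2 : F) • (κ₁ • (g *ᵥ (Pi.single i 1 : ι → F))) := by rw [this]
      _ = κ₁ • ((2 : F) • (g *ᵥ (Pi.single i 1 : ι → F))) := smul_comm _ _ _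
      _ = κ₁ • (κ₁ • (Pi.single i 1 : ι → F)) := by rw [h3]
      _ = _ := smul_smul _ _ _
  rw [g_g_mulVec g hgg, smul_smul] at h4
  have h5 := congrFun h4 i
  rw [Pi.smul_apply, Pi.smul_apply, Pi.single_eq_same, smul_eq_mul, smul_eq_mul, mul_one,
    mul_one] at h5
  apply hμ
  refine ⟨κ₁ / 2, ?_⟩
  field_simp
  linear_combination h5

theorem two_ne_zero_QL (h2 : (2 : F) ≠ 0) : (2 : QL μ) ≠ 0 := by
  intro h
  have := congrArg QuadraticAlgebra.re h
  exact h2 this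

/-- **condition `d5` in case (b)** -/
theorem d5_b [Fintype F] (Q : QuadraticForm F (ι → F))
    (hQ : (QuadraticMap.polarBilin Q).Nondegenerate) (g : GL ι F)
    (Ψ : (κ → QL μ) ≃ₗ[F] (ι → F)) (hΨ : ∀ c, Ψ (om μ • c) = (g : Matrix ι ι F) *ᵥ Ψ c)
    (hmult : ∀ v, Q ((g : Matrix ι ι F) *ᵥ v) = μ * Q v)
    (hgg : (g : Matrix ι ι F) * (g : Matrix ι ι F) = μ • (1 : Matrix ι ι F)) (hμ0 : μ ≠ 0)
    (h2 : (2 : F) ≠ 0) (hμ : ¬ IsSquare μ) (hκ : 3 ≤ Fintype.card κ)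
    (h : GL ι F) (τ : F ≃+* F) (hp : Cfsg.IsSemisimilarityPair (⇑Q) h τ)
    (hg : ∃ c : Fˣ, h * Cfsg.Agent.Lib.Helper36.glMap τ g =
      Matrix.GeneralLinearGroup.scalar ι c * (g * h))
    (hs : ∀ s, ∃ c : Fˣ, h * Cfsg.Agent.Lib.Helper36.glMap τ (phiB Q g Ψ hΨ hmult hgg hμ0 s) =
      Matrix.GeneralLinearGroup.scalar ι c * (phiB Q g Ψ hΨ hmult hgg hμ0 s * h)) :
    τ = RingEquiv.refl F ∧
      ∃ (c : Fˣ) (k : ℕ), h = Matrix.GeneralLinearGroup.scalar ι c * g ^ k := by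
  classical
  have hκne : Nonempty κ := by
    rw [← Fintype.card_pos_iff]; omega
  have hne : Nonempty ι := by
    by_contra hemp
    rw [not_nonempty_iff] at hemp
    obtain ⟨k⟩ := hκne
    have h1 : Ψ (Pi.single k 1) = Ψ 0 := Subsingleton.elim _ _
    have h3 := congrFun (Ψ.injective h1) k
    rw [Pi.single_eq_same, Pi.zero_apply] at h3
    exact one_ne_zero h3
  obtain ⟨c₀, hc₀⟩ := hg
  have hgm := coe_comm_rel h g τ c₀ hc₀
  have hhu : IsUnit (h : Matrix ι ι F) := h.isUnit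
  have hc := sq_mul_eq (h : Matrix ι ι F) hhu τ (g : Matrix ι ι F) μ c₀ hgg hgm
  have hc0 : (c₀ : F) ≠ 0 := c₀.ne_zero
  obtain ⟨hPu, hPueq⟩ := isUnit_hP Ψ (g : Matrix ι ι F) hΨ (h : Matrix ι ι F) hhu τ c₀ hc0 hc hgm
  have H : ∀ A : GL κ (QL μ),
      A ∈ OmegaGL (⇑(formL Q (g : Matrix ι ι F) Ψ hΨ hmult hgg hμ0)) → ∃ c : QL μ,
      ((hPu : GL κ (QL μ)) : Matrix κ κ (QL μ)) *
        ((A : Matrix κ κ (QL μ)).map (RingHom.id (QL μ))).map (tauL τ c₀ hc0 hc) =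
        c • ((A : Matrix κ κ (QL μ)).map (RingHom.id (QL μ)) *
          ((hPu : GL κ (QL μ)) : Matrix κ κ (QL μ))) := by
    intro A hA
    obtain ⟨s, hs'⟩ := phiB_mem_OmegaGL Q g Ψ hΨ hmult hgg hμ0 A hA
    obtain ⟨cs, hcs⟩ := hs s
    rw [hs'] at hcs
    have h3 := coe_comm_rel h (resGL Ψ A) τ cs hcs
    rw [resGL_coe] at h3
    refine ⟨algebraMap F (QL μ) cs, ?_⟩
    have hid : (A : Matrix κ κ (QL μ)).map (RingHom.id (QL μ)) = A :=
      Matrix.ext fun i j => rfl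
    rw [hid, hPueq]
    exact hP_comm Ψ (g : Matrix ι ι F) hΨ (h : Matrix ι ι F) τ c₀ hc0 hc hgm A cs h3
  obtain ⟨hfix, lam, hlam⟩ := Cfsg.Agent.Lib.Helper44.LB.cent_orth
    (formL Q (g : Matrix ι ι F) Ψ hΨ hmult hgg hμ0)
    (formL_nondeg Q hQ (g : Matrix ι ι F) Ψ hΨ hmult hgg hμ0 h2) (two_ne_zero_QL h2) hκ
    (RingHom.id (QL μ)) (tauL τ c₀ hc0 hc) hPu H
  have hτ : τ = RingEquiv.refl F := by
    ext x
    have := congrArg QuadraticAlgebra.re (hfix (algebraMap F (QL μ) x))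
    exact this
  refine ⟨hτ, ?_⟩
  have hfix' : ∀ t : QL μ, tauL τ c₀ hc0 hc t = t := fun t => hfix t
  have hsemi : ∀ v, semiT (h : Matrix ι ι F) τ v = (h : Matrix ι ι F) *ᵥ v := by
    intro v
    rw [hτ]
    rfl
  have hh_eq : (h : Matrix ι ι F) =
      lam.re • (1 : Matrix ι ι F) + lam.im • (g : Matrix ι ι F) := by
    apply matrix_eq_of_mulVec_Psi Ψ
    intro c
    rw [Matrix.add_mulVec, Matrix.smul_mulVec, Matrix.smul_mulVec, Matrix.one_mulVec,
      ← Psi_smul Ψ (g : Matrix ι ι F) hΨ, ← hsemi, ← Psi_TpHom,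
      TpHom_eq_mulVec Ψ (g : Matrix ι ι F) hΨ (h : Matrix ι ι F) τ c₀ hc0 hc hgm, ← hPueq, hlam,
      Matrix.smul_mulVec, Matrix.one_mulVec]
    congr 2
    funext j
    exact hfix' (c j)
  obtain ⟨κ₀, hκ₀⟩ := hp
  have hQh : ∀ v, Q ((h : Matrix ι ι F) *ᵥ v) = (κ₀ : F) * Q v := by
    intro v
    have := hκ₀ v
    rw [hτ] at this
    exact this
  have hexp : ∀ v, Q ((h : Matrix ι ι F) *ᵥ v) =
      (lam.re * lam.re + lam.im * lam.im * μ) * Q v +
        lam.re * lam.im * pol (⇑Q) v ((g : Matrix ι ι F) *ᵥ v) := by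
    intro v
    rw [hh_eq, Matrix.add_mulVec, Matrix.smul_mulVec, Matrix.smul_mulVec, Matrix.one_mulVec,
      QuadraticMap.map_add Q, QuadraticMap.map_smul, QuadraticMap.map_smul, hmult,
      QuadraticMap.polar_smul_left, QuadraticMap.polar_smul_right]
    simp only [smul_eq_mul]
    ring
  have hzero : (h : Matrix ι ι F) ≠ 0 := by
    intro h0
    have hd := (Matrix.isUnit_iff_isUnit_det _).mp hhu
    rw [h0, Matrix.det_zero] at hd
    exact not_isUnit_zero hd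
  by_cases hx : lam.re = 0
  · have hy : lam.im ≠ 0 := by
      intro hy
      apply hzero
      rw [hh_eq, hx, hy, zero_smul, zero_smul, add_zero]
    refine ⟨Units.mk0 lam.im hy, 1, ?_⟩
    apply Units.ext
    rw [Units.val_mul, Matrix.GeneralLinearGroup.coe_scalar, pow_one, Matrix.scalar_apply,
      ← Matrix.smul_eq_diagonal_mul, Units.val_mk0, hh_eq, hx, zero_smul, zero_add]
  · by_cases hy : lam.im = 0
    · refine ⟨Units.mk0 lam.re hx, 0, ?_⟩
      apply Units.ext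
      rw [Units.val_mul, Matrix.GeneralLinearGroup.coe_scalar, pow_zero, Matrix.scalar_apply,
        ← Matrix.smul_eq_diagonal_mul, Units.val_mk0, hh_eq, hy, zero_smul, add_zero]
      rfl
    · exfalso
      apply no_const_polar Q hQ (g : Matrix ι ι F) hmult hgg hμ0 h2 hμ
        (((κ₀ : F) - (lam.re * lam.re + lam.im * lam.im * μ)) / (lam.re * lam.im))
      intro v
      have e1 := hexp v
      rw [hQh v] at e1
      field_simp
      linear_combination -e1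

end d5

end Cfsg.Agent.Lib.Helper43.MinusGB
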