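import Mathlib
import Cfsg.Agent.Lib.Helper43.MinusGB7
import Cfsg.Agent.Lib.Helper36.LocalBalance.OddDimL
import Cfsg.Agent.Lib.Helper13.MinusQ
import Cfsg.Agent.S2696

/-!
# Case (b) of the graph half for `PΩ⁻` (helper43, for S2733 [G-B]): the final statement

`minus_graph_b`: a similarity `g` of the minus form with `g² = μ` a non-square (`m + 1` odd),
inducing a non-inner automorphism `x` of `PΩ⁻`, has `O_{2'}(C_A(x)) = 1` for every `A ≥ Inn`.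
-/

set_option autoImplicit false
set_option linter.unusedSectionVars false
set_option linter.unusedVariables false

namespace Cfsg.Agent.Lib.Helper43

open Matrix Cfsg.Agent.Lib.Helper36 Cfsg.Agent.Lib.Helper37.LBM Cfsg.Agent.Lib.Helper43.MinusGB
  Cfsg.Agent.Lib.Helper13

/-- the generic form of case (b): `Q` non-degenerate in dimension `2 k`, `k ≥ 4` odd, `Aut` generated
by semisimilarities, `g` a similarity with `g² = μ` a non-square and multiplier `μ` -/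
theorem graph_b_generic {F : Type*} [Field F] [Fintype F] {ι : Type} [Fintype ι] [DecidableEq ι]
    (Q : QuadraticForm F (ι → F)) (hQ : (QuadraticMap.polarBilin Q).Nondegenerate)
    (k : ℕ) (hcard : Fintype.card ι = 2 * k) (hk : 4 ≤ k) (hkodd : Odd k)
    (htop : Cfsg.gammaPOmega F (⇑Q) = ⊤) (h2 : (2 : F) ≠ 0)
    (g : ↥(Cfsg.Geo.quadSimilarityGroup (⇑Q))) (μ : F) (hμ : ¬ IsSquare μ)
    (hmult : ∀ v, Q (((g : GL ι F) : Matrix ι ι F) *ᵥ v) = μ * Q v)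
    (hgg : ((g : GL ι F) : Matrix ι ι F) * ((g : GL ι F) : Matrix ι ι F) =
      μ • (1 : Matrix ι ι F))
    (hgI : simAut (⇑Q) g ∉ Cfsg.Inn (Cfsg.POmega F (⇑Q)))
    (A : Subgroup (MulAut (Cfsg.POmega F (⇑Q))))
    (hinn : Cfsg.Inn (Cfsg.POmega F (⇑Q)) ≤ A) :
    Cfsg.pPrimeCore 2 ↥(A ⊓ Subgroup.centralizer {simAut (⇑Q) g}) = ⊥ := by
  classical
  have hfact : Fact (∀ r : F, r ^ 2 ≠ μ + 0 * r) := fact_of_not_isSquare μ hμ
  have hμ0 : μ ≠ 0 := by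
    rintro rfl
    exact hμ ⟨0, by rw [mul_zero]⟩
  have h7 : 7 ≤ Fintype.card ι := by
    rw [hcard]; omega
  obtain ⟨Ψ, hΨ⟩ := exists_Psi μ ((g : GL ι F) : Matrix ι ι F) hgg k hcard
  have hx2 : simAut (⇑Q) g ^ 2 = 1 := by
    rw [← map_pow]
    apply (simAut_eq_one_iff Q hQ h7 (g ^ 2)).mpr
    refine ⟨μ, ?_⟩
    rw [pow_two]
    exact hgg
  have hκ : Fintype.card (Fin k) = k := Fintype.card_fin _
  have hd123 := d123_of_range_eq (⇑Q) (g : GL ι F)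
    (phiB Q (g : GL ι F) Ψ hΨ hmult hgg hμ0)
    (phiB_range Q (g : GL ι F) Ψ hΨ hmult hgg hμ0 h2)
  exact lb_pomega_generic Q hQ h7 htop g hx2 hgI
    (phiB Q (g : GL ι F) Ψ hΨ hmult hgg hμ0)
    (phiB_injective Q (g : GL ι F) Ψ hΨ hmult hgg hμ0)
    hd123.1 hd123.2.1 hd123.2.2
    (fun M hM hc => Cfsg.Agent.Lib.Helper36.LocalBalance.noNormal_POmega_odd_dim
      (two_ne_zero_QL h2)
      (formL Q ((g : GL ι F) : Matrix ι ι F) Ψ hΨ hmult hgg hμ0)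
      (formL_nondeg Q hQ ((g : GL ι F) : Matrix ι ι F) Ψ hΨ hmult hgg hμ0 h2)
      (by rw [hκ]; exact hkodd) M hM hc)
    (fun h τ hp hg hs => d5_b Q hQ (g : GL ι F) Ψ hΨ hmult hgg hμ0 h2 hμ (by rw [hκ]; omega)
      h τ hp hg hs)
    A hinn

/-- **module [G-B] of S2733** -/
theorem minus_graph_b {F : Type*} [Field F] [Fintype F] {m : ℕ} (hm : 3 ≤ m) (a b : F)
    (hab : ∀ z₁ z₂ : F, z₁ ^ 2 + a * z₁ * z₂ + b * z₂ ^ 2 = 0 → z₁ = 0 ∧ z₂ = 0)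
    (h2 : (2 : F) ≠ 0) (hmodd : Odd (m + 1))
    (g : ↥(Cfsg.Geo.quadSimilarityGroup (Cfsg.quadFormMinus m F a b))) (μ : F)
    (hμ : ¬ IsSquare μ)
    (hmult : ∀ v, Cfsg.quadFormMinus m F a b
      (((g : GL ((Fin m ⊕ Fin m) ⊕ Fin 2) F) :
        Matrix ((Fin m ⊕ Fin m) ⊕ Fin 2) ((Fin m ⊕ Fin m) ⊕ Fin 2) F) *ᵥ v) =
      μ * Cfsg.quadFormMinus m F a b v)
    (hgg : ((g : GL ((Fin m ⊕ Fin m) ⊕ Fin 2) F) : Matrix _ _ F) *
      ((g : GL ((Fin m ⊕ Fin m) ⊕ Fin 2) F) : Matrix _ _ F) =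
      μ • (1 : Matrix ((Fin m ⊕ Fin m) ⊕ Fin 2) ((Fin m ⊕ Fin m) ⊕ Fin 2) F))
    (hgI : simAut (Cfsg.quadFormMinus m F a b) g ∉
      Cfsg.Inn (Cfsg.POmega F (Cfsg.quadFormMinus m F a b)))
    (A : Subgroup (MulAut (Cfsg.POmega F (Cfsg.quadFormMinus m F a b))))
    (hinn : Cfsg.Inn (Cfsg.POmega F (Cfsg.quadFormMinus m F a b)) ≤ A) :
    Cfsg.pPrimeCore 2 ↥(A ⊓ Subgroup.centralizer {simAut (Cfsg.quadFormMinus m F a b) g}) = ⊥ := by
  have hQ := minusQ_nondeg_of_aniso m a b hab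
  have hcard : Fintype.card ((Fin m ⊕ Fin m) ⊕ Fin 2) = 2 * (m + 1) := by
    rw [Fintype.card_sum, Fintype.card_sum, Fintype.card_fin, Fintype.card_fin]; ring
  have htop := Cfsg.Agent.S2696.result hm a b hab
  have hk : 4 ≤ m + 1 := by
    obtain ⟨c, hc⟩ := hmodd
    omega
  revert g hmult hgg hgI A hinn htop
  rw [← minusQ_coe m F a b]
  intro g hmult hgg hgI A hinn htop
  exact graph_b_generic (minusQ m F a b) hQ (m + 1) hcard hk hmodd htop h2 g μ hμ hmult hgg hgI A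
    hinn

end Cfsg.Agent.Lib.Helper43
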