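/-
helper43: S2736 in the form of the statement: unpacking the class predicates of field and
graph-field automorphisms of `PΩ⁺_{2m}(F)`.
-/
import Mathlib
import Cfsg.Agent.Lib.Helper43.PlusCoset

set_option autoImplicit false

namespace Cfsg.Agent.Lib.Helper43

open scoped MatrixGroups Matrix
open Module Matrix Cfsg.Agent.Lib.Helper45.PSLField Cfsg.Agent.Lib.Helper36 Cfsg.Agent.Lib.Helper44
  Cfsg.Agent.S2168

variable {m : ℕ} {F : Type*} [Field F]

/-- a reflection in a vector fixed by `σ` is fixed by `σ` -/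
theorem reflection_map_fixed (σ : RingAut F) (v : Fin m ⊕ Fin m → F) (hv : ∀ i, σ (v i) = v i) :
    (Cfsg.reflectionMatrix (⇑(plusQF m F)) v).map σ = Cfsg.reflectionMatrix (⇑(plusQF m F)) v := by
  have h1 := reflectionMatrix_map (σ : F →+* F) (⇑(plusQF m F)) (⇑(plusQF m F))
    (fun w => fieldCompat_plusQF σ w) v
  have h2 : (fun i => (σ : F →+* F) (v i)) = v := funext hv
  rw [h2] at h1
  exact h1

/-- **S2736** -/
theorem plus_field_coset [Fintype F] (hm : 5 ≤ m)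
    (x δ : MulAut (Cfsg.POmega F (Cfsg.quadFormPlus m F)))
    (hx : Cfsg.IsFieldAutClassPOmega (Cfsg.quadFormPlus m F) x ∨
      Cfsg.IsGraphFieldAutClassPOmegaPlus m x) {r : ℕ} (hr : r.Prime) (hxr : orderOf x = r)
    (hδ : δ ∈ Cfsg.inndiagPOmegaPlus m F) :
    orderOf (δ * x) = r ↔ Cfsg.IsConjUnder (Cfsg.inndiagPOmegaPlus m F) x (δ * x) := by
  classical
  have hm1 : 1 ≤ m := by omega
  constructor
  · intro hy
    have hδ' : δ ∈ inndiagPlusQ m F := hδ
    rcases hx with hx | hx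
    · have hx' : Cfsg.IsFieldAutClassPOmega (⇑(plusQF m F)) x := hx
      obtain ⟨α, σ, hσ1, hασ⟩ := exists_conj_eq_oField fieldCompat_plusQF hx'
      have hv0 : plusQF m F (hypVec ⟨0, hm1⟩) ≠ 0 := by
        rw [plusQF_hypVec]
        exact one_ne_zero
      obtain ⟨ρ', -, hρ'⟩ := exists_reflection_similarity (plusQF m F) (hypVec ⟨0, hm1⟩) hv0
      have hρ'σ : ((ρ' : GL (Fin m ⊕ Fin m) F) :
          Matrix (Fin m ⊕ Fin m) (Fin m ⊕ Fin m) F).map σ =
          ((ρ' : GL (Fin m ⊕ Fin m) F) : Matrix (Fin m ⊕ Fin m) (Fin m ⊕ Fin m) F) := by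
        rw [hρ']
        exact reflection_map_fixed σ _ (fun i => congrFun (vmap_hypVec σ ⟨0, hm1⟩) i)
      exact plus_coset_core hm σ hσ1 1 ρ' hρ'σ (by rw [mul_one, one_mul])
        (not_plusEven_of_refl _ _ hv0 hρ') α x δ (by rw [hασ, map_one, one_mul]) hr hxr hδ' hy
    · obtain ⟨α, γ, φ, σ, v, rr, hσ1, hv, hvσ, hrr, hγ, hφ, hαx⟩ := hx
      have hv0 : plusQF m F v ≠ 0 := hv
      obtain ⟨ρ', -, hρ'⟩ := exists_reflection_similarity (plusQF m F) v hv0
      have hrr' : rr = (ρ' : GL (Fin m ⊕ Fin m) F) := Units.ext (hrr.trans hρ'.symm)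
      have hρ'σ : ((ρ' : GL (Fin m ⊕ Fin m) F) :
          Matrix (Fin m ⊕ Fin m) (Fin m ⊕ Fin m) F).map σ =
          ((ρ' : GL (Fin m ⊕ Fin m) F) : Matrix (Fin m ⊕ Fin m) (Fin m ⊕ Fin m) F) := by
        rw [hρ']
        exact reflection_map_fixed σ v hvσ
      have hγ' : γ = simAut (⇑(plusQF m F)) ρ' := by
        rw [hrr'] at hγ
        exact (isInduced_iff (⇑(plusQF m F)) ρ' γ).mp hγ
      have hφ' : φ = oField fieldCompat_plusQF σ :=
        (isFieldAutPOmegaOf_iff fieldCompat_plusQF σ φ).mp hφ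
      subst hγ' hφ'
      exact plus_coset_core hm σ hσ1 ρ' ρ' hρ'σ rfl
        (not_plusEven_of_refl _ _ hv0 hρ') α x δ hαx hr hxr hδ' hy
  · rintro ⟨h, -, hy⟩
    rw [hy, orderOf_conj_o, hxr]

end Cfsg.Agent.Lib.Helper43
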