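/-
helper43: involutory graph-field automorphisms of `PΩ⁺_{2m}(F)`, `m ≥ 5` (all characteristics):
the standard representative `x₁ = γ_w φ_σ` (`w` a vector of norm one with entries in the prime
field, `σ` the involution of `F`), and every involutory graph-field automorphism is conjugate to it
under the inner-diagonal group.
-/
import Mathlib
import Cfsg.Agent.Lib.Helper43.PlusCoset2
import Cfsg.Agent.Lib.Helper43.FrobInvol

set_option autoImplicit false

namespace Cfsg.Agent.Lib.Helper43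

open scoped MatrixGroups Matrix
open Module Matrix Cfsg.Agent.Lib.Helper45.PSLField Cfsg.Agent.Lib.Helper36 Cfsg.Agent.Lib.Helper44
  Cfsg.Agent.S2168

variable {m : ℕ} {F : Type*} [Field F]

theorem hypVec_ne (hm : 1 ≤ m) : plusQF m F (hypVec ⟨0, hm⟩) ≠ 0 := by
  rw [plusQF_hypVec]
  exact one_ne_zero

theorem exists_hypRefl [Fintype F] (hm : 1 ≤ m) :
    ∃ g : ↥(Cfsg.Geo.quadSimilarityGroup (⇑(plusQF m F))),
      ((g : GL (Fin m ⊕ Fin m) F) : Matrix (Fin m ⊕ Fin m) (Fin m ⊕ Fin m) F) =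
        Cfsg.reflectionMatrix (⇑(plusQF m F)) (hypVec ⟨0, hm⟩) := by
  classical
  obtain ⟨g, -, hg⟩ := exists_reflection_similarity (plusQF m F) (hypVec ⟨0, hm⟩) (hypVec_ne hm)
  exact ⟨g, hg⟩

/-- the reflection in the standard vector of norm one -/
noncomputable def hypRefl [Fintype F] (hm : 1 ≤ m) :
    ↥(Cfsg.Geo.quadSimilarityGroup (⇑(plusQF m F))) :=
  Classical.choose (exists_hypRefl (F := F) hm)

theorem hypRefl_coe [Fintype F] (hm : 1 ≤ m) :
    ((hypRefl (F := F) hm : GL (Fin m ⊕ Fin m) F) :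
      Matrix (Fin m ⊕ Fin m) (Fin m ⊕ Fin m) F) =
      Cfsg.reflectionMatrix (⇑(plusQF m F)) (hypVec ⟨0, hm⟩) :=
  Classical.choose_spec (exists_hypRefl (F := F) hm)

theorem hypRefl_map [Fintype F] (hm : 1 ≤ m) (τ : RingAut F) :
    ((hypRefl (F := F) hm : GL (Fin m ⊕ Fin m) F) :
      Matrix (Fin m ⊕ Fin m) (Fin m ⊕ Fin m) F).map τ =
    ((hypRefl (F := F) hm : GL (Fin m ⊕ Fin m) F) :
      Matrix (Fin m ⊕ Fin m) (Fin m ⊕ Fin m) F) := by
  rw [hypRefl_coe]
  exact reflection_map_fixed τ _ (fun i => congrFun (vmap_hypVec τ ⟨0, hm⟩) i)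

theorem simMap_hypRefl [Fintype F] (hm : 1 ≤ m) (τ : RingAut F) :
    simMap fieldCompat_plusQF τ (hypRefl (F := F) hm) = hypRefl hm := by
  apply Subtype.ext
  apply Units.ext
  rw [simMap_coe]
  exact hypRefl_map hm τ

theorem not_plusEven_hypRefl [Fintype F] (hm : 1 ≤ m) :
    ¬ plusEven (hypRefl (F := F) hm : GL (Fin m ⊕ Fin m) F) :=
  not_plusEven_of_refl _ _ (hypVec_ne hm) (hypRefl_coe hm)

theorem reflection_mul_self (v : Fin m ⊕ Fin m → F) (hv : plusQF m F v ≠ 0) :
    Cfsg.reflectionMatrix (⇑(plusQF m F)) v * Cfsg.reflectionMatrix (⇑(plusQF m F)) v = 1 := by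
  apply matrix_eq_of_mulVec
  intro z
  rw [← Matrix.mulVec_mulVec, reflectionMatrix_mulVec_eq_reflLin,
    reflectionMatrix_mulVec_eq_reflLin, reflLin_involutive (plusQF m F) v hv z,
    Matrix.one_mulVec]

theorem hypRefl_mul_self [Fintype F] (hm : 1 ≤ m) :
    hypRefl (F := F) hm * hypRefl hm = 1 := by
  apply Subtype.ext
  apply Units.ext
  rw [Subgroup.coe_mul, Units.val_mul, hypRefl_coe]
  exact reflection_mul_self _ (hypVec_ne hm)

/-- the standard graph-field automorphism attached to `σ` -/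
noncomputable def stdGF [Fintype F] (hm : 1 ≤ m) (σ : RingAut F) :
    MulAut (Cfsg.POmega F (⇑(plusQF m F))) :=
  simAut (⇑(plusQF m F)) (hypRefl hm) * oField fieldCompat_plusQF σ

/-- field automorphisms commute with the standard reflection -/
theorem oField_comm_hypRefl [Fintype F] (hm : 1 ≤ m) (τ : RingAut F) :
    oField fieldCompat_plusQF τ * simAut (⇑(plusQF m F)) (hypRefl (F := F) hm) =
      simAut (⇑(plusQF m F)) (hypRefl hm) * oField fieldCompat_plusQF τ := by
  rw [oField_mul_simAut, simMap_hypRefl]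

theorem ringAut_comm [Fintype F] (σ τ : RingAut F) : σ * τ = τ * σ := by
  obtain ⟨p, hp⟩ := CharP.exists F
  have hpr : p.Prime := CharP.char_is_prime F p
  have : Fact p.Prime := ⟨hpr⟩
  obtain ⟨n, -, hn⟩ := FiniteField.card F p
  obtain ⟨e⟩ := ringAut_mulEquiv_zmod' (F := F) p (n : ℕ) hn
  apply e.injective
  rw [map_mul, map_mul, mul_comm]

/-- field automorphisms centralise the standard graph-field automorphism -/
theorem oField_comm_stdGF [Fintype F] (hm : 1 ≤ m) (σ τ : RingAut F) :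
    oField fieldCompat_plusQF τ * stdGF hm σ * (oField fieldCompat_plusQF τ)⁻¹ =
      stdGF (F := F) hm σ := by
  unfold stdGF
  rw [mul_inv_eq_iff_eq_mul, ← mul_assoc, oField_comm_hypRefl, mul_assoc, mul_assoc, ← map_mul,
    ← map_mul, ringAut_comm]

/-- the standard reflection centralises the standard graph-field automorphism -/
theorem hypRefl_comm_stdGF [Fintype F] (hm : 1 ≤ m) (σ : RingAut F) :
    simAut (⇑(plusQF m F)) (hypRefl hm) * stdGF hm σ * (simAut (⇑(plusQF m F)) (hypRefl hm))⁻¹ =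
      stdGF (F := F) hm σ := by
  unfold stdGF
  apply conj_of_twisted fieldCompat_plusQF (hypRefl hm) (hypRefl hm) (hypRefl hm) σ
  rw [hypRefl_map]

theorem stdGF_sq [Fintype F] (hm : 1 ≤ m) (σ : RingAut F) (hσ2 : σ * σ = 1) :
    stdGF (F := F) hm σ ^ 2 = 1 := by
  unfold stdGF
  rw [pow_two, mul_assoc, ← mul_assoc (oField fieldCompat_plusQF σ), oField_comm_hypRefl,
    mul_assoc, ← map_mul, hσ2, map_one, mul_one, ← map_mul, hypRefl_mul_self, map_one]

/-- **every automorphism conjugate of `x₁` is an inner-diagonal conjugate** -/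
theorem stdGF_conj_inndiag [Fintype F] (hm : 5 ≤ m) (σ : RingAut F)
    (β : MulAut (Cfsg.POmega F (⇑(plusQF m F)))) :
    ∃ g : ↥(Cfsg.Geo.quadSimilarityGroup (⇑(plusQF m F))),
      plusEven (g : GL (Fin m ⊕ Fin m) F) ∧
      β * stdGF (by omega) σ * β⁻¹ =
        simAut (⇑(plusQF m F)) g * stdGF (by omega) σ * (simAut (⇑(plusQF m F)) g)⁻¹ := by
  have hm1 : 1 ≤ m := by omega
  obtain ⟨b, τ, rfl⟩ := oAllStd_plusQF hm β
  have h1 : simAut (⇑(plusQF m F)) b * oField fieldCompat_plusQF τ * stdGF hm1 σ *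
      (simAut (⇑(plusQF m F)) b * oField fieldCompat_plusQF τ)⁻¹ =
      simAut (⇑(plusQF m F)) b * stdGF hm1 σ * (simAut (⇑(plusQF m F)) b)⁻¹ := by
    have h2 := oField_comm_stdGF hm1 σ τ
    generalize simAut (⇑(plusQF m F)) b = B
    generalize oField fieldCompat_plusQF τ = T at h2 ⊢
    generalize stdGF hm1 σ = X at h2 ⊢
    calc B * T * X * (B * T)⁻¹ = B * (T * X * T⁻¹) * B⁻¹ := by group
      _ = B * X * B⁻¹ := by rw [h2]
  by_cases hb : plusEven (b : GL (Fin m ⊕ Fin m) F)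
  · exact ⟨b, hb, h1⟩
  · refine ⟨b * hypRefl hm1, ?_, ?_⟩
    · rw [Subgroup.coe_mul, plusEven_mul _ _ b.2 (hypRefl hm1).2]
      exact ⟨fun h => absurd h hb, fun h => absurd h (not_plusEven_hypRefl hm1)⟩
    · rw [h1, map_mul]
      have h2 := hypRefl_comm_stdGF hm1 σ
      generalize simAut (⇑(plusQF m F)) b = B
      generalize simAut (⇑(plusQF m F)) (hypRefl hm1) = R at h2 ⊢
      generalize stdGF hm1 σ = X at h2 ⊢
      calc B * X * B⁻¹ = B * (R * X * R⁻¹) * B⁻¹ := by rw [h2]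
        _ = B * R * X * (B * R)⁻¹ := by group

end Cfsg.Agent.Lib.Helper43
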