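/-
helper43: diagonal similarities of the hyperbolic form: similarity, class character,
equivariance for the standard graph-field involution, and the criterion for inducing an inner
automorphism (odd characteristic).
-/
import Mathlib
import Cfsg.Agent.Lib.Helper43.PlusGF1
import Cfsg.Agent.Lib.Helper36.InndiagPlus3

set_option autoImplicit false

namespace Cfsg.Agent.Lib.Helper43

open scoped MatrixGroups Matrix
open Module Matrix Cfsg.Agent.Lib.Helper45.PSLField Cfsg.Agent.Lib.Helper36 Cfsg.Agent.Lib.Helper44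
  Cfsg.Agent.S2168

variable {m : ℕ} {F : Type*} [Field F]

/-- a diagonal element of `GL_{2m}` -/
def diagPI (d : Fin m ⊕ Fin m → Fˣ) : GL (Fin m ⊕ Fin m) F where
  val := Matrix.diagonal fun x => ((d x : Fˣ) : F)
  inv := Matrix.diagonal fun x => (((d x)⁻¹ : Fˣ) : F)
  val_inv := by
    rw [Matrix.diagonal_mul_diagonal]
    simp only [Units.mul_inv]
    exact Matrix.diagonal_one
  inv_val := by
    rw [Matrix.diagonal_mul_diagonal]
    simp only [Units.inv_mul]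
    exact Matrix.diagonal_one

theorem diagPI_coe (d : Fin m ⊕ Fin m → Fˣ) :
    ((diagPI d : GL (Fin m ⊕ Fin m) F) : Matrix (Fin m ⊕ Fin m) (Fin m ⊕ Fin m) F) =
      Matrix.diagonal fun x => ((d x : Fˣ) : F) := rfl

theorem diagPI_mulVec (d : Fin m ⊕ Fin m → Fˣ) (v : Fin m ⊕ Fin m → F) (x : Fin m ⊕ Fin m) :
    (((diagPI d : GL (Fin m ⊕ Fin m) F) : Matrix (Fin m ⊕ Fin m) (Fin m ⊕ Fin m) F) *ᵥ v) x =
      ((d x : Fˣ) : F) * v x :=
  Matrix.mulVec_diagonal _ _ _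

theorem diagPI_similarity (d : Fin m ⊕ Fin m → Fˣ) (μ : Fˣ)
    (h : ∀ i, d (Sum.inl i) * d (Sum.inr i) = μ) (v : Fin m ⊕ Fin m → F) :
    plusQF m F (((diagPI d : GL (Fin m ⊕ Fin m) F) :
      Matrix (Fin m ⊕ Fin m) (Fin m ⊕ Fin m) F) *ᵥ v) = (μ : F) * plusQF m F v := by
  show Cfsg.quadFormPlus m F _ = (μ : F) * Cfsg.quadFormPlus m F v
  unfold Cfsg.quadFormPlus
  rw [Finset.mul_sum]
  apply Finset.sum_congr rfl
  intro i _
  rw [diagPI_mulVec, diagPI_mulVec]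
  have h1 := congrArg Units.val (h i)
  rw [Units.val_mul] at h1
  rw [← h1]
  ring

theorem diagPI_mem (d : Fin m ⊕ Fin m → Fˣ) (μ : Fˣ)
    (h : ∀ i, d (Sum.inl i) * d (Sum.inr i) = μ) :
    (diagPI d : GL (Fin m ⊕ Fin m) F) ∈ Cfsg.Geo.quadSimilarityGroup (⇑(plusQF m F)) :=
  ⟨μ, diagPI_similarity d μ h⟩

theorem plusEven_diagPI (d : Fin m ⊕ Fin m → Fˣ) :
    plusEven (diagPI d : GL (Fin m ⊕ Fin m) F) := by
  apply plusEven_of_map_eq
  apply Submodule.eq_of_le_of_finrank_eq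
  · rintro _ ⟨v, hv, rfl⟩
    rw [SetLike.mem_coe, mem_stdPlus_iff] at hv
    rw [mem_stdPlus_iff]
    intro i
    change (glLinEquiv (Fin m ⊕ Fin m) F (diagPI d) v) (Sum.inr i) = 0
    rw [glLinEquiv_apply, diagPI_mulVec, hv i, mul_zero]
  · exact LinearEquiv.finrank_map_eq _ _

theorem polar_hypVec (i₀ : Fin m) (x : Fin m ⊕ Fin m → F) :
    QuadraticMap.polar (⇑(plusQF m F)) (hypVec i₀) x = x (Sum.inr i₀) + x (Sum.inl i₀) := by
  rw [plusQF_polar, plusB_apply]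
  unfold hypVec
  simp [Finset.sum_add_distrib, ite_mul, mul_ite]

/-- equivariance of a diagonal matrix for `v ↦ ρ σ(v)` -/
theorem diagPI_semi (σ : RingAut F) (i₀ : Fin m) (d : Fin m ⊕ Fin m → Fˣ)
    (h1 : σ (d (Sum.inl i₀) : F) = d (Sum.inr i₀)) (h2 : σ (d (Sum.inr i₀) : F) = d (Sum.inl i₀))
    (h3 : ∀ x, x ≠ Sum.inl i₀ → x ≠ Sum.inr i₀ → σ (d x : F) = d x) :
    Cfsg.reflectionMatrix (⇑(plusQF m F)) (hypVec i₀) *
      ((diagPI d : GL (Fin m ⊕ Fin m) F) : Matrix (Fin m ⊕ Fin m) (Fin m ⊕ Fin m) F).map σ =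
    ((diagPI d : GL (Fin m ⊕ Fin m) F) : Matrix (Fin m ⊕ Fin m) (Fin m ⊕ Fin m) F) *
      Cfsg.reflectionMatrix (⇑(plusQF m F)) (hypVec i₀) := by
  have hmap : ((diagPI d : GL (Fin m ⊕ Fin m) F) :
      Matrix (Fin m ⊕ Fin m) (Fin m ⊕ Fin m) F).map σ =
      Matrix.diagonal fun x => σ ((d x : Fˣ) : F) := by
    rw [diagPI_coe]
    ext x y
    by_cases hxy : x = y
    · subst hxy
      simp
    · simp [Matrix.diagonal_apply_ne _ hxy]
  apply matrix_eq_of_mulVec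
  intro w
  rw [← Matrix.mulVec_mulVec, ← Matrix.mulVec_mulVec,
    Cfsg.Agent.Lib.Helper13.reflectionMatrix_mulVec,
    Cfsg.Agent.Lib.Helper13.reflectionMatrix_mulVec, plusQF_hypVec, inv_one, one_mul, one_mul,
    polar_hypVec, polar_hypVec, hmap]
  funext x
  rw [diagPI_mulVec]
  simp only [Pi.sub_apply, Pi.smul_apply, smul_eq_mul, Matrix.mulVec_diagonal]
  by_cases hx1 : x = Sum.inl i₀
  · subst hx1
    have hv : (hypVec i₀ : Fin m ⊕ Fin m → F) (Sum.inl i₀) = 1 := by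
      unfold hypVec; simp
    rw [hv, h1, h2]
    ring
  · by_cases hx2 : x = Sum.inr i₀
    · subst hx2
      have hv : (hypVec i₀ : Fin m ⊕ Fin m → F) (Sum.inr i₀) = 1 := by
        unfold hypVec; simp
      rw [hv, h1, h2]
      ring
    · have hv : (hypVec i₀ : Fin m ⊕ Fin m → F) x = 0 := by
        unfold hypVec
        rcases x with i | i
        · have : i ≠ i₀ := fun h => hx1 (by rw [h])
          simp [this]
        · have : i ≠ i₀ := fun h => hx2 (by rw [h])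
          simp [this]
      rw [hv, h3 x hx1 hx2]
      ring

/-- a diagonal element of `GL_m` -/
def diagGL (e : Fin m → Fˣ) : GL (Fin m) F where
  val := Matrix.diagonal fun x => ((e x : Fˣ) : F)
  inv := Matrix.diagonal fun x => (((e x)⁻¹ : Fˣ) : F)
  val_inv := by
    rw [Matrix.diagonal_mul_diagonal]
    simp only [Units.mul_inv]
    exact Matrix.diagonal_one
  inv_val := by
    rw [Matrix.diagonal_mul_diagonal]
    simp only [Units.inv_mul]
    exact Matrix.diagonal_one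

theorem diagGL_det (e : Fin m → Fˣ) :
    ((Matrix.GeneralLinearGroup.det (diagGL e : GL (Fin m) F) : Fˣ) : F) = ∏ i, ((e i : Fˣ) : F) := by
  rw [Matrix.GeneralLinearGroup.val_det_apply]
  exact Matrix.det_diagonal

/-- a diagonal similarity is a scalar multiple of a Levi element -/
theorem diagPI_eq_smul_levi (t : Fˣ) (e : Fin m → Fˣ) (d : Fin m ⊕ Fin m → Fˣ)
    (hd1 : ∀ i, d (Sum.inl i) = t * e i) (hd2 : ∀ i, d (Sum.inr i) = t * (e i)⁻¹) :
    ((diagPI d : GL (Fin m ⊕ Fin m) F) : Matrix (Fin m ⊕ Fin m) (Fin m ⊕ Fin m) F) =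
      (t : F) • ((leviGL (diagGL e) : GL (Fin m ⊕ Fin m) F) :
        Matrix (Fin m ⊕ Fin m) (Fin m ⊕ Fin m) F) := by
  have h1 : ((leviGL (diagGL e) : GL (Fin m ⊕ Fin m) F) :
      Matrix (Fin m ⊕ Fin m) (Fin m ⊕ Fin m) F) =
      Matrix.diagonal (Sum.elim (fun i => ((e i : Fˣ) : F)) (fun i => (((e i)⁻¹ : Fˣ) : F))) := by
    show leviMat (diagGL e) = _
    unfold leviMat
    have e1 : ((diagGL e : GL (Fin m) F) : Matrix (Fin m) (Fin m) F) =
      Matrix.diagonal fun x => ((e x : Fˣ) : F) := rfl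
    have e2 : (((diagGL e : GL (Fin m) F)⁻¹ : GL (Fin m) F) : Matrix (Fin m) (Fin m) F) =
      Matrix.diagonal fun x => (((e x)⁻¹ : Fˣ) : F) := rfl
    rw [e1, e2, Matrix.diagonal_transpose, Matrix.fromBlocks_diagonal]
  rw [h1, diagPI_coe]
  ext x y
  by_cases hxy : x = y
  · subst hxy
    rw [Matrix.diagonal_apply_eq, Matrix.smul_apply, Matrix.diagonal_apply_eq, smul_eq_mul]
    rcases x with i | i
    · rw [hd1, Units.val_mul]
      rfl
    · rw [hd2, Units.val_mul]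
      rfl
  · rw [Matrix.diagonal_apply_ne _ hxy, Matrix.smul_apply, Matrix.diagonal_apply_ne _ hxy,
      smul_zero]

/-- the Levi elements in `Ω` -/
theorem leviGL_mem_OmegaGL_iff [Fintype F] (hm : 1 ≤ m) (hF : Fintype.card F ≠ 2)
    (A : GL (Fin m) F) :
    leviGL A ∈ OmegaGL (Cfsg.quadFormPlus m F) ↔
      IsSquare ((Matrix.GeneralLinearGroup.det A : Fˣ) : F) := by
  rw [mem_OmegaGL_iff]
  have key := (levi_mem_Omega_iff (Or.inl hF) (⟨0, hm⟩ : Fin m) A).trans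
    (diagHom_mem_Omega_iff hm (⟨0, hm⟩ : Fin m) _)
  constructor
  · rintro ⟨h, hs⟩
    exact key.mp hs
  · intro h
    exact ⟨leviGL_mem _, key.mpr h⟩

end Cfsg.Agent.Lib.Helper43
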