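/-
helper43: odd characteristic, hyperbolic form over a field with `q ≡ 1 (mod 4)` elements:
the chain `Inn < PSO < Inndiag` with both indices two; even similarities with square multiplier
induce elements of `PSO`.
-/
import Mathlib
import Cfsg.Agent.Lib.Helper43.PlusGFDiag
import Cfsg.Agent.Lib.Helper43.PlusCoset

set_option autoImplicit false

namespace Cfsg.Agent.Lib.Helper43

open scoped MatrixGroups Matrix
open Module Matrix Cfsg.Agent.Lib.Helper45.PSLField Cfsg.Agent.Lib.Helper36 Cfsg.Agent.Lib.Helper44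
  Cfsg.Agent.S2168

variable {m : ℕ} {F : Type*} [Field F] [Fintype F] [DecidableEq F]

/-- an even isometry has determinant one -/
theorem special_of_even_isometry (h2 : (2 : F) ≠ 0) (hm : 1 ≤ m)
    (g : ↥(Cfsg.Geo.quadSimilarityGroup (⇑(plusQF m F))))
    (hgO : (g : GL (Fin m ⊕ Fin m) F) ∈ Cfsg.isometryGroup F (⇑(plusQF m F)))
    (hgE : plusEven (g : GL (Fin m ⊕ Fin m) F)) :
    (g : GL (Fin m ⊕ Fin m) F) ∈ Cfsg.specialIsometryGL F (⇑(plusQF m F)) := by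
  have hv₀ : plusQF m F (hypVec (F := F) ⟨0, hm⟩) ≠ 0 := hypVec_ne hm
  have h1 := (preserves_iff_deltaHom h2 _ hv₀ g).mp ((preserves_iff_plusEven _ g.2).mpr hgE)
  rw [deltaHom_apply] at h1
  have hmult : mult (plusQF m F) _ hv₀ g = 1 := by
    apply mult_eq
    intro v
    rw [Units.val_one, one_mul]
    exact (mem_isometryGroup_iff' _ _).mp hgO v
  rw [hmult, one_pow, inv_one, mul_one] at h1
  exact ⟨hgO, h1⟩

/-- an even similarity with square multiplier is a scalar multiple of a special isometry -/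
theorem exists_special_of_even_sq (h2 : (2 : F) ≠ 0) (hm : 1 ≤ m)
    (g : ↥(Cfsg.Geo.quadSimilarityGroup (⇑(plusQF m F))))
    (hgE : plusEven (g : GL (Fin m ⊕ Fin m) F)) (t : F) (ht0 : t ≠ 0)
    (ht : ∀ v, plusQF m F (((g : GL (Fin m ⊕ Fin m) F) :
      Matrix (Fin m ⊕ Fin m) (Fin m ⊕ Fin m) F) *ᵥ v) = t * t * plusQF m F v) :
    ∃ g' : ↥(Cfsg.Geo.quadSimilarityGroup (⇑(plusQF m F))),
      (g' : GL (Fin m ⊕ Fin m) F) ∈ Cfsg.specialIsometryGL F (⇑(plusQF m F)) ∧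
      ((g' : GL (Fin m ⊕ Fin m) F) : Matrix (Fin m ⊕ Fin m) (Fin m ⊕ Fin m) F) =
        t⁻¹ • ((g : GL (Fin m ⊕ Fin m) F) : Matrix (Fin m ⊕ Fin m) (Fin m ⊕ Fin m) F) ∧
      simAut (⇑(plusQF m F)) g' = simAut (⇑(plusQF m F)) g := by
  obtain ⟨sb, hsb⟩ := exists_scalar_quadSim (plusQF m F) t⁻¹ (inv_ne_zero ht0)
  have hcoe : (((sb * g : ↥(Cfsg.Geo.quadSimilarityGroup (⇑(plusQF m F)))) :
      GL (Fin m ⊕ Fin m) F) : Matrix (Fin m ⊕ Fin m) (Fin m ⊕ Fin m) F) =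
      t⁻¹ • ((g : GL (Fin m ⊕ Fin m) F) : Matrix (Fin m ⊕ Fin m) (Fin m ⊕ Fin m) F) := by
    rw [Subgroup.coe_mul, Units.val_mul, hsb, Matrix.smul_mul, Matrix.one_mul]
  have hgO : ((sb * g : ↥(Cfsg.Geo.quadSimilarityGroup (⇑(plusQF m F)))) :
      GL (Fin m ⊕ Fin m) F) ∈ Cfsg.isometryGroup F (⇑(plusQF m F)) := by
    rw [mem_isometryGroup_iff']
    intro v
    rw [hcoe, Matrix.smul_mulVec, QuadraticMap.map_smul, ht v, smul_eq_mul]
    field_simp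
  have hgE' : plusEven ((sb * g : ↥(Cfsg.Geo.quadSimilarityGroup (⇑(plusQF m F)))) :
      GL (Fin m ⊕ Fin m) F) :=
    (plusEven_scalar_mul sb g t⁻¹ (inv_ne_zero ht0) hsb).mpr hgE
  refine ⟨sb * g, special_of_even_isometry h2 hm _ hgO hgE', hcoe, ?_⟩
  rw [map_mul, simAut_eq_one_of_scalar (⇑(plusQF m F)) sb t⁻¹ hsb, one_mul]

/-- even similarities with square multiplier induce elements of `PSO` -/
theorem simAut_mem_pso_of_even_sq (h2 : (2 : F) ≠ 0) (hm : 1 ≤ m)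
    (g : ↥(Cfsg.Geo.quadSimilarityGroup (⇑(plusQF m F))))
    (hgE : plusEven (g : GL (Fin m ⊕ Fin m) F)) (t : F) (ht0 : t ≠ 0)
    (ht : ∀ v, plusQF m F (((g : GL (Fin m ⊕ Fin m) F) :
      Matrix (Fin m ⊕ Fin m) (Fin m ⊕ Fin m) F) *ᵥ v) = t * t * plusQF m F v) :
    simAut (⇑(plusQF m F)) g ∈ Cfsg.psoAut F (⇑(plusQF m F)) := by
  obtain ⟨g', hg'S, -, hsim⟩ := exists_special_of_even_sq h2 hm g hgE t ht0 ht
  rw [psoAut_eq]
  exact ⟨g', Subgroup.mem_subgroupOf.mpr hg'S, hsim⟩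

/-- the chain `Inn < PSO < Inndiag` when `q ≡ 1 (mod 4)` -/
theorem plus_chain (hq4 : Fintype.card F % 4 = 1) (hm : 4 ≤ m) :
    Cfsg.Inn (Cfsg.POmega F (⇑(plusQF m F))) ≤ Cfsg.psoAut F (⇑(plusQF m F)) ∧
    Cfsg.psoAut F (⇑(plusQF m F)) ≤ inndiagPlusQ m F ∧
    (Cfsg.psoAut F (⇑(plusQF m F))).relIndex (inndiagPlusQ m F) = 2 ∧
    (Cfsg.Inn (Cfsg.POmega F (⇑(plusQF m F)))).relIndex (Cfsg.psoAut F (⇑(plusQF m F))) = 2 ∧
    negGL (Fin m ⊕ Fin m) F ∈ OmegaGL (⇑(plusQF m F)) := by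
  have hodd : Odd (Fintype.card F) := by
    rw [Nat.odd_iff]; omega
  have h2 : (2 : F) ≠ 0 := Cfsg.Agent.Lib.Helper13.two_ne_zero_of_odd_card hodd
  have hQ := plusQF_nondeg m F
  have hcard : Fintype.card (Fin m ⊕ Fin m) = 2 * m := card_plus_index
  have hdim : 5 ≤ Fintype.card (Fin m ⊕ Fin m) := by rw [hcard]; omega
  have heven : Even (Fintype.card (Fin m ⊕ Fin m)) := by rw [hcard]; exact even_two_mul m
  have hq : Fintype.card F % 2 = 1 := Nat.odd_iff.mp hodd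
  have hm1 : 1 ≤ m := by omega
  have hv₀ : plusQF m F (hypVec (F := F) ⟨0, hm1⟩) ≠ 0 := hypVec_ne hm1
  obtain ⟨φ₀, hφ₀s, hφ₀k⟩ := exists_hom_inndiag_pso h2 (by omega) _ hv₀
  have hIP := Inn_le_psoAut (⇑(plusQF m F))
  have hPD := psoAut_le_inndiag h2 _ hv₀
  have hPD2 : (Cfsg.psoAut F (⇑(plusQF m F))).relIndex (inndiagPlusQ m F) = 2 := by
    change ((Cfsg.psoAut F (⇑(plusQF m F))).subgroupOf (inndiagPlusQ m F)).index = 2
    rw [← hφ₀k, Subgroup.index_ker, MonoidHom.range_eq_top.mpr hφ₀s, Subgroup.card_top,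
      Nat.card_eq_fintype_card]
    rfl
  obtain ⟨hI2, -⟩ := relIndex_Inn_psoAut (plusQF m F) hQ h2 hdim heven
  have hiff := Cfsg.Agent.S0790.result (F := F) rfl hodd m (by omega)
  have hneg : ∃ t : ↥(Cfsg.isometryGroup F (⇑(plusQF m F))),
      t ∈ Cfsg.Omega F (⇑(plusQF m F)) ∧
      ((t : GL (Fin m ⊕ Fin m) F) : Matrix (Fin m ⊕ Fin m) (Fin m ⊕ Fin m) F) = -1 := by
    apply hiff.mpr
    rw [pow_mod_four_eq_one_iff _ _ hq]
    rintro ⟨-, h3⟩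
    omega
  exact ⟨hIP, hPD, hPD2, hI2 hneg, (neg_one_mem_Omega_iff_negGL (⇑(plusQF m F))).mp hneg⟩

end Cfsg.Agent.Lib.Helper43
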