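/-
helper43: `splitClassCount H K x = [H : M]` when `K ≤ M ≤ H`, `K, M` normal in `H`,
`C_H(x) ≤ M` and `M = K · C_H(x)`; special cases `4 = 2 · 2` and `2`.
-/
import Mathlib
import Cfsg.Agent.Lib.Helper43.OSplitAbs

set_option autoImplicit false

namespace Cfsg.Agent.Lib.Helper43

variable {X : Type*} [Group X]

theorem splitClassCount_eq_relIndex_of_cover (H K M : Subgroup X) (x : X) (hKM : K ≤ M)
    (hMH : M ≤ H) (hKn : (K.subgroupOf H).Normal) (hMn : (M.subgroupOf H).Normal)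
    (hcent : H ⊓ Subgroup.centralizer {x} ≤ M)
    (hcover : ∀ t ∈ M, ∃ c ∈ H ⊓ Subgroup.centralizer {x}, t * c ∈ K) :
    Cfsg.splitClassCount H K x = M.relIndex H := by
  rw [splitClassCount_eq_card H K x H.subtype H.range_subtype
    (fun g : ↥H => (QuotientGroup.mk g : ↥H ⧸ M.subgroupOf H)) QuotientGroup.mk_surjective]
  · rfl
  · intro g g'
    show (QuotientGroup.mk g : ↥H ⧸ M.subgroupOf H) = QuotientGroup.mk g' ↔ _
    rw [QuotientGroup.eq]
    constructor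
    · intro hmem
      rw [Subgroup.mem_subgroupOf] at hmem
      obtain ⟨c, hc, hk₀⟩ := hcover _ hmem
      have hcH : c ∈ H := (Subgroup.mem_inf.mp hc).1
      have hcx : x * c = c * x :=
        (Subgroup.mem_centralizer_iff.mp (Subgroup.mem_inf.mp hc).2) x rfl
      set k₀ : X := ((g⁻¹ * g' : ↥H) : X) * c with hk₀def
      have hk₀H : k₀ ∈ H := H.mul_mem (g⁻¹ * g').2 hcH
      have h1 : (⟨k₀, hk₀H⟩ : ↥H) ∈ K.subgroupOf H := by
        rw [Subgroup.mem_subgroupOf]; exact hk₀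
      have h2 : g * ⟨k₀, hk₀H⟩ * g⁻¹ ∈ K.subgroupOf H := hKn.conj_mem _ h1 g
      rw [Subgroup.mem_subgroupOf] at h2
      refine ⟨_, h2, ?_⟩
      show (g' : X) * x * (g' : X)⁻¹ = ((g * ⟨k₀, hk₀H⟩ * g⁻¹ : ↥H) : X) *
        ((g : X) * x * (g : X)⁻¹) * ((g * ⟨k₀, hk₀H⟩ * g⁻¹ : ↥H) : X)⁻¹
      simp only [Subgroup.coe_mul, Subgroup.coe_inv, hk₀def]
      have hcx' : c * x * c⁻¹ = x := by rw [← hcx]; group
      calc (g' : X) * x * (g' : X)⁻¹ = (g' : X) * (c * x * c⁻¹) * (g' : X)⁻¹ := by rw [hcx']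
        _ = _ := by group
    · rintro ⟨k, hk, hz⟩
      have hz' : (g' : X) * x * (g' : X)⁻¹ = k * ((g : X) * x * (g : X)⁻¹) * k⁻¹ := hz
      have hkH : k ∈ H := hMH (hKM hk)
      set c : X := (g' : X)⁻¹ * k * (g : X) with hc
      have hcH : c ∈ H := H.mul_mem (H.mul_mem (H.inv_mem g'.2) hkH) g.2
      have hcx : c * x * c⁻¹ = x := by
        have : c * x * c⁻¹ = (g' : X)⁻¹ * (k * ((g : X) * x * (g : X)⁻¹) * k⁻¹) * (g' : X) := by
          rw [hc]; group
        rw [this, ← hz']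
        group
      have hcM : c ∈ M := by
        apply hcent
        refine Subgroup.mem_inf.mpr ⟨hcH, ?_⟩
        rw [Subgroup.mem_centralizer_iff]
        intro y hy
        rw [Set.mem_singleton_iff] at hy
        subst hy
        calc y * c = (c * y * c⁻¹) * c := by rw [hcx]
          _ = c * y := by group
      have h3 : (⟨k, hkH⟩ : ↥H) ∈ M.subgroupOf H := by
        rw [Subgroup.mem_subgroupOf]; exact hKM hk
      have h4 : g⁻¹ * ⟨k, hkH⟩ * g⁻¹⁻¹ ∈ M.subgroupOf H := hMn.conj_mem _ h3 g⁻¹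
      have h5 : (⟨c, hcH⟩ : ↥H) ∈ M.subgroupOf H := by
        rw [Subgroup.mem_subgroupOf]; exact hcM
      have h6 : g⁻¹ * g' = (g⁻¹ * ⟨k, hkH⟩ * g⁻¹⁻¹) * (⟨c, hcH⟩ : ↥H)⁻¹ := by
        apply Subtype.ext
        simp only [Subgroup.coe_mul, Subgroup.coe_inv, hc]
        group
      rw [h6]
      exact Subgroup.mul_mem _ h4 (Subgroup.inv_mem _ h5)

/-- the class splits into `[H : K]` classes if the centraliser lies in `K` -/
theorem splitClassCount_eq_relIndex_of_le (H K : Subgroup X) (x : X) (hKH : K ≤ H)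
    (hKn : (K.subgroupOf H).Normal) (hcent : H ⊓ Subgroup.centralizer {x} ≤ K) :
    Cfsg.splitClassCount H K x = K.relIndex H := by
  apply splitClassCount_eq_relIndex_of_cover H K K x le_rfl hKH hKn hKn hcent
  intro t ht
  exact ⟨1, Subgroup.one_mem _, by rwa [mul_one]⟩

/-- the chain `K ≤ M ≤ H` with both indices two, `C_H(x) ≤ M`, `C_H(x) ≰ K` -/
theorem splitClassCount_eq_two_of_chain (H K M : Subgroup X) (x : X) (hKM : K ≤ M)
    (hMH : M ≤ H) (hKn : (K.subgroupOf H).Normal) (hHM : M.relIndex H = 2)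
    (hMK : K.relIndex M = 2) (hcent : H ⊓ Subgroup.centralizer {x} ≤ M)
    (c₁ : X) (hc₁ : c₁ ∈ H ⊓ Subgroup.centralizer {x}) (hc₁K : c₁ ∉ K) :
    Cfsg.splitClassCount H K x = 2 := by
  have hMn : (M.subgroupOf H).Normal := Subgroup.normal_of_index_eq_two hHM
  rw [splitClassCount_eq_relIndex_of_cover H K M x hKM hMH hKn hMn hcent, hHM]
  intro t ht
  by_cases htK : t ∈ K
  · exact ⟨1, Subgroup.one_mem _, by rwa [mul_one]⟩
  · refine ⟨c₁, hc₁, ?_⟩
    have hc₁M : c₁ ∈ M := hcent hc₁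
    have hidx : (K.subgroupOf M).index = 2 := hMK
    have h1 := Subgroup.mul_mem_iff_of_index_two hidx (a := (⟨t, ht⟩ : ↥M))
      (b := (⟨c₁, hc₁M⟩ : ↥M))
    rw [Subgroup.mem_subgroupOf, Subgroup.mem_subgroupOf, Subgroup.mem_subgroupOf] at h1
    exact h1.mpr ⟨fun h => absurd h htK, fun h => absurd h hc₁K⟩

/-- the chain `K ≤ M ≤ H` with both indices two and `C_H(x) ≤ K` -/
theorem splitClassCount_eq_four_of_chain (H K M : Subgroup X) (x : X) (hKM : K ≤ M)
    (hMH : M ≤ H) (hKn : (K.subgroupOf H).Normal) (hHM : M.relIndex H = 2)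
    (hMK : K.relIndex M = 2) (hcent : H ⊓ Subgroup.centralizer {x} ≤ K) :
    Cfsg.splitClassCount H K x = 4 := by
  rw [splitClassCount_eq_relIndex_of_le H K x (hKM.trans hMH) hKn hcent,
    ← Subgroup.relIndex_mul_relIndex _ _ _ hKM hMH, hHM, hMK]

end Cfsg.Agent.Lib.Helper43
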