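/-
helper43: normal form of the involutory graph-field automorphisms of `PΩ⁺_{2m}(F)`, `m ≥ 5`:
each is an inner-diagonal conjugate of the standard one, and any two are conjugate under the
inner-diagonal group.
-/
import Mathlib
import Cfsg.Agent.Lib.Helper43.PlusGF1

set_option autoImplicit false

namespace Cfsg.Agent.Lib.Helper43

open scoped MatrixGroups Matrix
open Module Matrix Cfsg.Agent.Lib.Helper45.PSLField Cfsg.Agent.Lib.Helper36 Cfsg.Agent.Lib.Helper44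
  Cfsg.Agent.S2168

variable {m : ℕ} {F : Type*} [Field F]

/-- the involution of a finite field is unique -/
theorem ringAut_involution_unique [Fintype F] {σ τ : RingAut F} (hσ : σ ≠ 1) (hσ2 : σ * σ = 1)
    (hτ : τ ≠ 1) (hτ2 : τ * τ = 1) : σ = τ := by
  obtain ⟨p, hp⟩ := CharP.exists F
  have hpr : p.Prime := CharP.char_is_prime F p
  have : Fact p.Prime := ⟨hpr⟩
  obtain ⟨n, -, hn⟩ := FiniteField.card F p
  obtain ⟨e⟩ := ringAut_mulEquiv_zmod' (F := F) p (n : ℕ) hn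
  have : NeZero (n : ℕ) := ⟨n.ne_zero⟩
  have hcyc : IsCyclic (RingAut F) := (MulEquiv.isCyclic e).mpr inferInstance
  have hfin : Finite (RingAut F) := Finite.of_equiv _ e.symm.toEquiv
  exact eq_of_involutions_of_isCyclic hσ hσ2 hτ hτ2

/-- normal form, unpacked -/
theorem graphField_normal_form_aux [Fintype F] (hm : 5 ≤ m)
    (y α : MulAut (Cfsg.POmega F (⇑(plusQF m F)))) (hy2 : orderOf y = 2)
    (σ : RingAut F) (hσ1 : σ ≠ 1) (ρ' : ↥(Cfsg.Geo.quadSimilarityGroup (⇑(plusQF m F))))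
    (hρ'odd : ¬ plusEven (ρ' : GL (Fin m ⊕ Fin m) F))
    (hαy : α * y * α⁻¹ = simAut (⇑(plusQF m F)) ρ' * oField fieldCompat_plusQF σ) :
    σ * σ = 1 ∧
      ∃ g : ↥(Cfsg.Geo.quadSimilarityGroup (⇑(plusQF m F))),
        plusEven (g : GL (Fin m ⊕ Fin m) F) ∧
        y = simAut (⇑(plusQF m F)) g * stdGF (by omega) σ * (simAut (⇑(plusQF m F)) g)⁻¹ := by
  have hm1 : 1 ≤ m := by omega
  have hm4 : 4 ≤ m := by omega
  have hy₀ : (simAut (⇑(plusQF m F)) ρ' * oField fieldCompat_plusQF σ) ^ 2 = 1 := by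
    rw [← hαy, ← hy2, ← orderOf_conj_o α y]
    exact pow_orderOf_eq_one _
  have hσo : orderOf σ = 2 := orderOf_eq_of_pow_eq_one hm4 σ hσ1 Nat.prime_two ρ' hy₀
  have hσ2 : σ * σ = 1 := by
    rw [← pow_two, ← hσo]
    exact pow_orderOf_eq_one σ
  have hx₁ : (simAut (⇑(plusQF m F)) (hypRefl hm1) * oField fieldCompat_plusQF σ) ^ 2 = 1 :=
    stdGF_sq hm1 σ hσ2
  have hpar : plusEven (hypRefl (F := F) hm1 : GL (Fin m ⊕ Fin m) F) ↔
      plusEven (ρ' : GL (Fin m ⊕ Fin m) F) :=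
    ⟨fun h => absurd h (not_plusEven_hypRefl hm1), fun h => absurd h hρ'odd⟩
  obtain ⟨A, hA⟩ := plus_twisted_conj hm4 σ Nat.prime_two hσo (hypRefl hm1) ρ' hx₁ hy₀ hpar
  obtain ⟨g, hg, hgc⟩ := stdGF_conj_inndiag hm σ (α⁻¹ * simAut (⇑(plusQF m F)) A)
  refine ⟨hσ2, g, hg, ?_⟩
  rw [← hgc]
  have hA' : simAut (⇑(plusQF m F)) A * stdGF hm1 σ * (simAut (⇑(plusQF m F)) A)⁻¹ =
      α * y * α⁻¹ := by
    rw [hαy]
    exact hA
  generalize simAut (⇑(plusQF m F)) A = S at hA' ⊢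
  generalize stdGF hm1 σ = X at hA' ⊢
  calc y = α⁻¹ * (α * y * α⁻¹) * α := by group
    _ = α⁻¹ * (S * X * S⁻¹) * α := by rw [hA']
    _ = α⁻¹ * S * X * (α⁻¹ * S)⁻¹ := by group

/-- **normal form** of an involutory graph-field automorphism -/
theorem graphField_normal_form [Fintype F] (hm : 5 ≤ m)
    (y : MulAut (Cfsg.POmega F (Cfsg.quadFormPlus m F)))
    (hy : Cfsg.IsGraphFieldAutClassPOmegaPlus m y) (hy2 : orderOf y = 2) :
    ∃ σ : RingAut F, σ ≠ 1 ∧ σ * σ = 1 ∧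
      ∃ g : ↥(Cfsg.Geo.quadSimilarityGroup (⇑(plusQF m F))),
        plusEven (g : GL (Fin m ⊕ Fin m) F) ∧
        y = simAut (⇑(plusQF m F)) g * stdGF (by omega) σ * (simAut (⇑(plusQF m F)) g)⁻¹ := by
  classical
  obtain ⟨α, γ, φ, σ, v, rr, hσ1, hv, hvσ, hrr, hγ, hφ, hαy⟩ := hy
  have hv0 : plusQF m F v ≠ 0 := hv
  obtain ⟨ρ', -, hρ'⟩ := exists_reflection_similarity (plusQF m F) v hv0
  have hrr' : rr = (ρ' : GL (Fin m ⊕ Fin m) F) := Units.ext (hrr.trans hρ'.symm)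
  have hγ' : γ = simAut (⇑(plusQF m F)) ρ' := by
    rw [hrr'] at hγ
    exact (isInduced_iff (⇑(plusQF m F)) ρ' γ).mp hγ
  have hφ' : φ = oField fieldCompat_plusQF σ :=
    (isFieldAutPOmegaOf_iff fieldCompat_plusQF σ φ).mp hφ
  subst hγ' hφ'
  obtain ⟨hσ2, g, hg, hgy⟩ := graphField_normal_form_aux hm y α hy2 σ hσ1 ρ'
    (not_plusEven_of_refl _ _ hv0 hρ') hαy
  exact ⟨σ, hσ1, hσ2, g, hg, hgy⟩

theorem conj_conj_eq_o {G : Type*} [Group G] (g h x : G) :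
    h * x * h⁻¹ = (h * g⁻¹) * (g * x * g⁻¹) * (h * g⁻¹)⁻¹ := by group

theorem graphField_conj_aux [Fintype F] (hm1 : 1 ≤ m)
    (x y : MulAut (Cfsg.POmega F (⇑(plusQF m F)))) (σ : RingAut F)
    (g h : ↥(Cfsg.Geo.quadSimilarityGroup (⇑(plusQF m F))))
    (hg : plusEven (g : GL (Fin m ⊕ Fin m) F)) (hh : plusEven (h : GL (Fin m ⊕ Fin m) F))
    (hgx : x = simAut (⇑(plusQF m F)) g * stdGF hm1 σ * (simAut (⇑(plusQF m F)) g)⁻¹)
    (hhy : y = simAut (⇑(plusQF m F)) h * stdGF hm1 σ * (simAut (⇑(plusQF m F)) h)⁻¹) :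
    Cfsg.IsConjUnder (inndiagPlusQ m F) x y := by
  refine ⟨simAut (⇑(plusQF m F)) (h * g⁻¹), ?_, ?_⟩
  · rw [mem_inndiagPlusQ_iff]
    refine ⟨h * g⁻¹, ?_, rfl⟩
    rw [Subgroup.coe_mul, plusEven_mul _ _ h.2 (g⁻¹).2, Subgroup.coe_inv, plusEven_inv _ g.2]
    exact ⟨fun _ => hg, fun _ => hh⟩
  · rw [hhy, hgx, map_mul, map_inv]
    exact conj_conj_eq_o _ _ _

/-- **any two involutory graph-field automorphisms are conjugate under `Inndiag`** -/
theorem graphField_conj [Fintype F] (hm : 5 ≤ m)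
    (x y : MulAut (Cfsg.POmega F (Cfsg.quadFormPlus m F)))
    (hx : Cfsg.IsGraphFieldAutClassPOmegaPlus m x) (hx2 : orderOf x = 2)
    (hy : Cfsg.IsGraphFieldAutClassPOmegaPlus m y) (hy2 : orderOf y = 2) :
    Cfsg.IsConjUnder (Cfsg.inndiagPOmegaPlus m F) x y := by
  obtain ⟨σ, hσ1, hσ2, g, hg, hgx⟩ := graphField_normal_form hm x hx hx2
  obtain ⟨τ, hτ1, hτ2, h, hh, hhy⟩ := graphField_normal_form hm y hy hy2
  have hστ : σ = τ := ringAut_involution_unique hσ1 hσ2 hτ1 hτ2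
  subst hστ
  exact graphField_conj_aux (by omega) x y σ g h hg hh hgx hhy

end Cfsg.Agent.Lib.Helper43
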