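/-
helper43: the rectangular descent datum of the standard graph-field involution
`x₁ = ρ_v φ_σ` of `PΩ⁺_{2m}(F)`: an isomorphism `P₀` from the elliptic form over `F` (with
coefficients in the fixed field `F₀`) to the hyperbolic form, semilinear-equivariant for `x₁`;
the lift `A ↦ P₀ A^j P₁` of matrices over `F₀`.
-/
import Mathlib
import Cfsg.Agent.Lib.Helper43.PlusGF2
import Cfsg.Agent.Lib.Helper13.MinusCosetCore

set_option autoImplicit false

namespace Cfsg.Agent.Lib.Helper43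

open scoped MatrixGroups Matrix
open Module Matrix Cfsg.Agent.Lib.Helper45.PSLField Cfsg.Agent.Lib.Helper36 Cfsg.Agent.Lib.Helper44
  Cfsg.Agent.S2168
open Cfsg.Agent.Lib.Helper13 (rvec rvec_mulVec similarity_extend' quadFormMinus_rvec)

/-- index type of the hyperbolic form -/
abbrev PI (m : ℕ) : Type := Fin m ⊕ Fin m

/-- index type of the elliptic form -/
abbrev MI (k : ℕ) : Type := (Fin k ⊕ Fin k) ⊕ Fin 2

variable {m k : ℕ} {F : Type*} [Field F] {F₀ : Type*} [Field F₀]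

/-- the rectangular descent datum -/
structure GFData (σ : RingAut F) (j : F₀ →+* F) (G : Matrix (PI m) (PI m) F)
    (P₀ : Matrix (PI m) (MI k) F) (P₁ : Matrix (MI k) (PI m) F) (c : F) (ζ₀ : F₀) : Prop where
  left : P₀ * P₁ = 1
  right : P₁ * P₀ = 1
  semi : G * P₀.map σ = P₀
  invol : G * G = 1
  ne : c ≠ 0
  form : ∀ v, plusQF m F (P₀ *ᵥ v) = c * Cfsg.quadFormMinus k F 1 (j ζ₀) v
  fix : ∀ a : F, σ a = a ↔ ∃ b, j b = a
  aniso : ∀ z₁ z₂ : F₀, z₁ ^ 2 + 1 * z₁ * z₂ + ζ₀ * z₂ ^ 2 = 0 → z₁ = 0 ∧ z₂ = 0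

/-- the lift of a matrix over `F₀` -/
def gfLift (j : F₀ →+* F) (P₀ : Matrix (PI m) (MI k) F) (P₁ : Matrix (MI k) (PI m) F)
    (A : Matrix (MI k) (MI k) F₀) : Matrix (PI m) (PI m) F :=
  P₀ * A.map j * P₁

section lift

variable {σ : RingAut F} {j : F₀ →+* F} {G : Matrix (PI m) (PI m) F}
  {P₀ : Matrix (PI m) (MI k) F} {P₁ : Matrix (MI k) (PI m) F} {c : F} {ζ₀ : F₀}

theorem gfLift_mul (hD : GFData σ j G P₀ P₁ c ζ₀) (A B : Matrix (MI k) (MI k) F₀) :
    gfLift j P₀ P₁ (A * B) = gfLift j P₀ P₁ A * gfLift j P₀ P₁ B := by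
  unfold gfLift
  have h1 : (A * B).map j = A.map j * B.map j := Matrix.map_mul
  rw [h1]
  calc P₀ * (A.map j * B.map j) * P₁ = P₀ * A.map j * (1 : Matrix (MI k) (MI k) F) * B.map j * P₁ := by
        rw [Matrix.mul_one]
        simp only [Matrix.mul_assoc]
    _ = P₀ * A.map j * P₁ * (P₀ * B.map j * P₁) := by
        rw [← hD.right]
        simp only [Matrix.mul_assoc]

theorem gfLift_one (hD : GFData σ j G P₀ P₁ c ζ₀) :
    gfLift j P₀ P₁ (1 : Matrix (MI k) (MI k) F₀) = 1 := by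
  unfold gfLift
  rw [Matrix.map_one _ (map_zero j) (map_one j), Matrix.mul_one, hD.left]

theorem gfLift_smul (a : F₀) (A : Matrix (MI k) (MI k) F₀) :
    gfLift j P₀ P₁ (a • A) = j a • gfLift j P₀ P₁ A := by
  unfold gfLift
  have h1 : (a • A).map j = j a • A.map j := by
    ext x y
    simp
  rw [h1, Matrix.mul_smul, Matrix.smul_mul]

theorem gfLift_mulVec (hD : GFData σ j G P₀ P₁ c ζ₀) (A : Matrix (MI k) (MI k) F₀)
    (v : MI k → F) :
    gfLift j P₀ P₁ A *ᵥ (P₀ *ᵥ v) = P₀ *ᵥ (A.map j *ᵥ v) := by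
  unfold gfLift
  rw [Matrix.mulVec_mulVec, Matrix.mul_assoc, Matrix.mul_assoc, hD.right, Matrix.mul_one,
    ← Matrix.mulVec_mulVec]

/-- `σ(P₀) = G P₀` -/
theorem GFData.map_P₀ (hD : GFData σ j G P₀ P₁ c ζ₀) : P₀.map σ = G * P₀ := by
  have h1 : G * (G * P₀.map σ) = G * P₀ := by rw [hD.semi]
  rw [← Matrix.mul_assoc, hD.invol, Matrix.one_mul] at h1
  exact h1

/-- `σ(P₁) = P₁ G` -/
theorem GFData.map_P₁ (hD : GFData σ j G P₀ P₁ c ζ₀) : P₁.map σ = P₁ * G := by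
  have h1 : P₁.map σ * P₀.map σ = 1 := by
    have : (P₁ * P₀).map σ = P₁.map σ * P₀.map σ := Matrix.map_mul (f := (σ : F →+* F))
    rw [← this, hD.right, Matrix.map_one _ (map_zero σ) (map_one σ)]
  rw [hD.map_P₀, ← Matrix.mul_assoc] at h1
  -- P₁^σ G P₀ = 1
  have h2 : P₁.map σ * G = P₁ := by
    calc P₁.map σ * G = P₁.map σ * G * (P₀ * P₁) := by rw [hD.left, Matrix.mul_one]
      _ = (P₁.map σ * G * P₀) * P₁ := by simp only [Matrix.mul_assoc]
      _ = P₁ := by rw [h1, Matrix.one_mul]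
  calc P₁.map σ = P₁.map σ * (G * G) := by rw [hD.invol, Matrix.mul_one]
    _ = (P₁.map σ * G) * G := by rw [Matrix.mul_assoc]
    _ = P₁ * G := by rw [h2]

theorem map_map_fixed (hj : ∀ a, σ (j a) = j a) (A : Matrix (MI k) (MI k) F₀) :
    (A.map j).map σ = A.map j := by
  ext x y
  rw [Matrix.map_apply, Matrix.map_apply]
  exact hj _

/-- the lift is equivariant for `x₁` -/
theorem gfLift_semi (hD : GFData σ j G P₀ P₁ c ζ₀) (A : Matrix (MI k) (MI k) F₀) :
    G * (gfLift j P₀ P₁ A).map σ = gfLift j P₀ P₁ A * G := by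
  have hj : ∀ a, σ (j a) = j a := fun a => (hD.fix (j a)).mpr ⟨a, rfl⟩
  unfold gfLift
  have h1 : (P₀ * A.map j * P₁).map σ = P₀.map σ * (A.map j).map σ * P₁.map σ := by
    have e1 : (P₀ * A.map j * P₁).map σ = (P₀ * A.map j).map σ * P₁.map σ :=
      Matrix.map_mul (f := (σ : F →+* F))
    have e2 : (P₀ * A.map j).map σ = P₀.map σ * (A.map j).map σ :=
      Matrix.map_mul (f := (σ : F →+* F))
    rw [e1, e2]
  rw [h1, map_map_fixed hj, hD.map_P₁]
  calc G * (P₀.map σ * A.map j * (P₁ * G)) = (G * P₀.map σ) * A.map j * P₁ * G := by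
        simp only [Matrix.mul_assoc]
    _ = P₀ * A.map j * P₁ * G := by rw [hD.semi]

theorem minus_compat (j : F₀ →+* F) (ζ₀ : F₀) (v : MI k → F₀) :
    minusQF k F 1 (j ζ₀) (rvec j v) = j (Cfsg.quadFormMinus k F₀ 1 ζ₀ v) := by
  rw [minusQF_coe]
  have h := quadFormMinus_rvec j k 1 ζ₀ v
  rw [map_one] at h
  exact h

/-- the lift of a similarity is a similarity -/
theorem gfLift_sim (hD : GFData σ j G P₀ P₁ c ζ₀) (A : Matrix (MI k) (MI k) F₀) (ν : F₀)
    (hA : ∀ v, Cfsg.quadFormMinus k F₀ 1 ζ₀ (A *ᵥ v) = ν * Cfsg.quadFormMinus k F₀ 1 ζ₀ v)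
    (w : PI m → F) :
    plusQF m F (gfLift j P₀ P₁ A *ᵥ w) = j ν * plusQF m F w := by
  have hw : w = P₀ *ᵥ (P₁ *ᵥ w) := by
    rw [Matrix.mulVec_mulVec, hD.left, Matrix.one_mulVec]
  have h1 := similarity_extend' j (Cfsg.quadFormMinus k F₀ 1 ζ₀) (minusQF k F 1 (j ζ₀))
    (minus_compat j ζ₀) A ν hA (P₁ *ᵥ w)
  rw [minusQF_coe] at h1
  conv_lhs => rw [hw]
  rw [gfLift_mulVec hD, hD.form, h1]
  conv_rhs => rw [hw, hD.form]
  ring

theorem quadFormMinus_single_z' {R : Type*} [Field R] (a b : R) :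
    Cfsg.quadFormMinus k R a b (Pi.single (Sum.inr 0) 1) = 1 := by
  unfold Cfsg.quadFormMinus
  have h1 : ∑ i : Fin k, (Pi.single (Sum.inr 0) 1 : (Fin k ⊕ Fin k) ⊕ Fin 2 → R)
      (Sum.inl (Sum.inl i)) * (Pi.single (Sum.inr 0) 1 : (Fin k ⊕ Fin k) ⊕ Fin 2 → R)
      (Sum.inl (Sum.inr i)) = 0 := by
    apply Finset.sum_eq_zero
    intro i _
    rw [Pi.single_eq_of_ne (by simp), zero_mul]
  rw [h1, Pi.single_eq_same, Pi.single_eq_of_ne (by simp)]
  ring

/-- matrices equivariant for `x₁` are lifts -/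
theorem exists_of_semi (hD : GFData σ j G P₀ P₁ c ζ₀) (g : Matrix (PI m) (PI m) F)
    (hg : G * g.map σ = g * G) :
    ∃ a : Matrix (MI k) (MI k) F₀, a.map j = P₁ * g * P₀ ∧ gfLift j P₀ P₁ a = g := by
  set B : Matrix (MI k) (MI k) F := P₁ * g * P₀ with hB
  have hBσ : B.map σ = B := by
    have h1 : B.map σ = P₁.map σ * g.map σ * P₀.map σ := by
      have e1 : (P₁ * g * P₀).map σ = (P₁ * g).map σ * P₀.map σ :=
        Matrix.map_mul (f := (σ : F →+* F))
      have e2 : (P₁ * g).map σ = P₁.map σ * g.map σ := Matrix.map_mul (f := (σ : F →+* F))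
      rw [hB, e1, e2]
    rw [h1, hD.map_P₁, hD.map_P₀]
    calc P₁ * G * g.map σ * (G * P₀) = P₁ * (G * g.map σ) * G * P₀ := by
          simp only [Matrix.mul_assoc]
      _ = P₁ * g * (G * G) * P₀ := by rw [hg]; simp only [Matrix.mul_assoc]
      _ = B := by rw [hD.invol, Matrix.mul_one]
  have hent : ∀ x y, ∃ a : F₀, j a = B x y := by
    intro x y
    apply (hD.fix _).mp
    have := congrFun (congrFun hBσ x) y
    rwa [Matrix.map_apply] at this
  choose a ha using hent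
  refine ⟨Matrix.of a, ?_, ?_⟩
  · ext x y
    rw [Matrix.map_apply, Matrix.of_apply, ha]
  · have h1 : (Matrix.of a).map j = B := by
      ext x y
      rw [Matrix.map_apply, Matrix.of_apply, ha]
    unfold gfLift
    rw [h1, hB]
    calc P₀ * (P₁ * g * P₀) * P₁ = (P₀ * P₁) * g * (P₀ * P₁) := by
          simp only [Matrix.mul_assoc]
      _ = g := by rw [hD.left, Matrix.one_mul, Matrix.mul_one]

/-- an equivariant similarity descends to a similarity over `F₀` -/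
theorem sim_of_semi (hD : GFData σ j G P₀ P₁ c ζ₀) (g : Matrix (PI m) (PI m) F)
    (a : Matrix (MI k) (MI k) F₀) (ha : a.map j = P₁ * g * P₀) (μ : F)
    (hgμ : ∀ v, plusQF m F (g *ᵥ v) = μ * plusQF m F v) :
    ∃ ν : F₀, j ν = μ ∧
      ∀ v, Cfsg.quadFormMinus k F₀ 1 ζ₀ (a *ᵥ v) = ν * Cfsg.quadFormMinus k F₀ 1 ζ₀ v := by
  have hM : ∀ w : MI k → F, Cfsg.quadFormMinus k F 1 (j ζ₀) ((P₁ * g * P₀) *ᵥ w) =
      μ * Cfsg.quadFormMinus k F 1 (j ζ₀) w := by
    intro w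
    have h1 : c * Cfsg.quadFormMinus k F 1 (j ζ₀) ((P₁ * g * P₀) *ᵥ w) =
        c * (μ * Cfsg.quadFormMinus k F 1 (j ζ₀) w) := by
      rw [← hD.form, Matrix.mulVec_mulVec]
      have h2 : P₀ * (P₁ * g * P₀) = g * P₀ := by
        calc P₀ * (P₁ * g * P₀) = (P₀ * P₁) * g * P₀ := by simp only [Matrix.mul_assoc]
          _ = g * P₀ := by rw [hD.left, Matrix.one_mul]
      rw [h2, ← Matrix.mulVec_mulVec, hgμ, hD.form]
      ring
    exact mul_left_cancel₀ hD.ne h1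
  have hv : ∀ v : MI k → F₀, j (Cfsg.quadFormMinus k F₀ 1 ζ₀ (a *ᵥ v)) =
      μ * j (Cfsg.quadFormMinus k F₀ 1 ζ₀ v) := by
    intro v
    have h1 := minus_compat (k := k) j ζ₀ (a *ᵥ v)
    have h2 := minus_compat (k := k) j ζ₀ v
    rw [minusQF_coe] at h1 h2
    rw [← h1, ← h2, ← rvec_mulVec, ha]
    exact hM _
  refine ⟨Cfsg.quadFormMinus k F₀ 1 ζ₀ (a *ᵥ (Pi.single (Sum.inr 0) 1)), ?_, ?_⟩
  · rw [hv, quadFormMinus_single_z', map_one, mul_one]
  · intro v
    apply j.injective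
    rw [hv, map_mul, hv, quadFormMinus_single_z', map_one, mul_one]

end lift

section exist

variable [Fintype F]

theorem card_MI_eq (hm : 1 ≤ m) : Fintype.card (MI (m - 1)) = Fintype.card (PI m) := by
  simp only [MI, PI, Fintype.card_sum, Fintype.card_fin]
  omega

/-- **existence of the descent datum for the standard graph-field involution** -/
theorem exists_gfData (hm : 1 ≤ m) (σ : RingAut F) (hσ1 : σ ≠ 1) (hσ2 : σ * σ = 1)
    (j : F₀ →+* F) (hj : ∀ a : F, σ a = a ↔ ∃ b, j b = a) :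
    ∃ (P₀ : Matrix (PI m) (MI (m - 1)) F) (P₁ : Matrix (MI (m - 1)) (PI m) F) (c : F) (ζ₀ : F₀),
      GFData σ j ((hypRefl (F := F) hm : GL (PI m) F) : Matrix (PI m) (PI m) F) P₀ P₁ c ζ₀ := by
  classical
  have hord : orderOf σ = 2 := by
    apply orderOf_eq_prime
    · rw [pow_two, hσ2]
    · exact hσ1
  set G : Matrix (PI m) (PI m) F := ((hypRefl (F := F) hm : GL (PI m) F) :
    Matrix (PI m) (PI m) F) with hG
  have hGG : G * G = 1 := by
    have := hypRefl_mul_self (F := F) hm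
    have h1 := congrArg (fun g : ↥(Cfsg.Geo.quadSimilarityGroup (⇑(plusQF m F))) =>
      ((g : GL (PI m) F) : Matrix (PI m) (PI m) F)) this
    exact h1
  obtain ⟨μ, hμ⟩ := (hypRefl (F := F) hm).2
  have hcoc : cocyc σ G 2 = 1 := by
    rw [cocyc_two, hG, hypRefl_map]
    exact hGG
  let e : MI (m - 1) ≃ PI m := Fintype.equivOfCardEq (card_MI_eq hm)
  rcases exists_descends_plus hm e σ two_pos hord G (μ : F) μ.ne_zero (fun v => hμ v) hcoc with
    ⟨P, c, hD⟩ | ⟨ζ, hζ, P, c, hD⟩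
  · exact absurd (plusEven_of_descends_plus (hypRefl hm) σ P c hD) (not_plusEven_hypRefl hm)
  · obtain ⟨ζ₀, hζ₀⟩ := (hj _).mp ((mem_fixF σ _).mp ζ.2)
    obtain ⟨U, hU⟩ := hD.unit
    refine ⟨P.submatrix id e, (↑U⁻¹ : Matrix (PI m) (PI m) F).submatrix e id, c, ζ₀,
      ⟨?_, ?_, ?_, hGG, hD.ne, ?_, hj, ?_⟩⟩
    · rw [Matrix.submatrix_mul_equiv, ← hU, Units.mul_inv, Matrix.submatrix_one _ Function.injective_id]
    · rw [← Matrix.submatrix_mul _ _ _ _ _ Function.bijective_id, ← hU, Units.inv_mul,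
        Matrix.submatrix_one_equiv]
    · have h1 : (P.submatrix id e).map σ = (P.map σ).submatrix id e := rfl
      rw [h1]
      have h2 : G * (P.map σ).submatrix id e = (G * P.map σ).submatrix id e := by
        ext x y
        simp [Matrix.mul_apply]
      rw [h2, hD.semi]
    · intro v
      rw [Matrix.submatrix_mulVec_equiv]
      have h1 : (P *ᵥ (v ∘ ⇑e.symm)) ∘ id = P *ᵥ (v ∘ ⇑e.symm) := rfl
      rw [h1, hD.form, ellForm_apply, hζ₀]
      congr 2
      funext x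
      simp
    · apply Cfsg.Agent.Lib.Helper37.OrthEven.aniso_of_irred
      intro t ht
      apply hζ ⟨j t, (mem_fixF σ _).mpr ((hj _).mpr ⟨t, rfl⟩)⟩
      apply Subtype.ext
      have h1 := congrArg j ht
      rw [map_add, map_add, map_pow, hζ₀, map_zero] at h1
      simpa using h1

end exist

end Cfsg.Agent.Lib.Helper43
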