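/-
helper43: transport of the class-preserving property `PreservesSingularClasses`
* along a linear equivalence intertwining two quadratic forms up to a scalar (possibly between
  different index types), and
* along a ring isomorphism of the coefficient fields.
-/
import Mathlib
import Cfsg.Prelude.Def_LieTypeDatum
import Cfsg.Agent.Lib.Helper13.QuadExt

set_option autoImplicit false

namespace Cfsg.Agent.Lib.Helper43

open scoped Matrix
open Module Matrix
open Cfsg.Agent.Lib.Helper13 (rvec rvec_add rvec_smul rvec_mulVec)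

section Linear

variable {ι κ : Type} [Fintype ι] [DecidableEq ι] [Fintype κ] [DecidableEq κ]
  {K : Type*} [Field K]

theorem isTS_map_iff (N : (ι → K) → K) (N' : (κ → K) → K) (L : (κ → K) ≃ₗ[K] (ι → K)) (c : K)
    (hc : c ≠ 0) (hL : ∀ v, N (L v) = c * N' v) (U' : Submodule K (κ → K)) :
    Cfsg.Geo.IsTotallySingularQuad N (U'.map (L : (κ → K) →ₗ[K] (ι → K))) ↔
      Cfsg.Geo.IsTotallySingularQuad N' U' := by
  constructor
  · intro h v hv
    have h1 := h (L v) ⟨v, hv, rfl⟩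
    rw [hL] at h1
    exact (mul_eq_zero.mp h1).resolve_left hc
  · rintro h _ ⟨v, hv, rfl⟩
    show N (L v) = 0
    rw [hL, h v hv, mul_zero]

theorem map_symm_map (L : (κ → K) ≃ₗ[K] (ι → K)) (U : Submodule K (ι → K)) :
    (U.map (L.symm : (ι → K) →ₗ[K] (κ → K))).map (L : (κ → K) →ₗ[K] (ι → K)) = U := by
  ext v
  constructor
  · rintro ⟨_, ⟨u, hu, rfl⟩, rfl⟩
    show L (L.symm u) ∈ U
    rw [L.apply_symm_apply]
    exact hu
  · intro hv
    exact ⟨L.symm v, ⟨v, hv, rfl⟩, L.apply_symm_apply v⟩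

theorem isMaxTS_map_iff (N : (ι → K) → K) (N' : (κ → K) → K) (L : (κ → K) ≃ₗ[K] (ι → K))
    (c : K) (hc : c ≠ 0) (hL : ∀ v, N (L v) = c * N' v) (U' : Submodule K (κ → K)) :
    Cfsg.IsMaxTotallySingular N (U'.map (L : (κ → K) →ₗ[K] (ι → K))) ↔
      Cfsg.IsMaxTotallySingular N' U' := by
  constructor
  · rintro ⟨h1, h2⟩
    refine ⟨(isTS_map_iff N N' L c hc hL U').mp h1, fun W' hW' hle => ?_⟩
    have h3 := h2 (W'.map (L : (κ → K) →ₗ[K] (ι → K)))
      ((isTS_map_iff N N' L c hc hL W').mpr hW') (Submodule.map_mono hle)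
    exact Submodule.map_injective_of_injective (f := (L : (κ → K) →ₗ[K] (ι → K))) L.injective h3
  · rintro ⟨h1, h2⟩
    refine ⟨(isTS_map_iff N N' L c hc hL U').mpr h1, fun W hW hle => ?_⟩
    have hW' : W = (W.map (L.symm : (ι → K) →ₗ[K] (κ → K))).map
        (L : (κ → K) →ₗ[K] (ι → K)) := (map_symm_map L W).symm
    rw [hW'] at hW hle ⊢
    have h3 := h2 (W.map (L.symm : (ι → K) →ₗ[K] (κ → K)))
      ((isTS_map_iff N N' L c hc hL _).mp hW)
      (fun u hu => by
        obtain ⟨w, hw, hw2⟩ := hle ⟨u, hu, rfl⟩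
        have : w = u := L.injective hw2
        rw [← this]
        exact hw)
    rw [h3]

theorem sameParity_map_iff (L : (κ → K) ≃ₗ[K] (ι → K)) (U' W' : Submodule K (κ → K)) :
    Cfsg.SameParityClass (U'.map (L : (κ → K) →ₗ[K] (ι → K)))
      (W'.map (L : (κ → K) →ₗ[K] (ι → K))) ↔ Cfsg.SameParityClass U' W' := by
  unfold Cfsg.SameParityClass
  rw [← Submodule.map_inf (L : (κ → K) →ₗ[K] (ι → K)) L.injective,
    LinearEquiv.finrank_map_eq L, LinearEquiv.finrank_map_eq L]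

/-- **transport along a linear similarity** -/
theorem preserves_transport_linear (N : (ι → K) → K) (N' : (κ → K) → K)
    (L : (κ → K) ≃ₗ[K] (ι → K)) (c : K) (hc : c ≠ 0) (hL : ∀ v, N (L v) = c * N' v)
    (g : Matrix ι ι K) (g' : Matrix κ κ K) (hg : ∀ v, L (g' *ᵥ v) = g *ᵥ (L v)) :
    Cfsg.PreservesSingularClasses N g ↔ Cfsg.PreservesSingularClasses N' g' := by
  have himg : ∀ U' : Submodule K (κ → K),
      Cfsg.imageSubmodule g (U'.map (L : (κ → K) →ₗ[K] (ι → K))) =
        (Cfsg.imageSubmodule g' U').map (L : (κ → K) →ₗ[K] (ι → K)) := by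
    intro U'
    unfold Cfsg.imageSubmodule
    ext v
    constructor
    · rintro ⟨_, ⟨u, hu, rfl⟩, rfl⟩
      refine ⟨g' *ᵥ u, ⟨u, hu, by rw [Matrix.toLin'_apply]⟩, ?_⟩
      show L (g' *ᵥ u) = Matrix.toLin' g (L u)
      rw [hg, Matrix.toLin'_apply]
    · rintro ⟨_, ⟨u, hu, rfl⟩, rfl⟩
      refine ⟨L u, ⟨u, hu, rfl⟩, ?_⟩
      show Matrix.toLin' g (L u) = L (Matrix.toLin' g' u)
      rw [Matrix.toLin'_apply, Matrix.toLin'_apply, hg]
  constructor
  · intro h U' hU'
    have h1 := h _ ((isMaxTS_map_iff N N' L c hc hL U').mpr hU')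
    rw [himg] at h1
    exact (sameParity_map_iff L _ _).mp h1
  · intro h U hU
    have hU' : U = (U.map (L.symm : (ι → K) →ₗ[K] (κ → K))).map
        (L : (κ → K) →ₗ[K] (ι → K)) := (map_symm_map L U).symm
    rw [hU'] at hU ⊢
    have h1 := h _ ((isMaxTS_map_iff N N' L c hc hL _).mp hU)
    rw [himg]
    exact (sameParity_map_iff L _ _).mpr h1

end Linear

section Ring

variable {ι : Type} [Fintype ι] [DecidableEq ι] {K F : Type*} [Field K] [Field F]

omit [Fintype ι] [DecidableEq ι] in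
theorem rvec_symm_rvec (ψ : K ≃+* F) (w : ι → F) :
    rvec (ψ : K →+* F) (rvec (ψ.symm : F →+* K) w) = w := by
  funext i
  exact ψ.apply_symm_apply (w i)

omit [Fintype ι] [DecidableEq ι] in
theorem rvec_rvec_symm (ψ : K ≃+* F) (v : ι → K) :
    rvec (ψ.symm : F →+* K) (rvec (ψ : K →+* F) v) = v := by
  funext i
  exact ψ.symm_apply_apply (v i)

/-- the image of a subspace under a ring isomorphism applied to the coordinates -/
def mapSub (ψ : K ≃+* F) (U : Submodule K (ι → K)) : Submodule F (ι → F) where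
  carrier := {w | rvec (ψ.symm : F →+* K) w ∈ U}
  add_mem' := by
    intro a b ha hb
    show rvec (ψ.symm : F →+* K) (a + b) ∈ U
    rw [rvec_add]
    exact U.add_mem ha hb
  zero_mem' := by
    have : rvec (ψ.symm : F →+* K) (0 : ι → F) = 0 := by
      funext i; exact map_zero ψ.symm
    show rvec (ψ.symm : F →+* K) (0 : ι → F) ∈ U
    rw [this]
    exact U.zero_mem
  smul_mem' := by
    intro c a ha
    show rvec (ψ.symm : F →+* K) (c • a) ∈ U
    rw [rvec_smul]
    exact U.smul_mem _ ha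

omit [Fintype ι] [DecidableEq ι] in
theorem mem_mapSub (ψ : K ≃+* F) (U : Submodule K (ι → K)) (w : ι → F) :
    w ∈ mapSub ψ U ↔ rvec (ψ.symm : F →+* K) w ∈ U := Iff.rfl

omit [Fintype ι] [DecidableEq ι] in
theorem rvec_mem_mapSub (ψ : K ≃+* F) (U : Submodule K (ι → K)) (v : ι → K) :
    rvec (ψ : K →+* F) v ∈ mapSub ψ U ↔ v ∈ U := by
  rw [mem_mapSub, rvec_rvec_symm]

omit [Fintype ι] [DecidableEq ι] in
theorem mapSub_symm_mapSub (ψ : K ≃+* F) (W : Submodule F (ι → F)) :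
    mapSub ψ (mapSub ψ.symm W) = W := by
  ext w
  rw [mem_mapSub, mem_mapSub]
  have : rvec ((ψ.symm.symm : K ≃+* F) : K →+* F) (rvec (ψ.symm : F →+* K) w) = w :=
    rvec_symm_rvec ψ w
  rw [this]

omit [Fintype ι] [DecidableEq ι] in
theorem mapSub_le_iff (ψ : K ≃+* F) (U W : Submodule K (ι → K)) :
    mapSub ψ U ≤ mapSub ψ W ↔ U ≤ W := by
  constructor
  · intro h v hv
    exact (rvec_mem_mapSub ψ W v).mp (h ((rvec_mem_mapSub ψ U v).mpr hv))
  · intro h w hw
    exact h hw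

omit [Fintype ι] [DecidableEq ι] in
theorem mapSub_injective (ψ : K ≃+* F) : Function.Injective (mapSub (ι := ι) ψ) := by
  intro U W h
  apply le_antisymm
  · rw [← mapSub_le_iff ψ, h]
  · rw [← mapSub_le_iff ψ, h]

omit [Fintype ι] [DecidableEq ι] in
theorem mapSub_inf (ψ : K ≃+* F) (U W : Submodule K (ι → K)) :
    mapSub ψ (U ⊓ W) = mapSub ψ U ⊓ mapSub ψ W := by
  ext v
  simp only [mem_mapSub, Submodule.mem_inf]

omit [Fintype ι] [DecidableEq ι] in
theorem finrank_mapSub (ψ : K ≃+* F) (U : Submodule K (ι → K)) :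
    finrank F ↥(mapSub ψ U) = finrank K ↥U := by
  let j : ↥U ≃+ ↥(mapSub ψ U) :=
    { toFun := fun w => ⟨rvec (ψ : K →+* F) w.1, (rvec_mem_mapSub ψ U w.1).mpr w.2⟩
      invFun := fun v => ⟨rvec (ψ.symm : F →+* K) v.1, v.2⟩
      left_inv := by
        intro w
        apply Subtype.ext
        exact rvec_rvec_symm ψ w.1
      right_inv := by
        intro v
        apply Subtype.ext
        exact rvec_symm_rvec ψ v.1
      map_add' := by
        intro a b
        apply Subtype.ext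
        exact rvec_add _ _ _ }
  have h := lift_rank_eq_of_equiv_equiv (R := K) (R' := F) (M := ↥U) (M' := ↥(mapSub ψ U)) ψ j
    ψ.bijective (by
      intro r w
      apply Subtype.ext
      exact rvec_smul _ _ _)
  have h2 := congrArg Cardinal.toNat h
  rw [Cardinal.toNat_lift, Cardinal.toNat_lift] at h2
  exact h2.symm

theorem isTS_mapSub_iff (ψ : K ≃+* F) (N : (ι → K) → K) (N' : (ι → F) → F)
    (hN : ∀ v, N' (rvec (ψ : K →+* F) v) = ψ (N v)) (U : Submodule K (ι → K)) :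
    Cfsg.Geo.IsTotallySingularQuad N' (mapSub ψ U) ↔ Cfsg.Geo.IsTotallySingularQuad N U := by
  constructor
  · intro h v hv
    have h1 := h (rvec (ψ : K →+* F) v) ((rvec_mem_mapSub ψ U v).mpr hv)
    rw [hN] at h1
    exact (map_eq_zero ψ).mp h1
  · intro h w hw
    have h1 := h _ hw
    have h2 := hN (rvec (ψ.symm : F →+* K) w)
    rw [rvec_symm_rvec, h1, map_zero] at h2
    exact h2

theorem isMaxTS_mapSub_iff (ψ : K ≃+* F) (N : (ι → K) → K) (N' : (ι → F) → F)
    (hN : ∀ v, N' (rvec (ψ : K →+* F) v) = ψ (N v)) (U : Submodule K (ι → K)) :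
    Cfsg.IsMaxTotallySingular N' (mapSub ψ U) ↔ Cfsg.IsMaxTotallySingular N U := by
  constructor
  · rintro ⟨h1, h2⟩
    refine ⟨(isTS_mapSub_iff ψ N N' hN U).mp h1, fun W hW hle => ?_⟩
    have h3 := h2 (mapSub ψ W) ((isTS_mapSub_iff ψ N N' hN W).mpr hW)
      ((mapSub_le_iff ψ U W).mpr hle)
    exact mapSub_injective ψ h3
  · rintro ⟨h1, h2⟩
    refine ⟨(isTS_mapSub_iff ψ N N' hN U).mpr h1, fun W hW hle => ?_⟩
    rw [← mapSub_symm_mapSub ψ W] at hW hle ⊢
    have h3 := h2 (mapSub ψ.symm W) ((isTS_mapSub_iff ψ N N' hN _).mp hW)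
      ((mapSub_le_iff ψ _ _).mp hle)
    rw [h3]

theorem imageSubmodule_mapSub (ψ : K ≃+* F) (g : Matrix ι ι K) (U : Submodule K (ι → K)) :
    Cfsg.imageSubmodule (g.map ψ) (mapSub ψ U) = mapSub ψ (Cfsg.imageSubmodule g U) := by
  unfold Cfsg.imageSubmodule
  ext w
  rw [mem_mapSub]
  constructor
  · rintro ⟨u, hu, rfl⟩
    refine ⟨rvec (ψ.symm : F →+* K) u, hu, ?_⟩
    rw [Matrix.toLin'_apply, Matrix.toLin'_apply]
    have h1 := rvec_mulVec (ψ : K →+* F) g (rvec (ψ.symm : F →+* K) u)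
    rw [rvec_symm_rvec] at h1
    have h2 : g.map (ψ : K →+* F) = g.map ψ := rfl
    rw [← h2, h1, rvec_rvec_symm]
  · rintro ⟨u, hu, hgu⟩
    refine ⟨rvec (ψ : K →+* F) u, (rvec_mem_mapSub ψ U u).mpr hu, ?_⟩
    rw [Matrix.toLin'_apply] at hgu ⊢
    have h1 := rvec_mulVec (ψ : K →+* F) g u
    have h2 : g.map (ψ : K →+* F) = g.map ψ := rfl
    rw [← h2, h1, hgu, rvec_symm_rvec]

omit [DecidableEq ι] in
theorem sameParity_mapSub_iff (ψ : K ≃+* F) (U W : Submodule K (ι → K)) :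
    Cfsg.SameParityClass (mapSub ψ U) (mapSub ψ W) ↔ Cfsg.SameParityClass U W := by
  unfold Cfsg.SameParityClass
  rw [← mapSub_inf, finrank_mapSub, finrank_mapSub]

/-- **transport along a ring isomorphism** -/
theorem preserves_transport_ring (ψ : K ≃+* F) (N : (ι → K) → K) (N' : (ι → F) → F)
    (hN : ∀ v, N' (rvec (ψ : K →+* F) v) = ψ (N v)) (g : Matrix ι ι K) :
    Cfsg.PreservesSingularClasses N g ↔ Cfsg.PreservesSingularClasses N' (g.map ψ) := by
  constructor
  · intro h W hW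
    rw [← mapSub_symm_mapSub ψ W] at hW ⊢
    have h1 := h _ ((isMaxTS_mapSub_iff ψ N N' hN _).mp hW)
    rw [imageSubmodule_mapSub]
    exact (sameParity_mapSub_iff ψ _ _).mpr h1
  · intro h U hU
    have h1 := h _ ((isMaxTS_mapSub_iff ψ N N' hN U).mpr hU)
    rw [imageSubmodule_mapSub] at h1
    exact (sameParity_mapSub_iff ψ _ _).mp h1

end Ring

end Cfsg.Agent.Lib.Helper43
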