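/-
helper43: a matrix over `F₀` preserves the singular classes of the minus-type form (read over a
quadratic extension) iff its lift `P₀ A^j P₁` preserves those of the hyperbolic form over `F`.
-/
import Mathlib
import Cfsg.Agent.Lib.Helper43.PlusGFData
import Cfsg.Agent.Lib.Helper43.PreserveTransport
import Cfsg.Agent.Lib.Helper13.MinusClassAdjust

set_option autoImplicit false

namespace Cfsg.Agent.Lib.Helper43

open scoped MatrixGroups Matrix
open Module Matrix Cfsg.Agent.Lib.Helper45.PSLField Cfsg.Agent.Lib.Helper36 Cfsg.Agent.Lib.Helper44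
  Cfsg.Agent.S2168
open Cfsg.Agent.Lib.Helper13 (rvec rvec_mulVec similarity_extend' quadFormMinus_rvec
  exists_quadratic_root_extension)

variable {m k : ℕ} {F : Type*} [Field F] {F₀ : Type*} [Field F₀]

/-- a quadratic extension of `F₀` is isomorphic to `F` over `F₀` -/
theorem exists_ringEquiv_of_quadratic [Finite F] [Finite F₀] (j : F₀ →+* F)
    (hcard : Nat.card F = Nat.card F₀ ^ 2)
    (K : Type*) [Field K] [Algebra F₀ K] (hK : finrank F₀ K = 2) :
    ∃ ψ : K ≃+* F, ∀ a : F₀, ψ (algebraMap F₀ K a) = j a := by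
  letI : Algebra F₀ F := j.toAlgebra
  have h2 : 2 ≤ Nat.card F₀ := by
    have : Nontrivial F₀ := inferInstance
    exact Finite.one_lt_card
  have hF : finrank F₀ F = 2 := by
    have h1 := Module.natCard_eq_pow_finrank (K := F₀) (V := F)
    rw [hcard] at h1
    exact (Nat.pow_right_injective h2 h1).symm
  have hKfin : Module.Finite F₀ K := Module.finite_of_finrank_pos (by rw [hK]; norm_num)
  have : Finite K := Module.finite_of_finite F₀
  have hKcard : Nat.card K = Nat.card F₀ ^ 2 := by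
    rw [Module.natCard_eq_pow_finrank (K := F₀) (V := K), hK]
  obtain ⟨φ⟩ := FiniteField.nonempty_algHom_of_finrank_dvd (F := F₀) (K := K) (L := F)
    (by rw [hK, hF])
  have hinj : Function.Injective φ := φ.toRingHom.injective
  have hbij : Function.Bijective φ :=
    (Nat.bijective_iff_injective_and_card φ).mpr ⟨hinj, by rw [hKcard, hcard]⟩
  refine ⟨RingEquiv.ofBijective φ hbij, fun a => ?_⟩
  show φ (algebraMap F₀ K a) = j a
  rw [φ.commutes]
  rfl

section main

variable {σ : RingAut F} {j : F₀ →+* F} {G : Matrix (PI m) (PI m) F}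
  {P₀ : Matrix (PI m) (MI k) F} {P₁ : Matrix (MI k) (PI m) F} {c : F} {ζ₀ : F₀}

/-- the linear equivalence given by `P₀` -/
noncomputable def gfLin (hD : GFData σ j G P₀ P₁ c ζ₀) : (MI k → F) ≃ₗ[F] (PI m → F) :=
  LinearEquiv.ofLinear (Matrix.mulVecLin P₀) (Matrix.mulVecLin P₁)
    (by
      apply LinearMap.ext
      intro v
      show P₀ *ᵥ (P₁ *ᵥ v) = v
      rw [Matrix.mulVec_mulVec, hD.left, Matrix.one_mulVec])
    (by
      apply LinearMap.ext
      intro v
      show P₁ *ᵥ (P₀ *ᵥ v) = v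
      rw [Matrix.mulVec_mulVec, hD.right, Matrix.one_mulVec])

theorem gfLin_apply (hD : GFData σ j G P₀ P₁ c ζ₀) (v : MI k → F) : gfLin hD v = P₀ *ᵥ v := rfl

/-- over `F`: the lift preserves the classes of the hyperbolic form iff `A^j` preserves those of
the (split) elliptic form -/
theorem preserves_lift_iff (hD : GFData σ j G P₀ P₁ c ζ₀) (A : Matrix (MI k) (MI k) F₀) :
    Cfsg.PreservesSingularClasses (⇑(plusQF m F)) (gfLift j P₀ P₁ A) ↔
      Cfsg.PreservesSingularClasses (Cfsg.quadFormMinus k F 1 (j ζ₀)) (A.map j) := by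
  apply preserves_transport_linear (⇑(plusQF m F)) (Cfsg.quadFormMinus k F 1 (j ζ₀)) (gfLin hD) c
    hD.ne
  · intro v
    rw [gfLin_apply]
    exact hD.form v
  · intro v
    rw [gfLin_apply, gfLin_apply]
    exact (gfLift_mulVec hD A v).symm

/-- transport along an isomorphism of the quadratic extension with `F` -/
theorem preserves_ext_iff' (j : F₀ →+* F) (ζ₀ : F₀) (K : Type*) [Field K] [Algebra F₀ K]
    (ψ : K ≃+* F) (hψ : ∀ a : F₀, ψ (algebraMap F₀ K a) = j a) (A : Matrix (MI k) (MI k) F₀) :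
    Cfsg.PreservesSingularClasses
      (Cfsg.quadFormMinus k K (algebraMap F₀ K 1) (algebraMap F₀ K ζ₀)) (A.map (algebraMap F₀ K)) ↔
    Cfsg.PreservesSingularClasses (Cfsg.quadFormMinus k F 1 (j ζ₀)) (A.map j) := by
  have h1 := preserves_transport_ring ψ
    (Cfsg.quadFormMinus k K (algebraMap F₀ K 1) (algebraMap F₀ K ζ₀))
    (Cfsg.quadFormMinus k F 1 (j ζ₀)) (fun v => by
      have h := quadFormMinus_rvec (ψ : K →+* F) k (algebraMap F₀ K 1) (algebraMap F₀ K ζ₀) v
      have e1 : (ψ : K →+* F) (algebraMap F₀ K 1) = 1 := by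
        show ψ (algebraMap F₀ K 1) = 1
        rw [hψ, map_one]
      have e2 : (ψ : K →+* F) (algebraMap F₀ K ζ₀) = j ζ₀ := hψ ζ₀
      rw [e1, e2] at h
      exact h) (A.map (algebraMap F₀ K))
  have h2 : (A.map (algebraMap F₀ K)).map ψ = A.map j := by
    ext x y
    rw [Matrix.map_apply, Matrix.map_apply, Matrix.map_apply]
    exact hψ _
  rw [h2] at h1
  exact h1

/-- **class transfer** -/
theorem pscm_iff_lift [Finite F] [Finite F₀] (hD : GFData σ j G P₀ P₁ c ζ₀)
    (hcard : Nat.card F = Nat.card F₀ ^ 2) (A : Matrix (MI k) (MI k) F₀) :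
    Cfsg.PreservesSingularClassesMinus k (1 : F₀) ζ₀ A ↔
      Cfsg.PreservesSingularClasses (⇑(plusQF m F)) (gfLift j P₀ P₁ A) := by
  rw [preserves_lift_iff hD]
  constructor
  · rintro ⟨K, _, _, hK, hpres⟩
    obtain ⟨ψ, hψ⟩ := exists_ringEquiv_of_quadratic j hcard K hK
    exact (preserves_ext_iff' j ζ₀ K ψ hψ A).mp hpres
  · intro h
    obtain ⟨K, instK, instA, hK, -⟩ := exists_quadratic_root_extension F₀ 1 ζ₀ hD.aniso
    obtain ⟨ψ, hψ⟩ := exists_ringEquiv_of_quadratic j hcard K hK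
    exact ⟨K, instK, instA, hK, (preserves_ext_iff' j ζ₀ K ψ hψ A).mpr h⟩

end main

end Cfsg.Agent.Lib.Helper43
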