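/-
helper43: the centraliser of the standard graph-field involution `x₁` in `Inndiag(PΩ⁺_{2m}(F))`
is the image of the class-preserving similarities of the elliptic form over the fixed field, and
is isomorphic to `Inndiag(PΩ⁻_{2m}(F₀))` (all characteristics).
-/
import Mathlib
import Cfsg.Agent.Lib.Helper43.PlusMinusClass
import Cfsg.Agent.Lib.Helper43.OSubfield
import Cfsg.Agent.Lib.Helper36.InndiagMinus
import Cfsg.Agent.Lib.Helper44.POmegaOrder

set_option autoImplicit false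

namespace Cfsg.Agent.Lib.Helper43

open scoped MatrixGroups Matrix
open Module Matrix Cfsg.Agent.Lib.Helper45.PSLField Cfsg.Agent.Lib.Helper36 Cfsg.Agent.Lib.Helper44
  Cfsg.Agent.S2168

variable {m k : ℕ} {F : Type*} [Field F] {F₀ : Type*} [Field F₀]

section lift

variable {σ : RingAut F} {j : F₀ →+* F} {G : Matrix (PI m) (PI m) F}
  {P₀ : Matrix (PI m) (MI k) F} {P₁ : Matrix (MI k) (PI m) F} {c : F} {ζ₀ : F₀}

/-- the lift on general linear groups -/
noncomputable def gfLiftGL (hD : GFData σ j G P₀ P₁ c ζ₀) : GL (MI k) F₀ →* GL (PI m) F where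
  toFun A := ⟨gfLift j P₀ P₁ (A : Matrix (MI k) (MI k) F₀),
    gfLift j P₀ P₁ ((A⁻¹ : GL (MI k) F₀) : Matrix (MI k) (MI k) F₀),
    by rw [← gfLift_mul hD, ← Units.val_mul, mul_inv_cancel, Units.val_one, gfLift_one hD],
    by rw [← gfLift_mul hD, ← Units.val_mul, inv_mul_cancel, Units.val_one, gfLift_one hD]⟩
  map_one' := by
    apply Units.ext
    show gfLift j P₀ P₁ ((1 : GL (MI k) F₀) : Matrix (MI k) (MI k) F₀) = 1
    rw [Units.val_one, gfLift_one hD]
  map_mul' A B := by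
    apply Units.ext
    show gfLift j P₀ P₁ ((A * B : GL (MI k) F₀) : Matrix (MI k) (MI k) F₀) = _
    rw [Units.val_mul, gfLift_mul hD]
    rfl

theorem gfLiftGL_coe (hD : GFData σ j G P₀ P₁ c ζ₀) (A : GL (MI k) F₀) :
    ((gfLiftGL hD A : GL (PI m) F) : Matrix (PI m) (PI m) F) =
      gfLift j P₀ P₁ (A : Matrix (MI k) (MI k) F₀) := rfl

theorem gfLiftGL_mem (hD : GFData σ j G P₀ P₁ c ζ₀) (A : GL (MI k) F₀)
    (hA : A ∈ Cfsg.Geo.quadSimilarityGroup (⇑(minusQF k F₀ 1 ζ₀))) :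
    gfLiftGL hD A ∈ Cfsg.Geo.quadSimilarityGroup (⇑(plusQF m F)) := by
  obtain ⟨μ, hμ⟩ := hA
  refine ⟨Units.map (j : F₀ →* F) μ, fun v => ?_⟩
  show plusQF m F (gfLift j P₀ P₁ (A : Matrix (MI k) (MI k) F₀) *ᵥ v) = j (μ : F₀) * plusQF m F v
  apply gfLift_sim hD _ (μ : F₀)
  intro w
  have := hμ w
  rw [minusQF_coe] at this
  exact this

/-- the lift on similarity groups -/
noncomputable def gfLiftSim (hD : GFData σ j G P₀ P₁ c ζ₀) :
    ↥(Cfsg.Geo.quadSimilarityGroup (⇑(minusQF k F₀ 1 ζ₀))) →*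
      ↥(Cfsg.Geo.quadSimilarityGroup (⇑(plusQF m F))) where
  toFun A := ⟨gfLiftGL hD A.1, gfLiftGL_mem hD A.1 A.2⟩
  map_one' := by
    apply Subtype.ext
    show gfLiftGL hD (1 : GL (MI k) F₀) = 1
    rw [map_one]
  map_mul' A B := by
    apply Subtype.ext
    show gfLiftGL hD (A.1 * B.1) = _
    rw [map_mul]
    rfl

theorem gfLiftSim_coe (hD : GFData σ j G P₀ P₁ c ζ₀)
    (A : ↥(Cfsg.Geo.quadSimilarityGroup (⇑(minusQF k F₀ 1 ζ₀)))) :
    (((gfLiftSim hD A : ↥(Cfsg.Geo.quadSimilarityGroup (⇑(plusQF m F)))) : GL (PI m) F) :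
      Matrix (PI m) (PI m) F) =
      gfLift j P₀ P₁ ((A : GL (MI k) F₀) : Matrix (MI k) (MI k) F₀) := rfl

/-- the even part of the similarity group over `F₀` -/
noncomputable def gfEvenSub (hD : GFData σ j G P₀ P₁ c ζ₀) :
    Subgroup ↥(Cfsg.Geo.quadSimilarityGroup (⇑(minusQF k F₀ 1 ζ₀))) where
  carrier := {A | plusEven ((gfLiftSim hD A : ↥(Cfsg.Geo.quadSimilarityGroup (⇑(plusQF m F)))) :
    GL (PI m) F)}
  one_mem' := by
    show plusEven ((gfLiftSim hD 1 : ↥(Cfsg.Geo.quadSimilarityGroup (⇑(plusQF m F)))) :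
      GL (PI m) F)
    rw [map_one]
    exact plusEven_one
  mul_mem' := by
    intro a b ha hb
    show plusEven ((gfLiftSim hD (a * b) : ↥(Cfsg.Geo.quadSimilarityGroup (⇑(plusQF m F)))) :
      GL (PI m) F)
    rw [map_mul, Subgroup.coe_mul, plusEven_mul _ _ (gfLiftSim hD a).2 (gfLiftSim hD b).2]
    exact ⟨fun _ => hb, fun _ => ha⟩
  inv_mem' := by
    intro a ha
    show plusEven ((gfLiftSim hD a⁻¹ : ↥(Cfsg.Geo.quadSimilarityGroup (⇑(plusQF m F)))) :
      GL (PI m) F)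
    rw [map_inv, Subgroup.coe_inv, plusEven_inv _ (gfLiftSim hD a).2]
    exact ha

theorem mem_gfEvenSub_iff (hD : GFData σ j G P₀ P₁ c ζ₀)
    (A : ↥(Cfsg.Geo.quadSimilarityGroup (⇑(minusQF k F₀ 1 ζ₀)))) :
    A ∈ gfEvenSub hD ↔
      plusEven ((gfLiftSim hD A : ↥(Cfsg.Geo.quadSimilarityGroup (⇑(plusQF m F)))) :
        GL (PI m) F) := Iff.rfl

/-- membership in the even part is the class-preserving property of the minus-type form -/
theorem mem_gfEvenSub_iff_pscm [Finite F] [Finite F₀] (hD : GFData σ j G P₀ P₁ c ζ₀)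
    (hcard : Nat.card F = Nat.card F₀ ^ 2)
    (A : ↥(Cfsg.Geo.quadSimilarityGroup (⇑(minusQF k F₀ 1 ζ₀)))) :
    A ∈ gfEvenSub hD ↔ Cfsg.PreservesSingularClassesMinus k (1 : F₀) ζ₀
      ((A : GL (MI k) F₀) : Matrix (MI k) (MI k) F₀) := by
  rw [mem_gfEvenSub_iff, pscm_iff_lift hD hcard,
    ← preserves_iff_plusEven _ (gfLiftSim hD A).2]
  rfl

end lift

section cent

variable [Fintype F]

theorem gl_coe_ne_zero' {ι : Type} [Fintype ι] [DecidableEq ι] [Nonempty ι] (u : GL ι F) :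
    (u : Matrix ι ι F) ≠ 0 := by
  intro h0
  have h1 : (u : Matrix ι ι F).det ≠ 0 :=
    ((Matrix.isUnit_iff_isUnit_det _).mp u.isUnit).ne_zero
  rw [h0, Matrix.det_zero] at h1
  exact h1 rfl

/-- commuting with the standard graph-field involution, in matrix terms -/
theorem comm_stdGF_iff (hm4 : 4 ≤ m) (hm : 1 ≤ m) (σ : RingAut F)
    (g : ↥(Cfsg.Geo.quadSimilarityGroup (⇑(plusQF m F)))) :
    stdGF hm σ * simAut (⇑(plusQF m F)) g = simAut (⇑(plusQF m F)) g * stdGF hm σ ↔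
      ∃ l : F, ((hypRefl (F := F) hm : GL (PI m) F) : Matrix (PI m) (PI m) F) *
        ((g : GL (PI m) F) : Matrix (PI m) (PI m) F).map σ =
        l • (((g : GL (PI m) F) : Matrix (PI m) (PI m) F) *
          ((hypRefl (F := F) hm : GL (PI m) F) : Matrix (PI m) (PI m) F)) := by
  haveI : Nonempty (PI m) := ⟨Sum.inl ⟨0, hm⟩⟩
  unfold stdGF
  have e1 : simAut (⇑(plusQF m F)) (hypRefl hm) * oField fieldCompat_plusQF σ *
      simAut (⇑(plusQF m F)) g =
      simAut (⇑(plusQF m F)) (hypRefl hm * simMap fieldCompat_plusQF σ g) *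
        oField fieldCompat_plusQF σ := by
    rw [mul_assoc, oField_mul_simAut, ← mul_assoc, ← map_mul]
  have e2 : simAut (⇑(plusQF m F)) g * (simAut (⇑(plusQF m F)) (hypRefl hm) *
      oField fieldCompat_plusQF σ) =
      simAut (⇑(plusQF m F)) (g * hypRefl hm) * oField fieldCompat_plusQF σ := by
    rw [← mul_assoc, ← map_mul]
  rw [e1, e2, mul_left_inj]
  have hcoe : (((hypRefl hm * simMap fieldCompat_plusQF σ g :
      ↥(Cfsg.Geo.quadSimilarityGroup (⇑(plusQF m F)))) : GL (PI m) F) :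
      Matrix (PI m) (PI m) F) =
      ((hypRefl (F := F) hm : GL (PI m) F) : Matrix (PI m) (PI m) F) *
        ((g : GL (PI m) F) : Matrix (PI m) (PI m) F).map σ := by
    rw [Subgroup.coe_mul, Units.val_mul, simMap_coe]
  have hcoe2 : (((g * hypRefl hm :
      ↥(Cfsg.Geo.quadSimilarityGroup (⇑(plusQF m F)))) : GL (PI m) F) :
      Matrix (PI m) (PI m) F) =
      ((g : GL (PI m) F) : Matrix (PI m) (PI m) F) *
      ((hypRefl (F := F) hm : GL (PI m) F) : Matrix (PI m) (PI m) F) := by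
    rw [Subgroup.coe_mul, Units.val_mul]
  constructor
  · intro h
    have h3 : simAut (⇑(plusQF m F)) ((g * hypRefl hm)⁻¹ *
        (hypRefl hm * simMap fieldCompat_plusQF σ g)) = 1 := by
      rw [map_mul, map_inv, h, inv_mul_cancel]
    obtain ⟨l, hl⟩ := (simAut_eq_one_iff_scalar (plusQF m F) (oKernelProp_plusQF hm4) _).mp h3
    refine ⟨l, ?_⟩
    have h5 : (((g * hypRefl hm : ↥(Cfsg.Geo.quadSimilarityGroup (⇑(plusQF m F)))) :
        GL (PI m) F) : Matrix (PI m) (PI m) F) *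
        ((((g * hypRefl hm)⁻¹ * (hypRefl hm * simMap fieldCompat_plusQF σ g) :
          ↥(Cfsg.Geo.quadSimilarityGroup (⇑(plusQF m F)))) : GL (PI m) F) :
          Matrix (PI m) (PI m) F) =
        (((hypRefl hm * simMap fieldCompat_plusQF σ g :
          ↥(Cfsg.Geo.quadSimilarityGroup (⇑(plusQF m F)))) : GL (PI m) F) :
          Matrix (PI m) (PI m) F) := by
      rw [← Units.val_mul, ← Subgroup.coe_mul, mul_inv_cancel_left]
    rw [← hcoe, ← h5, hl, Matrix.mul_smul, Matrix.mul_one, hcoe2]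
  · rintro ⟨l, hl⟩
    have hl0 : l ≠ 0 := by
      intro h0
      rw [h0, zero_smul, ← hcoe] at hl
      exact gl_coe_ne_zero' _ hl
    apply simAut_eq_of_smul (plusQF m F) (g * hypRefl hm)
      (hypRefl hm * simMap fieldCompat_plusQF σ g) l hl0
    rw [hcoe, hcoe2]
    exact hl

theorem exists_scalar_of_map {κ : Type} [Fintype κ] [DecidableEq κ] [Nonempty κ]
    (j : F₀ →+* F) (A' : Matrix κ κ F₀) (l : F) (hc : A'.map j = l • (1 : Matrix κ κ F)) :
    ∃ c₀ : F₀, A' = c₀ • (1 : Matrix κ κ F₀) := by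
  have hdiag : ∀ x, j (A' x x) = l := by
    intro x
    have := congrFun (congrFun hc x) x
    simpa using this
  have hoff : ∀ x y, x ≠ y → A' x y = 0 := by
    intro x y hxy
    have := congrFun (congrFun hc x) y
    rw [Matrix.map_apply, Matrix.smul_apply, Matrix.one_apply_ne hxy, smul_zero] at this
    exact (map_eq_zero j).mp this
  obtain ⟨x₀⟩ := ‹Nonempty κ›
  refine ⟨A' x₀ x₀, ?_⟩
  ext x y
  by_cases hxy : x = y
  · subst hxy
    rw [Matrix.smul_apply, Matrix.one_apply_eq, smul_eq_mul, mul_one]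
    apply j.injective
    rw [hdiag, hdiag]
  · rw [Matrix.smul_apply, Matrix.one_apply_ne hxy, smul_zero]
    exact hoff x y hxy

variable {σ : RingAut F} {j : F₀ →+* F}
  {P₀ : Matrix (PI m) (MI k) F} {P₁ : Matrix (MI k) (PI m) F} {c : F} {ζ₀ : F₀}

/-- the kernel of `A ↦ [P₀ A^j P₁]` -/
theorem simAut_gfLiftSim_eq_one_iff (hm4 : 4 ≤ m) (hm : 1 ≤ m)
    (hD : GFData σ j ((hypRefl (F := F) hm : GL (PI m) F) : Matrix (PI m) (PI m) F) P₀ P₁ c ζ₀)
    (A : ↥(Cfsg.Geo.quadSimilarityGroup (⇑(minusQF k F₀ 1 ζ₀)))) :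
    simAut (⇑(plusQF m F)) (gfLiftSim hD A) = 1 ↔
      ∃ c₀ : F₀, ((A : GL (MI k) F₀) : Matrix (MI k) (MI k) F₀) = c₀ • 1 := by
  haveI : Nonempty (MI k) := ⟨Sum.inr 0⟩
  rw [simAut_eq_one_iff_scalar (plusQF m F) (oKernelProp_plusQF hm4), gfLiftSim_coe]
  set A' : Matrix (MI k) (MI k) F₀ := ((A : GL (MI k) F₀) : Matrix (MI k) (MI k) F₀) with hA'
  constructor
  · rintro ⟨l, hl⟩
    apply exists_scalar_of_map j A' l
    unfold gfLift at hl
    calc A'.map j = (P₁ * P₀) * A'.map j * (P₁ * P₀) := by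
          rw [hD.right, Matrix.one_mul, Matrix.mul_one]
      _ = P₁ * (P₀ * A'.map j * P₁) * P₀ := by simp only [Matrix.mul_assoc]
      _ = l • (1 : Matrix (MI k) (MI k) F) := by
          rw [hl, Matrix.mul_smul, Matrix.mul_one, Matrix.smul_mul, hD.right]
  · rintro ⟨c₀, hc₀⟩
    refine ⟨j c₀, ?_⟩
    rw [hc₀, gfLift_smul, gfLift_one hD]

/-- **the centraliser of `x₁` in the inner-diagonal group** -/
theorem mem_inndiag_centralizer_iff (hm4 : 4 ≤ m) (hm : 1 ≤ m) (hσ : orderOf σ = 2)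
    (hD : GFData σ j ((hypRefl (F := F) hm : GL (PI m) F) : Matrix (PI m) (PI m) F) P₀ P₁ c ζ₀)
    (β : MulAut (Cfsg.POmega F (⇑(plusQF m F)))) :
    β ∈ inndiagPlusQ m F ⊓ Subgroup.centralizer {stdGF hm σ} ↔
      ∃ A : ↥(Cfsg.Geo.quadSimilarityGroup (⇑(minusQF k F₀ 1 ζ₀))), A ∈ gfEvenSub hD ∧
        simAut (⇑(plusQF m F)) (gfLiftSim hD A) = β := by
  haveI : Nonempty (PI m) := ⟨Sum.inl ⟨0, hm⟩⟩
  rw [Subgroup.mem_inf]
  constructor
  · rintro ⟨hβ1, hβ2⟩
    obtain ⟨g, hgE, rfl⟩ := (mem_inndiagPlusQ_iff β).mp hβ1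
    have hc := (Subgroup.mem_centralizer_iff.mp hβ2) _ rfl
    obtain ⟨l, hl⟩ := (comm_stdGF_iff hm4 hm σ g).mp hc
    set Gm : Matrix (PI m) (PI m) F :=
      ((hypRefl (F := F) hm : GL (PI m) F) : Matrix (PI m) (PI m) F) with hGm
    set gM : Matrix (PI m) (PI m) F := ((g : GL (PI m) F) : Matrix (PI m) (PI m) F) with hgM
    set B : Matrix (MI k) (MI k) F := P₁ * gM * P₀ with hB
    have hBσ : B.map σ = l • B := by
      have h1 : B.map σ = P₁.map σ * gM.map σ * P₀.map σ := by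
        have e1 : (P₁ * gM * P₀).map σ = (P₁ * gM).map σ * P₀.map σ :=
          Matrix.map_mul (f := (σ : F →+* F))
        have e2 : (P₁ * gM).map σ = P₁.map σ * gM.map σ := Matrix.map_mul (f := (σ : F →+* F))
        rw [hB, e1, e2]
      rw [h1, hD.map_P₁, hD.map_P₀]
      calc P₁ * Gm * gM.map σ * (Gm * P₀) = P₁ * (Gm * gM.map σ) * Gm * P₀ := by
            simp only [Matrix.mul_assoc]
        _ = l • (P₁ * gM * (Gm * Gm) * P₀) := by
            rw [hl]
            simp only [Matrix.mul_assoc, Matrix.mul_smul, Matrix.smul_mul]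
        _ = l • B := by rw [hD.invol, Matrix.mul_one]
    have hB0 : B ≠ 0 := by
      intro h0
      have h1 : gM = P₀ * B * P₁ := by
        rw [hB]
        calc gM = (P₀ * P₁) * gM * (P₀ * P₁) := by
              rw [hD.left, Matrix.one_mul, Matrix.mul_one]
          _ = P₀ * (P₁ * gM * P₀) * P₁ := by simp only [Matrix.mul_assoc]
      rw [h0, Matrix.mul_zero, Matrix.zero_mul] at h1
      exact gl_coe_ne_zero' _ h1
    obtain ⟨b, hb0, hb⟩ := exists_fixed_multiple σ two_pos hσ B hB0 l hBσ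
    have hbl : σ b * l = b := by
      obtain ⟨x, y, hxy⟩ : ∃ x y, B x y ≠ 0 := by
        by_contra hh
        push Not at hh
        apply hB0
        ext x y
        exact hh x y
      have h1 := congrFun (congrFun hb x) y
      have h2 := congrFun (congrFun hBσ x) y
      rw [Matrix.map_apply, Matrix.smul_apply, smul_eq_mul] at h1 h2
      rw [map_mul, h2] at h1
      have h3 : (σ b * l) * B x y = b * B x y := by rw [← h1]; ring
      exact mul_right_cancel₀ hxy h3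
    set g₂ : Matrix (PI m) (PI m) F := b • gM with hg₂
    have hsemi : Gm * g₂.map σ = g₂ * Gm := by
      have h1 : g₂.map σ = σ b • gM.map σ := by
        ext x y
        simp [hg₂]
      rw [h1, Matrix.mul_smul, hl, smul_smul, hbl, hg₂, Matrix.smul_mul]
    obtain ⟨a, ha, hag⟩ := exists_of_semi hD g₂ hsemi
    obtain ⟨μ, hμ⟩ := g.2
    have hg₂sim : ∀ v, plusQF m F (g₂ *ᵥ v) = (b * b * (μ : F)) * plusQF m F v := by
      intro v
      rw [hg₂, Matrix.smul_mulVec, QuadraticMap.map_smul, smul_eq_mul]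
      have := hμ v
      rw [hgM, this]
      ring
    obtain ⟨ν, hν, haν⟩ := sim_of_semi hD g₂ a ha (b * b * (μ : F)) hg₂sim
    have hν0 : ν ≠ 0 := by
      intro h0
      rw [h0, map_zero] at hν
      exact (mul_ne_zero (mul_ne_zero hb0 hb0) μ.ne_zero) hν.symm
    have hdet : a.det ≠ 0 := by
      intro h0
      have h1 : (a.map j).det = 0 := by
        have h2 := RingHom.map_det j a
        rw [h0, map_zero] at h2
        rw [RingHom.mapMatrix_apply] at h2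
        exact h2.symm
      have h2 : a.map j * (P₁ * (b⁻¹ • ((↑(g : GL (PI m) F)⁻¹ : GL (PI m) F) :
          Matrix (PI m) (PI m) F)) * P₀) = 1 := by
        rw [ha, hg₂]
        calc P₁ * (b • gM) * P₀ * (P₁ * (b⁻¹ • ((↑(g : GL (PI m) F)⁻¹ : GL (PI m) F) :
              Matrix (PI m) (PI m) F)) * P₀)
            = P₁ * (b • gM) * (P₀ * P₁) * (b⁻¹ • ((↑(g : GL (PI m) F)⁻¹ : GL (PI m) F) :
              Matrix (PI m) (PI m) F)) * P₀ := by simp only [Matrix.mul_assoc]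
          _ = P₁ * ((b • gM) * (b⁻¹ • ((↑(g : GL (PI m) F)⁻¹ : GL (PI m) F) :
              Matrix (PI m) (PI m) F))) * P₀ := by
              rw [hD.left, Matrix.mul_one]
              simp only [Matrix.mul_assoc]
          _ = 1 := by
              have h5 : (b • gM) * (b⁻¹ • ((↑(g : GL (PI m) F)⁻¹ : GL (PI m) F) :
                  Matrix (PI m) (PI m) F)) = 1 := by
                rw [Matrix.smul_mul, Matrix.mul_smul, smul_smul, mul_inv_cancel₀ hb0, one_smul, hgM,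
                  ← Units.val_mul, mul_inv_cancel, Units.val_one]
              rw [h5, Matrix.mul_one, hD.right]
      have h3 := congrArg Matrix.det h2
      rw [Matrix.det_mul, h1, zero_mul, Matrix.det_one] at h3
      exact zero_ne_one h3
    set A : ↥(Cfsg.Geo.quadSimilarityGroup (⇑(minusQF k F₀ 1 ζ₀))) :=
      ⟨Matrix.GeneralLinearGroup.mkOfDetNeZero a hdet, ⟨Units.mk0 ν hν0, fun v => by
        rw [minusQF_coe]
        exact haν v⟩⟩ with hA
    have hAcoe : (((gfLiftSim hD A : ↥(Cfsg.Geo.quadSimilarityGroup (⇑(plusQF m F)))) :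
        GL (PI m) F) : Matrix (PI m) (PI m) F) = b • gM := by
      rw [gfLiftSim_coe]
      exact hag
    obtain ⟨sb, hsb⟩ := exists_scalar_quadSim (plusQF m F) b hb0
    have hAeq : gfLiftSim hD A = sb * g := by
      apply Subtype.ext
      apply Units.ext
      rw [hAcoe, Subgroup.coe_mul, Units.val_mul, hsb, Matrix.smul_mul, Matrix.one_mul]
    refine ⟨A, ?_, ?_⟩
    · rw [mem_gfEvenSub_iff, hAeq]
      exact (plusEven_scalar_mul sb g b hb0 hsb).mpr hgE
    · exact simAut_eq_of_smul (plusQF m F) g (gfLiftSim hD A) b hb0 hAcoe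
  · rintro ⟨A, hA, rfl⟩
    refine ⟨(mem_inndiagPlusQ_iff _).mpr ⟨gfLiftSim hD A, hA, rfl⟩, ?_⟩
    rw [Subgroup.mem_centralizer_iff]
    intro h hh
    rw [Set.mem_singleton_iff] at hh
    subst hh
    apply (comm_stdGF_iff hm4 hm σ _).mpr
    refine ⟨1, ?_⟩
    rw [one_smul, gfLiftSim_coe]
    exact gfLift_semi hD _

end cent

section iso

variable [Fintype F] [Fintype F₀]

/-- the kernel of the action of the similarity group of the minus-type form -/
theorem minus_simAut_eq_one_iff (ζ₀ : F₀) (hk : 7 ≤ Fintype.card (MI k))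
    (hani : ∀ z₁ z₂ : F₀, z₁ ^ 2 + 1 * z₁ * z₂ + ζ₀ * z₂ ^ 2 = 0 → z₁ = 0 ∧ z₂ = 0)
    (A : ↥(Cfsg.Geo.quadSimilarityGroup (⇑(minusQF k F₀ 1 ζ₀)))) :
    simAut (⇑(minusQF k F₀ 1 ζ₀)) A = 1 ↔
      ∃ c₀ : F₀, ((A : GL (MI k) F₀) : Matrix (MI k) (MI k) F₀) = c₀ • 1 := by
  classical
  constructor
  · intro h
    have hp : Cfsg.IsSemisimilarityPair (⇑(minusQF k F₀ 1 ζ₀)) (A : GL (MI k) F₀)
        (RingEquiv.refl F₀) := by
      obtain ⟨μ, hμ⟩ := A.2
      exact ⟨μ, fun v => hμ v⟩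
    have hi : Cfsg.IsInducedBySemilinearPOmega (⇑(minusQF k F₀ 1 ζ₀)) (A : GL (MI k) F₀)
        (RingEquiv.refl F₀) 1 := (isInduced_iff _ A 1).mpr h.symm
    obtain ⟨-, l, -, hl⟩ := AutO.pair_faithful (minusQF k F₀ 1 ζ₀)
      (minusQF_nondeg_of_aniso k 1 ζ₀ hani) hk _ _ hp hi
    exact ⟨l, matrix_eq_smul_one_of_mulVec _ l hl⟩
  · rintro ⟨c₀, hc₀⟩
    exact simAut_eq_one_of_scalar _ A c₀ hc₀

variable {σ : RingAut F} {j : F₀ →+* F} {G : Matrix (PI m) (PI m) F}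
  {P₀ : Matrix (PI m) (MI k) F} {P₁ : Matrix (MI k) (PI m) F} {c : F} {ζ₀ : F₀}

/-- the inner-diagonal group of the minus-type group is the image of the even part -/
theorem inndiagMinusOf_eq_range (hD : GFData σ j G P₀ P₁ c ζ₀)
    (hcard : Nat.card F = Nat.card F₀ ^ 2) :
    inndiagMinusOf k (1 : F₀) ζ₀ (⇑(minusQF k F₀ 1 ζ₀)) =
      ((simAut (⇑(minusQF k F₀ 1 ζ₀))).domRestrict (gfEvenSub hD)).range := by
  unfold inndiagMinusOf Cfsg.autSubgroupOf
  have hset : {β : MulAut (Cfsg.POmega F₀ (⇑(minusQF k F₀ 1 ζ₀))) |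
      ∃ g : GL ((Fin k ⊕ Fin k) ⊕ Fin 2) F₀,
        g ∈ Cfsg.Geo.quadSimilarityGroup (⇑(minusQF k F₀ 1 ζ₀)) ∧
        Cfsg.PreservesSingularClassesMinus k 1 ζ₀
          (g : Matrix ((Fin k ⊕ Fin k) ⊕ Fin 2) ((Fin k ⊕ Fin k) ⊕ Fin 2) F₀) ∧
        Cfsg.IsInducedBySemilinearPOmega (⇑(minusQF k F₀ 1 ζ₀)) g (RingEquiv.refl F₀) β} =
      ((((simAut (⇑(minusQF k F₀ 1 ζ₀))).domRestrict (gfEvenSub hD)).range :
        Subgroup (MulAut (Cfsg.POmega F₀ (⇑(minusQF k F₀ 1 ζ₀))))) :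
        Set (MulAut (Cfsg.POmega F₀ (⇑(minusQF k F₀ 1 ζ₀))))) := by
    ext β
    constructor
    · rintro ⟨g, hg, hpres, hind⟩
      have h1 : (⟨g, hg⟩ : ↥(Cfsg.Geo.quadSimilarityGroup (⇑(minusQF k F₀ 1 ζ₀)))) ∈
          gfEvenSub hD := (mem_gfEvenSub_iff_pscm hD hcard _).mpr hpres
      refine ⟨⟨⟨g, hg⟩, h1⟩, ?_⟩
      rw [MonoidHom.domRestrict_apply]
      exact ((isInduced_iff _ ⟨g, hg⟩ β).mp hind).symm
    · rintro ⟨⟨A, hA⟩, rfl⟩
      refine ⟨A.1, A.2, (mem_gfEvenSub_iff_pscm hD hcard A).mp hA, ?_⟩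
      rw [MonoidHom.domRestrict_apply]
      exact (isInduced_iff _ A _).mpr rfl
  rw [hset, Subgroup.closure_eq]

/-- **`C_{Inndiag(PΩ⁺_{2m}(F))}(x₁) ≅ Inndiag(PΩ⁻_{2m}(F₀))`** -/
theorem nonempty_centralizer_stdGF_equiv (hm4 : 4 ≤ m) (hm : 1 ≤ m) (hσ : orderOf σ = 2)
    (hD : GFData σ j ((hypRefl (F := F) hm : GL (PI m) F) : Matrix (PI m) (PI m) F) P₀ P₁ c ζ₀)
    (hcard : Nat.card F = Nat.card F₀ ^ 2) (hk : 7 ≤ Fintype.card (MI k)) :
    Nonempty (↥(inndiagPlusQ m F ⊓ Subgroup.centralizer {stdGF hm σ}) ≃*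
      ↥(inndiagMinusOf k (1 : F₀) ζ₀ (⇑(minusQF k F₀ 1 ζ₀)))) := by
  set Φ : ↥(gfEvenSub hD) →* MulAut (Cfsg.POmega F (⇑(plusQF m F))) :=
    ((simAut (⇑(plusQF m F))).comp (gfLiftSim hD)).domRestrict (gfEvenSub hD) with hΦ
  set Ψ : ↥(gfEvenSub hD) →* MulAut (Cfsg.POmega F₀ (⇑(minusQF k F₀ 1 ζ₀))) :=
    (simAut (⇑(minusQF k F₀ 1 ζ₀))).domRestrict (gfEvenSub hD) with hΨ
  have h1 : inndiagPlusQ m F ⊓ Subgroup.centralizer {stdGF hm σ} = Φ.range := by
    ext β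
    rw [mem_inndiag_centralizer_iff hm4 hm hσ hD]
    constructor
    · rintro ⟨A, hA, rfl⟩
      exact ⟨⟨A, hA⟩, rfl⟩
    · rintro ⟨⟨A, hA⟩, rfl⟩
      exact ⟨A, hA, rfl⟩
  have h3 : Φ.ker = Ψ.ker := by
    ext A
    rw [MonoidHom.mem_ker, MonoidHom.mem_ker, hΦ, hΨ, MonoidHom.domRestrict_apply,
      MonoidHom.domRestrict_apply, MonoidHom.comp_apply,
      simAut_gfLiftSim_eq_one_iff hm4 hm hD, minus_simAut_eq_one_iff ζ₀ hk hD.aniso]
  have h4 : inndiagMinusOf k (1 : F₀) ζ₀ (⇑(minusQF k F₀ 1 ζ₀)) = Ψ.range :=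
    inndiagMinusOf_eq_range hD hcard
  exact ⟨(MulEquiv.subgroupCongr h1).trans
    ((QuotientGroup.quotientKerEquivRange Φ).symm.trans
      ((QuotientGroup.quotientMulEquivOfEq h3).trans
        ((QuotientGroup.quotientKerEquivRange Ψ).trans
          (MulEquiv.subgroupCongr h4.symm))))⟩

end iso

end Cfsg.Agent.Lib.Helper43
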