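/-
helper43: (odd characteristic) the lift `P₀ A^j P₁` of an isometry `A` of the elliptic form over
the fixed field `F₀` is an isometry of the hyperbolic form over `F` with trivial spinor norm.
-/
import Mathlib
import Cfsg.Agent.Lib.Helper43.PlusGFCent
import Cfsg.Agent.Lib.Helper43.OSpin2
import Cfsg.Agent.Lib.Helper43.OSquares

set_option autoImplicit false

namespace Cfsg.Agent.Lib.Helper43

open scoped MatrixGroups Matrix
open Module Matrix Cfsg.Agent.Lib.Helper45.PSLField Cfsg.Agent.Lib.Helper36 Cfsg.Agent.Lib.Helper44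
  Cfsg.Agent.S2168
open Cfsg.Agent.Lib.Helper13 (rvec rvec_mulVec spin spin_one spin_refl reflGroup
  isoGroup_le_reflGroup exists_ne_ne_of_two_ne_zero)

variable {m k : ℕ} {F : Type*} [Field F] {F₀ : Type*} [Field F₀]

section fixed

variable {σ : RingAut F} {j : F₀ →+* F} {G : Matrix (PI m) (PI m) F}
  {P₀ : Matrix (PI m) (MI k) F} {P₁ : Matrix (MI k) (PI m) F} {c : F} {ζ₀ : F₀}

/-- the image of a rational vector is fixed by `v ↦ G σ(v)` -/
theorem GFData.fixed_vec (hD : GFData σ j G P₀ P₁ c ζ₀) (v : MI k → F₀) :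
    G *ᵥ vmap σ (P₀ *ᵥ rvec j v) = P₀ *ᵥ rvec j v := by
  have hj : ∀ a, σ (j a) = j a := fun a => (hD.fix (j a)).mpr ⟨a, rfl⟩
  have h1 : vmap σ (P₀ *ᵥ rvec j v) = P₀.map σ *ᵥ rvec j v := by
    funext x
    have := RingHom.map_mulVec (σ : F →+* F) P₀ (rvec j v) x
    rw [show vmap σ (P₀ *ᵥ rvec j v) x = (σ : F →+* F) ((P₀ *ᵥ rvec j v) x) from rfl, this]
    congr 1
    funext y
    exact hj _
  rw [h1, Matrix.mulVec_mulVec, hD.semi]

/-- the values of the hyperbolic form on the image of the rational vectors are rational -/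
theorem GFData.form_fixed (hD : GFData σ j G P₀ P₁ c ζ₀)
    (hG : ∀ z, plusQF m F (G *ᵥ z) = plusQF m F z) (v : MI k → F₀) :
    σ (plusQF m F (P₀ *ᵥ rvec j v)) = plusQF m F (P₀ *ᵥ rvec j v) := by
  have h1 := fieldCompat_plusQF (m := m) (F := F) σ (P₀ *ᵥ rvec j v)
  rw [← h1, ← hG (vmap σ _), hD.fixed_vec]

/-- the scalar `c` is rational -/
theorem GFData.c_mem (hD : GFData σ j G P₀ P₁ c ζ₀)
    (hG : ∀ z, plusQF m F (G *ᵥ z) = plusQF m F z) : ∃ c₀ : F₀, j c₀ = c := by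
  apply (hD.fix c).mp
  have h1 := hD.form_fixed hG (Pi.single (Sum.inr 0) 1)
  have h2 : plusQF m F (P₀ *ᵥ rvec j (Pi.single (Sum.inr 0) (1 : F₀))) = c := by
    rw [hD.form]
    have h3 := minus_compat (k := k) (F := F) j ζ₀ (Pi.single (Sum.inr 0) 1)
    rw [minusQF_coe] at h3
    rw [h3, quadFormMinus_single_z', map_one, mul_one]
  rw [h2] at h1
  exact h1

/-- polar form of the transported form -/
theorem GFData.polar (hD : GFData σ j G P₀ P₁ c ζ₀) (a b : MI k → F) :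
    QuadraticMap.polar (⇑(plusQF m F)) (P₀ *ᵥ a) (P₀ *ᵥ b) =
      c * QuadraticMap.polar (Cfsg.quadFormMinus k F 1 (j ζ₀)) a b := by
  unfold QuadraticMap.polar
  rw [← Matrix.mulVec_add, hD.form, hD.form, hD.form]
  ring

/-- the lift of a reflection is a reflection -/
theorem gfLift_reflection (hD : GFData σ j G P₀ P₁ c ζ₀) (v : MI k → F₀)
    (hv : Cfsg.quadFormMinus k F₀ 1 ζ₀ v ≠ 0) :
    gfLift j P₀ P₁ (Cfsg.reflectionMatrix (Cfsg.quadFormMinus k F₀ 1 ζ₀) v) =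
      Cfsg.reflectionMatrix (⇑(plusQF m F)) (P₀ *ᵥ rvec j v) := by
  have hcompat : ∀ u : MI k → F₀, Cfsg.quadFormMinus k F 1 (j ζ₀) (fun i => j (u i)) =
      j (Cfsg.quadFormMinus k F₀ 1 ζ₀ u) := by
    intro u
    have h3 := minus_compat (k := k) (F := F) j ζ₀ u
    rw [minusQF_coe] at h3
    exact h3
  have hmap := reflectionMatrix_map j (Cfsg.quadFormMinus k F₀ 1 ζ₀)
    (Cfsg.quadFormMinus k F 1 (j ζ₀)) hcompat v
  have hMv : Cfsg.quadFormMinus k F 1 (j ζ₀) (rvec j v) ≠ 0 := by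
    have := hcompat v
    show Cfsg.quadFormMinus k F 1 (j ζ₀) (fun i => j (v i)) ≠ 0
    rw [this]
    exact (map_ne_zero j).mpr hv
  apply matrix_eq_of_mulVec
  intro z
  unfold gfLift
  rw [hmap]
  have hz : z = P₀ *ᵥ (P₁ *ᵥ z) := by
    rw [Matrix.mulVec_mulVec, hD.left, Matrix.one_mulVec]
  rw [← Matrix.mulVec_mulVec, ← Matrix.mulVec_mulVec,
    Cfsg.Agent.Lib.Helper13.reflectionMatrix_mulVec (plusQF m F)]
  have h5 : Cfsg.reflectionMatrix (Cfsg.quadFormMinus k F 1 (j ζ₀)) (fun i => j (v i)) *ᵥ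
      (P₁ *ᵥ z) = (P₁ *ᵥ z) - ((Cfsg.quadFormMinus k F 1 (j ζ₀) (rvec j v))⁻¹ *
        QuadraticMap.polar (Cfsg.quadFormMinus k F 1 (j ζ₀)) (rvec j v) (P₁ *ᵥ z)) • rvec j v := by
    have := Cfsg.Agent.Lib.Helper13.reflectionMatrix_mulVec (minusQF k F 1 (j ζ₀)) (rvec j v)
      (P₁ *ᵥ z)
    rw [minusQF_coe] at this
    exact this
  rw [h5, Matrix.mulVec_sub, Matrix.mulVec_smul, ← hz]
  congr 2
  conv_rhs => rw [hz]
  rw [hD.polar, hD.form]
  have hc := hD.ne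
  field_simp

end fixed

section spin

variable [Fintype F] [DecidableEq F] [Fintype F₀] [DecidableEq F₀]
  {σ : RingAut F} {j : F₀ →+* F} {G : Matrix (PI m) (PI m) F}
  {P₀ : Matrix (PI m) (MI k) F} {P₁ : Matrix (MI k) (PI m) F} {c : F} {ζ₀ : F₀}

/-- the subgroup of matrices over `F₀` whose lifts are isometries of trivial spinor norm -/
noncomputable def gfSpinTrivSub (hD : GFData σ j G P₀ P₁ c ζ₀) (h2 : (2 : F) ≠ 0) :
    Subgroup (GL (MI k) F₀) where
  carrier := {A | gfLiftGL hD A ∈ Cfsg.isometryGroup F (⇑(plusQF m F)) ∧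
    spin (plusQF m F) (glLinEquiv (PI m) F (gfLiftGL hD A)) = 1}
  one_mem' := by
    refine ⟨?_, ?_⟩
    · rw [map_one]; exact Subgroup.one_mem _
    · rw [map_one, map_one]; exact spin_one _
  mul_mem' := by
    rintro a b ⟨ha1, ha2⟩ ⟨hb1, hb2⟩
    refine ⟨?_, ?_⟩
    · rw [map_mul]; exact Subgroup.mul_mem _ ha1 hb1
    · rw [map_mul, spin_mul_matrix (plusQF m F) (plusQF_nondeg m F) h2 _ _ ha1 hb1, ha2, hb2,
        mul_one]
  inv_mem' := by
    rintro a ⟨ha1, ha2⟩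
    have hinv : gfLiftGL hD a⁻¹ ∈ Cfsg.isometryGroup F (⇑(plusQF m F)) := by
      rw [map_inv]; exact Subgroup.inv_mem _ ha1
    refine ⟨hinv, ?_⟩
    have h1 := spin_mul_matrix (plusQF m F) (plusQF_nondeg m F) h2 _ _ ha1 hinv
    rw [← map_mul, mul_inv_cancel, map_one, map_one, spin_one, ha2, one_mul] at h1
    exact h1.symm

/-- **lifts of isometries over `F₀` have trivial spinor norm** -/
theorem gfLift_spin_eq_one (hD : GFData σ j G P₀ P₁ c ζ₀)
    (hG : ∀ z, plusQF m F (G *ᵥ z) = plusQF m F z)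
    (hcard : Fintype.card F = Fintype.card F₀ ^ 2) (h2 : (2 : F) ≠ 0)
    (A : GL (MI k) F₀) (hA : A ∈ Cfsg.isometryGroup F₀ (⇑(minusQF k F₀ 1 ζ₀))) :
    gfLiftGL hD A ∈ Cfsg.isometryGroup F (⇑(plusQF m F)) ∧
      spin (plusQF m F) (glLinEquiv (PI m) F (gfLiftGL hD A)) = 1 := by
  have h2₀ : (2 : F₀) ≠ 0 := two_ne_zero_of_hom j h2
  have hF₀ : (∀ a b : F₀, ∃ x : F₀, x ≠ a ∧ x ≠ b) ∨
      Module.finrank F₀ (MI k → F₀) ≠ 4 := Or.inl (exists_ne_ne_of_two_ne_zero h2₀)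
  have hQ₀ := minusQF_nondeg_of_aniso k (1 : F₀) ζ₀ hD.aniso
  obtain ⟨c₀, hc₀⟩ := hD.c_mem hG
  have hle : reflGroup (minusQF k F₀ 1 ζ₀) ≤ (gfSpinTrivSub hD h2).map
      ((glLinEquiv (MI k) F₀ : GL (MI k) F₀ ≃* _) :
        GL (MI k) F₀ →* ((MI k → F₀) ≃ₗ[F₀] (MI k → F₀))) := by
    unfold Cfsg.Agent.Lib.Helper13.reflGroup
    rw [Subgroup.closure_le]
    rintro T ⟨v, hv, hT⟩
    refine ⟨(glLinEquiv (MI k) F₀).symm T, ?_, ?_⟩
    · have hmat : (((glLinEquiv (MI k) F₀).symm T : GL (MI k) F₀) :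
          Matrix (MI k) (MI k) F₀) = Cfsg.reflectionMatrix (⇑(minusQF k F₀ 1 ζ₀)) v := by
        apply matrix_eq_of_mulVec
        intro z
        rw [← glLinEquiv_apply, MulEquiv.apply_symm_apply, hT, reflectionMatrix_mulVec_eq_reflLin]
      have hv' : Cfsg.quadFormMinus k F₀ 1 ζ₀ v ≠ 0 := by
        rw [← minusQF_coe]; exact hv
      set w : PI m → F := P₀ *ᵥ rvec j v with hw
      have hQw : plusQF m F w = j (c₀ * Cfsg.quadFormMinus k F₀ 1 ζ₀ v) := by
        rw [hw, hD.form, map_mul, hc₀]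
        have h3 := minus_compat (k := k) (F := F) j ζ₀ v
        rw [minusQF_coe] at h3
        rw [h3]
      have hc₀0 : c₀ ≠ 0 := by
        intro h0
        rw [h0, map_zero] at hc₀
        exact hD.ne hc₀.symm
      have hw0 : plusQF m F w ≠ 0 := by
        rw [hQw]
        exact (map_ne_zero j).mpr (mul_ne_zero hc₀0 hv')
      obtain ⟨g, hgO, hg⟩ := exists_reflection_similarity (plusQF m F) w hw0
      have hmap : gfLiftGL hD ((glLinEquiv (MI k) F₀).symm T) = (g : GL (PI m) F) := by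
        apply Units.ext
        rw [hg, gfLiftGL_coe, hmat, minusQF_coe]
        exact gfLift_reflection hD v hv'
      show (glLinEquiv (MI k) F₀).symm T ∈ gfSpinTrivSub hD h2
      show gfLiftGL hD ((glLinEquiv (MI k) F₀).symm T) ∈ _ ∧ _
      rw [hmap]
      refine ⟨hgO, ?_⟩
      rw [spin_refl (plusQF m F) (plusQF_nondeg m F) w hw0 (glLinEquiv (PI m) F (g : GL (PI m) F))
        (fun z => by rw [glLinEquiv_apply, hg, reflectionMatrix_mulVec_eq_reflLin]), hQw]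
      rw [quadraticChar_one_iff_isSquare ((map_ne_zero j).mpr (mul_ne_zero hc₀0 hv'))]
      exact isSquare_of_card_sq j hcard h2 _
    · exact MulEquiv.apply_symm_apply _ T
  have hmem : glLinEquiv (MI k) F₀ A ∈ reflGroup (minusQF k F₀ 1 ζ₀) :=
    isoGroup_le_reflGroup (minusQF k F₀ 1 ζ₀) hQ₀ hF₀
      ((mem_isometryGroup_iff_isoGroup (minusQF k F₀ 1 ζ₀) A).mp hA)
  obtain ⟨A', hA', hAA'⟩ := hle hmem
  have : A' = A := (glLinEquiv (MI k) F₀).injective hAA'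
  rw [this] at hA'
  exact hA'

end spin

end Cfsg.Agent.Lib.Helper43
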