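/-
helper43: odd characteristic: the lifts of the even similarities of the elliptic form over `F₀`
induce elements of `PSO`; those with square multiplier induce inner automorphisms; equivariant
similarities are lifts.
-/
import Mathlib
import Cfsg.Agent.Lib.Helper43.PlusGFSpin
import Cfsg.Agent.Lib.Helper43.PlusGFOdd1

set_option autoImplicit false

namespace Cfsg.Agent.Lib.Helper43

open scoped MatrixGroups Matrix
open Module Matrix Cfsg.Agent.Lib.Helper45.PSLField Cfsg.Agent.Lib.Helper36 Cfsg.Agent.Lib.Helper44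
  Cfsg.Agent.S2168
open Cfsg.Agent.Lib.Helper13 (rvec spin)

variable {m k : ℕ} {F : Type*} [Field F] {F₀ : Type*} [Field F₀]
  [Fintype F] [DecidableEq F] [Fintype F₀] [DecidableEq F₀]

omit [Fintype F] [DecidableEq F] [Fintype F₀] [DecidableEq F₀] [Field F] in
theorem minusQF_apply' (ζ₀ : F₀) (w : MI k → F₀) :
    minusQF k F₀ 1 ζ₀ w = Cfsg.quadFormMinus k F₀ 1 ζ₀ w :=
  congrFun (minusQF_coe k F₀ 1 ζ₀) w

theorem hypRefl_isom (hm : 1 ≤ m) (z : PI m → F) :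
    plusQF m F (((hypRefl (F := F) hm : GL (PI m) F) : Matrix (PI m) (PI m) F) *ᵥ z) =
      plusQF m F z := by
  rw [hypRefl_coe, reflectionMatrix_mulVec_eq_reflLin]
  exact Cfsg.Agent.Lib.Helper13.reflLin_isom _ _ (hypVec_ne hm) z

variable {σ : RingAut F} {j : F₀ →+* F}
  {P₀ : Matrix (PI m) (MI k) F} {P₁ : Matrix (MI k) (PI m) F} {c : F} {ζ₀ : F₀}

/-- equivariant similarities are lifts of similarities over `F₀` -/
theorem exists_lift_of_semi (hm : 1 ≤ m)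
    (hD : GFData σ j ((hypRefl (F := F) hm : GL (PI m) F) : Matrix (PI m) (PI m) F) P₀ P₁ c ζ₀)
    (g : ↥(Cfsg.Geo.quadSimilarityGroup (⇑(plusQF m F))))
    (hsemi : ((hypRefl (F := F) hm : GL (PI m) F) : Matrix (PI m) (PI m) F) *
      ((g : GL (PI m) F) : Matrix (PI m) (PI m) F).map σ =
      ((g : GL (PI m) F) : Matrix (PI m) (PI m) F) *
        ((hypRefl (F := F) hm : GL (PI m) F) : Matrix (PI m) (PI m) F)) :
    ∃ (A : ↥(Cfsg.Geo.quadSimilarityGroup (⇑(minusQF k F₀ 1 ζ₀)))) (ν : F₀), ν ≠ 0 ∧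
      gfLiftSim hD A = g ∧
      (∀ v, minusQF k F₀ 1 ζ₀ (((A : GL (MI k) F₀) : Matrix (MI k) (MI k) F₀) *ᵥ v) =
        ν * minusQF k F₀ 1 ζ₀ v) ∧
      (∀ v, plusQF m F (((g : GL (PI m) F) : Matrix (PI m) (PI m) F) *ᵥ v) =
        j ν * plusQF m F v) := by
  set gM : Matrix (PI m) (PI m) F := ((g : GL (PI m) F) : Matrix (PI m) (PI m) F) with hgM
  obtain ⟨a, ha, hag⟩ := exists_of_semi hD gM hsemi
  obtain ⟨μ, hμ⟩ := g.2
  obtain ⟨ν, hν, haν⟩ := sim_of_semi hD gM a ha (μ : F) (fun v => hμ v)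
  have hν0 : ν ≠ 0 := by
    intro h0
    rw [h0, map_zero] at hν
    exact μ.ne_zero hν.symm
  have hdet : a.det ≠ 0 := by
    intro h0
    have h1 : (a.map j).det = 0 := by
      have h2 := RingHom.map_det j a
      rw [h0, map_zero] at h2
      rw [RingHom.mapMatrix_apply] at h2
      exact h2.symm
    have h2 : a.map j * (P₁ * ((↑(g : GL (PI m) F)⁻¹ : GL (PI m) F) :
        Matrix (PI m) (PI m) F) * P₀) = 1 := by
      rw [ha]
      calc P₁ * gM * P₀ * (P₁ * ((↑(g : GL (PI m) F)⁻¹ : GL (PI m) F) :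
            Matrix (PI m) (PI m) F) * P₀)
          = P₁ * gM * (P₀ * P₁) * ((↑(g : GL (PI m) F)⁻¹ : GL (PI m) F) :
            Matrix (PI m) (PI m) F) * P₀ := by simp only [Matrix.mul_assoc]
        _ = P₁ * (gM * ((↑(g : GL (PI m) F)⁻¹ : GL (PI m) F) :
            Matrix (PI m) (PI m) F)) * P₀ := by
            rw [hD.left, Matrix.mul_one]
            simp only [Matrix.mul_assoc]
        _ = 1 := by
            rw [hgM, ← Units.val_mul, mul_inv_cancel, Units.val_one, Matrix.mul_one, hD.right]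
    have h3 := congrArg Matrix.det h2
    rw [Matrix.det_mul, h1, zero_mul, Matrix.det_one] at h3
    exact zero_ne_one h3
  refine ⟨⟨Matrix.GeneralLinearGroup.mkOfDetNeZero a hdet, ⟨Units.mk0 ν hν0, fun v => by
    rw [minusQF_apply', minusQF_apply']
    exact haν v⟩⟩, ν, hν0, ?_, ?_, ?_⟩
  · apply Subtype.ext
    apply Units.ext
    rw [gfLiftSim_coe]
    exact hag
  · intro v
    rw [minusQF_apply', minusQF_apply']
    exact haν v
  · intro v
    rw [hν]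
    exact hμ v

/-- the lifts of the even similarities induce elements of `PSO` -/
theorem lift_mem_pso (hm : 1 ≤ m)
    (hD : GFData σ j ((hypRefl (F := F) hm : GL (PI m) F) : Matrix (PI m) (PI m) F) P₀ P₁ c ζ₀)
    (hcard : Fintype.card F = Fintype.card F₀ ^ 2) (h2 : (2 : F) ≠ 0)
    (A : ↥(Cfsg.Geo.quadSimilarityGroup (⇑(minusQF k F₀ 1 ζ₀)))) (hA : A ∈ gfEvenSub hD) :
    simAut (⇑(plusQF m F)) (gfLiftSim hD A) ∈ Cfsg.psoAut F (⇑(plusQF m F)) := by
  obtain ⟨ν, hν⟩ := A.2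
  obtain ⟨t, ht⟩ := isSquare_of_card_sq j hcard h2 (ν : F₀)
  have ht0 : t ≠ 0 := by
    intro h0
    rw [h0, mul_zero] at ht
    exact (map_ne_zero j).mpr ν.ne_zero ht
  apply simAut_mem_pso_of_even_sq h2 hm (gfLiftSim hD A) hA t ht0
  intro v
  rw [← ht, gfLiftSim_coe]
  apply gfLift_sim hD _ (ν : F₀)
  intro w
  have := hν w
  rw [minusQF_apply', minusQF_apply'] at this
  exact this

/-- the lifts of the even similarities with square multiplier induce inner automorphisms -/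
theorem lift_mem_Inn_of_sq (hm : 1 ≤ m)
    (hD : GFData σ j ((hypRefl (F := F) hm : GL (PI m) F) : Matrix (PI m) (PI m) F) P₀ P₁ c ζ₀)
    (hcard : Fintype.card F = Fintype.card F₀ ^ 2) (h2 : (2 : F) ≠ 0)
    (A : ↥(Cfsg.Geo.quadSimilarityGroup (⇑(minusQF k F₀ 1 ζ₀)))) (hA : A ∈ gfEvenSub hD)
    (s : F₀) (hs0 : s ≠ 0)
    (hs : ∀ v, minusQF k F₀ 1 ζ₀ (((A : GL (MI k) F₀) : Matrix (MI k) (MI k) F₀) *ᵥ v) =
      s * s * minusQF k F₀ 1 ζ₀ v) :
    simAut (⇑(plusQF m F)) (gfLiftSim hD A) ∈ Cfsg.Inn (Cfsg.POmega F (⇑(plusQF m F))) := by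
  obtain ⟨sb₀, hsb₀⟩ := exists_scalar_quadSim (minusQF k F₀ 1 ζ₀) s⁻¹ (inv_ne_zero hs0)
  set A' : ↥(Cfsg.Geo.quadSimilarityGroup (⇑(minusQF k F₀ 1 ζ₀))) := sb₀ * A with hA'
  have hA'coe : ((A' : GL (MI k) F₀) : Matrix (MI k) (MI k) F₀) =
      s⁻¹ • ((A : GL (MI k) F₀) : Matrix (MI k) (MI k) F₀) := by
    rw [hA', Subgroup.coe_mul, Units.val_mul, hsb₀, Matrix.smul_mul, Matrix.one_mul]
  have hA'iso : (A' : GL (MI k) F₀) ∈ Cfsg.isometryGroup F₀ (⇑(minusQF k F₀ 1 ζ₀)) := by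
    rw [mem_isometryGroup_iff']
    intro v
    rw [hA'coe, Matrix.smul_mulVec, QuadraticMap.map_smul, hs v, smul_eq_mul]
    field_simp
  obtain ⟨hgO, hspin⟩ := gfLift_spin_eq_one hD (hypRefl_isom hm) hcard h2 _ hA'iso
  have hsbcoe : (((gfLiftSim hD sb₀ : ↥(Cfsg.Geo.quadSimilarityGroup (⇑(plusQF m F)))) :
      GL (PI m) F) : Matrix (PI m) (PI m) F) = j s⁻¹ • 1 := by
    rw [gfLiftSim_coe, hsb₀, gfLift_smul, gfLift_one hD]
  have hjs0 : j s⁻¹ ≠ 0 := (map_ne_zero j).mpr (inv_ne_zero hs0)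
  have hg'E : plusEven ((gfLiftSim hD A' : ↥(Cfsg.Geo.quadSimilarityGroup (⇑(plusQF m F)))) :
      GL (PI m) F) := by
    rw [hA', map_mul]
    exact (plusEven_scalar_mul _ _ (j s⁻¹) hjs0 hsbcoe).mpr hA
  have hgO' : ((gfLiftSim hD A' : ↥(Cfsg.Geo.quadSimilarityGroup (⇑(plusQF m F)))) :
      GL (PI m) F) ∈ Cfsg.isometryGroup F (⇑(plusQF m F)) := hgO
  have hS := special_of_even_isometry h2 hm _ hgO' hg'E
  have hdim2 : 2 ≤ Fintype.card (PI m) := by
    simp only [PI, Fintype.card_sum, Fintype.card_fin]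
    omega
  have hΩ : ((gfLiftSim hD A' : ↥(Cfsg.Geo.quadSimilarityGroup (⇑(plusQF m F)))) :
      GL (PI m) F) ∈ OmegaGL (⇑(plusQF m F)) :=
    (mem_OmegaGL_iff_spin (plusQF m F) (plusQF_nondeg m F) h2 hdim2 _ hS).mpr hspin
  have h1 := simAut_mem_Inn_of_mem _ (gfLiftSim hD A') hΩ
  have h3 : simAut (⇑(plusQF m F)) (gfLiftSim hD A') =
      simAut (⇑(plusQF m F)) (gfLiftSim hD A) := by
    rw [hA', map_mul, map_mul,
      simAut_eq_one_of_scalar (⇑(plusQF m F)) (gfLiftSim hD sb₀) (j s⁻¹) hsbcoe, one_mul]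
  rw [← h3]
  exact h1

end Cfsg.Agent.Lib.Helper43
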