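/-
helper43: squares in a quadratic extension of finite fields of odd order through the norm;
arithmetic of non-squares.
-/
import Mathlib
import Cfsg.Agent.Lib.Helper43.OSquares

set_option autoImplicit false

namespace Cfsg.Agent.Lib.Helper43

variable {F : Type*} [Field F] [Fintype F] {F₀ : Type*} [Field F₀] [Fintype F₀]

theorem ringChar_ne_two_of_two_ne_zero {K : Type*} [Field K] (h2 : (2 : K) ≠ 0) :
    ringChar K ≠ 2 := by
  intro h
  apply h2
  have : ((2 : ℕ) : K) = 0 := by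
    rw [← h]; exact ringChar.Nat.cast_ringChar
  exact_mod_cast this

/-- **norm criterion for squares** -/
theorem isSquare_iff_norm (σ : RingAut F) (j : F₀ →+* F) (h2 : (2 : F) ≠ 0)
    (hcard : Fintype.card F = Fintype.card F₀ ^ 2)
    (hσ : ∀ a : F, σ a = a ^ Fintype.card F₀) (z : F) (hz : z ≠ 0) (n : F₀)
    (hn : j n = z * σ z) : IsSquare z ↔ IsSquare n := by
  have h2₀ : (2 : F₀) ≠ 0 := by
    intro h
    apply h2
    have := congrArg j h
    rw [map_ofNat, map_zero] at this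
    exact this
  have hch := ringChar_ne_two_of_two_ne_zero h2
  have hch₀ := ringChar_ne_two_of_two_ne_zero h2₀
  have hodd₀ := FiniteField.odd_card_of_char_ne_two hch₀
  have hn0 : n ≠ 0 := by
    intro h0
    rw [h0, map_zero] at hn
    have : σ z ≠ 0 := (map_ne_zero σ).mpr hz
    exact (mul_ne_zero hz this) hn.symm
  rw [FiniteField.isSquare_iff hch hz, FiniteField.isSquare_iff hch₀ hn0]
  set q₀ := Fintype.card F₀ with hq₀
  have hhalf : Fintype.card F / 2 = (q₀ + 1) * (q₀ / 2) := by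
    rw [hcard]
    obtain ⟨t, ht⟩ : ∃ t, q₀ = 2 * t + 1 := ⟨q₀ / 2, by omega⟩
    rw [ht]
    have h1 : (2 * t + 1) / 2 = t := by omega
    have h3 : (2 * t + 1) ^ 2 / 2 = (2 * t + 1 + 1) * t := by
      have : (2 * t + 1) ^ 2 = 2 * ((2 * t + 1 + 1) * t) + 1 := by ring
      rw [this]
      omega
    rw [h1, h3]
  have hpow : z ^ (Fintype.card F / 2) = j (n ^ (q₀ / 2)) := by
    rw [hhalf, pow_mul, pow_succ, ← hσ, mul_comm, ← hn, map_pow]
  rw [hpow]
  constructor
  · intro h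
    apply j.injective
    rw [h, map_one]
  · intro h
    rw [h, map_one]

theorem isSquare_mul_sq_iff {K : Type*} [Field K] (a b : K) (hb : b ≠ 0) :
    IsSquare (a * (b * b)) ↔ IsSquare a := by
  constructor
  · rintro ⟨r, hr⟩
    refine ⟨r / b, ?_⟩
    rw [div_mul_div_comm, ← hr, mul_div_assoc, div_self (mul_ne_zero hb hb), mul_one]
  · rintro ⟨r, hr⟩
    exact ⟨r * b, by rw [hr]; ring⟩

/-- the norm of the determinant of the Levi part of the distinguished element -/
theorem isSquare_nu_pow_iff [DecidableEq F₀] (h2₀ : (2 : F₀) ≠ 0) (ν₁ : F₀)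
    (hν₁ : ¬ IsSquare ν₁) (m : ℕ) (hm : 2 ≤ m) :
    IsSquare (ν₁ * (-ν₁) ^ (m - 2)) ↔ (Odd m ∧ Fintype.card F₀ % 4 = 1) := by
  have hν0 : ν₁ ≠ 0 := by
    rintro rfl
    exact hν₁ ⟨0, by ring⟩
  have hch₀ := ringChar_ne_two_of_two_ne_zero h2₀
  have hodd₀ := FiniteField.odd_card_of_char_ne_two hch₀
  rcases Nat.even_or_odd m with hev | hod
  · obtain ⟨r, hr⟩ := hev
    have hm2 : m - 2 = (r - 1) + (r - 1) := by omega
    rw [hm2, pow_add, isSquare_mul_sq_iff _ _ (pow_ne_zero _ (neg_ne_zero.mpr hν0))]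
    constructor
    · intro h; exact absurd h hν₁
    · rintro ⟨h, -⟩
      exact absurd h (Nat.not_odd_iff_even.mpr ⟨r, hr⟩)
  · obtain ⟨r, hr⟩ := hod
    have hr1 : 1 ≤ r := by omega
    have hm2 : m - 2 = (r - 1) + (r - 1) + 1 := by omega
    have h1 : ν₁ * (-ν₁) ^ (m - 2) = (-1) * ((ν₁ * (-ν₁) ^ (r - 1)) * (ν₁ * (-ν₁) ^ (r - 1))) := by
      rw [hm2, pow_succ, pow_add]
      ring
    rw [h1, isSquare_mul_sq_iff _ _ (mul_ne_zero hν0 (pow_ne_zero _ (neg_ne_zero.mpr hν0))),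
      FiniteField.isSquare_neg_one_iff]
    constructor
    · intro h
      exact ⟨⟨r, hr⟩, by omega⟩
    · rintro ⟨-, h⟩
      omega

/-- the quotient of two non-squares is a square -/
theorem isSquare_div_of_not_isSquare [DecidableEq F₀] (h2₀ : (2 : F₀) ≠ 0) (a b : F₀)
    (ha : ¬ IsSquare a) (hb : ¬ IsSquare b) : IsSquare (a * b⁻¹) := by
  have ha0 : a ≠ 0 := by
    rintro rfl
    exact ha ⟨0, by ring⟩
  have hb0 : b ≠ 0 := by
    rintro rfl
    exact hb ⟨0, by ring⟩
  have hab : IsSquare (a * b) := by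
    rw [← quadraticChar_one_iff_isSquare (mul_ne_zero ha0 hb0), map_mul,
      quadraticChar_neg_one_iff_not_isSquare.mpr ha, quadraticChar_neg_one_iff_not_isSquare.mpr hb]
    norm_num
  have h1 : a * b⁻¹ = (a * b) * (b⁻¹ * b⁻¹) := by
    field_simp
  rw [h1, isSquare_mul_sq_iff _ _ (inv_ne_zero hb0)]
  exact hab

end Cfsg.Agent.Lib.Helper43
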