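/-
helper43: the distinguished diagonal element of the centraliser of the standard graph-field
involution with non-square multiplier over the fixed field (odd characteristic).
-/
import Mathlib
import Cfsg.Agent.Lib.Helper43.PlusGFOdd2
import Cfsg.Agent.Lib.Helper43.PlusGFOdd3

set_option autoImplicit false

namespace Cfsg.Agent.Lib.Helper43

open scoped MatrixGroups Matrix
open Module Matrix Cfsg.Agent.Lib.Helper45.PSLField Cfsg.Agent.Lib.Helper36 Cfsg.Agent.Lib.Helper44
  Cfsg.Agent.S2168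

variable {m : ℕ} {F : Type*} [Field F] {F₀ : Type*} [Field F₀]
  [Fintype F] [DecidableEq F] [Fintype F₀] [DecidableEq F₀]

/-- the diagonal entries of the distinguished element -/
def gfDiagFun (i₀ : Fin m) (u su ν : Fˣ) : Fin m ⊕ Fin m → Fˣ :=
  Sum.elim (fun i => if i = i₀ then u else ν) (fun i => if i = i₀ then su else 1)

/-- the diagonal entries of its Levi part -/
def gfLeviFun (i₀ : Fin m) (u t : Fˣ) : Fin m → Fˣ := fun i => if i = i₀ then u * t⁻¹ else t

theorem prod_gfLeviFun (i₀ : Fin m) (u t : Fˣ) :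
    ∏ i, ((gfLeviFun i₀ u t i : Fˣ) : F) = (u : F) * (t : F)⁻¹ * (t : F) ^ (m - 1) := by
  rw [← Finset.mul_prod_erase Finset.univ _ (Finset.mem_univ i₀)]
  have h1 : ∀ i ∈ Finset.univ.erase i₀, ((gfLeviFun i₀ u t i : Fˣ) : F) = (t : F) := by
    intro i hi
    have : i ≠ i₀ := Finset.ne_of_mem_erase hi
    unfold gfLeviFun
    rw [if_neg this]
  rw [Finset.prod_congr rfl h1, Finset.prod_const, Finset.card_erase_of_mem (Finset.mem_univ i₀),
    Finset.card_univ, Fintype.card_fin]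
  unfold gfLeviFun
  rw [if_pos rfl, Units.val_mul, Units.val_inv_eq_inv_val]

/-- **the distinguished element** -/
theorem exists_distinguished (hm : 5 ≤ m) (σ : RingAut F) (hσ1 : σ ≠ 1) (hσ2 : σ * σ = 1)
    (j : F₀ →+* F) (hj : ∀ a : F, σ a = a ↔ ∃ b, j b = a) (h2 : (2 : F) ≠ 0)
    (hcard : Fintype.card F = Fintype.card F₀ ^ 2)
    (hσpow : ∀ a : F, σ a = a ^ Fintype.card F₀) (hq4 : Fintype.card F % 4 = 1) :
    ∃ (g₁ : ↥(Cfsg.Geo.quadSimilarityGroup (⇑(plusQF m F)))) (ν₁ : F₀), ¬ IsSquare ν₁ ∧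
      plusEven (g₁ : GL (Fin m ⊕ Fin m) F) ∧
      ((hypRefl (F := F) (by omega : 1 ≤ m) : GL (PI m) F) : Matrix (PI m) (PI m) F) *
        ((g₁ : GL (PI m) F) : Matrix (PI m) (PI m) F).map σ =
        ((g₁ : GL (PI m) F) : Matrix (PI m) (PI m) F) *
          ((hypRefl (F := F) (by omega : 1 ≤ m) : GL (PI m) F) : Matrix (PI m) (PI m) F) ∧
      (∀ v, plusQF m F (((g₁ : GL (PI m) F) : Matrix (PI m) (PI m) F) *ᵥ v) =
        j ν₁ * plusQF m F v) ∧
      (simAut (⇑(plusQF m F)) g₁ ∈ Cfsg.Inn (Cfsg.POmega F (⇑(plusQF m F))) ↔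
        (Odd m ∧ Fintype.card F₀ % 4 = 1)) := by
  have hm1 : 1 ≤ m := by omega
  have hord : orderOf σ = 2 := by
    apply orderOf_eq_prime
    · rw [pow_two, hσ2]
    · exact hσ1
  have hjfix : ∀ a, σ (j a) = j a := fun a => (hj (j a)).mpr ⟨a, rfl⟩
  have h2₀ : (2 : F₀) ≠ 0 := two_ne_zero_of_hom j h2
  obtain ⟨ν₁, hν₁⟩ := FiniteField.exists_nonsquare (ringChar_ne_two_of_two_ne_zero h2₀)
  have hν0 : ν₁ ≠ 0 := by
    rintro rfl
    exact hν₁ ⟨0, by ring⟩
  have hjν0 : j ν₁ ≠ 0 := (map_ne_zero j).mpr hν0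
  obtain ⟨u, hu0, hu⟩ := exists_nrm_eq σ two_pos hord (j ν₁) hjν0 (hjfix ν₁)
  have hu' : u * σ u = j ν₁ := by
    rw [← hu]
    unfold nrm
    rw [show (2 : ℕ) = 1 + 1 from rfl, Finset.prod_range_succ, Finset.prod_range_one, pow_zero,
      pow_one]
    rfl
  have hσu0 : σ u ≠ 0 := (map_ne_zero σ).mpr hu0
  obtain ⟨t, ht⟩ := isSquare_of_card_sq j hcard h2 ν₁
  have ht0 : t ≠ 0 := by
    intro h0
    rw [h0, mul_zero] at ht
    exact hjν0 ht
  have hσt : σ t = -t := by
    have h1 : σ t * σ t = t * t := by rw [← map_mul, ← ht, hjfix]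
    have h3 : (σ t - t) * (σ t + t) = 0 := by linear_combination h1
    rcases mul_eq_zero.mp h3 with h | h
    · exfalso
      obtain ⟨s, hs⟩ := (hj t).mp (sub_eq_zero.mp h)
      apply hν₁
      refine ⟨s, ?_⟩
      apply j.injective
      rw [map_mul, hs, ht]
    · exact eq_neg_of_add_eq_zero_left h
  have hσσ : ∀ a, σ (σ a) = a := by
    intro a
    have := congrArg (fun τ : RingAut F => τ a) hσ2
    exact this
  set i₀ : Fin m := ⟨0, hm1⟩ with hi₀
  set uu : Fˣ := Units.mk0 u hu0 with huu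
  set su : Fˣ := Units.mk0 (σ u) hσu0 with hsu
  set νu : Fˣ := Units.mk0 (j ν₁) hjν0 with hνu
  set tu : Fˣ := Units.mk0 t ht0 with htu
  set d : Fin m ⊕ Fin m → Fˣ := gfDiagFun i₀ uu su νu with hd
  have hμ : ∀ i, d (Sum.inl i) * d (Sum.inr i) = νu := by
    intro i
    rw [hd]
    unfold gfDiagFun
    simp only [Sum.elim_inl, Sum.elim_inr]
    by_cases hi : i = i₀
    · rw [if_pos hi, if_pos hi]
      apply Units.ext
      rw [Units.val_mul]
      exact hu'
    · rw [if_neg hi, if_neg hi, mul_one]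
  set g₁ : ↥(Cfsg.Geo.quadSimilarityGroup (⇑(plusQF m F))) := ⟨diagPI d, diagPI_mem d νu hμ⟩
    with hg₁
  refine ⟨g₁, ν₁, hν₁, plusEven_diagPI d, ?_, fun v => diagPI_similarity d νu hμ v, ?_⟩
  · rw [hypRefl_coe]
    apply diagPI_semi σ i₀ d
    · show σ ((gfDiagFun i₀ uu su νu (Sum.inl i₀) : Fˣ) : F) = gfDiagFun i₀ uu su νu (Sum.inr i₀)
      unfold gfDiagFun
      simp only [Sum.elim_inl, Sum.elim_inr, if_pos rfl]
      rfl
    · show σ ((gfDiagFun i₀ uu su νu (Sum.inr i₀) : Fˣ) : F) = gfDiagFun i₀ uu su νu (Sum.inl i₀)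
      unfold gfDiagFun
      simp only [Sum.elim_inl, Sum.elim_inr, if_pos rfl]
      exact hσσ u
    · intro x hx1 hx2
      rw [hd]
      unfold gfDiagFun
      rcases x with i | i
      · have hi : i ≠ i₀ := fun h => hx1 (by rw [h])
        simp only [Sum.elim_inl, if_neg hi]
        exact hjfix ν₁
      · have hi : i ≠ i₀ := fun h => hx2 (by rw [h])
        simp only [Sum.elim_inr, if_neg hi]
        rw [Units.val_one, map_one]
  · -- the criterion for being inner
    obtain ⟨hIP, hPD, hPD2, hI2, hneg⟩ := plus_chain (m := m) (F := F) hq4 (by omega)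
    set e : Fin m → Fˣ := gfLeviFun i₀ uu tu with he
    have hd1 : ∀ i, d (Sum.inl i) = tu * e i := by
      intro i
      rw [hd, he]
      unfold gfDiagFun gfLeviFun
      simp only [Sum.elim_inl]
      by_cases hi : i = i₀
      · rw [if_pos hi, if_pos hi, mul_comm uu, mul_inv_cancel_left]
      · rw [if_neg hi, if_neg hi]
        apply Units.ext
        rw [Units.val_mul]
        exact ht
    have hd2 : ∀ i, d (Sum.inr i) = tu * (e i)⁻¹ := by
      intro i
      rw [hd, he]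
      unfold gfDiagFun gfLeviFun
      simp only [Sum.elim_inr]
      by_cases hi : i = i₀
      · rw [if_pos hi, if_pos hi]
        apply Units.ext
        rw [Units.val_mul, Units.val_inv_eq_inv_val, Units.val_mul, Units.val_inv_eq_inv_val]
        show σ u = t * (u * t⁻¹)⁻¹
        have : σ u = j ν₁ / u := by
          rw [← hu']
          field_simp
        rw [this, ht]
        field_simp
      · rw [if_neg hi, if_neg hi, mul_inv_cancel]
    have hLO : leviGL (diagGL e) ∈ Cfsg.isometryGroup F (⇑(plusQF m F)) := leviGL_mem _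
    have hLG : leviGL (diagGL e) ∈ Cfsg.Geo.quadSimilarityGroup (⇑(plusQF m F)) :=
      isometryGroup_le_similarity _ hLO
    have hsim : simAut (⇑(plusQF m F)) g₁ = simAut (⇑(plusQF m F)) ⟨leviGL (diagGL e), hLG⟩ :=
      simAut_eq_of_smul (plusQF m F) ⟨leviGL (diagGL e), hLG⟩ g₁ t ht0
        (diagPI_eq_smul_levi tu e d hd1 hd2)
    have hdim : 5 ≤ Fintype.card (Fin m ⊕ Fin m) := by
      rw [card_plus_index']; omega
    have hF2 : Fintype.card F ≠ 2 := by omega
    rw [hsim, simAut_mem_Inn_iff_mem_OmegaGL (plusQF m F) (plusQF_nondeg m F) h2 hdim hneg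
      ⟨leviGL (diagGL e), hLG⟩ hLO]
    change leviGL (diagGL e) ∈ OmegaGL (Cfsg.quadFormPlus m F) ↔ _
    rw [leviGL_mem_OmegaGL_iff hm1 hF2, diagGL_det, he, prod_gfLeviFun]
    show IsSquare (u * t⁻¹ * t ^ (m - 1)) ↔ _
    have hz0 : u * t⁻¹ * t ^ (m - 1) ≠ 0 :=
      mul_ne_zero (mul_ne_zero hu0 (inv_ne_zero ht0)) (pow_ne_zero _ ht0)
    have hnorm : j (ν₁ * (-ν₁) ^ (m - 2)) =
        (u * t⁻¹ * t ^ (m - 1)) * σ (u * t⁻¹ * t ^ (m - 1)) := by
      have hm2 : m - 1 = (m - 2) + 1 := by omega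
      simp only [map_mul, map_pow, map_inv₀, map_neg]
      rw [hσt, hm2]
      have e1 : (-j ν₁) ^ (m - 2) = (t * (-t)) ^ (m - 2) := by
        rw [ht]; ring
      rw [e1, ← hu', mul_pow]
      field_simp
      ring
    rw [isSquare_iff_norm σ j h2 hcard hσpow _ hz0 _ hnorm,
      isSquare_nu_pow_iff h2₀ ν₁ hν₁ m (by omega)]

end Cfsg.Agent.Lib.Helper43
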