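/-
helper43: the number of inner classes in the inner-diagonal class of the standard graph-field
involution of `PΩ⁺_{2m}(F)` in odd characteristic.
-/
import Mathlib
import Cfsg.Agent.Lib.Helper43.PlusGFOdd4
import Cfsg.Agent.Lib.Helper43.OSplitAbs2

set_option autoImplicit false

namespace Cfsg.Agent.Lib.Helper43

open scoped MatrixGroups Matrix
open Module Matrix Cfsg.Agent.Lib.Helper45.PSLField Cfsg.Agent.Lib.Helper36 Cfsg.Agent.Lib.Helper44
  Cfsg.Agent.S2168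

variable {m : ℕ} {F : Type*} [Field F] {F₀ : Type*} [Field F₀]
  [Fintype F] [DecidableEq F] [Fintype F₀] [DecidableEq F₀]

omit [Fintype F₀] in
theorem isSquare_mul_of_not_isSquare [Fintype F₀] (h2₀ : (2 : F₀) ≠ 0) (a b : F₀)
    (ha : ¬ IsSquare a) (hb : ¬ IsSquare b) : IsSquare (a * b) := by
  have hb0 : b ≠ 0 := by
    rintro rfl
    exact hb ⟨0, by ring⟩
  have h1 := isSquare_div_of_not_isSquare h2₀ a b ha hb
  have h3 : a * b = (a * b⁻¹) * (b * b) := by
    field_simp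
  rw [h3, isSquare_mul_sq_iff _ _ hb0]
  exact h1

theorem card_mod_four_of_sq (h2 : (2 : F) ≠ 0) (j : F₀ →+* F)
    (hcard : Fintype.card F = Fintype.card F₀ ^ 2) : Fintype.card F % 4 = 1 := by
  have h2₀ : (2 : F₀) ≠ 0 := two_ne_zero_of_hom j h2
  have hodd₀ := FiniteField.odd_card_of_char_ne_two (ringChar_ne_two_of_two_ne_zero h2₀)
  rw [hcard, pow_two, Nat.mul_mod]
  have : Fintype.card F₀ % 4 = 1 ∨ Fintype.card F₀ % 4 = 3 := by
    omega
  rcases this with h | h <;> rw [h]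

/-- **the class count for the standard graph-field involution, odd characteristic** -/
theorem stdGF_count (hm : 5 ≤ m) (σ : RingAut F) (hσ1 : σ ≠ 1) (hσ2 : σ * σ = 1)
    (j : F₀ →+* F) (hj : ∀ a : F, σ a = a ↔ ∃ b, j b = a) (h2 : (2 : F) ≠ 0)
    (hcard : Fintype.card F = Fintype.card F₀ ^ 2)
    (hσpow : ∀ a : F, σ a = a ^ Fintype.card F₀) :
    ((Odd m ∧ Fintype.card F₀ % 4 = 1) →
      Cfsg.splitClassCount (inndiagPlusQ m F) (Cfsg.Inn (Cfsg.POmega F (⇑(plusQF m F))))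
        (stdGF (by omega) σ) = 4) ∧
    (¬ (Odd m ∧ Fintype.card F₀ % 4 = 1) →
      Cfsg.splitClassCount (inndiagPlusQ m F) (Cfsg.Inn (Cfsg.POmega F (⇑(plusQF m F))))
        (stdGF (by omega) σ) = 2) := by
  have hm1 : 1 ≤ m := by omega
  have hord : orderOf σ = 2 := by
    apply orderOf_eq_prime
    · rw [pow_two, hσ2]
    · exact hσ1
  have h2₀ : (2 : F₀) ≠ 0 := two_ne_zero_of_hom j h2
  have hq4 := card_mod_four_of_sq h2 j hcard
  obtain ⟨P₀, P₁, c, ζ₀, hD⟩ := exists_gfData hm1 σ hσ1 hσ2 j hj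
  obtain ⟨hIP, hPD, hPD2, hI2, -⟩ := plus_chain (m := m) (F := F) hq4 (by omega)
  obtain ⟨g₁, ν₁, hν₁, hg₁E, hg₁semi, hg₁sim, hg₁Inn⟩ :=
    exists_distinguished hm σ hσ1 hσ2 j hj h2 hcard hσpow hq4
  have hnorm : (Cfsg.Inn (Cfsg.POmega F (⇑(plusQF m F)))).Normal := Cfsg.innNormal _
  have hKn : ((Cfsg.Inn (Cfsg.POmega F (⇑(plusQF m F)))).subgroupOf (inndiagPlusQ m F)).Normal :=
    Subgroup.normal_subgroupOf
  have hcentM : inndiagPlusQ m F ⊓ Subgroup.centralizer {stdGF hm1 σ} ≤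
      Cfsg.psoAut F (⇑(plusQF m F)) := by
    intro β hβ
    obtain ⟨A, hA, rfl⟩ := (mem_inndiag_centralizer_iff (by omega) hm1 hord hD β).mp hβ
    exact lift_mem_pso hm1 hD hcard h2 A hA
  have hc₁ : simAut (⇑(plusQF m F)) g₁ ∈
      inndiagPlusQ m F ⊓ Subgroup.centralizer {stdGF hm1 σ} := by
    refine Subgroup.mem_inf.mpr ⟨(mem_inndiagPlusQ_iff _).mpr ⟨g₁, hg₁E, rfl⟩, ?_⟩
    rw [Subgroup.mem_centralizer_iff]
    intro y hy
    rw [Set.mem_singleton_iff] at hy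
    subst hy
    exact (comm_stdGF_iff (by omega) hm1 σ g₁).mpr ⟨1, by rw [one_smul]; exact hg₁semi⟩
  constructor
  · intro hcond
    have hc₁K := hg₁Inn.mpr hcond
    apply splitClassCount_eq_four_of_chain _ _ _ _ hIP hPD hKn hPD2 hI2
    intro β hβ
    obtain ⟨A, hA, rfl⟩ := (mem_inndiag_centralizer_iff (by omega) hm1 hord hD β).mp hβ
    obtain ⟨ν, hν⟩ := A.2
    by_cases hsq : IsSquare (ν : F₀)
    · obtain ⟨s, hs⟩ := hsq
      have hs0 : s ≠ 0 := by
        rintro rfl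
        rw [mul_zero] at hs
        exact ν.ne_zero hs
      apply lift_mem_Inn_of_sq hm1 hD hcard h2 A hA s hs0
      intro v
      rw [← hs]
      exact hν v
    · obtain ⟨A₁, ν₁', hν₁'0, hA₁g, hA₁sim, hA₁plus⟩ := exists_lift_of_semi hm1 hD g₁ hg₁semi
      have hνeq : ν₁' = ν₁ := by
        apply j.injective
        have h3 := hA₁plus (hypVec (F := F) ⟨0, hm1⟩)
        rw [hg₁sim] at h3
        exact (mul_right_cancel₀ (hypVec_ne hm1) h3).symm
      subst hνeq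
      have hA₁E : A₁ ∈ gfEvenSub hD := by
        rw [mem_gfEvenSub_iff, hA₁g]
        exact hg₁E
      obtain ⟨s, hs⟩ := isSquare_mul_of_not_isSquare h2₀ _ _ hsq hν₁
      have hs0 : s ≠ 0 := by
        rintro rfl
        rw [mul_zero] at hs
        exact mul_ne_zero ν.ne_zero hν₁'0 hs
      have hB : simAut (⇑(plusQF m F)) (gfLiftSim hD (A * A₁)) ∈
          Cfsg.Inn (Cfsg.POmega F (⇑(plusQF m F))) := by
        apply lift_mem_Inn_of_sq hm1 hD hcard h2 (A * A₁)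
          (Subgroup.mul_mem _ hA hA₁E) s hs0
        intro v
        rw [Subgroup.coe_mul, Units.val_mul, ← Matrix.mulVec_mulVec]
        rw [← hs, mul_assoc, ← hA₁sim v]
        exact hν _
      have hfin : simAut (⇑(plusQF m F)) (gfLiftSim hD A) =
          simAut (⇑(plusQF m F)) (gfLiftSim hD (A * A₁)) *
            (simAut (⇑(plusQF m F)) g₁)⁻¹ := by
        rw [map_mul, map_mul, hA₁g, mul_inv_cancel_right]
      rw [hfin]
      exact Subgroup.mul_mem _ hB (Subgroup.inv_mem _ hc₁K)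
  · intro hcond
    have hc₁K : simAut (⇑(plusQF m F)) g₁ ∉ Cfsg.Inn (Cfsg.POmega F (⇑(plusQF m F))) :=
      fun h => hcond (hg₁Inn.mp h)
    exact splitClassCount_eq_two_of_chain _ _ _ _ hIP hPD hKn hPD2 hI2 hcentM _ hc₁ hc₁K

end Cfsg.Agent.Lib.Helper43
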