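/-
helper43: regular nilpotent endomorphisms, part 2: kernels of powers are ranges of the complementary
powers; matrix glue for an arbitrary finite index type.
-/
import Cfsg.Agent.Lib.Helper43.RegularNilpotent

set_option autoImplicit false

namespace Cfsg.Agent.Lib.Helper43

open Module

section abstract

variable {K V : Type*} [Field K] [AddCommGroup V] [Module K V] [FiniteDimensional K V]

/-- For a regular nilpotent endomorphism of an `n`-dimensional space, `ker N^k = range N^(n-k)`. -/
theorem ker_pow_eq_range_pow (N : Module.End K V) (h1 : finrank K (LinearMap.ker N) ≤ 1)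
    (hnil : N ^ finrank K V = 0) (k : ℕ) (hk : k ≤ finrank K V) :
    LinearMap.ker (N ^ k) = LinearMap.range (N ^ (finrank K V - k)) := by
  symm
  apply Submodule.eq_of_le_of_finrank_eq
  · rintro _ ⟨x, rfl⟩
    rw [LinearMap.mem_ker, ← Module.End.mul_apply, ← pow_add]
    have : k + (finrank K V - k) = finrank K V := by omega
    rw [this, hnil]; rfl
  · have h2 := LinearMap.finrank_range_add_finrank_ker (N ^ (finrank K V - k))
    have h3 := finrank_ker_pow_eq N h1 hnil (finrank K V - k) (Nat.sub_le _ _)
    have h4 := finrank_ker_pow_eq N h1 hnil k hk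
    omega

end abstract

section matrix

variable {K : Type*} [Field K] {ι : Type*} [Fintype ι] [DecidableEq ι]

theorem mulVecLin_pow' (A : Matrix ι ι K) (k : ℕ) :
    Matrix.mulVecLin (A ^ k) = (Matrix.mulVecLin A : Module.End K (ι → K)) ^ k :=
  Matrix.toLin'_pow A k

omit [DecidableEq ι] in
theorem finrank_ker_mulVecLin_le_one' (A : Matrix ι ι K) (hreg : A.rank = Fintype.card ι - 1) :
    finrank K (LinearMap.ker (Matrix.mulVecLin A)) ≤ 1 := by
  have h1 := LinearMap.finrank_range_add_finrank_ker (Matrix.mulVecLin A)
  have h2 : finrank K (LinearMap.range (Matrix.mulVecLin A)) = Fintype.card ι - 1 := hreg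
  rw [Module.finrank_fintype_fun_eq_card] at h1
  omega

theorem mulVecLin_pow_finrank_eq_zero (A : Matrix ι ι K) (hnil : A ^ Fintype.card ι = 0) :
    (Matrix.mulVecLin A : Module.End K (ι → K)) ^ finrank K (ι → K) = 0 := by
  rw [Module.finrank_fintype_fun_eq_card, ← mulVecLin_pow', hnil]
  exact Matrix.mulVecLin_zero

end matrix

end Cfsg.Agent.Lib.Helper43
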