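/-
helper43: regular nilpotent endomorphisms, part 3: cyclic vectors and the commutant.
-/
import Cfsg.Agent.Lib.Helper43.RegularNilpotent2

set_option autoImplicit false

namespace Cfsg.Agent.Lib.Helper43

open Module Polynomial

variable {K V : Type*} [Field K] [AddCommGroup V] [Module K V] [FiniteDimensional K V]

/-- a regular nilpotent endomorphism of a nonzero space has a cyclic vector -/
theorem exists_cyclic (N : Module.End K V) (h1 : finrank K (LinearMap.ker N) ≤ 1)
    (hnil : N ^ finrank K V = 0) (hpos : 1 ≤ finrank K V) :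
    ∃ v0 : V, (N ^ (finrank K V - 1)) v0 ≠ 0 := by
  by_contra hcon
  push Not at hcon
  have hker : LinearMap.ker (N ^ (finrank K V - 1)) = ⊤ := by
    rw [eq_top_iff]
    intro v _
    exact hcon v
  have h2 := finrank_ker_pow_eq N h1 hnil (finrank K V - 1) (Nat.sub_le _ _)
  rw [hker, finrank_top] at h2
  omega

/-- an invariant subspace containing a cyclic vector is everything -/
theorem invariant_eq_top (N : Module.End K V) (h1 : finrank K (LinearMap.ker N) ≤ 1)
    (hnil : N ^ finrank K V = 0) (v0 : V) (hv0 : (N ^ (finrank K V - 1)) v0 ≠ 0)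
    (W : Submodule K V) (hW : ∀ v ∈ W, N v ∈ W) (hv0W : v0 ∈ W) : W = ⊤ := by
  have hWker := invariant_eq_ker_pow N h1 hnil W hW
  have hle : finrank K W ≤ finrank K V := Submodule.finrank_le W
  apply Submodule.eq_top_of_finrank_eq
  by_contra hne
  have hlt : finrank K W ≤ finrank K V - 1 := by omega
  apply hv0
  have h2 : (N ^ finrank K W) v0 = 0 := by
    rw [hWker] at hv0W
    exact hv0W
  have h3 : finrank K V - 1 = (finrank K V - 1 - finrank K W) + finrank K W := by omega
  rw [h3, pow_add, Module.End.mul_apply, h2, map_zero]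

omit [FiniteDimensional K V] in
theorem commute_ker_invariant (N X : Module.End K V) (hXN : Commute X N) :
    ∀ v ∈ LinearMap.ker X, N v ∈ LinearMap.ker X := by
  intro v hv
  rw [LinearMap.mem_ker] at hv ⊢
  have : X (N v) = N (X v) := by
    rw [← Module.End.mul_apply, ← Module.End.mul_apply, hXN.eq]
  rw [this, hv, map_zero]

/-- an endomorphism commuting with `N` and killing a cyclic vector vanishes -/
theorem eq_zero_of_commute_of_apply_eq_zero (N : Module.End K V)
    (h1 : finrank K (LinearMap.ker N) ≤ 1) (hnil : N ^ finrank K V = 0) (v0 : V)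
    (hv0 : (N ^ (finrank K V - 1)) v0 ≠ 0) (X : Module.End K V) (hXN : Commute X N)
    (hX : X v0 = 0) : X = 0 := by
  have := invariant_eq_top N h1 hnil v0 hv0 (LinearMap.ker X) (commute_ker_invariant N X hXN) hX
  exact LinearMap.ker_eq_top.mp this

/-- every vector is a polynomial in `N` applied to a cyclic vector -/
theorem exists_aeval_apply_eq (N : Module.End K V) (h1 : finrank K (LinearMap.ker N) ≤ 1)
    (hnil : N ^ finrank K V = 0) (v0 : V) (hv0 : (N ^ (finrank K V - 1)) v0 ≠ 0) (w : V) :
    ∃ p : K[X], (aeval N p) v0 = w := by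
  let φ : K[X] →ₗ[K] V := (LinearMap.applyₗ v0).comp (aeval N).toLinearMap
  have hφ : ∀ p, φ p = (aeval N p) v0 := fun p => rfl
  have htop : LinearMap.range φ = ⊤ := by
    apply invariant_eq_top N h1 hnil v0 hv0
    · rintro _ ⟨p, rfl⟩
      refine ⟨X * p, ?_⟩
      rw [hφ, hφ, map_mul, aeval_X, Module.End.mul_apply]
    · exact ⟨1, by rw [hφ, map_one, Module.End.one_apply]⟩
  have hw : w ∈ LinearMap.range φ := by rw [htop]; trivial
  obtain ⟨p, hp⟩ := hw
  exact ⟨p, hp⟩

/-- an endomorphism commuting with `N` is injective iff it moves a cyclic vector outside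
`ker N^(n-1)` -/
theorem injective_iff_of_commute (N : Module.End K V) (h1 : finrank K (LinearMap.ker N) ≤ 1)
    (hnil : N ^ finrank K V = 0) (v0 : V) (hv0 : (N ^ (finrank K V - 1)) v0 ≠ 0)
    (X : Module.End K V) (hXN : Commute X N) :
    Function.Injective X ↔ (N ^ (finrank K V - 1)) (X v0) ≠ 0 := by
  have hcomm : (N ^ (finrank K V - 1)) (X v0) = X ((N ^ (finrank K V - 1)) v0) := by
    rw [← Module.End.mul_apply, ← Module.End.mul_apply, (hXN.pow_right _).eq]
  constructor
  · intro hinj hzero
    rw [hcomm] at hzero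
    exact hv0 (hinj (by rw [hzero, map_zero]))
  · intro hne
    by_contra hninj
    apply hne
    rw [hcomm]
    have hkerne : LinearMap.ker X ≠ ⊥ := fun h => hninj (LinearMap.ker_eq_bot.mp h)
    have hWker := invariant_eq_ker_pow N h1 hnil (LinearMap.ker X) (commute_ker_invariant N X hXN)
    have hd : 1 ≤ finrank K (LinearMap.ker X) := by
      by_contra h0
      have : finrank K (LinearMap.ker X) = 0 := by omega
      exact hkerne (Submodule.finrank_eq_zero.mp this)
    have hpos : 1 ≤ finrank K V := le_trans hd (Submodule.finrank_le _)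
    have hmem : (N ^ (finrank K V - 1)) v0 ∈ LinearMap.ker X := by
      rw [hWker, LinearMap.mem_ker]
      have h3 : finrank K (LinearMap.ker X) = (finrank K (LinearMap.ker X) - 1) + 1 := by omega
      rw [h3, pow_add, pow_one, Module.End.mul_apply, ← Module.End.mul_apply N, ← pow_succ']
      have h4 : finrank K V - 1 + 1 = finrank K V := by omega
      rw [h4, hnil, LinearMap.zero_apply, map_zero]
    exact hmem

end Cfsg.Agent.Lib.Helper43
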