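/-
helper43: regular nilpotent endomorphisms, part 4: minimal polynomial, conjugacy, determinants of
the commutant.
-/
import Cfsg.Agent.Lib.Helper43.RegularNilpotent3

set_option autoImplicit false

namespace Cfsg.Agent.Lib.Helper43

open Module Polynomial

variable {K V : Type*} [Field K] [AddCommGroup V] [Module K V] [FiniteDimensional K V]

/-- for a cyclic vector `v0`, `p(N) v0 = 0` iff `X^n ∣ p` -/
theorem aeval_apply_eq_zero_iff (N : Module.End K V) (h1 : finrank K (LinearMap.ker N) ≤ 1)
    (hnil : N ^ finrank K V = 0) (v0 : V) (hv0 : (N ^ (finrank K V - 1)) v0 ≠ 0) (p : K[X]) :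
    (aeval N p) v0 = 0 ↔ X ^ finrank K V ∣ p := by
  have hpos : 1 ≤ finrank K V := by
    by_contra hcon
    have h0 : finrank K V = 0 := by omega
    rw [h0, pow_zero] at hnil
    apply hv0
    have : (1 : Module.End K V) ((N ^ (finrank K V - 1)) v0) = 0 := by rw [hnil]; rfl
    exact this
  have hint : IsIntegral K N := IsIntegral.of_finite K N
  have hmin : minpoly K N = X ^ finrank K V := by
    have hdvd : minpoly K N ∣ X ^ finrank K V := by
      apply minpoly.dvd
      rw [map_pow, aeval_X, hnil]
    obtain ⟨i, hi, hassoc⟩ := (dvd_prime_pow Polynomial.prime_X _).mp hdvd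
    have heq : minpoly K N = X ^ i :=
      Polynomial.eq_of_monic_of_associated (minpoly.monic hint) (monic_X_pow i) hassoc
    have hNi : N ^ i = 0 := by
      have := minpoly.aeval K N
      rw [heq, map_pow, aeval_X] at this
      exact this
    have hi' : finrank K V ≤ i := by
      by_contra hlt
      push Not at hlt
      apply hv0
      have h2 : finrank K V - 1 = i + (finrank K V - 1 - i) := by omega
      rw [h2, pow_add, hNi, zero_mul]
      rfl
    have : i = finrank K V := le_antisymm hi hi'
    rw [heq, this]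
  constructor
  · intro h
    have hc : Commute (aeval N p) N := by
      have : Commute (aeval N p) (aeval N (X : K[X])) := (Commute.all p X).map (aeval N)
      rwa [aeval_X] at this
    have h0 : aeval N p = 0 := eq_zero_of_commute_of_apply_eq_zero N h1 hnil v0 hv0 _ hc h
    rw [← hmin]
    exact minpoly.dvd K N h0
  · rintro ⟨r, rfl⟩
    rw [map_mul, map_pow, aeval_X, hnil, zero_mul]
    rfl

/-- two regular nilpotent endomorphisms are conjugate -/
theorem regularNilpotent_conj (N N' : Module.End K V) (h1 : finrank K (LinearMap.ker N) ≤ 1)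
    (hnil : N ^ finrank K V = 0) (h1' : finrank K (LinearMap.ker N') ≤ 1)
    (hnil' : N' ^ finrank K V = 0) (hpos : 1 ≤ finrank K V) :
    ∃ P : V ≃ₗ[K] V, ∀ x, P (N x) = N' (P x) := by
  obtain ⟨v0, hv0⟩ := exists_cyclic N h1 hnil hpos
  obtain ⟨v0', hv0'⟩ := exists_cyclic N' h1' hnil' hpos
  let φ : K[X] →ₗ[K] V := (LinearMap.applyₗ v0).comp (aeval N).toLinearMap
  let φ' : K[X] →ₗ[K] V := (LinearMap.applyₗ v0').comp (aeval N').toLinearMap
  have hφ : ∀ p, φ p = (aeval N p) v0 := fun p => rfl
  have hφ' : ∀ p, φ' p = (aeval N' p) v0' := fun p => rfl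
  have hsurj : Function.Surjective φ := fun w => exists_aeval_apply_eq N h1 hnil v0 hv0 w
  have hsurj' : Function.Surjective φ' := fun w => exists_aeval_apply_eq N' h1' hnil' v0' hv0' w
  have hker : LinearMap.ker φ = LinearMap.ker φ' := by
    ext p
    rw [LinearMap.mem_ker, LinearMap.mem_ker, hφ, hφ',
      aeval_apply_eq_zero_iff N h1 hnil v0 hv0, aeval_apply_eq_zero_iff N' h1' hnil' v0' hv0']
  let P : V ≃ₗ[K] V := (LinearMap.quotKerEquivOfSurjective φ hsurj).symm ≪≫ₗ
    (Submodule.quotEquivOfEq _ _ hker) ≪≫ₗ (LinearMap.quotKerEquivOfSurjective φ' hsurj')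
  have hP : ∀ p, P (φ p) = φ' p := by
    intro p
    have h2 : (LinearMap.quotKerEquivOfSurjective φ hsurj).symm (φ p) =
        Submodule.Quotient.mk p := by
      rw [LinearEquiv.symm_apply_eq]
      rfl
    simp only [P, LinearEquiv.trans_apply, h2]
    rfl
  refine ⟨P, fun x => ?_⟩
  obtain ⟨p, rfl⟩ := hsurj x
  have h3 : N (φ p) = φ (X * p) := by
    rw [hφ, hφ, map_mul, aeval_X, Module.End.mul_apply]
  have h4 : N' (φ' p) = φ' (X * p) := by
    rw [hφ', hφ', map_mul, aeval_X, Module.End.mul_apply]
  rw [h3, hP, hP, h4]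

/-- an endomorphism commuting with a regular nilpotent `N` has determinant an `n`-th power -/
theorem exists_det_eq_pow_of_commute (N : Module.End K V) (h1 : finrank K (LinearMap.ker N) ≤ 1)
    (hnil : N ^ finrank K V = 0) (hpos : 1 ≤ finrank K V) (Z : Module.End K V)
    (hZ : Commute Z N) : ∃ a : K, LinearMap.det Z = a ^ finrank K V := by
  obtain ⟨v0, hv0⟩ := exists_cyclic N h1 hnil hpos
  obtain ⟨p, hp⟩ := exists_aeval_apply_eq N h1 hnil v0 hv0 (Z v0)
  have hc : Commute (aeval N p) N := by
    have : Commute (aeval N p) (aeval N (X : K[X])) := (Commute.all p X).map (aeval N)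
    rwa [aeval_X] at this
  have hZp : Z = aeval N p := by
    have h2 : Z - aeval N p = 0 := by
      apply eq_zero_of_commute_of_apply_eq_zero N h1 hnil v0 hv0 _ (hZ.sub_left hc)
      rw [LinearMap.sub_apply, hp, sub_self]
    exact sub_eq_zero.mp h2
  set M : Module.End K V := aeval N (divX p) * N with hM
  have hpM : aeval N p = algebraMap K (Module.End K V) (p.coeff 0) + M := by
    conv_lhs => rw [← Polynomial.divX_mul_X_add p]
    rw [map_add, map_mul, aeval_X, aeval_C, add_comm]
  have hcomm : Commute (aeval N (divX p)) N := by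
    have : Commute (aeval N (divX p)) (aeval N (X : K[X])) :=
      (Commute.all (divX p) X).map (aeval N)
    rwa [aeval_X] at this
  have hMnil : IsNilpotent (-M) := by
    refine ⟨finrank K V, ?_⟩
    rw [neg_pow, hM, hcomm.mul_pow, hnil, mul_zero, mul_zero]
  refine ⟨p.coeff 0, ?_⟩
  have h3 := LinearMap.eval_charpoly (-M) (p.coeff 0)
  rw [hMnil.charpoly_eq_X_pow_finrank, eval_pow, eval_X, sub_neg_eq_add] at h3
  rw [hZp, hpM, ← h3]

end Cfsg.Agent.Lib.Helper43
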