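/-
helper43: regular unipotent matrices: existence (shift matrix), conjugacy in GL_n, determinants of
the centralizer.
-/
import Cfsg.Agent.Lib.Helper43.RegularNilpotent4

set_option autoImplicit false

namespace Cfsg.Agent.Lib.Helper43

open Module Matrix

section shift

variable (n : ℕ) (F : Type*) [Field F]

/-- the upper shift matrix: `e_(i+1) ↦ e_i`, `e_0 ↦ 0` -/
def shiftMat : Matrix (Fin n) (Fin n) F :=
  Matrix.of fun i j => if (j : ℕ) = (i : ℕ) + 1 then (1 : F) else 0

variable {n F}

theorem shiftMat_mulVec (x : Fin n → F) (i : Fin n) :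
    (shiftMat n F *ᵥ x) i = if h : (i : ℕ) + 1 < n then x ⟨(i : ℕ) + 1, h⟩ else 0 := by
  classical
  simp only [Matrix.mulVec, dotProduct, shiftMat, Matrix.of_apply, ite_mul, one_mul, zero_mul]
  split_ifs with h
  · rw [Finset.sum_eq_single (⟨(i : ℕ) + 1, h⟩ : Fin n)]
    · simp
    · intro j _ hj
      rw [if_neg]
      intro hj'
      exact hj (Fin.ext hj')
    · intro h'; exact absurd (Finset.mem_univ _) h'
  · apply Finset.sum_eq_zero
    intro j _
    rw [if_neg]
    intro hj
    exact h (hj ▸ j.2)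

theorem shiftMat_pow_mulVec (k : ℕ) (x : Fin n → F) (i : Fin n) :
    ((shiftMat n F) ^ k *ᵥ x) i = if h : (i : ℕ) + k < n then x ⟨(i : ℕ) + k, h⟩ else 0 := by
  induction k generalizing x with
  | zero => simp
  | succ k ih =>
    rw [pow_succ, ← Matrix.mulVec_mulVec, ih]
    by_cases h1 : (i : ℕ) + k < n
    · rw [dif_pos h1, shiftMat_mulVec]
      by_cases h3 : (i : ℕ) + (k + 1) < n
      · have h3' : (i : ℕ) + k + 1 < n := by omega
        rw [dif_pos h3, dif_pos h3']
        congr 1
      · have h3' : ¬ ((i : ℕ) + k + 1 < n) := by omega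
        rw [dif_neg h3, dif_neg h3']
    · have h3 : ¬ ((i : ℕ) + (k + 1) < n) := by omega
      rw [dif_neg h1, dif_neg h3]

theorem shiftMat_pow_eq_zero : (shiftMat n F) ^ n = 0 := by
  classical
  apply Matrix.toLin'.injective
  apply LinearMap.ext
  intro x
  ext i
  rw [Matrix.toLin'_apply, shiftMat_pow_mulVec]
  have : ¬ ((i : ℕ) + n < n) := by omega
  simp [this]

theorem rank_shiftMat (hn : 1 ≤ n) : (shiftMat n F).rank = n - 1 := by
  classical
  have h1 := LinearMap.finrank_range_add_finrank_ker (Matrix.mulVecLin (shiftMat n F))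
  rw [Module.finrank_fin_fun] at h1
  have hker : LinearMap.ker (Matrix.mulVecLin (shiftMat n F)) =
      Submodule.span F {(Pi.single (⟨0, hn⟩ : Fin n) (1 : F) : Fin n → F)} := by
    apply le_antisymm
    · intro x hx
      rw [LinearMap.mem_ker, Matrix.mulVecLin_apply] at hx
      rw [Submodule.mem_span_singleton]
      refine ⟨x ⟨0, hn⟩, ?_⟩
      ext j
      rcases Nat.eq_zero_or_pos (j : ℕ) with hj | hj
      · have : j = ⟨0, hn⟩ := Fin.ext hj
        rw [this]; simp
      · have hj1 : (j : ℕ) - 1 + 1 < n := by have := j.2; omega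
        have h2 := congrFun hx ⟨(j : ℕ) - 1, by have := j.2; omega⟩
        rw [shiftMat_mulVec] at h2
        simp only [hj1, dite_true, Pi.zero_apply] at h2
        have h3 : (⟨(j : ℕ) - 1 + 1, hj1⟩ : Fin n) = j := Fin.ext (by simp; omega)
        rw [h3] at h2
        have hne : j ≠ ⟨0, hn⟩ := by
          intro h0; rw [h0] at hj; simp at hj
        simp [h2, hne]
    · rw [Submodule.span_singleton_le_iff_mem, LinearMap.mem_ker, Matrix.mulVecLin_apply]
      ext i
      rw [shiftMat_mulVec]
      split_ifs with h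
      · have : (⟨(i : ℕ) + 1, h⟩ : Fin n) ≠ ⟨0, hn⟩ := by
          intro h0; simp at h0
        simp [this]
      · rfl
  have hk1 : finrank F (LinearMap.ker (Matrix.mulVecLin (shiftMat n F))) = 1 := by
    rw [hker, finrank_span_singleton]
    intro h0
    have := congrFun h0 ⟨0, hn⟩
    simp at this
  have : (shiftMat n F).rank = finrank F (LinearMap.range (Matrix.mulVecLin (shiftMat n F))) := rfl
  omega

theorem det_one_add_shiftMat : (1 + shiftMat n F).det = 1 := by
  classical
  have htri : (1 + shiftMat n F).BlockTriangular id := by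
    intro i j hij
    have hij' : (j : ℕ) < (i : ℕ) := hij
    have h1 : (1 : Matrix (Fin n) (Fin n) F) i j = 0 := by
      rw [Matrix.one_apply_ne]
      intro h0; rw [h0] at hij'; omega
    have h2 : shiftMat n F i j = 0 := by
      simp only [shiftMat, Matrix.of_apply]
      rw [if_neg]; omega
    rw [Matrix.add_apply, h1, h2, add_zero]
  rw [Matrix.det_of_isUpperTriangular htri]
  apply Finset.prod_eq_one
  intro i _
  have h2 : shiftMat n F i i = 0 := by
    simp only [shiftMat, Matrix.of_apply]
    rw [if_neg]; omega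
  rw [Matrix.add_apply, Matrix.one_apply_eq, h2, add_zero]

end shift

section regular

variable {F : Type*} [Field F] {n : ℕ}

/-- regular unipotent matrices: `A - 1` nilpotent of rank `n - 1` -/
def IsRegUnip (A : Matrix (Fin n) (Fin n) F) : Prop :=
  (A - 1) ^ n = 0 ∧ (A - 1).rank = n - 1

theorem isRegUnip_one_add_shiftMat (hn : 1 ≤ n) : IsRegUnip (1 + shiftMat n F) := by
  unfold IsRegUnip
  rw [add_sub_cancel_left]
  exact ⟨shiftMat_pow_eq_zero, rank_shiftMat hn⟩

theorem IsRegUnip.finrank_ker_le {A : Matrix (Fin n) (Fin n) F} (hA : IsRegUnip A) :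
    finrank F (LinearMap.ker
      (Matrix.toLinAlgEquiv' (R := F) (n := Fin n) (A - 1) : Module.End F (Fin n → F))) ≤ 1 :=
  finrank_ker_mulVecLin_le_one' (A - 1) (by rw [Fintype.card_fin]; exact hA.2)

theorem IsRegUnip.pow_finrank_eq_zero {A : Matrix (Fin n) (Fin n) F} (hA : IsRegUnip A) :
    (Matrix.toLinAlgEquiv' (R := F) (n := Fin n) (A - 1) : Module.End F (Fin n → F)) ^
      finrank F (Fin n → F) = 0 := by
  rw [Module.finrank_fin_fun, ← map_pow, hA.1, map_zero]

/-- regular unipotent matrices are conjugate under `GL_n` -/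
theorem IsRegUnip.exists_conj (hn : 1 ≤ n) {A A' : Matrix (Fin n) (Fin n) F} (hA : IsRegUnip A)
    (hA' : IsRegUnip A') :
    ∃ P : GL (Fin n) F, (P : Matrix (Fin n) (Fin n) F) * A = A' * (P : Matrix (Fin n) (Fin n) F) := by
  classical
  have hpos : 1 ≤ finrank F (Fin n → F) := by rw [Module.finrank_fin_fun]; exact hn
  let L := Matrix.toLinAlgEquiv' (R := F) (n := Fin n)
  set N : Module.End F (Fin n → F) := L (A - 1) with hN
  set N' : Module.End F (Fin n → F) := L (A' - 1) with hN'
  have a1 : finrank F (LinearMap.ker N) ≤ 1 := hA.finrank_ker_le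
  have a2 : N ^ finrank F (Fin n → F) = 0 := hA.pow_finrank_eq_zero
  have a3 : finrank F (LinearMap.ker N') ≤ 1 := hA'.finrank_ker_le
  have a4 : N' ^ finrank F (Fin n → F) = 0 := hA'.pow_finrank_eq_zero
  obtain ⟨P, hP⟩ := regularNilpotent_conj N N' a1 a2 a3 a4 hpos
  set M : Matrix (Fin n) (Fin n) F := L.symm P with hM
  have hLM : L M = P := L.apply_symm_apply P
  have hdet : M.det ≠ 0 := by
    have h1 : LinearMap.det (L M) = M.det := by
      show LinearMap.det (Matrix.toLin' M) = M.det
      rw [LinearMap.det_toLin']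
    rw [← h1, hLM]
    exact (LinearEquiv.isUnit_det' P).ne_zero
  have hcomm : M * (A - 1) = (A' - 1) * M := by
    apply L.injective
    rw [map_mul, map_mul, hLM]
    apply LinearMap.ext
    intro x
    exact hP x
  refine ⟨Matrix.GeneralLinearGroup.mkOfDetNeZero M hdet, ?_⟩
  show M * A = A' * M
  rw [mul_sub, sub_mul, mul_one, one_mul] at hcomm
  exact sub_left_injective hcomm

/-- a matrix commuting with a regular unipotent matrix has determinant an `n`-th power -/
theorem IsRegUnip.exists_det_eq_pow (hn : 1 ≤ n) {A : Matrix (Fin n) (Fin n) F} (hA : IsRegUnip A)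
    (Z : Matrix (Fin n) (Fin n) F) (hZ : Z * A = A * Z) : ∃ a : F, Z.det = a ^ n := by
  classical
  have hpos : 1 ≤ finrank F (Fin n → F) := by rw [Module.finrank_fin_fun]; exact hn
  let L := Matrix.toLinAlgEquiv' (R := F) (n := Fin n)
  set N : Module.End F (Fin n → F) := L (A - 1) with hN
  have a1 : finrank F (LinearMap.ker N) ≤ 1 := hA.finrank_ker_le
  have a2 : N ^ finrank F (Fin n → F) = 0 := hA.pow_finrank_eq_zero
  have hcomm : Commute (L Z) N := by
    have : Commute Z (A - 1) := by
      show Z * (A - 1) = (A - 1) * Z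
      rw [mul_sub, sub_mul, mul_one, one_mul, hZ]
    exact this.map L
  obtain ⟨a, ha⟩ := exists_det_eq_pow_of_commute N a1 a2 hpos (L Z) hcomm
  refine ⟨a, ?_⟩
  have h1 : LinearMap.det (L Z) = Z.det := by
    show LinearMap.det (Matrix.toLin' Z) = Z.det
    rw [LinearMap.det_toLin']
  rw [← h1, ha, Module.finrank_fin_fun]

/-- conjugates of regular unipotent matrices are regular unipotent -/
theorem IsRegUnip.conj {A B : Matrix (Fin n) (Fin n) F} (hA : IsRegUnip A) (P : GL (Fin n) F)
    (h : (P : Matrix (Fin n) (Fin n) F) * A = B * (P : Matrix (Fin n) (Fin n) F)) :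
    IsRegUnip B := by
  classical
  have hB : B - 1 = (P : Matrix (Fin n) (Fin n) F) * (A - 1) *
      ((P⁻¹ : GL (Fin n) F) : Matrix (Fin n) (Fin n) F) := by
    rw [mul_sub, mul_one, h, sub_mul, mul_assoc, ← Units.val_mul, mul_inv_cancel, Units.val_one,
      mul_one]
  have hPdet : IsUnit (P : Matrix (Fin n) (Fin n) F).det :=
    (Matrix.isUnit_iff_isUnit_det _).mp P.isUnit
  have hPidet : IsUnit ((P⁻¹ : GL (Fin n) F) : Matrix (Fin n) (Fin n) F).det :=
    (Matrix.isUnit_iff_isUnit_det _).mp (P⁻¹).isUnit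
  refine ⟨?_, ?_⟩
  · rw [hB, Units.conj_pow, hA.1, mul_zero, zero_mul]
  · rw [hB, Matrix.rank_mul_eq_left_of_isUnit_det _ _ hPidet,
      Matrix.rank_mul_eq_right_of_isUnit_det _ _ hPdet, hA.2]

end regular

end Cfsg.Agent.Lib.Helper43
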