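import Mathlib

/-!
# Determinants of the centralizer of a semisimple endomorphism over a finite field

For a semisimple endomorphism `φ` of a nonzero finite-dimensional vector space over a finite
field `F`, every element of `F` is the determinant of an endomorphism commuting with `φ`.
-/

namespace Cfsg.Agent.Lib.Helper43

open Polynomial Module

theorem exists_commute_det_eq {F V : Type*} [Field F] [Finite F] [AddCommGroup V] [Module F V]
    [FiniteDimensional F V] [Nontrivial V] (φ : Module.End F V) (hφ : φ.IsSemisimple) (c : F) :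
    ∃ ψ : V →ₗ[F] V, ψ ∘ₗ φ = φ ∘ₗ ψ ∧ LinearMap.det ψ = c := by
  classical
  have hss : IsSemisimpleModule F[X] (AEval' φ) := hφ
  have : Nontrivial (AEval' φ) := (AEval'.of φ).toEquiv.symm.nontrivial
  obtain ⟨W, hW⟩ := IsSemisimpleModule.exists_simple_submodule F[X] (AEval' φ)
  obtain ⟨W', hWW'⟩ := exists_isCompl W
  obtain ⟨m, hm, ⟨eW⟩⟩ := isSimpleModule_iff_quot_maximal.mp hW
  let : Field (F[X] ⧸ m) := Ideal.Quotient.field m
  have : Finite V := Module.finite_of_finite F
  have : Finite (AEval' φ) := Finite.of_equiv V (AEval'.of φ).toEquiv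
  have : Finite W := inferInstance
  have : Finite (F[X] ⧸ m) := Finite.of_equiv W eW.toEquiv
  obtain ⟨α, hα⟩ := FiniteField.norm_surjective F (F[X] ⧸ m) c
  -- the `F[X]`-linear equivalence `M ≃ K × W'`
  let T : AEval' φ ≃ₗ[F[X]] (F[X] ⧸ m) × W' :=
    (Submodule.prodEquivOfIsCompl W W' hWW').symm ≪≫ₗ (eW.prodCongr (LinearEquiv.refl F[X] W'))
  let P : ((F[X] ⧸ m) × W') →ₗ[F[X]] ((F[X] ⧸ m) × W') :=
    (LinearMap.mulLeft F[X] α).prodMap LinearMap.id
  let μ : AEval' φ →ₗ[F[X]] AEval' φ := T.symm.toLinearMap ∘ₗ P ∘ₗ T.toLinearMap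
  refine ⟨(AEval'.of φ).symm.toLinearMap ∘ₗ (μ.restrictScalars F) ∘ₗ (AEval'.of φ).toLinearMap,
    ?_, ?_⟩
  · ext v
    simp only [LinearMap.coe_comp, LinearEquiv.coe_coe, Function.comp_apply,
      LinearMap.coe_restrictScalars]
    rw [← AEval'.X_smul_of, map_smul]
    apply (AEval'.of φ).injective
    rw [LinearEquiv.apply_symm_apply, ← AEval'.X_smul_of, LinearEquiv.apply_symm_apply]
  · refine (LinearMap.det_conj (μ.restrictScalars F) (AEval'.of φ).symm).trans ?_
    have h1 : μ.restrictScalars F =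
        ((T.restrictScalars F).symm : ((F[X] ⧸ m) × W') →ₗ[F] AEval' φ) ∘ₗ
          (P.restrictScalars F) ∘ₗ ((T.restrictScalars F).symm.symm : AEval' φ →ₗ[F] _) :=
      LinearMap.ext fun _ => rfl
    rw [h1, LinearMap.det_conj]
    have h2 : P.restrictScalars F =
        (Algebra.lmul F (F[X] ⧸ m) α).prodMap (LinearMap.id : W' →ₗ[F] W') :=
      LinearMap.ext fun _ => rfl
    rw [h2, LinearMap.det_prodMap, LinearMap.det_id, mul_one, ← Algebra.norm_apply, hα]

end Cfsg.Agent.Lib.Helper43
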