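import Mathlib
import Cfsg.Agent.Lib.Helper40.SpNonex
import Cfsg.Agent.Lib.Helper40.OrthBlock

/-!
# Semisimple elements commuting with unipotent ones in odd-dimensional orthogonal groups
(helper43, for S2474 [ON2])

Port of `Cfsg.Agent.Lib.Helper40.eta_succ_le_of_commuting` to isometries of a non-degenerate
form in odd dimension `2 n + 1`.
-/

set_option autoImplicit false
set_option linter.unusedSectionVars false
set_option linter.unusedVariables false

namespace Cfsg.Agent.Lib.Helper43

open Matrix Polynomial Module Cfsg.Agent.Lib.Helper40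

section oddDet
variable {F : Type*} [Field F] {ι : Type*} [Fintype ι] [DecidableEq ι]

/-- an isometry of determinant one in odd dimension has the eigenvalue `1` -/
theorem det_sub_one_eq_zero_of_isometry_odd (h2 : (2 : F) ≠ 0) (hodd : Odd (Fintype.card ι))
    (B S : Matrix ι ι F) (hBdet : B.det ≠ 0) (hS : Sᵀ * B * S = B) (hdet : S.det = 1) :
    (S - 1).det = 0 := by
  have h1 : (S - 1)ᵀ * B * S = -(B * (S - 1)) := by
    rw [Matrix.transpose_sub, Matrix.transpose_one, Matrix.sub_mul, Matrix.sub_mul, hS,
      Matrix.one_mul, Matrix.mul_sub, Matrix.mul_one]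
    abel
  have h3 := congrArg Matrix.det h1
  rw [Matrix.det_mul, Matrix.det_mul, Matrix.det_transpose, hdet, mul_one, Matrix.det_neg,
    Matrix.det_mul, hodd.neg_one_pow] at h3
  have h4 : (2 : F) * ((S - 1).det * B.det) = 0 := by
    linear_combination h3
  rcases mul_eq_zero.mp h4 with h | h
  · exact absurd h h2
  · rcases mul_eq_zero.mp h with h | h
    · exact h
    · exact absurd h hBdet

/-- the determinant of an isometry of odd order is one -/
theorem det_eq_one_of_isometry_of_pow_odd (B S : Matrix ι ι F) (hBdet : B.det ≠ 0)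
    (hS : Sᵀ * B * S = B) (r : ℕ) (hr : Odd r) (hSr : S ^ r = 1) : S.det = 1 := by
  have h3 := congrArg Matrix.det hS
  rw [Matrix.det_mul, Matrix.det_mul, Matrix.det_transpose] at h3
  have h4 : S.det * S.det = 1 := by
    have : B.det * (S.det * S.det - 1) = 0 := by linear_combination h3
    rcases mul_eq_zero.mp this with h | h
    · exact absurd h hBdet
    · linear_combination h
  have h5 : S.det ^ r = 1 := by
    rw [← Matrix.det_pow, hSr, Matrix.det_one]
  obtain ⟨c, rfl⟩ := hr
  rw [pow_succ, pow_mul, pow_two, h4, one_pow, one_mul] at h5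
  exact h5

end oddDet

section nonexOrth
variable {F : Type*} [Field F] [Fintype F] {ι : Type*} [Fintype ι] [DecidableEq ι]

/-- an element of odd prime order `r` commuting with a nontrivial unipotent element among the
isometries of a non-degenerate form in dimension `2 n + 1` forces `η(k) + 1 ≤ n` -/
theorem orth_eta_succ_le_of_commuting (p : ℕ) [Fact p.Prime] [CharP F p] (hp2 : p ≠ 2) (r : ℕ)
    (hr : r.Prime) (hr2 : r ≠ 2) (hrp : r ≠ p) {n : ℕ} (hι : Fintype.card ι = 2 * n + 1)
    (B S U : Matrix ι ι F) (hBs : Bᵀ = B) (hBdet : B.det ≠ 0) (hS : Sᵀ * B * S = B)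
    (hSr : S ^ r = 1) (hS1 : S ≠ 1) (hUp : U ^ p = 1) (hU1 : U ≠ 1) (hSU : S * U = U * S)
    (k ηk : ℕ) (hk : orderOf ((Fintype.card F : ℕ) : ZMod r) = k)
    (hηk : (Odd k ∧ ηk = k) ∨ (Even k ∧ 2 * ηk = k)) : ηk + 1 ≤ n := by
  classical
  have hpp : p.Prime := Fact.out
  have : Fact r.Prime := ⟨hr⟩
  have : CharP (AlgebraicClosure F) p :=
    charP_of_injective_algebraMap (algebraMap F (AlgebraicClosure F)).injective p
  have h2F : (2 : F) ≠ 0 := by
    intro h0
    have h1 : ((2 : ℕ) : F) = 0 := by exact_mod_cast h0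
    have h3 := (CharP.cast_eq_zero_iff F p 2).mp h1
    exact hp2 ((Nat.prime_dvd_prime_iff_eq hpp Nat.prime_two).mp h3)
  have hrK : (r : AlgebraicClosure F) ≠ 0 := by
    intro h0
    have h1 := (CharP.cast_eq_zero_iff (AlgebraicClosure F) p r).mp h0
    exact hrp ((Nat.prime_dvd_prime_iff_eq hpp hr).mp h1).symm
  have hrq : ¬ r ∣ Fintype.card F := by
    intro h
    obtain ⟨e, he⟩ := FiniteField.card F p
    rw [he.2] at h
    exact hrp ((Nat.prime_dvd_prime_iff_eq hr hpp).mp (hr.dvd_of_dvd_pow h))
  have hk0 : 0 < k := by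
    rw [← hk]
    exact order_pos hrq
  have hrodd : Odd r := hr.odd_of_ne_two hr2
  obtain ⟨ν, hνroot, hνr, hν1⟩ := exists_root_charpoly_of_pow (K := AlgebraicClosure F) S r 1 hrK
    (by rw [one_mul]; exact hSr) (by rw [pow_one]; exact hS1)
  rw [one_mul] at hνr
  rw [pow_one] at hν1
  have hν0 : ν ≠ 0 := by
    rintro rfl
    rw [zero_pow hr.ne_zero] at hνr
    exact zero_ne_one hνr
  have hord : orderOf (Units.mk0 ν hν0) = r := by
    apply orderOf_eq_prime
    · apply Units.ext
      rw [Units.val_pow_eq_pow_val, Units.val_mk0, hνr, Units.val_one]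
    · intro h
      apply hν1
      have := congrArg Units.val h
      rw [Units.val_mk0, Units.val_one] at this
      exact this
  obtain ⟨s, hs, hcard⟩ := exists_finset_two_eta
    {x : (AlgebraicClosure F)ˣ | aeval (x : AlgebraicClosure F) S.charpoly = 0} (Fintype.card F)
    (by
      intro x hx
      show aeval ((x ^ Fintype.card F : (AlgebraicClosure F)ˣ) : AlgebraicClosure F) S.charpoly = 0
      rw [Units.val_pow_eq_pow_val]
      exact aeval_pow_card_eq_zero S.charpoly (x : AlgebraicClosure F) hx)
    (by
      intro x hx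
      show aeval ((x⁻¹ : (AlgebraicClosure F)ˣ) : AlgebraicClosure F) S.charpoly = 0
      rw [Units.val_inv_eq_inv_val]
      exact aeval_inv_charpoly_of_isometry B S hBdet hS (x : AlgebraicClosure F) hx)
    (Units.mk0 ν hν0) (by
      show aeval ((Units.mk0 ν hν0 : (AlgebraicClosure F)ˣ) : AlgebraicClosure F) S.charpoly = 0
      rw [Units.val_mk0]
      exact hνroot) r hr hr2 hord k ηk hk0 hk hηk
  -- the extra root `1`
  have hdet1 : S.det = 1 := det_eq_one_of_isometry_of_pow_odd B S hBdet hS r hrodd hSr
  have hoddι : Odd (Fintype.card ι) := ⟨n, hι⟩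
  have hdet0 : (S - 1).det = 0 :=
    det_sub_one_eq_zero_of_isometry_odd h2F hoddι B S hBdet hS hdet1
  have hone_root : aeval (1 : AlgebraicClosure F) S.charpoly = 0 := by
    have h1 : S.charpoly.eval (1 : F) = 0 := by
      rw [Matrix.eval_charpoly]
      have h3 : (Matrix.scalar ι (1 : F) - S) = -(S - 1) := by
        rw [map_one]
        abel
      rw [h3, Matrix.det_neg, hdet0, mul_zero]
    have h4 : aeval (algebraMap F (AlgebraicClosure F) 1) S.charpoly = 0 := by
      rw [Polynomial.aeval_algebraMap_apply, Polynomial.coe_aeval_eq_eval, h1, map_zero]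
    rw [map_one] at h4
    exact h4
  have h1not : (1 : (AlgebraicClosure F)ˣ) ∉ s := by
    intro h1s
    have h3 := (hs 1 h1s).2
    rw [orderOf_one] at h3
    exact hr.one_lt.ne h3
  set s' : Finset (AlgebraicClosure F)ˣ := insert 1 s with hs'
  have hs'card : s'.card = s.card + 1 := Finset.card_insert_of_notMem h1not
  set Z : Finset (AlgebraicClosure F) := s'.map ⟨Units.val, Units.val_injective⟩ with hZ
  have hZroot : ∀ z ∈ Z, aeval z S.charpoly = 0 := by
    intro z hz
    obtain ⟨x, hx, rfl⟩ := Finset.mem_map.mp hz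
    rcases Finset.mem_insert.mp hx with rfl | hx
    · show aeval ((1 : (AlgebraicClosure F)ˣ) : AlgebraicClosure F) S.charpoly = 0
      rw [Units.val_one]
      exact hone_root
    · exact (hs x hx).1
  have hZcard : Z.card = s'.card := Finset.card_map _
  have h2n := card_le_of_roots_charpoly S Z hZroot
  rw [hι] at h2n
  by_contra hlt
  have heq : ηk = n := by omega
  have hinj : Function.Injective
      ((algebraMap F (AlgebraicClosure F)).mapMatrix (m := ι)) := by
    intro X Y hXY
    exact Matrix.map_injective (algebraMap F (AlgebraicClosure F)).injective hXY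
  have hN : (algebraMap F (AlgebraicClosure F)).mapMatrix (U - 1) = 0 := by
    apply eq_zero_of_commute_of_card_roots ((algebraMap F (AlgebraicClosure F)).mapMatrix S) _ Z
    · intro z hz
      exact isRoot_charpoly_map S z (hZroot z hz)
    · rw [hι]
      omega
    · rw [← map_mul, ← map_mul]
      congr 1
      rw [mul_sub, sub_mul, mul_one, one_mul, hSU]
    · refine ⟨p, ?_⟩
      rw [← map_pow]
      have : Nonempty ι := by
        rw [← Fintype.card_pos_iff, hι]
        omega
      rw [sub_pow_char_of_commute p (Commute.one_right U), hUp, one_pow, sub_self, map_zero]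
  apply hU1
  have := hinj (hN.trans (map_zero _).symm)
  exact sub_eq_zero.mp this

end nonexOrth

end Cfsg.Agent.Lib.Helper43
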