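/-
helper43: invertible (skew-)symmetric matrices preserved by a matrix `T`
(`Tᵀ Ω T = Ω`), and their closure under block constructions.
-/
import Mathlib

set_option autoImplicit false

namespace Cfsg.Agent.Lib.Helper43

open Matrix

variable {F : Type*} [Field F]

/-- `Ω` is an invertible matrix with `Ωᵀ = s Ω` (and zero diagonal if `zd`), preserved by `T` -/
structure FormInv {ι : Type*} [Fintype ι] [DecidableEq ι] (s : F) (zd : Prop)
    (Ω T : Matrix ι ι F) : Prop where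
  inv : ∃ Ω' : Matrix ι ι F, Ω * Ω' = 1
  symm : Ωᵀ = s • Ω
  diag : zd → ∀ i, Ω i i = 0
  pres : Tᵀ * Ω * T = Ω

theorem transpose_mul_mul_apply {ι : Type*} [Fintype ι] (A Ω : Matrix ι ι F) (i j : ι) :
    (Aᵀ * Ω * A) i j = (fun k => A k i) ⬝ᵥ Ω *ᵥ (fun k => A k j) := by
  simp only [Matrix.mul_apply, dotProduct, Matrix.mulVec, Matrix.transpose_apply, Finset.sum_mul,
    Finset.mul_sum]
  rw [Finset.sum_comm]
  apply Finset.sum_congr rfl
  intro k _
  apply Finset.sum_congr rfl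
  intro l _
  ring

section closure

variable {s : F} {zd : Prop}

/-- block diagonal sums -/
theorem FormInv.blockDiagonal' {o : Type*} [Fintype o] [DecidableEq o] {m' : o → Type*}
    [∀ i, Fintype (m' i)] [∀ i, DecidableEq (m' i)] {Ω T : ∀ i, Matrix (m' i) (m' i) F}
    (h : ∀ i, FormInv s zd (Ω i) (T i)) :
    FormInv s zd (Matrix.blockDiagonal' Ω) (Matrix.blockDiagonal' T) := by
  refine ⟨?_, ?_, ?_, ?_⟩
  · have h1 : ∀ i, ∃ Ω' : Matrix (m' i) (m' i) F, Ω i * Ω' = 1 := fun i => (h i).inv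
    choose Ω' hΩ' using h1
    refine ⟨Matrix.blockDiagonal' Ω', ?_⟩
    rw [← Matrix.blockDiagonal'_mul, ← Matrix.blockDiagonal'_one]
    congr 1
    funext i
    exact hΩ' i
  · rw [Matrix.blockDiagonal'_transpose, ← Matrix.blockDiagonal'_smul]
    congr 1
    funext i
    exact (h i).symm
  · rintro hz ⟨i, a⟩
    rw [Matrix.blockDiagonal'_apply_eq]
    exact (h i).diag hz a
  · rw [Matrix.blockDiagonal'_transpose, ← Matrix.blockDiagonal'_mul, ← Matrix.blockDiagonal'_mul]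
    congr 1
    funext i
    exact (h i).pres

/-- orthogonal sum of two -/
theorem FormInv.fromBlocks {ι₁ ι₂ : Type*} [Fintype ι₁] [DecidableEq ι₁] [Fintype ι₂]
    [DecidableEq ι₂] {Ω₁ T₁ : Matrix ι₁ ι₁ F} {Ω₂ T₂ : Matrix ι₂ ι₂ F}
    (h₁ : FormInv s zd Ω₁ T₁) (h₂ : FormInv s zd Ω₂ T₂) :
    FormInv s zd (Matrix.fromBlocks Ω₁ 0 0 Ω₂) (Matrix.fromBlocks T₁ 0 0 T₂) := by
  refine ⟨?_, ?_, ?_, ?_⟩
  · obtain ⟨Ω₁', h1⟩ := h₁.inv
    obtain ⟨Ω₂', h2⟩ := h₂.inv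
    refine ⟨Matrix.fromBlocks Ω₁' 0 0 Ω₂', ?_⟩
    rw [Matrix.fromBlocks_multiply]
    simp [h1, h2, Matrix.fromBlocks_one]
  · rw [Matrix.fromBlocks_transpose, Matrix.fromBlocks_smul, h₁.symm, h₂.symm]
    simp
  · rintro hz (i | i)
    · rw [Matrix.fromBlocks_apply₁₁]; exact h₁.diag hz i
    · rw [Matrix.fromBlocks_apply₂₂]; exact h₂.diag hz i
  · rw [Matrix.fromBlocks_transpose, Matrix.fromBlocks_multiply, Matrix.fromBlocks_multiply]
    simp [h₁.pres, h₂.pres]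

/-- hyperbolic pair of two blocks in duality -/
theorem FormInv.pair {ι₁ ι₂ : Type*} [Fintype ι₁] [DecidableEq ι₁] [Fintype ι₂]
    [DecidableEq ι₂] (hs : s * s = 1) {T₁ : Matrix ι₁ ι₁ F} {T₂ : Matrix ι₂ ι₂ F}
    (G : Matrix ι₁ ι₂ F) (G' : Matrix ι₂ ι₁ F) (hGG' : G * G' = 1) (hG'G : G' * G = 1)
    (hG : T₁ᵀ * G * T₂ = G) :
    FormInv s zd (Matrix.fromBlocks 0 G (s • Gᵀ) 0) (Matrix.fromBlocks T₁ 0 0 T₂) := by
  refine ⟨?_, ?_, ?_, ?_⟩
  · refine ⟨Matrix.fromBlocks 0 (s • G'ᵀ) G' 0, ?_⟩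
    rw [Matrix.fromBlocks_multiply]
    have h1 : Gᵀ * G'ᵀ = 1 := by rw [← Matrix.transpose_mul, hG'G, Matrix.transpose_one]
    simp [hGG', h1, Matrix.fromBlocks_one, smul_smul, hs]
  · rw [Matrix.fromBlocks_transpose, Matrix.fromBlocks_smul]
    simp [smul_smul, hs]
  · rintro _ (i | i)
    · rw [Matrix.fromBlocks_apply₁₁]; rfl
    · rw [Matrix.fromBlocks_apply₂₂]; rfl
  · rw [Matrix.fromBlocks_transpose, Matrix.fromBlocks_multiply, Matrix.fromBlocks_multiply]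
    have h2 : T₂ᵀ * Gᵀ * T₁ = Gᵀ := by
      have := congrArg Matrix.transpose hG
      rw [Matrix.transpose_mul, Matrix.transpose_mul, Matrix.transpose_transpose,
        ← Matrix.mul_assoc] at this
      exact this
    simp [hG, h2, Matrix.mul_smul, Matrix.smul_mul]

/-- reindexing along an equivalence -/
theorem FormInv.submatrix {ι ι' : Type*} [Fintype ι] [DecidableEq ι] [Fintype ι']
    [DecidableEq ι'] {Ω T : Matrix ι ι F} (h : FormInv s zd Ω T) (φ : ι' ≃ ι) :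
    FormInv s zd (Ω.submatrix φ φ) (T.submatrix φ φ) := by
  refine ⟨?_, ?_, ?_, ?_⟩
  · obtain ⟨Ω', h1⟩ := h.inv
    refine ⟨Ω'.submatrix φ φ, ?_⟩
    rw [Matrix.submatrix_mul_equiv, h1, Matrix.submatrix_one_equiv]
  · rw [Matrix.transpose_submatrix, h.symm]
    rfl
  · intro hz i
    exact h.diag hz (φ i)
  · rw [Matrix.transpose_submatrix, Matrix.submatrix_mul_equiv, Matrix.submatrix_mul_equiv, h.pres]

/-- pulling back along an equivalence -/
theorem FormInv.of_submatrix {ι ι' : Type*} [Fintype ι] [DecidableEq ι] [Fintype ι']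
    [DecidableEq ι'] {Ω' : Matrix ι' ι' F} {T : Matrix ι ι F} (φ : ι' ≃ ι)
    (h : FormInv s zd Ω' (T.submatrix φ φ)) :
    FormInv s zd (Ω'.submatrix φ.symm φ.symm) T := by
  have := h.submatrix φ.symm
  simpa using this

/-- transport along a conjugation `P T = T' P` -/
theorem FormInv.conj {ι : Type*} [Fintype ι] [DecidableEq ι] {Ω T T' : Matrix ι ι F}
    (h : FormInv s zd Ω T) (halt : zd → ∀ x : ι → F, x ⬝ᵥ Ω *ᵥ x = 0)
    (P P' : Matrix ι ι F) (hPP' : P * P' = 1) (hP : P * T = T' * P) :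
    FormInv s zd (P'ᵀ * Ω * P') T' := by
  have hP'P : P' * P = 1 := mul_eq_one_comm.mp hPP'
  have hT' : T' = P * T * P' := by
    rw [hP, mul_assoc, hPP', mul_one]
  refine ⟨?_, ?_, ?_, ?_⟩
  · obtain ⟨Ω', h1⟩ := h.inv
    refine ⟨P * Ω' * Pᵀ, ?_⟩
    have h2 : P'ᵀ * Pᵀ = 1 := by rw [← Matrix.transpose_mul, hPP', Matrix.transpose_one]
    calc P'ᵀ * Ω * P' * (P * Ω' * Pᵀ) = P'ᵀ * (Ω * ((P' * P) * Ω')) * Pᵀ := by
          simp only [mul_assoc]
      _ = 1 := by rw [hP'P, one_mul, h1, mul_one, ← Matrix.transpose_mul, hPP', Matrix.transpose_one]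
  · rw [Matrix.transpose_mul, Matrix.transpose_mul, Matrix.transpose_transpose, h.symm]
    simp only [Matrix.mul_smul, Matrix.smul_mul, Matrix.mul_assoc]
  · intro hz i
    rw [transpose_mul_mul_apply]
    exact halt hz _
  · rw [hT']
    have h4 : (P * T * P')ᵀ * (P'ᵀ * Ω * P') * (P * T * P') =
        P'ᵀ * (Tᵀ * ((P' * P)ᵀ * Ω * (P' * P)) * T) * P' := by
      simp only [Matrix.transpose_mul, mul_assoc]
    rw [h4, hP'P, Matrix.transpose_one, one_mul, mul_one, h.pres]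

end closure

end Cfsg.Agent.Lib.Helper43
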