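/-
helper43: ranks of the powers of `T - 1` for the unipotent matrix `T` of a given Jordan type.
-/
import Cfsg.Prelude.Def_JordanBlocks
import Cfsg.Agent.Lib.Helper43.RegularUnipotentMatrix

set_option autoImplicit false

namespace Cfsg.Agent.Lib.Helper43

open Matrix Module

section blockDiagonal

variable {F : Type*} [Field F] {o : Type*} [Fintype o] [DecidableEq o]
  {m' n' : o → Type*} [∀ i, Fintype (m' i)] [∀ i, Fintype (n' i)]

omit [∀ i, Fintype (m' i)] in
theorem blockDiagonal'_mulVec_apply (M : ∀ i, Matrix (m' i) (n' i) F) (x : (Σ i, n' i) → F)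
    (i : o) (a : m' i) :
    (Matrix.blockDiagonal' M *ᵥ x) ⟨i, a⟩ = (M i *ᵥ fun b => x ⟨i, b⟩) a := by
  simp only [Matrix.mulVec, dotProduct]
  rw [Fintype.sum_sigma, Finset.sum_eq_single i]
  · apply Finset.sum_congr rfl
    intro b _
    rw [Matrix.blockDiagonal'_apply_eq]
  · intro j _ hj
    apply Finset.sum_eq_zero
    intro b _
    rw [Matrix.blockDiagonal'_apply_ne _ _ _ (Ne.symm hj), zero_mul]
  · intro h; exact absurd (Finset.mem_univ _) h

/-- the range of a block diagonal matrix is the product of the ranges of the blocks -/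
noncomputable def rangeBlockDiagonal'Equiv (M : ∀ i, Matrix (m' i) (n' i) F) :
    LinearMap.range (Matrix.blockDiagonal' M).mulVecLin ≃ₗ[F]
      (∀ i, LinearMap.range (M i).mulVecLin) where
  toFun y := fun i => ⟨fun a => y.1 ⟨i, a⟩, by
    obtain ⟨x, hx⟩ := y.2
    refine ⟨fun b => x ⟨i, b⟩, ?_⟩
    funext a
    rw [← hx]
    exact (blockDiagonal'_mulVec_apply M x i a).symm⟩
  map_add' y z := by
    funext i
    apply Subtype.ext
    funext a
    rfl
  map_smul' c y := by
    funext i
    apply Subtype.ext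
    funext a
    rfl
  invFun z := ⟨fun ia => (z ia.1).1 ia.2, by
    have h : ∀ i, ∃ x : n' i → F, (M i).mulVecLin x = (z i).1 := fun i => (z i).2
    choose x hx using h
    refine ⟨fun jb => x jb.1 jb.2, ?_⟩
    funext ⟨i, a⟩
    rw [Matrix.mulVecLin_apply, blockDiagonal'_mulVec_apply]
    have := congrFun (hx i) a
    rw [Matrix.mulVecLin_apply] at this
    exact this⟩
  left_inv y := by
    apply Subtype.ext
    funext ⟨i, a⟩
    rfl
  right_inv z := by
    funext i
    apply Subtype.ext
    funext a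
    rfl

omit [∀ i, Fintype (m' i)] in
theorem rank_blockDiagonal' (M : ∀ i, Matrix (m' i) (n' i) F) :
    (Matrix.blockDiagonal' M).rank = ∑ i, (M i).rank := by
  unfold Matrix.rank
  rw [LinearEquiv.finrank_eq (rangeBlockDiagonal'Equiv M), Module.finrank_pi_fintype]

end blockDiagonal

section jordan

variable {F : Type*} [Field F]

theorem jordanBlock_sub_one (n : ℕ) : Cfsg.jordanBlock n F - 1 = (shiftMat n F)ᵀ := by
  ext i j
  simp only [Cfsg.jordanBlock, shiftMat, Matrix.sub_apply, Matrix.of_apply, Matrix.one_apply,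
    Matrix.transpose_apply]
  by_cases h : i = j
  · subst h
    simp
  · have h' : (i : ℕ) ≠ (j : ℕ) := fun hh => h (Fin.ext hh)
    simp [h, h']

theorem rank_shiftMat_pow (n k : ℕ) : ((shiftMat n F) ^ k).rank = n - k := by
  by_cases hk : k ≤ n
  · rcases Nat.eq_zero_or_pos n with h0 | hn
    · subst h0
      have : k = 0 := by omega
      subst this
      simp
    · have h1 := matrix_finrank_ker_pow_eq (shiftMat n F) shiftMat_pow_eq_zero (rank_shiftMat hn) k hk
      have h2 := LinearMap.finrank_range_add_finrank_ker (Matrix.mulVecLin ((shiftMat n F) ^ k))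
      rw [h1, Module.finrank_fin_fun] at h2
      unfold Matrix.rank
      omega
  · have h0 : (shiftMat n F) ^ k = 0 := by
      have : k = n + (k - n) := by omega
      rw [this, pow_add, shiftMat_pow_eq_zero, zero_mul]
    rw [h0, Matrix.rank_zero]
    omega

theorem rank_jordanBlock_sub_one_pow (n k : ℕ) :
    ((Cfsg.jordanBlock n F - 1) ^ k).rank = n - k := by
  rw [jordanBlock_sub_one, ← Matrix.transpose_pow, Matrix.rank_transpose, rank_shiftMat_pow]

theorem jordanTypeMatrix_sub_one_pow {t : ℕ} (d : Fin t → ℕ) (k : ℕ) :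
    (Cfsg.jordanTypeMatrix d F - 1) ^ k =
      Matrix.blockDiagonal' fun i => (Cfsg.jordanBlock (d i) F - 1) ^ k := by
  have h1 : Cfsg.jordanTypeMatrix d F - 1 =
      Matrix.blockDiagonal' (fun i => Cfsg.jordanBlock (d i) F - 1) := by
    unfold Cfsg.jordanTypeMatrix
    rw [← Matrix.blockDiagonal'_one, ← Matrix.blockDiagonal'_sub]
    rfl
  rw [h1, ← Matrix.blockDiagonal'_pow]
  rfl

theorem rank_jordanTypeMatrix_sub_one_pow {t : ℕ} (d : Fin t → ℕ) (k : ℕ) :
    ((Cfsg.jordanTypeMatrix d F - 1) ^ k).rank = ∑ i, (d i - k) := by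
  rw [jordanTypeMatrix_sub_one_pow, rank_blockDiagonal']
  apply Finset.sum_congr rfl
  intro i _
  exact rank_jordanBlock_sub_one_pow (d i) k

/-- the number of blocks of size `j` from the ranks -/
theorem card_filter_add_two_mul {t : ℕ} (d : Fin t → ℕ) (j : ℕ) (hj : 1 ≤ j) :
    (Finset.univ.filter (fun k : Fin t => d k = j)).card + 2 * ∑ i, (d i - j) =
      ∑ i, (d i - (j - 1)) + ∑ i, (d i - (j + 1)) := by
  rw [Finset.card_filter, Finset.mul_sum, ← Finset.sum_add_distrib, ← Finset.sum_add_distrib]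
  apply Finset.sum_congr rfl
  intro i _
  split_ifs with h <;> omega

end jordan

end Cfsg.Agent.Lib.Helper43
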