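/-
helper43: counting the truncated polynomials `p` (degree `< n`) with `p(X) p(-X) ≡ 1 mod X^n`
over a finite field of odd characteristic: there are `2 q^(n/2)` of them.
-/
import Mathlib

set_option autoImplicit false

namespace Cfsg.Agent.Lib.Helper43

open Polynomial

variable {F : Type*} [Field F]

theorem coeff_comp_neg_X (p : F[X]) (k : ℕ) : (p.comp (-X)).coeff k = (-1) ^ k * p.coeff k := by
  have h : (-X : F[X]) = C (-1) * X := by simp
  rw [h, comp_C_mul_X_coeff, mul_comm]

/-- `p(X) p(-X)` is an even polynomial -/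
theorem coeff_mul_comp_neg_X_odd (h2 : (2 : F) ≠ 0) (p : F[X]) {k : ℕ} (hk : Odd k) :
    (p * p.comp (-X)).coeff k = 0 := by
  have h1 : (p * p.comp (-X)).comp (-X) = p * p.comp (-X) := by
    rw [mul_comp_neg_X, comp_neg_X_comp_neg_X, mul_comm]
  have h3 := coeff_comp_neg_X (p * p.comp (-X)) k
  rw [h1, hk.neg_one_pow] at h3
  have h4 : (2 : F) * (p * p.comp (-X)).coeff k = 0 := by linear_combination h3
  rcases mul_eq_zero.mp h4 with h5 | h5
  · exact absurd h5 h2
  · exact h5

/-- the truncated polynomials of "norm one" -/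
def normOneSet (F : Type*) [Field F] (n : ℕ) : Set F[X] :=
  {p | p.degree < n ∧ X ^ n ∣ p * p.comp (-X) - 1}

theorem coeff_zero_mul_self_of_dvd {n : ℕ} (hn : 1 ≤ n) {p : F[X]}
    (hp : X ^ n ∣ p * p.comp (-X) - 1) : p.coeff 0 * p.coeff 0 = 1 := by
  have h1 := (X_pow_dvd_iff.mp hp) 0 (by omega)
  rw [coeff_sub, mul_coeff_zero, coeff_comp_neg_X, pow_zero, one_mul, coeff_one_zero] at h1
  exact sub_eq_zero.mp h1

theorem expand_lift (n : ℕ) (p : F[X]) (a : F) :
    (p + C a * X ^ n) * (p + C a * X ^ n).comp (-X) - 1 =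
      (p * p.comp (-X) - 1) + X ^ n * (C (a * (-1) ^ n) * p + C a * p.comp (-X)) +
        X ^ n * (X ^ n * C (a * a * (-1) ^ n)) := by
  simp only [add_comp, mul_comp, C_comp, X_comp, pow_comp, neg_pow (X : F[X]) n, C_mul, C_pow,
    C_neg, C_1]
  ring

/-- the lifting criterion -/
theorem lift_dvd_iff {n : ℕ} (hn : 1 ≤ n) {p : F[X]} (hp : X ^ n ∣ p * p.comp (-X) - 1) (a : F) :
    X ^ (n + 1) ∣ (p + C a * X ^ n) * (p + C a * X ^ n).comp (-X) - 1 ↔
      (p * p.comp (-X) - 1).coeff n + a * p.coeff 0 * (1 + (-1) ^ n) = 0 := by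
  rw [expand_lift, X_pow_dvd_iff]
  constructor
  · intro h
    have h1 := h n (by omega)
    rw [coeff_add, coeff_add, coeff_X_pow_mul', coeff_X_pow_mul', if_pos le_rfl, if_pos le_rfl,
      Nat.sub_self, coeff_add, coeff_C_mul, coeff_C_mul, coeff_comp_neg_X, pow_zero, one_mul,
      coeff_X_pow_mul', if_neg (by omega), add_zero] at h1
    linear_combination h1
  · intro h d hd
    rcases Nat.lt_succ_iff_lt_or_eq.mp hd with hd' | rfl
    · rw [coeff_add, coeff_add, coeff_X_pow_mul', coeff_X_pow_mul', if_neg (by omega),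
        if_neg (by omega), add_zero, add_zero]
      exact (X_pow_dvd_iff.mp hp) d hd'
    · rw [coeff_add, coeff_add, coeff_X_pow_mul', coeff_X_pow_mul', if_pos le_rfl, if_pos le_rfl,
        Nat.sub_self, coeff_add, coeff_C_mul, coeff_C_mul, coeff_comp_neg_X, pow_zero, one_mul,
        coeff_X_pow_mul', if_neg (by omega), add_zero]
      linear_combination h

/-- remove the `X^n` coefficient -/
noncomputable def truncLast (n : ℕ) (p : F[X]) : F[X] := p - C (p.coeff n) * X ^ n

theorem truncLast_add_eq (n : ℕ) (p : F[X]) : truncLast n p + C (p.coeff n) * X ^ n = p := by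
  unfold truncLast; ring

theorem degree_truncLast_lt {n : ℕ} {p : F[X]} (hp : p.degree < ((n + 1 : ℕ) : WithBot ℕ)) :
    (truncLast n p).degree < (n : WithBot ℕ) := by
  rw [degree_lt_iff_coeff_zero] at hp ⊢
  intro k hk
  unfold truncLast
  rw [coeff_sub, coeff_C_mul, coeff_X_pow]
  rcases Nat.eq_or_lt_of_le hk with rfl | hk'
  · simp
  · rw [if_neg (by omega), mul_zero, sub_zero]
    exact hp k (by omega)

theorem degree_add_C_mul_X_pow_lt {n : ℕ} {p : F[X]} (hp : p.degree < (n : WithBot ℕ)) (a : F) :
    (p + C a * X ^ n).degree < ((n + 1 : ℕ) : WithBot ℕ) := by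
  rw [degree_lt_iff_coeff_zero] at hp ⊢
  intro k hk
  rw [coeff_add, coeff_C_mul, coeff_X_pow, if_neg (by omega), mul_zero, add_zero]
  exact hp k (by omega)

theorem coeff_add_C_mul_X_pow {n : ℕ} {p : F[X]} (hp : p.degree < (n : WithBot ℕ)) (a : F) :
    (p + C a * X ^ n).coeff n = a := by
  rw [degree_lt_iff_coeff_zero] at hp
  rw [coeff_add, coeff_C_mul, coeff_X_pow, if_pos rfl, mul_one, hp n le_rfl, zero_add]

theorem truncLast_add_C_mul_X_pow {n : ℕ} {p : F[X]} (hp : p.degree < (n : WithBot ℕ)) (a : F) :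
    truncLast n (p + C a * X ^ n) = p := by
  unfold truncLast
  rw [coeff_add_C_mul_X_pow hp]
  ring

/-- `normOneSet (n+1)` as pairs (element of `normOneSet n`, last coefficient) subject to the
lifting condition -/
noncomputable def liftEquiv (n : ℕ) (hn : 1 ≤ n) :
    normOneSet F (n + 1) ≃ {x : normOneSet F n × F //
      (x.1.1 * x.1.1.comp (-X) - 1).coeff n + x.2 * x.1.1.coeff 0 * (1 + (-1) ^ n) = 0} where
  toFun p' :=
    have hdvd : X ^ n ∣ truncLast n p'.1 * (truncLast n p'.1).comp (-X) - 1 := by
      have h1 := p'.2.2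
      rw [← truncLast_add_eq n p'.1, expand_lift] at h1
      have h2 : (X : F[X]) ^ n ∣ X ^ (n + 1) := pow_dvd_pow X (Nat.le_succ n)
      have h3 := h2.trans h1
      rw [add_assoc] at h3
      exact (dvd_add_left (dvd_add (dvd_mul_right _ _) (dvd_mul_right _ _))).mp h3
    ⟨(⟨truncLast n p'.1, degree_truncLast_lt p'.2.1, hdvd⟩, p'.1.coeff n), by
      have h1 := p'.2.2
      rw [← truncLast_add_eq n p'.1] at h1
      exact (lift_dvd_iff hn hdvd _).mp h1⟩
  invFun x := ⟨x.1.1.1 + C x.1.2 * X ^ n, degree_add_C_mul_X_pow_lt x.1.1.2.1 _,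
    (lift_dvd_iff hn x.1.1.2.2 _).mpr x.2⟩
  left_inv p' := by
    apply Subtype.ext
    exact truncLast_add_eq n p'.1
  right_inv x := by
    apply Subtype.ext
    apply Prod.ext
    · apply Subtype.ext
      exact truncLast_add_C_mul_X_pow x.1.1.2.1 _
    · exact coeff_add_C_mul_X_pow x.1.1.2.1 _

theorem card_normOneSet_one (h2 : (2 : F) ≠ 0) : Nat.card (normOneSet F 1) = 2 := by
  classical
  let e : normOneSet F 1 ≃ ({a : F | a * a = 1} : Set F) :=
    { toFun := fun p => ⟨p.1.coeff 0, coeff_zero_mul_self_of_dvd le_rfl p.2.2⟩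
      invFun := fun a => ⟨C a.1, by
        refine ⟨?_, ?_⟩
        · exact lt_of_le_of_lt degree_C_le (by norm_num)
        · have h1 : C a.1 * (C a.1).comp (-X) - 1 = 0 := by
            rw [C_comp, ← C_mul, a.2, C_1, sub_self]
          rw [h1]; exact dvd_zero _⟩
      left_inv := fun p => by
        apply Subtype.ext
        have h1 : p.1.degree ≤ 0 := by
          have h3 : p.1.degree < 1 := by simpa using p.2.1
          exact Nat.WithBot.lt_one_iff_le_zero.mp h3
        exact (eq_C_of_degree_le_zero h1).symm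
      right_inv := fun a => by
        apply Subtype.ext
        exact coeff_C_zero }
  rw [Nat.card_congr e, Nat.card_coe_set_eq]
  have h3 : ({a : F | a * a = 1} : Set F) = {1, -1} := by
    ext a
    simp only [Set.mem_ofPred_eq, Set.mem_insert_iff, Set.mem_singleton_iff]
    exact mul_self_eq_one_iff
  rw [h3, Set.ncard_pair]
  intro h
  have h4 : (2 : F) = 0 := by linear_combination h
  exact h2 h4

theorem card_normOneSet [Fintype F] (h2 : (2 : F) ≠ 0) (n : ℕ) (hn : 1 ≤ n) :
    Nat.card (normOneSet F n) = 2 * Fintype.card F ^ (n / 2) := by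
  classical
  induction n, hn using Nat.le_induction with
  | base => simpa using card_normOneSet_one h2
  | succ n hn ih =>
    rw [Nat.card_congr (liftEquiv n hn)]
    rcases Nat.even_or_odd n with he | ho
    · -- `n` even: the last coefficient is determined
      have hpow : ((-1 : F)) ^ n = 1 := he.neg_one_pow
      let e : {x : normOneSet F n × F //
          (x.1.1 * x.1.1.comp (-X) - 1).coeff n + x.2 * x.1.1.coeff 0 * (1 + (-1) ^ n) = 0} ≃
          normOneSet F n :=
        { toFun := fun x => x.1.1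
          invFun := fun p => ⟨(p, -(p.1 * p.1.comp (-X) - 1).coeff n / (2 * p.1.coeff 0)), by
            have h0 := coeff_zero_mul_self_of_dvd hn p.2.2
            have h0' : p.1.coeff 0 ≠ 0 := by
              intro h; rw [h, mul_zero] at h0; exact zero_ne_one h0
            show (p.1 * p.1.comp (-X) - 1).coeff n +
              -(p.1 * p.1.comp (-X) - 1).coeff n / (2 * p.1.coeff 0) * p.1.coeff 0 *
                (1 + (-1) ^ n) = 0
            rw [hpow]
            field_simp
            ring⟩
          left_inv := by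
            rintro ⟨⟨p, a⟩, hx⟩
            apply Subtype.ext
            apply Prod.ext
            · rfl
            · have h0 := coeff_zero_mul_self_of_dvd hn p.2.2
              have h0' : p.1.coeff 0 ≠ 0 := by
                intro h; rw [h, mul_zero] at h0; exact zero_ne_one h0
              have h1 : (p.1 * p.1.comp (-X) - 1).coeff n + a * p.1.coeff 0 * (1 + (-1) ^ n) = 0 :=
                hx
              rw [hpow] at h1
              show -(p.1 * p.1.comp (-X) - 1).coeff n / (2 * p.1.coeff 0) = a
              field_simp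
              linear_combination -h1
          right_inv := fun p => rfl }
      rw [Nat.card_congr e, ih]
      obtain ⟨k, rfl⟩ := he
      congr 2
      omega
    · -- `n` odd: the last coefficient is free
      have hpow : ((-1 : F)) ^ n = -1 := ho.neg_one_pow
      have hall : ∀ x : normOneSet F n × F,
          (x.1.1 * x.1.1.comp (-X) - 1).coeff n + x.2 * x.1.1.coeff 0 * (1 + (-1) ^ n) = 0 := by
        intro x
        rw [hpow, coeff_sub, coeff_mul_comp_neg_X_odd h2 _ ho, coeff_one, if_neg (by omega)]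
        ring
      rw [Nat.card_congr (Equiv.subtypeUnivEquiv hall), Nat.card_prod, ih,
        Nat.card_eq_fintype_card]
      obtain ⟨k, rfl⟩ := ho
      have h5 : (2 * k + 1 + 1) / 2 = (2 * k + 1) / 2 + 1 := by omega
      rw [h5, pow_succ]
      ring

end Cfsg.Agent.Lib.Helper43
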