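/-
helper43: isometries commuting with a skew-adjoint regular nilpotent endomorphism `M`:
they are the `p(M)` with `p(X) p(-X) ≡ 1 mod X^n`, and there are `2 q^(n/2)` of them.
-/
import Cfsg.Agent.Lib.Helper43.RegularNilpotent4
import Cfsg.Agent.Lib.Helper43.SkewNormCount

set_option autoImplicit false

namespace Cfsg.Agent.Lib.Helper43

open Module Polynomial

variable {K V : Type*} [Field K] [AddCommGroup V] [Module K V]

/-- the adjoint of `p(M)` for a skew-adjoint `M` is `p(-M)` -/
theorem adjoint_aeval (B : V →ₗ[K] V →ₗ[K] K) (M : Module.End K V)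
    (hskew : ∀ x y, B (M x) y = - B x (M y)) (p : K[X]) (x y : V) :
    B (aeval M p x) y = B x (aeval M (p.comp (-X)) y) := by
  have hpow : ∀ (k : ℕ) (x y : V), B ((M ^ k) x) y = B x (((-M) ^ k) y) := by
    intro k
    induction k with
    | zero => intro x y; simp
    | succ k ih =>
      intro x y
      rw [pow_succ M k, Module.End.mul_apply, ih, hskew, pow_succ' (-M) k, Module.End.mul_apply,
        LinearMap.neg_apply, map_neg]
  induction p using Polynomial.induction_on' with
  | add p q hp hq =>
    rw [map_add, LinearMap.add_apply, map_add, LinearMap.add_apply, hp, hq, add_comp, map_add,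
      LinearMap.add_apply, map_add]
  | monomial k a =>
    rw [aeval_monomial, monomial_comp, map_mul, aeval_C, map_pow, map_neg, aeval_X,
      Module.End.mul_apply, Module.End.mul_apply, Module.algebraMap_end_apply,
      Module.algebraMap_end_apply, map_smul, LinearMap.smul_apply, map_smul, hpow]

variable [FiniteDimensional K V]

theorem aeval_eq_zero_iff (N : Module.End K V) (h1 : finrank K (LinearMap.ker N) ≤ 1)
    (hnil : N ^ finrank K V = 0) (hpos : 1 ≤ finrank K V) (r : K[X]) :
    aeval N r = 0 ↔ X ^ finrank K V ∣ r := by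
  obtain ⟨v0, hv0⟩ := exists_cyclic N h1 hnil hpos
  constructor
  · intro h
    rw [← aeval_apply_eq_zero_iff N h1 hnil v0 hv0, h]
    rfl
  · rintro ⟨s, rfl⟩
    rw [map_mul, map_pow, aeval_X, hnil, zero_mul]

theorem exists_aeval_eq_of_commute (N : Module.End K V) (h1 : finrank K (LinearMap.ker N) ≤ 1)
    (hnil : N ^ finrank K V = 0) (hpos : 1 ≤ finrank K V) (g : Module.End K V)
    (hg : Commute g N) :
    ∃ p : K[X], p.degree < (finrank K V : WithBot ℕ) ∧ aeval N p = g := by
  obtain ⟨v0, hv0⟩ := exists_cyclic N h1 hnil hpos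
  obtain ⟨p0, hp0⟩ := exists_aeval_apply_eq N h1 hnil v0 hv0 (g v0)
  have hc : Commute (aeval N p0) N := by
    have : Commute (aeval N p0) (aeval N (X : K[X])) := (Commute.all p0 X).map (aeval N)
    rwa [aeval_X] at this
  have hgp : g = aeval N p0 := by
    have h2 : g - aeval N p0 = 0 := by
      apply eq_zero_of_commute_of_apply_eq_zero N h1 hnil v0 hv0 _ (hg.sub_left hc)
      rw [LinearMap.sub_apply, hp0, sub_self]
    exact sub_eq_zero.mp h2
  refine ⟨p0 %ₘ X ^ finrank K V, ?_, ?_⟩
  · have := degree_modByMonic_lt p0 (monic_X_pow (R := K) (finrank K V))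
    rwa [degree_X_pow] at this
  · have h3 := modByMonic_add_div p0 (X ^ finrank K V)
    rw [hgp]
    conv_rhs => rw [← h3]
    rw [map_add, map_mul, map_pow, aeval_X, hnil, zero_mul, add_zero]

theorem aeval_inj_of_degree_lt (N : Module.End K V) (h1 : finrank K (LinearMap.ker N) ≤ 1)
    (hnil : N ^ finrank K V = 0) (hpos : 1 ≤ finrank K V) {p p' : K[X]}
    (hp : p.degree < (finrank K V : WithBot ℕ)) (hp' : p'.degree < (finrank K V : WithBot ℕ))
    (h : aeval N p = aeval N p') : p = p' := by
  have h2 : aeval N (p - p') = 0 := by rw [map_sub, h, sub_self]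
  rw [aeval_eq_zero_iff N h1 hnil hpos] at h2
  have h3 : (p - p').degree < (X ^ finrank K V : K[X]).degree := by
    rw [degree_X_pow]
    exact lt_of_le_of_lt (degree_sub_le p p') (max_lt hp hp')
  exact sub_eq_zero.mp (eq_zero_of_dvd_of_degree_lt h2 h3)

/-- the count of the isometries commuting with a skew-adjoint regular nilpotent endomorphism -/
theorem card_skew_centralizer [Fintype K] (h2 : (2 : K) ≠ 0) (B : V →ₗ[K] V →ₗ[K] K)
    (hnd : ∀ z, (∀ x, B x z = 0) → z = 0) (M : Module.End K V)
    (h1 : finrank K (LinearMap.ker M) ≤ 1) (hnil : M ^ finrank K V = 0)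
    (hpos : 1 ≤ finrank K V) (hskew : ∀ x y, B (M x) y = - B x (M y)) :
    Nat.card {g : Module.End K V // Commute g M ∧ ∀ x y, B (g x) (g y) = B x y} =
      2 * Fintype.card K ^ (finrank K V / 2) := by
  rw [← card_normOneSet h2 (finrank K V) hpos]
  symm
  -- the isometry condition in terms of polynomials
  have hiso : ∀ p : K[X], (∀ x y, B (aeval M p x) (aeval M p y) = B x y) ↔
      X ^ finrank K V ∣ p * p.comp (-X) - 1 := by
    intro p
    rw [← aeval_eq_zero_iff M h1 hnil hpos]
    have hB : ∀ x y, B (aeval M p x) (aeval M p y) =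
        B x (aeval M (p * p.comp (-X)) y) := by
      intro x y
      rw [adjoint_aeval B M hskew, mul_comm p, map_mul, Module.End.mul_apply]
    constructor
    · intro h
      apply LinearMap.ext
      intro y
      apply hnd
      intro x
      rw [map_sub, map_one, LinearMap.sub_apply, Module.End.one_apply, map_sub, ← hB, h, sub_self]
    · intro h x y
      have h3 : aeval M (p * p.comp (-X)) = 1 := by
        have := h
        rw [map_sub, map_one] at this
        exact sub_eq_zero.mp this
      rw [hB, h3, Module.End.one_apply]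
  apply Nat.card_congr
  refine Equiv.ofBijective (fun p => ⟨aeval M p.1, ?_, ?_⟩) ⟨?_, ?_⟩
  · have : Commute (aeval M p.1) (aeval M (X : K[X])) := (Commute.all p.1 X).map (aeval M)
    rwa [aeval_X] at this
  · exact (hiso p.1).mpr p.2.2
  · intro p p' h
    apply Subtype.ext
    exact aeval_inj_of_degree_lt M h1 hnil hpos p.2.1 p'.2.1 (congrArg Subtype.val h)
  · rintro ⟨g, hg1, hg2⟩
    obtain ⟨p, hpdeg, hp⟩ := exists_aeval_eq_of_commute M h1 hnil hpos g hg1
    refine ⟨⟨p, hpdeg, ?_⟩, ?_⟩
    · rw [← hiso, hp]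
      exact hg2
    · apply Subtype.ext
      exact hp

/-- the count of the isometries commuting with a regular unipotent isometry `U` -/
theorem card_isometry_centralizer_unipotent [Fintype K] (h2 : (2 : K) ≠ 0)
    (B : V →ₗ[K] V →ₗ[K] K) (hnd : ∀ z, (∀ x, B x z = 0) → z = 0)
    (U Ui : Module.End K V) (hUUi : U * Ui = 1) (hUiU : Ui * U = 1)
    (hU : ∀ x y, B (U x) (U y) = B x y)
    (h1 : finrank K (LinearMap.ker (U - 1)) ≤ 1) (hnil : (U - 1) ^ finrank K V = 0)
    (hpos : 1 ≤ finrank K V) :
    Nat.card {g : Module.End K V // Commute g U ∧ ∀ x y, B (g x) (g y) = B x y} =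
      2 * Fintype.card K ^ (finrank K V / 2) := by
  have hUi : ∀ x y, B (Ui x) (Ui y) = B x y := by
    intro x y
    have h3 : ∀ z, U (Ui z) = z := fun z => by
      rw [← Module.End.mul_apply, hUUi, Module.End.one_apply]
    rw [← hU (Ui x) (Ui y), h3, h3]
  set M : Module.End K V := U - Ui with hM
  have hskew : ∀ x y, B (M x) y = - B x (M y) := by
    intro x y
    have h3 : ∀ z, U (Ui z) = z := fun z => by
      rw [← Module.End.mul_apply, hUUi, Module.End.one_apply]
    have h4 : ∀ z, Ui (U z) = z := fun z => by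
      rw [← Module.End.mul_apply, hUiU, Module.End.one_apply]
    have h5 : B (U x) y = B x (Ui y) := by
      rw [← hU x (Ui y), h3]
    have h6 : B (Ui x) y = B x (U y) := by
      rw [← hUi x (U y), h4]
    rw [hM, LinearMap.sub_apply, LinearMap.sub_apply, map_sub, LinearMap.sub_apply, map_sub, h5, h6]
    ring
  have hcUUi : Commute U Ui := hUUi.trans hUiU.symm
  set N : Module.End K V := U - 1 with hN
  set W : Module.End K V := (U + 1) * Ui with hW
  have hMWN : M = W * N := by
    rw [hW, hN, hM, mul_assoc, mul_sub, hUiU, mul_one, add_mul, one_mul, mul_sub, mul_one, hUUi]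
    abel
  have hNnil : IsNilpotent N := ⟨finrank K V, hnil⟩
  have hUiunit : IsUnit Ui := ⟨⟨Ui, U, hUiU, hUUi⟩, rfl⟩
  have h2unit : IsUnit (algebraMap K (Module.End K V) 2) :=
    (isUnit_iff_ne_zero.mpr h2).map (algebraMap K (Module.End K V))
  have hU1unit : IsUnit (U + 1) := by
    have h3 : U + 1 = algebraMap K (Module.End K V) 2 + N := by
      rw [hN, map_ofNat]
      have : (2 : Module.End K V) = 1 + 1 := by norm_num
      rw [this]; abel
    rw [h3]
    exact hNnil.isUnit_add_left_of_commute h2unit (Algebra.commutes _ _).symm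
  have hWunit : IsUnit W := hU1unit.mul hUiunit
  have hcWN : Commute W N := by
    have h3 : Commute (U + 1) N :=
      ((Commute.refl U).sub_right (Commute.one_right U)).add_left
        (Commute.one_left _)
    have h4 : Commute Ui N := (hcUUi.symm).sub_right (Commute.one_right Ui)
    exact h3.mul_left h4
  have hkerW : LinearMap.ker W = ⊥ := by
    obtain ⟨w, hw⟩ := hWunit
    rw [LinearMap.ker_eq_bot]
    intro x y hxy
    have h3 : ∀ z, (w⁻¹ : (Module.End K V)ˣ).1 (W z) = z := fun z => by
      rw [← hw, ← Module.End.mul_apply, Units.inv_mul, Module.End.one_apply]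
    rw [← h3 x, hxy, h3]
  have hM1 : finrank K (LinearMap.ker M) ≤ 1 := by
    have : LinearMap.ker M = LinearMap.ker N := by
      rw [hMWN, Module.End.mul_eq_comp]
      exact LinearMap.ker_comp_of_ker_eq_bot N hkerW
    rw [this]; exact h1
  have hMnil : M ^ finrank K V = 0 := by
    rw [hMWN, hcWN.mul_pow, hnil, mul_zero]
  rw [← card_skew_centralizer h2 B hnd M hM1 hMnil hpos hskew]
  apply Nat.card_congr
  refine Equiv.subtypeEquivRight ?_
  intro g
  constructor
  · rintro ⟨hgU, hg⟩
    refine ⟨?_, hg⟩
    have hgUi : Commute g Ui := by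
      show g * Ui = Ui * g
      calc g * Ui = Ui * U * (g * Ui) := by rw [hUiU, one_mul]
        _ = Ui * (U * g) * Ui := by simp only [mul_assoc]
        _ = Ui * (g * U) * Ui := by rw [hgU.eq]
        _ = Ui * g * (U * Ui) := by simp only [mul_assoc]
        _ = Ui * g := by rw [hUUi, mul_one]
    exact hgU.sub_right hgUi
  · rintro ⟨hgM, hg⟩
    refine ⟨?_, hg⟩
    obtain ⟨p, -, hp⟩ := exists_aeval_eq_of_commute M hM1 hMnil hpos g hgM
    have hUM : Commute U M := (Commute.refl U).sub_right hcUUi
    obtain ⟨r, -, hr⟩ := exists_aeval_eq_of_commute M hM1 hMnil hpos U hUM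
    rw [← hp, ← hr]
    exact (Commute.all p r).map (aeval M)

end Cfsg.Agent.Lib.Helper43
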