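/-
helper43: regular unipotent isometries of a non-degenerate alternating form over a finite field
of odd order: any two are conjugate under a similitude of multiplier `1` or a fixed non-square,
and a similitude commuting with one has square multiplier.
-/
import Cfsg.Agent.Lib.Helper43.SkewCentralizer

set_option autoImplicit false

namespace Cfsg.Agent.Lib.Helper43

open Module Polynomial

variable {K V : Type*} [Field K] [AddCommGroup V] [Module K V]

/-- `U` (with inverse `Ui`) is a regular unipotent isometry of `B` -/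
structure RegUnipIso (B : V →ₗ[K] V →ₗ[K] K) (U Ui : Module.End K V) : Prop where
  mul_inv : U * Ui = 1
  inv_mul : Ui * U = 1
  iso : ∀ x y, B (U x) (U y) = B x y
  ker_le : finrank K (LinearMap.ker (U - 1)) ≤ 1
  nil : (U - 1) ^ finrank K V = 0

namespace RegUnipIso

variable {B : V →ₗ[K] V →ₗ[K] K} {U Ui : Module.End K V}

theorem apply_inv (h : RegUnipIso B U Ui) (z : V) : U (Ui z) = z := by
  rw [← Module.End.mul_apply, h.mul_inv, Module.End.one_apply]

theorem inv_apply (h : RegUnipIso B U Ui) (z : V) : Ui (U z) = z := by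
  rw [← Module.End.mul_apply, h.inv_mul, Module.End.one_apply]

theorem iso_inv (h : RegUnipIso B U Ui) (x y : V) : B (Ui x) (Ui y) = B x y := by
  rw [← h.iso (Ui x) (Ui y), h.apply_inv, h.apply_inv]

theorem skew (h : RegUnipIso B U Ui) (x y : V) : B ((U - Ui) x) y = - B x ((U - Ui) y) := by
  have h5 : B (U x) y = B x (Ui y) := by
    rw [← h.iso x (Ui y), h.apply_inv]
  have h6 : B (Ui x) y = B x (U y) := by
    rw [← h.iso_inv x (U y), h.inv_apply]
  rw [LinearMap.sub_apply, LinearMap.sub_apply, map_sub, LinearMap.sub_apply, map_sub, h5, h6]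
  ring

theorem commute_inv (h : RegUnipIso B U Ui) {g : Module.End K V} (hgU : Commute g U) :
    Commute g Ui := by
  show g * Ui = Ui * g
  calc g * Ui = Ui * U * (g * Ui) := by rw [h.inv_mul, one_mul]
    _ = Ui * (U * g) * Ui := by simp only [mul_assoc]
    _ = Ui * (g * U) * Ui := by rw [hgU.eq]
    _ = Ui * g * (U * Ui) := by simp only [mul_assoc]
    _ = Ui * g := by rw [h.mul_inv, mul_one]

theorem commute_M (h : RegUnipIso B U Ui) {g : Module.End K V} (hgU : Commute g U) :
    Commute g (U - Ui) :=
  hgU.sub_right (h.commute_inv hgU)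

theorem M_spec (h : RegUnipIso B U Ui) (h2 : (2 : K) ≠ 0) :
    finrank K (LinearMap.ker (U - Ui)) ≤ 1 ∧ (U - Ui) ^ finrank K V = 0 := by
  have hUUi := h.mul_inv
  have hUiU := h.inv_mul
  have hcUUi : Commute U Ui := hUUi.trans hUiU.symm
  set M : Module.End K V := U - Ui with hM
  set N : Module.End K V := U - 1 with hN
  set W : Module.End K V := (U + 1) * Ui with hW
  have hMWN : M = W * N := by
    rw [hW, hN, hM, mul_assoc, mul_sub, hUiU, mul_one, add_mul, one_mul, mul_sub, mul_one, hUUi]
    abel
  have hNnil : IsNilpotent N := ⟨finrank K V, h.nil⟩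
  have hUiunit : IsUnit Ui := ⟨⟨Ui, U, hUiU, hUUi⟩, rfl⟩
  have h2unit : IsUnit (algebraMap K (Module.End K V) 2) :=
    (isUnit_iff_ne_zero.mpr h2).map (algebraMap K (Module.End K V))
  have hU1unit : IsUnit (U + 1) := by
    have h3 : U + 1 = algebraMap K (Module.End K V) 2 + N := by
      rw [hN, map_ofNat]
      have : (2 : Module.End K V) = 1 + 1 := by norm_num
      rw [this]; abel
    rw [h3]
    exact hNnil.isUnit_add_left_of_commute h2unit (Algebra.commutes _ _).symm
  have hWunit : IsUnit W := hU1unit.mul hUiunit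
  have hcWN : Commute W N := by
    have h3 : Commute (U + 1) N :=
      ((Commute.refl U).sub_right (Commute.one_right U)).add_left
        (Commute.one_left _)
    have h4 : Commute Ui N := (hcUUi.symm).sub_right (Commute.one_right Ui)
    exact h3.mul_left h4
  have hkerW : LinearMap.ker W = ⊥ := by
    obtain ⟨w, hw⟩ := hWunit
    rw [LinearMap.ker_eq_bot]
    intro x y hxy
    have h3 : ∀ z, (w⁻¹ : (Module.End K V)ˣ).1 (W z) = z := fun z => by
      rw [← hw, ← Module.End.mul_apply, Units.inv_mul, Module.End.one_apply]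
    rw [← h3 x, hxy, h3]
  constructor
  · have : LinearMap.ker M = LinearMap.ker N := by
      rw [hMWN, Module.End.mul_eq_comp]
      exact LinearMap.ker_comp_of_ker_eq_bot N hkerW
    rw [this]; exact h.ker_le
  · rw [hMWN, hcWN.mul_pow, h.nil, mul_zero]

variable [FiniteDimensional K V]

/-- a similitude commuting with a regular unipotent isometry has square multiplier -/
theorem isSquare_of_commute_similitude (h : RegUnipIso B U Ui) (h2 : (2 : K) ≠ 0)
    (hnd : ∀ z, (∀ x, B x z = 0) → z = 0) (hpos : 1 ≤ finrank K V)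
    (g : Module.End K V) (hg : Commute g U) (lam : K)
    (hlam : ∀ x y, B (g x) (g y) = lam * B x y) : IsSquare lam := by
  obtain ⟨hM1, hMnil⟩ := h.M_spec h2
  obtain ⟨p, -, hp⟩ := exists_aeval_eq_of_commute (U - Ui) hM1 hMnil hpos g (h.commute_M hg)
  have hB : ∀ x y, B (aeval (U - Ui) p x) (aeval (U - Ui) p y) =
      B x (aeval (U - Ui) (p * p.comp (-X)) y) := by
    intro x y
    rw [adjoint_aeval B (U - Ui) h.skew, mul_comm p, map_mul, Module.End.mul_apply]
  have h3 : aeval (U - Ui) (p * p.comp (-X) - C lam) = 0 := by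
    apply LinearMap.ext
    intro y
    apply hnd
    intro x
    rw [map_sub, aeval_C, LinearMap.sub_apply, map_sub, ← hB, hp, hlam,
      Module.algebraMap_end_apply, map_smul, smul_eq_mul, sub_self]
  rw [aeval_eq_zero_iff (U - Ui) hM1 hMnil hpos] at h3
  have h4 : (X : K[X]) ∣ p * p.comp (-X) - C lam :=
    dvd_trans (dvd_pow_self X (by omega)) h3
  rw [X_dvd_iff, coeff_zero_eq_eval_zero, eval_sub, eval_mul, eval_comp, eval_neg, eval_X,
    neg_zero, eval_C] at h4
  exact ⟨eval 0 p, (sub_eq_zero.mp h4).symm⟩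

end RegUnipIso

theorem exists_sq_decomp [Fintype K] (h2 : (2 : K) ≠ 0) {ε d : K} (hε : ¬ IsSquare ε)
    (hd : d ≠ 0) : ∃ lam t : K, (lam = 1 ∨ lam = ε) ∧ t ≠ 0 ∧ d = lam * t ^ 2 := by
  by_cases hsq : IsSquare d
  · obtain ⟨t, ht⟩ := hsq
    refine ⟨1, t, Or.inl rfl, ?_, by rw [ht]; ring⟩
    rintro rfl
    apply hd
    rw [ht, mul_zero]
  · have hchar : ringChar K ≠ 2 := by
      intro h
      apply h2
      have := CharP.cast_eq_zero K (ringChar K)
      rw [h] at this
      exact_mod_cast this
    have hε0 : ε ≠ 0 := by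
      rintro rfl
      exact hε ⟨0, by simp⟩
    have h1 : d ^ (Fintype.card K / 2) = -1 :=
      (FiniteField.pow_dichotomy hchar hd).resolve_left
        (fun h => hsq ((FiniteField.isSquare_iff hchar hd).mpr h))
    have h1' : ε ^ (Fintype.card K / 2) = -1 :=
      (FiniteField.pow_dichotomy hchar hε0).resolve_left
        (fun h => hε ((FiniteField.isSquare_iff hchar hε0).mpr h))
    have h3 : IsSquare (d / ε) := by
      rw [FiniteField.isSquare_iff hchar (div_ne_zero hd hε0), div_pow, h1, h1']
      norm_num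
    obtain ⟨t, ht⟩ := h3
    refine ⟨ε, t, Or.inr rfl, ?_, ?_⟩
    · rintro rfl
      rw [mul_zero] at ht
      exact (div_ne_zero hd hε0) ht
    · rw [div_eq_iff hε0] at ht
      rw [ht]; ring


theorem selfadj_pow (B : V →ₗ[K] V →ₗ[K] K) (b : Module.End K V)
    (hb : ∀ x y, B (b x) y = B x (b y)) (j : ℕ) (x y : V) : B ((b ^ j) x) y = B x ((b ^ j) y) := by
  induction j generalizing x y with
  | zero => simp
  | succ j ih =>
    have e1 : (b ^ (j + 1)) x = (b ^ j) (b x) := by rw [pow_succ, Module.End.mul_apply]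
    have e2 : (b ^ (j + 1)) y = b ((b ^ j) y) := by rw [pow_succ', Module.End.mul_apply]
    rw [e1, e2, ih, hb]

/-- a unipotent `1 + ν` over a field of odd characteristic has an inverse square root among its
powers -/
theorem exists_pow_sq_mul_eq_one [Fintype K] [FiniteDimensional K V] (h2 : (2 : K) ≠ 0)
    (hpos : 1 ≤ finrank K V)
    (b : Module.End K V) (n : ℕ) (hb : (b - 1) ^ n = 0) : ∃ j : ℕ, b ^ j * b ^ j * b = 1 := by
  have : Nontrivial V := Module.finrank_pos_iff.mp (by omega : 0 < finrank K V)
  set p := ringChar K with hp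
  have : CharP K p := ringChar.charP K
  have hprime : Fact p.Prime := ⟨CharP.char_is_prime K p⟩
  have : CharP (Module.End K V) p :=
    charP_of_injective_algebraMap (algebraMap K (Module.End K V)).injective p
  have hp2 : p ≠ 2 := by
    intro h
    apply h2
    have := CharP.cast_eq_zero K p
    rw [h] at this
    exact_mod_cast this
  have hodd : Odd (p ^ n) := (hprime.out.eq_two_or_odd'.resolve_left hp2).pow
  obtain ⟨j, hj⟩ := hodd
  refine ⟨j, ?_⟩
  have h3 : b ^ p ^ n = 1 := by
    have h4 : b = (b - 1) + 1 := by abel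
    rw [h4, add_pow_char_pow_of_commute p n (Commute.one_right _), one_pow,
      pow_eq_zero_of_le (Nat.lt_pow_self hprime.out.one_lt).le hb, zero_add]
  rw [← pow_add, ← pow_succ, ← two_mul, ← hj, h3]


/-- any two regular unipotent isometries of a non-degenerate alternating form over a finite field
of odd order are conjugate under a similitude of multiplier `1` or `ε`, `ε` a given non-square -/
theorem exists_similitude_conj [Fintype K] [FiniteDimensional K V] (h2 : (2 : K) ≠ 0)
    (B : V →ₗ[K] V →ₗ[K] K) (halt : ∀ x, B x x = 0) (hnd : ∀ z, (∀ x, B x z = 0) → z = 0)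
    (hpos : 1 ≤ finrank K V) {U₁ Ui₁ U Ui : Module.End K V} (h₁ : RegUnipIso B U₁ Ui₁)
    (h : RegUnipIso B U Ui) (ε : K) (hε : ¬ IsSquare ε) :
    ∃ (g : Module.End K V) (lam : K), (lam = 1 ∨ lam = ε) ∧
      (∀ x y, B (g x) (g y) = lam * B x y) ∧ g * U₁ = U * g := by
  classical
  have hswap : ∀ x y, B x y = - B y x := by
    intro x y
    have h3 := halt (x + y)
    simp only [map_add, LinearMap.add_apply, halt] at h3
    linear_combination h3
  have hndl : ∀ z, (∀ y, B z y = 0) → z = 0 := by
    intro z hz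
    apply hnd
    intro x
    rw [hswap, hz, neg_zero]
  have hndB : LinearMap.BilinForm.Nondegenerate B := ⟨hndl, hnd⟩
  obtain ⟨P, hP⟩ := regularNilpotent_conj (U₁ - 1) (U - 1) h₁.ker_le h₁.nil h.ker_le h.nil hpos
  have hPU : ∀ x, P (U₁ x) = U (P x) := by
    intro x
    have h3 := hP x
    simp only [LinearMap.sub_apply, Module.End.one_apply, map_sub] at h3
    exact sub_left_injective h3
  let B' : LinearMap.BilinForm K V := LinearMap.BilinForm.comp B P.toLinearMap P.toLinearMap
  have hB' : ∀ x y, B' x y = B (P x) (P y) := fun x y => rfl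
  let a : Module.End K V := LinearMap.BilinForm.symmCompOfNondegenerate B' B hndB
  have ha : ∀ x y, B (a x) y = B (P x) (P y) := fun x y =>
    LinearMap.BilinForm.symmCompOfNondegenerate_left_apply B' hndB y x
  -- `a` commutes with `U₁`
  have haU : Commute a U₁ := by
    apply LinearMap.ext
    intro x
    rw [Module.End.mul_apply, Module.End.mul_apply]
    rw [← sub_eq_zero]
    apply hndl
    intro y
    rw [map_sub, LinearMap.sub_apply, sub_eq_zero]
    have h3 : y = U₁ (Ui₁ y) := (h₁.apply_inv y).symm
    rw [h3, ha, hPU, hPU, h.iso, h₁.iso, ha]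
  -- `a` is self-adjoint
  have hasa : ∀ x y, B (a x) y = B x (a y) := by
    intro x y
    rw [ha, hswap, ← ha, ← hswap]
  -- `a` is injective
  have hainj : ∀ x, a x = 0 → x = 0 := by
    intro x hx
    have h3 : P x = 0 := by
      apply hndl
      intro z
      have h4 : z = P (P.symm z) := (P.apply_symm_apply z).symm
      rw [h4, ← ha, hx, map_zero, LinearMap.zero_apply]
    exact (LinearEquiv.map_eq_zero_iff P).mp h3
  obtain ⟨hM1, hMnil⟩ := h₁.M_spec h2
  set M : Module.End K V := U₁ - Ui₁ with hM
  obtain ⟨r, -, hr⟩ := exists_aeval_eq_of_commute M hM1 hMnil hpos a (h₁.commute_M haU)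
  obtain ⟨v0, hv0⟩ := exists_cyclic M hM1 hMnil hpos
  set d : K := r.coeff 0 with hd
  set T : Module.End K V := aeval M (divX r) * M with hT
  have haT : a = algebraMap K (Module.End K V) d + T := by
    rw [← hr]
    conv_lhs => rw [← Polynomial.divX_mul_X_add r]
    rw [map_add, map_mul, aeval_X, aeval_C, add_comm]
  have hcomm : Commute (aeval M (divX r)) M := by
    have : Commute (aeval M (divX r)) (aeval M (X : K[X])) :=
      (Commute.all (divX r) X).map (aeval M)
    rwa [aeval_X] at this
  have hTnil : T ^ finrank K V = 0 := by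
    rw [hT, hcomm.mul_pow, hMnil, mul_zero]
  have hd0 : d ≠ 0 := by
    intro hd0
    have h3 : a ^ finrank K V = 0 := by
      rw [haT, hd0, map_zero, zero_add, hTnil]
    have h4 : ∀ (k : ℕ) (x : V), (a ^ k) x = 0 → x = 0 := by
      intro k
      induction k with
      | zero => intro x hx; simpa using hx
      | succ k ih =>
        intro x hx
        rw [pow_succ, Module.End.mul_apply] at hx
        exact hainj x (ih _ hx)
    apply hv0
    have h5 := h4 (finrank K V) v0 (by rw [h3, LinearMap.zero_apply])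
    rw [h5, map_zero]
  obtain ⟨lam, t, hlam, ht0, hdt⟩ := exists_sq_decomp h2 hε hd0
  set b : Module.End K V := d⁻¹ • a with hb
  have hab : a = d • b := by
    rw [hb, smul_smul, mul_inv_cancel₀ hd0, one_smul]
  have hbnil : (b - 1) ^ finrank K V = 0 := by
    have h3 : b - 1 = d⁻¹ • T := by
      rw [hb, haT, smul_add, Algebra.algebraMap_eq_smul_one, smul_smul, inv_mul_cancel₀ hd0,
        one_smul, add_sub_cancel_left]
    rw [h3, _root_.smul_pow, hTnil, smul_zero]
  obtain ⟨j, hj⟩ := exists_pow_sq_mul_eq_one h2 hpos b _ hbnil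
  set k : Module.End K V := b ^ j with hk
  have hbsa : ∀ x y, B (b x) y = B x (b y) := by
    intro x y
    rw [hb, LinearMap.smul_apply, LinearMap.smul_apply, map_smul, map_smul, LinearMap.smul_apply,
      hasa]
  have hksa : ∀ x y, B (k x) y = B x (k y) := selfadj_pow B b hbsa j
  have hbU : Commute b U₁ := haU.smul_left _
  have hkU : Commute k U₁ := hbU.pow_left j
  have hkbk : ∀ x, k (b (k x)) = x := by
    intro x
    have h3 : k * b * k = 1 := by
      rw [← hj, hk]
      have h4 : Commute (b ^ j) b := Commute.pow_self b j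
      rw [mul_assoc, mul_assoc, h4.eq]
    rw [← Module.End.mul_apply, ← Module.End.mul_apply, h3, Module.End.one_apply]
  have hkey : ∀ x y, B (a (k x)) (k y) = d * B x y := by
    intro x y
    rw [hab, LinearMap.smul_apply, map_smul, LinearMap.smul_apply, smul_eq_mul, ← hksa, hkbk]
  refine ⟨P.toLinearMap ∘ₗ (t⁻¹ • k), lam, hlam, ?_, ?_⟩
  · intro x y
    show B (P ((t⁻¹ • k) x)) (P ((t⁻¹ • k) y)) = lam * B x y
    rw [← ha]
    simp only [LinearMap.smul_apply, map_smul, smul_eq_mul]
    rw [hkey, hdt]
    field_simp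
  · apply LinearMap.ext
    intro x
    show P ((t⁻¹ • k) (U₁ x)) = U (P ((t⁻¹ • k) x))
    rw [← hPU]
    congr 1
    simp only [LinearMap.smul_apply, map_smul]
    congr 1
    exact LinearMap.congr_fun hkU.eq x


/-- the Cayley transform of a skew-adjoint regular nilpotent endomorphism is a regular unipotent
isometry -/
theorem exists_regUnipIso_of_skew (h2 : (2 : K) ≠ 0)
    (B : V →ₗ[K] V →ₗ[K] K) (S : Module.End K V) (hskew : ∀ x y, B (S x) y = - B x (S y))
    (h1 : finrank K (LinearMap.ker S) ≤ 1) (hnil : S ^ finrank K V = 0) :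
    ∃ U Ui : Module.End K V, RegUnipIso B U Ui := by
  have hSnil : IsNilpotent S := ⟨_, hnil⟩
  obtain ⟨wm, hwm⟩ := hSnil.isUnit_one_sub
  obtain ⟨wp, hwp⟩ := hSnil.isUnit_one_add
  have hcm : Commute (wm : Module.End K V) S := by
    rw [hwm]; exact (Commute.one_left S).sub_left (Commute.refl S)
  have hcp : Commute (wp : Module.End K V) S := by
    rw [hwp]; exact (Commute.one_left S).add_left (Commute.refl S)
  have hcmi : Commute ((wm⁻¹ : (Module.End K V)ˣ) : Module.End K V) S := hcm.units_inv_left
  have hcpi : Commute ((wp⁻¹ : (Module.End K V)ˣ) : Module.End K V) S := hcp.units_inv_left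
  have hcpm : Commute (wp : Module.End K V) (wm : Module.End K V) := by
    rw [hwm]; exact (Commute.one_right _).sub_right hcp
  have hcpmi : Commute (wp : Module.End K V) ((wm⁻¹ : (Module.End K V)ˣ) : Module.End K V) :=
    hcpm.units_inv_right
  have hcmpi : Commute (wm : Module.End K V) ((wp⁻¹ : (Module.End K V)ˣ) : Module.End K V) :=
    hcpm.symm.units_inv_right
  have hcpimi : Commute ((wp⁻¹ : (Module.End K V)ˣ) : Module.End K V)
      ((wm⁻¹ : (Module.End K V)ˣ) : Module.End K V) := hcpmi.units_inv_left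
  refine ⟨(wp : Module.End K V) * ((wm⁻¹ : (Module.End K V)ˣ) : Module.End K V),
    (wm : Module.End K V) * ((wp⁻¹ : (Module.End K V)ˣ) : Module.End K V), ?_, ?_, ?_, ?_, ?_⟩
  · rw [mul_assoc, ← mul_assoc _ (wm : Module.End K V), Units.inv_mul, one_mul, Units.mul_inv]
  · rw [mul_assoc, ← mul_assoc _ (wp : Module.End K V), Units.inv_mul, one_mul, Units.mul_inv]
  · intro x y
    have h3 : ∀ x' y', B ((wp : Module.End K V) x') ((wp : Module.End K V) y') =
        B ((wm : Module.End K V) x') ((wm : Module.End K V) y') := by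
      intro x' y'
      rw [hwp, hwm]
      simp only [LinearMap.add_apply, LinearMap.sub_apply, Module.End.one_apply, map_add, map_sub,
        hskew]
      ring
    rw [Module.End.mul_apply, Module.End.mul_apply, h3, ← Module.End.mul_apply,
      ← Module.End.mul_apply, Units.mul_inv, Module.End.one_apply, Module.End.one_apply]
  · have h3 : (wp : Module.End K V) * ((wm⁻¹ : (Module.End K V)ˣ) : Module.End K V) - 1 =
        ((wm⁻¹ : (Module.End K V)ˣ) : Module.End K V) * ((2 : K) • S) := by
      rw [hcpmi.eq]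
      have h4 : (1 : Module.End K V) = ((wm⁻¹ : (Module.End K V)ˣ) : Module.End K V) * wm := by
        rw [Units.inv_mul]
      conv_lhs => rw [h4]
      rw [← mul_sub, hwp, hwm, two_smul]
      congr 1
      abel
    rw [h3, Module.End.mul_eq_comp]
    have hker : LinearMap.ker ((wm⁻¹ : (Module.End K V)ˣ) : Module.End K V) = ⊥ := by
      rw [LinearMap.ker_eq_bot]
      intro x y hxy
      have h5 : ∀ z, (wm : Module.End K V) (((wm⁻¹ : (Module.End K V)ˣ) : Module.End K V) z) = z :=
        fun z => by rw [← Module.End.mul_apply, Units.mul_inv, Module.End.one_apply]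
      rw [← h5 x, hxy, h5]
    rw [LinearMap.ker_comp_of_ker_eq_bot _ hker, LinearMap.ker_smul _ _ h2]
    exact h1
  · have h3 : (wp : Module.End K V) * ((wm⁻¹ : (Module.End K V)ˣ) : Module.End K V) - 1 =
        ((wm⁻¹ : (Module.End K V)ˣ) : Module.End K V) * ((2 : K) • S) := by
      rw [hcpmi.eq]
      have h4 : (1 : Module.End K V) = ((wm⁻¹ : (Module.End K V)ˣ) : Module.End K V) * wm := by
        rw [Units.inv_mul]
      conv_lhs => rw [h4]
      rw [← mul_sub, hwp, hwm, two_smul]
      congr 1
      abel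
    rw [h3, (hcmi.smul_right _).mul_pow, _root_.smul_pow, hnil, smul_zero, mul_zero]


/-- conjugating a regular unipotent isometry by a similitude -/
theorem RegUnipIso.conj [FiniteDimensional K V] {B : V →ₗ[K] V →ₗ[K] K} {U Ui : Module.End K V}
    (h : RegUnipIso B U Ui) (g gi : Module.End K V) (hggi : g * gi = 1) (hgig : gi * g = 1)
    (lam : K) (hg : ∀ x y, B (g x) (g y) = lam * B x y) :
    RegUnipIso B (g * U * gi) (g * Ui * gi) := by
  have hggi' : ∀ z, g (gi z) = z := fun z => by
    rw [← Module.End.mul_apply, hggi, Module.End.one_apply]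
  have hgig' : ∀ z, gi (g z) = z := fun z => by
    rw [← Module.End.mul_apply, hgig, Module.End.one_apply]
  have hN : g * U * gi - 1 = g * (U - 1) * gi := by
    rw [mul_sub, sub_mul, mul_one, hggi]
  refine ⟨?_, ?_, ?_, ?_, ?_⟩
  · have : g * U * gi * (g * Ui * gi) = g * (U * ((gi * g) * Ui)) * gi := by
      simp only [mul_assoc]
    rw [this, hgig, one_mul, h.mul_inv, mul_one, hggi]
  · have : g * Ui * gi * (g * U * gi) = g * (Ui * ((gi * g) * U)) * gi := by
      simp only [mul_assoc]
    rw [this, hgig, one_mul, h.inv_mul, mul_one, hggi]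
  · intro x y
    rw [Module.End.mul_apply, Module.End.mul_apply, Module.End.mul_apply, Module.End.mul_apply,
      hg, h.iso, ← hg, hggi', hggi']
  · rw [hN]
    let f : LinearMap.ker (g * (U - 1) * gi) →ₗ[K] LinearMap.ker (U - 1) :=
      LinearMap.codRestrict _ (gi.comp (Submodule.subtype _)) (by
        rintro ⟨x, hx⟩
        rw [LinearMap.mem_ker] at hx ⊢
        rw [Module.End.mul_apply, Module.End.mul_apply] at hx
        have := congrArg gi hx
        rw [hgig', map_zero] at this
        exact this)
    have hf : Function.Injective f := by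
      rintro ⟨x, hx⟩ ⟨y, hy⟩ hxy
      have h3 : gi x = gi y := congrArg Subtype.val hxy
      apply Subtype.ext
      show x = y
      rw [← hggi' x, h3, hggi']
    exact le_trans (LinearMap.finrank_le_finrank_of_injective hf) h.ker_le
  · rw [hN]
    have := Units.conj_pow (⟨g, gi, hggi, hgig⟩ : (Module.End K V)ˣ) (U - 1) (finrank K V)
    simp only [Units.val_mk, Units.inv_mk] at this
    rw [this, h.nil, mul_zero, zero_mul]


end Cfsg.Agent.Lib.Helper43
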