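/-
helper43: an explicit regular nilpotent element of the symplectic Lie algebra `sp_2m(F)`
(for the standard form `J`): skew-adjointness, nilpotency, one-dimensional kernel.
-/
import Cfsg.Agent.Lib.Helper43.SympRegUnip
import Cfsg.Agent.Lib.Helper43.RegularUnipotentMatrix
import Cfsg.Agent.Lib.Helper5.Symplectic

set_option autoImplicit false

namespace Cfsg.Agent.Lib.Helper43

open Matrix Module

variable {F : Type*} [Field F] {m : ℕ}

theorem shiftMat_transpose_mulVec (y : Fin m → F) (j : Fin m) :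
    ((shiftMat m F)ᵀ *ᵥ y) j =
      if h : 1 ≤ (j : ℕ) then y ⟨(j : ℕ) - 1, by omega⟩ else 0 := by
  classical
  simp only [Matrix.mulVec, dotProduct, shiftMat, Matrix.transpose_apply, Matrix.of_apply, ite_mul,
    one_mul, zero_mul]
  split_ifs with h
  · rw [Finset.sum_eq_single (⟨(j : ℕ) - 1, by omega⟩ : Fin m)]
    · rw [if_pos]
      simp only
      omega
    · intro i _ hi
      rw [if_neg]
      intro hj
      apply hi
      apply Fin.ext
      simp only
      omega
    · intro h'; exact absurd (Finset.mem_univ _) h'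
  · apply Finset.sum_eq_zero
    intro i _
    rw [if_neg]
    omega

/-- a regular nilpotent element of the symplectic Lie algebra -/
def spNilMat (hm : 1 ≤ m) (F : Type*) [Field F] : Matrix (Fin m ⊕ Fin m) (Fin m ⊕ Fin m) F :=
  Matrix.fromBlocks (shiftMat m F) 0 (Matrix.single ⟨0, hm⟩ ⟨0, hm⟩ 1) (-(shiftMat m F)ᵀ)

theorem spNilMat_skew (hm : 1 ≤ m) :
    (spNilMat hm F)ᵀ * Matrix.J (Fin m) F = - (Matrix.J (Fin m) F * spNilMat hm F) := by
  simp [spNilMat, Matrix.J, Matrix.fromBlocks_transpose, Matrix.fromBlocks_multiply,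
    Matrix.fromBlocks_neg]

theorem fromBlocks_tri_pow {n : Type*} [Fintype n] [DecidableEq n] (A C D : Matrix n n F) (k : ℕ) :
    ∃ C' : Matrix n n F, (Matrix.fromBlocks A 0 C D) ^ k = Matrix.fromBlocks (A ^ k) 0 C' (D ^ k) := by
  induction k with
  | zero => exact ⟨0, by simp [Matrix.fromBlocks_one]⟩
  | succ k ih =>
    obtain ⟨C', hC'⟩ := ih
    refine ⟨C' * A + D ^ k * C, ?_⟩
    rw [pow_succ, hC', Matrix.fromBlocks_multiply]
    simp [pow_succ]

theorem spNilMat_pow (hm : 1 ≤ m) : (spNilMat hm F) ^ (2 * m) = 0 := by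
  obtain ⟨C', hC'⟩ := fromBlocks_tri_pow (shiftMat m F) (Matrix.single ⟨0, hm⟩ ⟨0, hm⟩ 1)
    (-(shiftMat m F)ᵀ) m
  have h1 : (-(shiftMat m F)ᵀ) ^ m = 0 := by
    rw [neg_pow, ← Matrix.transpose_pow, shiftMat_pow_eq_zero, Matrix.transpose_zero, mul_zero]
  rw [shiftMat_pow_eq_zero, h1] at hC'
  rw [two_mul, pow_add]
  show (Matrix.fromBlocks _ _ _ _) ^ m * (Matrix.fromBlocks _ _ _ _) ^ m = 0
  rw [hC', Matrix.fromBlocks_multiply]
  simp

theorem spNilMat_ker (hm : 1 ≤ m) :
    finrank F (LinearMap.ker (Matrix.toLinAlgEquiv' (spNilMat hm F))) ≤ 1 := by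
  classical
  set last : Fin m := ⟨m - 1, by omega⟩ with hlast
  let f : LinearMap.ker (Matrix.toLinAlgEquiv' (spNilMat hm F)) →ₗ[F] F :=
    (LinearMap.proj (Sum.inr last)).comp (Submodule.subtype _)
  have hf : Function.Injective f := by
    rw [← LinearMap.ker_eq_bot, LinearMap.ker_eq_bot']
    rintro ⟨v, hv⟩ hfv
    have hfv' : v (Sum.inr last) = 0 := hfv
    rw [LinearMap.mem_ker] at hv
    have hv' : spNilMat hm F *ᵥ v = 0 := hv
    apply Subtype.ext
    show v = 0
    have hl : ∀ i : Fin m, (spNilMat hm F *ᵥ v) (Sum.inl i) = 0 := fun i => by rw [hv']; rfl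
    have hr : ∀ j : Fin m, (spNilMat hm F *ᵥ v) (Sum.inr j) = 0 := fun j => by rw [hv']; rfl
    simp only [spNilMat, Matrix.fromBlocks_mulVec, Sum.elim_inl, Sum.elim_inr, Matrix.zero_mulVec,
      add_zero, Pi.add_apply, Matrix.neg_mulVec, Pi.neg_apply, shiftMat_mulVec,
      shiftMat_transpose_mulVec, Matrix.single_mulVec, one_mul, Function.comp_apply] at hl hr
    have hx : ∀ k : Fin m, 1 ≤ (k : ℕ) → v (Sum.inl k) = 0 := by
      intro k hk
      have h3 := hl ⟨(k : ℕ) - 1, by omega⟩
      rw [dif_pos (by simp only; omega)] at h3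
      have h4 : (⟨(k : ℕ) - 1 + 1, by omega⟩ : Fin m) = k := by
        apply Fin.ext; simp only; omega
      rw [h4] at h3
      exact h3
    have hx0 : v (Sum.inl ⟨0, hm⟩) = 0 := by
      have h3 := hr ⟨0, hm⟩
      rw [dif_neg (by simp), Function.update_self, neg_zero, add_zero] at h3
      exact h3
    have hy : ∀ k : Fin m, (k : ℕ) + 1 < m → v (Sum.inr k) = 0 := by
      intro k hk
      have h3 := hr ⟨(k : ℕ) + 1, hk⟩
      rw [dif_pos (by simp), Function.update_of_ne (by intro h; simpa using congrArg Fin.val h),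
        Pi.zero_apply, zero_add, neg_eq_zero] at h3
      exact h3
    funext i
    rcases i with i | i
    · by_cases hi : 1 ≤ (i : ℕ)
      · exact hx i hi
      · have : i = ⟨0, hm⟩ := by apply Fin.ext; simp only; omega
        rw [this]; exact hx0
    · by_cases hi : (i : ℕ) + 1 < m
      · exact hy i hi
      · have : i = last := by apply Fin.ext; simp only [hlast]; omega
        rw [this]; exact hfv'
  have := LinearMap.finrank_le_finrank_of_injective hf
  rwa [Module.finrank_self] at this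

theorem spNilMat_sympForm_skew (hm : 1 ≤ m) (x y : Fin m ⊕ Fin m → F) :
    Cfsg.Agent.Lib.Helper5.sympForm (Fin m) F (spNilMat hm F *ᵥ x) y =
      - Cfsg.Agent.Lib.Helper5.sympForm (Fin m) F x (spNilMat hm F *ᵥ y) := by
  simp only [Cfsg.Agent.Lib.Helper5.sympForm]
  rw [← Matrix.vecMul_transpose, ← Matrix.dotProduct_mulVec, Matrix.mulVec_mulVec, spNilMat_skew,
    Matrix.neg_mulVec, dotProduct_neg, ← Matrix.mulVec_mulVec]

/-- the similitude scaling the first half of the coordinates -/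
def spScaleMat (m : ℕ) {F : Type*} [Field F] (e : F) : Matrix (Fin m ⊕ Fin m) (Fin m ⊕ Fin m) F :=
  Matrix.fromBlocks (e • 1) 0 0 1

theorem spScaleMat_mul (e e' : F) : spScaleMat m e * spScaleMat m e' = spScaleMat m (e * e') := by
  simp [spScaleMat, Matrix.fromBlocks_multiply, smul_smul, mul_comm]

theorem spScaleMat_one : spScaleMat m (1 : F) = 1 := by
  simp [spScaleMat, Matrix.fromBlocks_one]

theorem spScaleMat_sympForm (e : F) (x y : Fin m ⊕ Fin m → F) :
    Cfsg.Agent.Lib.Helper5.sympForm (Fin m) F (spScaleMat m e *ᵥ x) (spScaleMat m e *ᵥ y) =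
      e * Cfsg.Agent.Lib.Helper5.sympForm (Fin m) F x y := by
  rw [Cfsg.Agent.Lib.Helper5.sympForm_eq_sum, Cfsg.Agent.Lib.Helper5.sympForm_eq_sum,
    Finset.mul_sum]
  apply Finset.sum_congr rfl
  intro i _
  simp only [spScaleMat, Matrix.fromBlocks_mulVec, Sum.elim_inl, Sum.elim_inr, Matrix.zero_mulVec,
    add_zero, zero_add, Matrix.one_mulVec, Matrix.smul_mulVec, Pi.smul_apply, Function.comp_apply,
    smul_eq_mul]
  ring

end Cfsg.Agent.Lib.Helper43
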