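/-
helper43: a regular unipotent symplectic matrix in every characteristic, and an invariant
non-degenerate alternating form for the Jordan block of even size.
-/
import Cfsg.Agent.Lib.Helper43.FormInv
import Cfsg.Agent.Lib.Helper43.SympRegUnipMatrix
import Cfsg.Agent.Lib.Helper43.JordanRank

set_option autoImplicit false

namespace Cfsg.Agent.Lib.Helper43

open Matrix Module

variable {F : Type*} [Field F] {m : ℕ}

/-- a skew matrix with zero diagonal is alternating -/
theorem dotProduct_mulVec_self_of_skew {ι : Type*} [Fintype ι] (Ω : Matrix ι ι F)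
    (hskew : Ωᵀ = (-1 : F) • Ω) (hd : ∀ i, Ω i i = 0) (y : ι → F) : y ⬝ᵥ (Ω *ᵥ y) = 0 := by
  classical
  have h1 : y ⬝ᵥ (Ω *ᵥ y) =
      ∑ p ∈ (Finset.univ : Finset (ι × ι)), y p.1 * (Ω p.1 p.2 * y p.2) := by
    simp only [dotProduct, mulVec, Finset.mul_sum]
    rw [← Finset.sum_product']
    rfl
  rw [h1]
  apply Finset.sum_involution (fun p _ => Prod.swap p)
  · intro p _
    have hsym : Ω p.2 p.1 = - Ω p.1 p.2 := by
      have := congrFun (congrFun hskew p.1) p.2
      rw [transpose_apply, Matrix.smul_apply, smul_eq_mul, neg_one_mul] at this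
      exact this
    simp only [Prod.fst_swap, Prod.snd_swap]
    rw [hsym]
    ring
  · intro p _ hne hcon
    apply hne
    have h : p.2 = p.1 := by
      have := congrArg Prod.fst hcon
      simpa using this
    rw [h, hd, zero_mul, mul_zero]
  · intro p _
    exact Finset.mem_univ _
  · intro p _
    exact Prod.swap_swap p

/-- a matrix strictly raising a weight is nilpotent -/
theorem pow_eq_zero_of_weight {ι : Type*} [Fintype ι] [DecidableEq ι] (N : Matrix ι ι F)
    (w : ι → ℕ) (K : ℕ) (hw : ∀ i, w i < K) (hN : ∀ i j, N i j ≠ 0 → w j < w i) : N ^ K = 0 := by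
  have key : ∀ k : ℕ, ∀ i j, (N ^ k) i j ≠ 0 → w j + k ≤ w i := by
    intro k
    induction k with
    | zero =>
      intro i j h
      rw [pow_zero, Matrix.one_apply] at h
      by_cases hij : i = j
      · subst hij; omega
      · rw [if_neg hij] at h; exact absurd rfl h
    | succ k ih =>
      intro i j h
      rw [pow_succ, Matrix.mul_apply] at h
      obtain ⟨l, _, hl⟩ := Finset.exists_ne_zero_of_sum_ne_zero h
      have h1 : (N ^ k) i l ≠ 0 := left_ne_zero_of_mul hl
      have h2 : N l j ≠ 0 := right_ne_zero_of_mul hl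
      have := ih i l h1
      have := hN l j h2
      omega
  ext i j
  by_contra h
  have := key K i j h
  have := hw i
  omega

/-- the reversal permutation matrix -/
def revMat (m : ℕ) (F : Type*) [Field F] : Matrix (Fin m) (Fin m) F :=
  Matrix.of fun i j => if Fin.rev i = j then 1 else 0

theorem revMat_mul (M : Matrix (Fin m) (Fin m) F) (i j : Fin m) :
    (revMat m F * M) i j = M (Fin.rev i) j := by
  simp [revMat, Matrix.mul_apply]

theorem mul_revMat (M : Matrix (Fin m) (Fin m) F) (i j : Fin m) :
    (M * revMat m F) i j = M i (Fin.rev j) := by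
  simp only [revMat, Matrix.mul_apply, Matrix.of_apply, mul_ite, mul_one, mul_zero]
  rw [Finset.sum_eq_single (Fin.rev j)]
  · simp
  · intro k _ hk
    rw [if_neg]
    intro h
    apply hk
    rw [← h, Fin.rev_rev]
  · intro h; exact absurd (Finset.mem_univ _) h

theorem revMat_transpose : (revMat m F)ᵀ = revMat m F := by
  ext i j
  simp only [revMat, Matrix.transpose_apply, Matrix.of_apply]
  by_cases h : Fin.rev i = j
  · rw [if_pos h, if_pos (by rw [← h, Fin.rev_rev])]
  · rw [if_neg h, if_neg (by intro h'; apply h; rw [← h', Fin.rev_rev])]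

theorem revMat_mul_self : revMat m F * revMat m F = 1 := by
  ext i j
  rw [revMat_mul]
  simp only [revMat, Matrix.of_apply, Fin.rev_rev, Matrix.one_apply]

theorem revMat_mul_shiftMat_transpose :
    revMat m F * (shiftMat m F)ᵀ = shiftMat m F * revMat m F := by
  ext i j
  rw [revMat_mul, mul_revMat]
  simp only [shiftMat, Matrix.transpose_apply, Matrix.of_apply, Fin.val_rev]
  have hi := i.2
  have hj := j.2
  by_cases h : m - ((i : ℕ) + 1) = (j : ℕ) + 1
  · rw [if_pos h, if_pos (by omega)]
  · rw [if_neg h, if_neg (by omega)]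

/-- a regular unipotent symplectic matrix in every characteristic -/
def spUnipMat (m : ℕ) (F : Type*) [Field F] : Matrix (Fin m ⊕ Fin m) (Fin m ⊕ Fin m) F :=
  Matrix.fromBlocks 1 (shiftMat m F)ᵀ 1 (1 + (shiftMat m F)ᵀ)

/-- the alternating form it preserves -/
def spUnipForm (m : ℕ) (F : Type*) [Field F] : Matrix (Fin m ⊕ Fin m) (Fin m ⊕ Fin m) F :=
  Matrix.fromBlocks 0 (-revMat m F) (revMat m F) 0

theorem spUnipForm_formInv : FormInv (-1 : F) True (spUnipForm m F) (spUnipMat m F) := by
  refine ⟨?_, ?_, ?_, ?_⟩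
  · refine ⟨Matrix.fromBlocks 0 (revMat m F) (-revMat m F) 0, ?_⟩
    rw [spUnipForm, Matrix.fromBlocks_multiply]
    simp [revMat_mul_self, Matrix.fromBlocks_one]
  · rw [spUnipForm, Matrix.fromBlocks_transpose, Matrix.fromBlocks_smul]
    simp [revMat_transpose]
  · rintro _ (i | i)
    · rfl
    · rfl
  · rw [spUnipForm, spUnipMat, Matrix.fromBlocks_transpose, Matrix.fromBlocks_multiply,
      Matrix.fromBlocks_multiply]
    simp only [Matrix.transpose_one, Matrix.transpose_transpose, Matrix.transpose_add, mul_zero,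
      one_mul, mul_one, zero_add, add_zero, Matrix.mul_neg, Matrix.neg_mul, mul_add,
      add_mul]
    congr 1
    · abel
    · abel
    · abel
    · rw [revMat_mul_shiftMat_transpose]
      abel

theorem spUnipMat_sub_one :
    spUnipMat m F - 1 = Matrix.fromBlocks 0 (shiftMat m F)ᵀ 1 (shiftMat m F)ᵀ := by
  ext (i | i) (j | j) <;> simp [spUnipMat, Matrix.one_apply]

theorem spUnipMat_sub_one_pow : (spUnipMat m F - 1) ^ (2 * m) = 0 := by
  apply pow_eq_zero_of_weight _
    (Sum.elim (fun i : Fin m => 2 * (i : ℕ)) (fun i : Fin m => 2 * (i : ℕ) + 1))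
  · rintro (i | i)
    · simp only [Sum.elim_inl]; have := i.2; omega
    · simp only [Sum.elim_inr]; have := i.2; omega
  · rw [spUnipMat_sub_one]
    rintro (i | i) (j | j) h
    · exact absurd rfl h
    · simp only [Matrix.fromBlocks_apply₁₂, Matrix.transpose_apply, shiftMat, Matrix.of_apply] at h
      simp only [Sum.elim_inl, Sum.elim_inr]
      by_contra hcon
      apply h
      rw [if_neg]
      omega
    · simp only [Matrix.fromBlocks_apply₂₁, Matrix.one_apply] at h
      simp only [Sum.elim_inl, Sum.elim_inr]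
      by_contra hcon
      apply h
      rw [if_neg]
      intro hij
      rw [hij] at hcon
      omega
    · simp only [Matrix.fromBlocks_apply₂₂, Matrix.transpose_apply, shiftMat, Matrix.of_apply] at h
      simp only [Sum.elim_inr]
      by_contra hcon
      apply h
      rw [if_neg]
      omega

theorem spUnipMat_ker (hm : 1 ≤ m) :
    finrank F (LinearMap.ker (Matrix.mulVecLin (spUnipMat m F - 1))) ≤ 1 := by
  classical
  set last : Fin m := ⟨m - 1, by omega⟩ with hlast
  let f : LinearMap.ker (Matrix.mulVecLin (spUnipMat m F - 1)) →ₗ[F] F :=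
    (LinearMap.proj (Sum.inr last)).comp (Submodule.subtype _)
  have hf : Function.Injective f := by
    rw [← LinearMap.ker_eq_bot, LinearMap.ker_eq_bot']
    rintro ⟨v, hv⟩ hfv
    have hfv' : v (Sum.inr last) = 0 := hfv
    rw [LinearMap.mem_ker] at hv
    have hv' : (spUnipMat m F - 1) *ᵥ v = 0 := hv
    apply Subtype.ext
    show v = 0
    have hl : ∀ i : Fin m, ((spUnipMat m F - 1) *ᵥ v) (Sum.inl i) = 0 := fun i => by rw [hv']; rfl
    have hr : ∀ j : Fin m, ((spUnipMat m F - 1) *ᵥ v) (Sum.inr j) = 0 := fun j => by rw [hv']; rfl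
    simp only [spUnipMat_sub_one, Matrix.fromBlocks_mulVec, Sum.elim_inl, Sum.elim_inr,
      Matrix.zero_mulVec, zero_add, Pi.add_apply, Matrix.one_mulVec,
      shiftMat_transpose_mulVec, Function.comp_apply] at hl hr
    have hx : ∀ k : Fin m, v (Sum.inl k) = 0 := by
      intro k
      have h3 := hr k
      rw [hl k, add_zero] at h3
      exact h3
    have hy : ∀ k : Fin m, (k : ℕ) + 1 < m → v (Sum.inr k) = 0 := by
      intro k hk
      have h3 := hl ⟨(k : ℕ) + 1, hk⟩
      rw [dif_pos (by simp)] at h3
      exact h3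
    funext i
    rcases i with i | i
    · exact hx i
    · by_cases hi : (i : ℕ) + 1 < m
      · exact hy i hi
      · have : i = last := by apply Fin.ext; simp only [hlast]; omega
        rw [this]; exact hfv'
  have := LinearMap.finrank_le_finrank_of_injective hf
  rwa [Module.finrank_self] at this

/-- rank of a regular nilpotent matrix -/
theorem rank_eq_card_sub_one {ι : Type*} [Fintype ι] [DecidableEq ι] (A : Matrix ι ι F)
    (h1 : finrank F (LinearMap.ker (Matrix.mulVecLin A)) ≤ 1) (hnil : A ^ Fintype.card ι = 0)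
    (hpos : 1 ≤ Fintype.card ι) : A.rank = Fintype.card ι - 1 := by
  have hfin : finrank F (ι → F) = Fintype.card ι := Module.finrank_fintype_fun_eq_card F
  have h4 := finrank_ker_pow_eq (Matrix.mulVecLin A) h1
    (mulVecLin_pow_finrank_eq_zero A hnil) 1 (by rw [hfin]; exact hpos)
  rw [pow_one] at h4
  have h5 := LinearMap.finrank_range_add_finrank_ker (Matrix.mulVecLin A)
  rw [h4, hfin] at h5
  unfold Matrix.rank
  omega

theorem rank_spUnipMat_sub_one (hm : 1 ≤ m) : (spUnipMat m F - 1).rank = 2 * m - 1 := by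
  have hcard : Fintype.card (Fin m ⊕ Fin m) = 2 * m := by
    simp only [Fintype.card_sum, Fintype.card_fin]; ring
  have := rank_eq_card_sub_one (spUnipMat m F - 1) (spUnipMat_ker hm)
    (by rw [hcard]; exact spUnipMat_sub_one_pow) (by rw [hcard]; omega)
  rw [hcard] at this
  exact this

theorem isRegUnip_jordanBlock (n : ℕ) : IsRegUnip (Cfsg.jordanBlock n F) := by
  refine ⟨?_, ?_⟩
  · rw [jordanBlock_sub_one, ← Matrix.transpose_pow, shiftMat_pow_eq_zero, Matrix.transpose_zero]
  · have := rank_jordanBlock_sub_one_pow (F := F) n 1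
    rwa [pow_one] at this

/-- the Jordan block of even size preserves a non-degenerate alternating form -/
theorem exists_formInv_jordanBlock_even (n : ℕ) (hn : Even n) (hpos : 1 ≤ n) :
    ∃ ω : Matrix (Fin n) (Fin n) F, FormInv (-1 : F) True ω (Cfsg.jordanBlock n F) := by
  obtain ⟨m, rfl⟩ := hn
  have hm : 1 ≤ m := by omega
  let φ : Fin (m + m) ≃ Fin m ⊕ Fin m := finSumFinEquiv.symm
  have h0 : FormInv (-1 : F) True ((spUnipForm m F).submatrix φ φ)
      ((spUnipMat m F).submatrix φ φ) := spUnipForm_formInv.submatrix φ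
  have hreg : IsRegUnip ((spUnipMat m F).submatrix φ φ) := by
    have hsub : (spUnipMat m F).submatrix φ φ - 1 = (spUnipMat m F - 1).submatrix φ φ := by
      conv_lhs => rw [← Matrix.submatrix_one_equiv φ]
      rfl
    refine ⟨?_, ?_⟩
    · rw [hsub]
      have h1 : (spUnipMat m F - 1).submatrix φ φ =
          Matrix.reindexAlgEquiv F F φ.symm (spUnipMat m F - 1) := rfl
      have h2 : (spUnipMat m F - 1) ^ (m + m) = 0 := by
        rw [← two_mul]; exact spUnipMat_sub_one_pow
      rw [h1, ← map_pow, h2, map_zero]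
    · rw [hsub, Matrix.rank_submatrix, rank_spUnipMat_sub_one hm]
      omega
  obtain ⟨P, hP⟩ := hreg.exists_conj (by omega) (isRegUnip_jordanBlock (m + m))
  exact ⟨_, h0.conj (fun _ x => dotProduct_mulVec_self_of_skew _ h0.symm (h0.diag trivial) x)
    (P : Matrix (Fin (m + m)) (Fin (m + m)) F)
    ((P⁻¹ : GL (Fin (m + m)) F) : Matrix (Fin (m + m)) (Fin (m + m)) F)
    (by rw [← Units.val_mul, mul_inv_cancel, Units.val_one]) hP⟩

end Cfsg.Agent.Lib.Helper43
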