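/-
helper43: a matrix preserving a non-degenerate alternating form is similar to a symplectic matrix.
-/
import Cfsg.Agent.Lib.Helper43.FormInv
import Cfsg.Agent.Lib.Helper43.JordanBlockAlt
import Cfsg.Agent.Lib.Helper13.SympSplit
import Cfsg.Agent.Lib.Helper5.Symplectic

set_option autoImplicit false

namespace Cfsg.Agent.Lib.Helper43

open Matrix Module

variable {F : Type*} [Field F]

/-- a matrix preserving a non-degenerate alternating form is similar to a symplectic matrix -/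
theorem exists_isConj_symplectic {I : Type*} [Fintype I] [DecidableEq I] {m : ℕ}
    (hcard : Fintype.card I = 2 * m) (Ω T : Matrix I I F) (h : FormInv (-1 : F) True Ω T) :
    ∃ e : I ≃ (Fin m ⊕ Fin m), ∃ A : Matrix.symplecticGroup (Fin m) F,
      IsConj (Matrix.reindex e e T) (A : Matrix (Fin m ⊕ Fin m) (Fin m ⊕ Fin m) F) := by
  classical
  let B : LinearMap.BilinForm F (I → F) := Matrix.toBilin' Ω
  have hB : ∀ x y, B x y = x ⬝ᵥ Ω *ᵥ y := fun x y => Matrix.toBilin'_apply' Ω x y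
  have hAlt : B.IsAlt := fun x => by
    rw [hB]; exact dotProduct_mulVec_self_of_skew Ω h.symm (h.diag trivial) x
  obtain ⟨Ω', hΩ'⟩ := h.inv
  have hnd : ∀ u, (∀ v, B u v = 0) → u = 0 := by
    intro u hu
    have h1 : u ᵥ* Ω = 0 := by
      funext j
      have := hu (Pi.single j 1)
      rw [hB, Matrix.dotProduct_mulVec, dotProduct_single, mul_one] at this
      exact this
    have h2 : u ᵥ* (Ω * Ω') = 0 := by
      rw [← Matrix.vecMul_vecMul, h1, Matrix.zero_vecMul]
    rwa [hΩ', Matrix.vecMul_one] at h2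
  have hfin : finrank F (I → F) = 2 * m := by
    rw [Module.finrank_fintype_fun_eq_card, hcard]
  obtain ⟨ι, hι⟩ := Cfsg.Agent.Lib.Helper13.exists_symp_coords B hAlt hnd m hfin
  have hTB : ∀ x y, B (T *ᵥ x) (T *ᵥ y) = B x y := by
    intro x y
    rw [hB, hB, Matrix.mulVec_mulVec, ← Matrix.vecMul_transpose, ← Matrix.dotProduct_mulVec,
      Matrix.mulVec_mulVec, ← mul_assoc, h.pres]
  let e : I ≃ (Fin m ⊕ Fin m) := Fintype.equivOfCardEq (by
    rw [hcard]; simp only [Fintype.card_sum, Fintype.card_fin]; ring)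
  -- the symplectic matrix
  let A' : Module.End F (Fin m ⊕ Fin m → F) :=
    ι.symm.toLinearMap ∘ₗ (Matrix.toLin' T) ∘ₗ ι.toLinearMap
  have hA' : ∀ u, A' u = ι.symm (T *ᵥ (ι u)) := fun u => rfl
  have hιsymm : ∀ x y, Cfsg.sympForm m F (ι.symm x) (ι.symm y) = B x y := by
    intro x y
    rw [← hι, ι.apply_symm_apply, ι.apply_symm_apply]
  have hmem : LinearMap.toMatrix' A' ∈ Matrix.symplecticGroup (Fin m) F := by
    rw [Cfsg.Agent.Lib.Helper5.mem_symplecticGroup_iff_form]
    intro u v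
    show Cfsg.sympForm m F (LinearMap.toMatrix' A' *ᵥ u) (LinearMap.toMatrix' A' *ᵥ v) =
      Cfsg.sympForm m F u v
    rw [← Matrix.toLin'_apply, ← Matrix.toLin'_apply, Matrix.toLin'_toMatrix', hA', hA', hιsymm,
      hTB, hι]
  -- the conjugating matrix
  let γ : (Fin m ⊕ Fin m → F) ≃ₗ[F] (Fin m ⊕ Fin m → F) :=
    (LinearEquiv.funCongrLeft F F e).trans ι.symm
  have hγ : ∀ y, γ y = ι.symm (y ∘ e) := fun y => rfl
  let cM : Matrix (Fin m ⊕ Fin m) (Fin m ⊕ Fin m) F := LinearMap.toMatrix' γ.toLinearMap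
  let cM' : Matrix (Fin m ⊕ Fin m) (Fin m ⊕ Fin m) F := LinearMap.toMatrix' γ.symm.toLinearMap
  have hc1 : cM * cM' = 1 := by
    rw [← LinearMap.toMatrix'_comp, LinearEquiv.comp_symm, LinearMap.toMatrix'_id]
  have hc2 : cM' * cM = 1 := by
    rw [← LinearMap.toMatrix'_comp, LinearEquiv.symm_comp, LinearMap.toMatrix'_id]
  refine ⟨e, ⟨LinearMap.toMatrix' A', hmem⟩, ⟨⟨cM, cM', hc1, hc2⟩, ?_⟩⟩
  show cM * Matrix.reindex e e T = LinearMap.toMatrix' A' * cM
  apply Matrix.toLin'.injective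
  apply LinearMap.ext
  intro y
  rw [Matrix.toLin'_mul, Matrix.toLin'_mul, LinearMap.comp_apply, LinearMap.comp_apply,
    Matrix.toLin'_toMatrix', Matrix.toLin'_toMatrix']
  show γ (Matrix.toLin' (Matrix.reindex e e T) y) = A' (γ y)
  rw [hγ, hγ, hA', ι.apply_symm_apply, Matrix.toLin'_apply]
  congr 1
  funext i
  simp only [Function.comp_apply, Matrix.reindex_apply, Matrix.submatrix_mulVec_equiv,
    Equiv.symm_symm, Equiv.symm_apply_apply]

end Cfsg.Agent.Lib.Helper43
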