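import Mathlib
import Cfsg.Prelude.Def_Local
import Cfsg.Prelude.Def_Transfer
import Cfsg.Agent.Lib.Helper41.PGV.Defs
import Cfsg.Agent.Lib.Helper41.PGV.Defs2
import Cfsg.Agent.Lib.Helper21.Quasisimple
import Cfsg.Agent.Lib.Helper29.Iso
import Cfsg.Agent.Lib.Helper95.PgvT5

/-!
# Project PGV (S3086), helper41's sheet `RED_SHEET2`: leaf [DELTA-TRIV] in `_of` form (helper43)

`delta_triv_of`: the statement of `delta_triv` with the leaves it uses as hypotheses:
`h5` = conclusion of `red_5`, `hΔa`, `hΔqs` = second and third part of `delta_basic`,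
`hD` = the statement of `red_D`.  (`components_commute`, `centralizes_of_comm_central` of helper95
are imported.)
-/

set_option autoImplicit false
set_option linter.unusedSectionVars false

universe v

namespace Cfsg.Agent.Lib.Helper43.PGV

open Cfsg Cfsg.Agent.Lib.Helper41.PGV
open scoped commutatorElement

section qs

variable {G : Type v} [Group G]

/-- [T5-CENTRAL] for a quasisimple subgroup -/
theorem centralizes_of_comm_central_qs {L : Subgroup G} (hL : IsQuasisimple L) (q : G)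
    (hqN : ∀ x ∈ L, q * x * q⁻¹ ∈ L)
    (hc : ∀ x ∈ L, ∀ y ∈ L, (q * x * q⁻¹ * x⁻¹) * y = y * (q * x * q⁻¹ * x⁻¹)) :
    ∀ x ∈ L, q * x = x * q := by
  have hmemL : ∀ x ∈ L, q * x * q⁻¹ * x⁻¹ ∈ L := fun x hx =>
    L.mul_mem (hqN x hx) (L.inv_mem hx)
  let f : ↥L →* G := MonoidHom.mk' (fun x => q * (x : G) * q⁻¹ * (x : G)⁻¹) (by
    intro x y
    have h1 := hc (y : G) y.2 ((x : G)⁻¹) (L.inv_mem x.2)
    show q * ((x : G) * (y : G)) * q⁻¹ * ((x : G) * (y : G))⁻¹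
      = q * (x : G) * q⁻¹ * (x : G)⁻¹ * (q * (y : G) * q⁻¹ * (y : G)⁻¹)
    calc q * ((x : G) * (y : G)) * q⁻¹ * ((x : G) * (y : G))⁻¹
        = q * (x : G) * q⁻¹ * ((q * (y : G) * q⁻¹ * (y : G)⁻¹) * (x : G)⁻¹) := by group
      _ = q * (x : G) * q⁻¹ * ((x : G)⁻¹ * (q * (y : G) * q⁻¹ * (y : G)⁻¹)) := by rw [h1]
      _ = q * (x : G) * q⁻¹ * (x : G)⁻¹ * (q * (y : G) * q⁻¹ * (y : G)⁻¹) := by group)
  have hf : ∀ x : ↥L, f x = q * (x : G) * q⁻¹ * (x : G)⁻¹ := fun _ => rfl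
  have hfcomm : ∀ x y : ↥L, f x * f y = f y * f x := by
    intro x y
    rw [hf x, hf y]
    exact hc (x : G) x.2 _ (hmemL (y : G) y.2)
  have hker : commutator ↥L ≤ f.ker := by
    rw [commutator_eq_closure, Subgroup.closure_le]
    rintro g ⟨a, b, rfl⟩
    show f ⁅a, b⁆ = 1
    rw [map_commutatorElement, commutatorElement_def, hfcomm a b]
    group
  have hperf : commutator ↥L = ⊤ := by
    have : Group.IsPerfect ↥L := hL.1
    exact Group.IsPerfect.commutator_eq_top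
  intro x hx
  have h1 : f ⟨x, hx⟩ = 1 := by
    have : (⟨x, hx⟩ : ↥L) ∈ f.ker := hker (by rw [hperf]; trivial)
    exact this
  rw [hf] at h1
  have h2 : q * x * q⁻¹ * x⁻¹ = 1 := h1
  calc q * x = (q * x * q⁻¹ * x⁻¹) * (x * q) := by group
    _ = x * q := by rw [h2, one_mul]

/-- [T5-COMMGEN] for a quasisimple subgroup -/
theorem comm_gen_of_not_centralizes_qs {L : Subgroup G} (hL : IsQuasisimple L) (q : G)
    (hqN : ∀ x ∈ L, q * x * q⁻¹ ∈ L)
    (hqN' : ∀ x ∈ L, q⁻¹ * x * q ∈ L) (hnc : ¬ ∀ x ∈ L, q * x = x * q) :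
    L ≤ Subgroup.closure {u | ∃ x ∈ L, u = q⁻¹ * x⁻¹ * q * x} := by
  set N : Subgroup G := Subgroup.closure {u | ∃ x ∈ L, u = q⁻¹ * x⁻¹ * q * x} with hN
  have hgen : ∀ x ∈ L, q⁻¹ * x⁻¹ * q * x ∈ N := fun x hx =>
    Subgroup.subset_closure ⟨x, hx, rfl⟩
  have hNL : N ≤ L := by
    rw [hN, Subgroup.closure_le]
    rintro u ⟨x, hx, rfl⟩
    exact L.mul_mem (hqN' _ (L.inv_mem hx)) hx
  have hconj : ∀ y ∈ L, ∀ n ∈ N, y⁻¹ * n * y ∈ N := by
    intro y hy n hn
    induction hn using Subgroup.closure_induction with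
    | mem u hu =>
      obtain ⟨x, hx, rfl⟩ := hu
      have e : y⁻¹ * (q⁻¹ * x⁻¹ * q * x) * y
          = (q⁻¹ * y⁻¹ * q * y)⁻¹ * (q⁻¹ * (x * y)⁻¹ * q * (x * y)) := by group
      rw [e]
      exact N.mul_mem (N.inv_mem (hgen y hy)) (hgen (x * y) (L.mul_mem hx hy))
    | one => simp
    | mul a b _ _ ha hb =>
      have e : y⁻¹ * (a * b) * y = (y⁻¹ * a * y) * (y⁻¹ * b * y) := by group
      rw [e]
      exact N.mul_mem ha hb
    | inv a _ ha =>
      have e : y⁻¹ * a⁻¹ * y = (y⁻¹ * a * y)⁻¹ := by group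
      rw [e]
      exact N.inv_mem ha
  have hnorm : L ≤ Subgroup.normalizer (N : Set G) := by
    intro y hy
    rw [Subgroup.mem_set_normalizer_iff]
    intro n
    constructor
    · intro hn
      have := hconj y⁻¹ (L.inv_mem hy) n hn
      simpa using this
    · intro hn
      have := hconj y hy _ hn
      have e : y⁻¹ * (y * n * y⁻¹) * y = n := by group
      rwa [e] at this
  rcases Cfsg.Agent.Lib.Helper21.qs_eq_or_commutator_eq_bot hL hNL hnorm with h1 | h1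
  · exact h1.ge
  · exfalso
    apply hnc
    have hcomm := Cfsg.Agent.Lib.Helper21.commutator_eq_bot_iff_commute.1 h1
    apply centralizes_of_comm_central_qs hL q hqN
    intro z hz y hy
    have hx : q * z⁻¹ * q⁻¹ ∈ L := hqN _ (L.inv_mem hz)
    have hmem : q * z * q⁻¹ * z⁻¹ ∈ N := by
      have := N.inv_mem (hgen _ hx)
      have e : (q⁻¹ * (q * z⁻¹ * q⁻¹)⁻¹ * q * (q * z⁻¹ * q⁻¹))⁻¹ = q * z * q⁻¹ * z⁻¹ := by group
      rwa [e] at this
    exact (hcomm y hy _ hmem).symm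

end qs

section main

variable {p : ℕ} [Fact p.Prime] {G V : Type v} [Group G] [Finite G] [AddCommGroup V] [Finite V]
  [Module (ZMod p) V] {ρ : Representation (ZMod p) G V} {A K1 : Subgroup G} {a : G}

theorem rho_inv_mul (ρ : Representation (ZMod p) G V) (g : G) : ρ g⁻¹ * ρ g = 1 := by
  rw [← map_mul, inv_mul_cancel, map_one]

theorem rho_mul_inv (ρ : Representation (ZMod p) G V) (g : G) : ρ g * ρ g⁻¹ = 1 := by
  rw [← map_mul, mul_inv_cancel, map_one]

/-- the pointwise stabilizer of `im (ρ a - 1)` -/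
def stabIm (ρ : Representation (ZMod p) G V) (a : G) : Subgroup G where
  carrier := {g | (ρ g - 1) * (ρ a - 1) = 0}
  mul_mem' := by
    intro g k hg hk
    have hg' : (ρ g - 1) * (ρ a - 1) = 0 := hg
    have hk' : (ρ k - 1) * (ρ a - 1) = 0 := hk
    show (ρ (g * k) - 1) * (ρ a - 1) = 0
    have e : ρ (g * k) - 1 = ρ g * (ρ k - 1) + (ρ g - 1) := by rw [map_mul]; noncomm_ring
    rw [e, add_mul, mul_assoc, hk', mul_zero, hg', add_zero]
  one_mem' := by
    show (ρ 1 - 1) * (ρ a - 1) = 0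
    rw [map_one, sub_self, zero_mul]
  inv_mem' := by
    intro g hg
    have hg' : (ρ g - 1) * (ρ a - 1) = 0 := hg
    show (ρ g⁻¹ - 1) * (ρ a - 1) = 0
    have e : ρ g⁻¹ - 1 = - (ρ g⁻¹ * (ρ g - 1)) := by
      rw [mul_sub, rho_inv_mul, mul_one]; noncomm_ring
    rw [e, neg_mul, mul_assoc, hg', mul_zero, neg_zero]

theorem mem_stabIm {g : G} : g ∈ stabIm ρ a ↔ (ρ g - 1) * (ρ a - 1) = 0 := Iff.rfl

/-- an element commuting with `a` commutes with `ρ a - 1` -/
theorem rho_comm_of_comm {u : G} (hu : a * u = u * a) : ρ u * (ρ a - 1) = (ρ a - 1) * ρ u := by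
  rw [mul_sub, sub_mul, ← map_mul, ← map_mul, hu, mul_one, one_mul]

/-- the stabilizer of `im (ρ a - 1)` is normalized by the centralizer of `a` -/
theorem conj_mem_stabIm {u s : G} (hu : a * u = u * a) (hs : s ∈ stabIm ρ a) :
    u⁻¹ * s * u ∈ stabIm ρ a := by
  have hs' : (ρ s - 1) * (ρ a - 1) = 0 := hs
  show (ρ (u⁻¹ * s * u) - 1) * (ρ a - 1) = 0
  have e : ρ (u⁻¹ * s * u) - 1 = ρ u⁻¹ * (ρ s - 1) * ρ u := by
    rw [map_mul, map_mul, mul_sub, sub_mul, mul_one, rho_inv_mul]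
  rw [e, mul_assoc, rho_comm_of_comm hu, ← mul_assoc, mul_assoc (ρ u⁻¹), hs', mul_zero, zero_mul]

/-- `g` commuting with `a` and normalizing `K1` normalizes `Δ` -/
theorem conj_mem_Delta {g : G} (hga : g * a = a * g) (hgK : ∀ x ∈ K1, g * x * g⁻¹ ∈ K1) :
    ∀ u ∈ Delta K1 a, g * u * g⁻¹ ∈ Delta K1 a := by
  have h1 : g⁻¹ * a * g = a := by rw [mul_assoc, ← hga, ← mul_assoc, inv_mul_cancel, one_mul]
  have h2 : g⁻¹ * a⁻¹ = a⁻¹ * g⁻¹ := by rw [← mul_inv_rev, ← mul_inv_rev, hga]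
  intro u hu
  unfold Delta at hu ⊢
  induction hu using Subgroup.closure_induction with
  | mem u hu =>
    obtain ⟨x, hx, rfl⟩ := hu
    apply Subgroup.subset_closure
    refine ⟨g * x * g⁻¹, hgK x hx, ?_⟩
    calc g * (x * (a * x * a⁻¹)) * g⁻¹ = g * x * a * x * (a⁻¹ * g⁻¹) := by group
      _ = g * x * (g⁻¹ * a * g) * x * (g⁻¹ * a⁻¹) := by rw [h1, h2]
      _ = g * x * g⁻¹ * (a * (g * x * g⁻¹) * a⁻¹) := by group
  | one => simp
  | mul b c _ _ hb hc =>
    have e : g * (b * c) * g⁻¹ = (g * b * g⁻¹) * (g * c * g⁻¹) := by group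
    rw [e]
    exact Subgroup.mul_mem _ hb hc
  | inv b _ hb =>
    have e : g * b⁻¹ * g⁻¹ = (g * b * g⁻¹)⁻¹ := by group
    rw [e]
    exact Subgroup.inv_mem _ hb

/-- case (ii): `|V : C_V(a)| ≤ 2` -/
theorem Delta_le_stabIm_of_card (hc : Nat.card V ≤ 2 * Nat.card (fix ρ ({a} : Set G)))
    (hΔa : ∀ u ∈ Delta K1 a, a * u = u * a) : Delta K1 a ≤ stabIm ρ a := by
  -- `|im (ρ a - 1)| ≤ 2`
  have hker : LinearMap.ker (ρ a - 1) = fix ρ ({a} : Set G) := by
    ext v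
    rw [LinearMap.mem_ker, mem_fix]
    simp only [LinearMap.sub_apply, Module.End.one_apply, Set.mem_singleton_iff, forall_eq, sub_eq_zero]
  have h1 := Submodule.card_eq_card_quotient_mul_card (LinearMap.ker (ρ a - 1))
  rw [Nat.card_congr (LinearMap.quotKerEquivRange (ρ a - 1)).toEquiv, hker] at h1
  have hpos : 0 < Nat.card (fix ρ ({a} : Set G)) := Nat.card_pos
  have hR : Nat.card (LinearMap.range (ρ a - 1)) ≤ 2 := by
    rw [h1, mul_comm] at hc
    exact Nat.le_of_mul_le_mul_right hc hpos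
  intro u hu
  rw [mem_stabIm]
  ext v
  simp only [Module.End.mul_apply, LinearMap.sub_apply, Module.End.one_apply, LinearMap.zero_apply]
  rw [sub_eq_zero]
  by_contra hne
  have hcomm := rho_comm_of_comm (ρ := ρ) (hΔa u hu)
  have hmem : ρ u (ρ a v - v) ∈ LinearMap.range (ρ a - 1) := by
    refine ⟨ρ u v, ?_⟩
    have := congrArg (fun f : Module.End (ZMod p) V => f v) hcomm
    simp only [Module.End.mul_apply, LinearMap.sub_apply, Module.End.one_apply] at this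
    simp only [LinearMap.sub_apply, Module.End.one_apply]
    exact this.symm
  have hmem0 : ρ a v - v ∈ LinearMap.range (ρ a - 1) := ⟨v, by simp⟩
  have hr0 : ρ a v - v ≠ 0 := by
    intro h0
    apply hne
    rw [h0, map_zero]
  have hur0 : ρ u (ρ a v - v) ≠ 0 := by
    intro h0
    apply hr0
    have := congrArg (fun f : Module.End (ZMod p) V => f (ρ a v - v)) (rho_inv_mul ρ u)
    simp only [Module.End.mul_apply, Module.End.one_apply] at this
    rw [← this, h0, map_zero]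
  have : Fintype (LinearMap.range (ρ a - 1)) := Fintype.ofFinite _
  rw [Nat.card_eq_fintype_card] at hR
  have h3 : 2 < Fintype.card (LinearMap.range (ρ a - 1)) := by
    rw [Fintype.two_lt_card_iff]
    refine ⟨0, ⟨_, hmem0⟩, ⟨_, hmem⟩, ?_, ?_, ?_⟩
    · intro h; exact hr0 (congrArg Subtype.val h).symm
    · intro h; exact hur0 (congrArg Subtype.val h).symm
    · intro h; exact hne (congrArg Subtype.val h).symm
  omega

/-- **[DELTA-TRIV]**, `_of` form.  The exact sheet statement is the one-liner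
`theorem delta_triv (hp : p = 2) (h : CE ρ A K1 a) (x : G) (hx : x ∈ K1) : _ :=
  Cfsg.Agent.Lib.Helper43.PGV.delta_triv_of h (red_5 hp h) (delta_basic hp h).2.1 (delta_basic hp h).2.2
    (fun D hDA hD hcent => red_D h D hDA hD hcent) x hx`
(tested against the stubs of `RED_SHEET1/2`). -/
theorem delta_triv_of (h : CE ρ A K1 a)
    (h5 : (∃ Q : Subgroup G, Q ≤ NA A K1 ∧ Q ≠ ⊥ ∧ ∀ q ∈ Q, (ρ q - 1) * (ρ a - 1) = 0) ∨
      (NA A K1 = ⊥ ∧ Nat.card V ≤ 2 * Nat.card (fix ρ ({a} : Set G))))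
    (hΔa : ∀ u ∈ Delta K1 a, a * u = u * a) (hΔqs : IsQuasisimple (Delta K1 a))
    (hD : ∀ D : Subgroup G, D ≤ A → D ≠ ⊥ → (∀ d ∈ D, ∀ x ∈ K1, d * x = x * d) → False)
    (x : G) (hx : x ∈ K1) : (ρ (x * (a * x * a⁻¹)) - 1) * (ρ a - 1) = 0 := by
  have hxΔ : x * (a * x * a⁻¹) ∈ Delta K1 a := Subgroup.subset_closure ⟨x, hx, rfl⟩
  suffices hle : Delta K1 a ≤ stabIm ρ a from hle hxΔ
  rcases h5 with ⟨Q, hQB, hQne, hQ⟩ | ⟨-, hc⟩
  · obtain ⟨⟨q, hq⟩, hq1'⟩ := (Subgroup.ne_bot_iff_exists_ne_one).1 hQne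
    have hq1 : q ≠ 1 := fun h1 => hq1' (Subtype.ext h1)
    have hqA : q ∈ A := (hQB hq).1
    have hqN : q ∈ Subgroup.normalizer (K1 : Set G) := (hQB hq).2
    have hqa : q * a = a * q := by
      have := h.el.1.is_comm.comm ⟨q, hqA⟩ ⟨a, h.mem⟩
      exact congrArg Subtype.val this
    have hqa' : q⁻¹ * a = a * q⁻¹ := by
      calc q⁻¹ * a = q⁻¹ * (a * q) * q⁻¹ := by group
        _ = q⁻¹ * (q * a) * q⁻¹ := by rw [hqa]
        _ = a * q⁻¹ := by group
    have hqK : ∀ y ∈ K1, q * y * q⁻¹ ∈ K1 := fun y hy =>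
      (Subgroup.mem_normalizer_iff.1 hqN y).1 hy
    have hqK' : ∀ y ∈ K1, q⁻¹ * y * q⁻¹⁻¹ ∈ K1 := fun y hy =>
      (Subgroup.mem_normalizer_iff.1 (Subgroup.inv_mem _ hqN) y).1 hy
    have hqΔ : ∀ u ∈ Delta K1 a, q * u * q⁻¹ ∈ Delta K1 a := conj_mem_Delta hqa hqK
    have hqΔ' : ∀ u ∈ Delta K1 a, q⁻¹ * u * q ∈ Delta K1 a := by
      intro u hu
      have := conj_mem_Delta hqa' hqK' u hu
      rwa [inv_inv] at this
    -- `K1` and `K1^a` commute
    have hcompa : IsComponent (cj K1 a) :=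
      Cfsg.Agent.Lib.Helper29.isComponent_map_mulEquiv (MulAut.conj a) h.comp
    have hKK : ∀ y ∈ K1, ∀ w ∈ cj K1 a, y * w = w * y :=
      components_commute h.comp hcompa (fun e => h.move e.symm)
    -- `q` does not centralize `Δ`
    have hnc : ¬ ∀ u ∈ Delta K1 a, q * u = u * q := by
      intro hcent
      apply hD (Subgroup.zpowers q) (Subgroup.zpowers_le.2 hqA) (Subgroup.zpowers_ne_bot.2 hq1)
      have hcK : ∀ y ∈ K1, q * y = y * q := by
        apply centralizes_of_comm_central h.comp q hqK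
        intro y hy z hz
        -- `q y q⁻¹ y⁻¹` lies in `K1^a`
        have hyΔ : y * (a * y * a⁻¹) ∈ Delta K1 a := Subgroup.subset_closure ⟨y, hy, rfl⟩
        have e1 := hcent _ hyΔ
        have hw : a * (y * (q * y * q⁻¹)⁻¹) * a⁻¹ ∈ cj K1 a :=
          mem_cj.2 ⟨_, K1.mul_mem hy (K1.inv_mem (hqK y hy)), rfl⟩
        have e2 : q * y * q⁻¹ = y * (a * (y * (q * y * q⁻¹)⁻¹) * a⁻¹) := by
          have e3 : q * (y * (a * y * a⁻¹)) * q⁻¹ = y * (a * y * a⁻¹) := by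
            rw [e1]; group
          have e4 : q * (y * (a * y * a⁻¹)) * q⁻¹ = q * y * q⁻¹ * (a * (q * y * q⁻¹) * a⁻¹) := by
            have h1 : q⁻¹ * a * q = a := by
              rw [mul_assoc, ← hqa, ← mul_assoc, inv_mul_cancel, one_mul]
            have h2 : q⁻¹ * a⁻¹ = a⁻¹ * q⁻¹ := by rw [← mul_inv_rev, ← mul_inv_rev, hqa]
            calc q * (y * (a * y * a⁻¹)) * q⁻¹ = q * y * a * y * (a⁻¹ * q⁻¹) := by group
              _ = q * y * (q⁻¹ * a * q) * y * (q⁻¹ * a⁻¹) := by rw [h1, h2]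
              _ = q * y * q⁻¹ * (a * (q * y * q⁻¹) * a⁻¹) := by group
          rw [e4] at e3
          calc q * y * q⁻¹ = (q * y * q⁻¹ * (a * (q * y * q⁻¹) * a⁻¹)) * (a * (q * y * q⁻¹) * a⁻¹)⁻¹ := by
                group
            _ = y * (a * y * a⁻¹) * (a * (q * y * q⁻¹) * a⁻¹)⁻¹ := by rw [e3]
            _ = y * (a * (y * (q * y * q⁻¹)⁻¹) * a⁻¹) := by group
        have e5 : q * y * q⁻¹ * y⁻¹ = a * (y * (q * y * q⁻¹)⁻¹) * a⁻¹ := by
          have hc1 := hKK y hy _ hw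
          calc q * y * q⁻¹ * y⁻¹ = y * (a * (y * (q * y * q⁻¹)⁻¹) * a⁻¹) * y⁻¹ := by rw [← e2]
            _ = (a * (y * (q * y * q⁻¹)⁻¹) * a⁻¹) * y * y⁻¹ := by rw [hc1]
            _ = a * (y * (q * y * q⁻¹)⁻¹) * a⁻¹ := by group
        rw [e5]
        exact (hKK z hz _ hw).symm
      have hcen : q ∈ Subgroup.centralizer (K1 : Set G) := by
        rw [Subgroup.mem_centralizer_iff]
        intro y hy
        exact (hcK y hy).symm
      intro d hd y hy
      have hdc := (Subgroup.zpowers_le.2 hcen) hd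
      rw [Subgroup.mem_centralizer_iff] at hdc
      exact (hdc y hy).symm
    have hgen := comm_gen_of_not_centralizes_qs hΔqs q hqΔ hqΔ' hnc
    refine hgen.trans ?_
    rw [Subgroup.closure_le]
    rintro w ⟨u, hu, rfl⟩
    have hqS : q ∈ stabIm ρ a := hQ q hq
    have h1 : u⁻¹ * q * u ∈ stabIm ρ a := conj_mem_stabIm (hΔa u hu) hqS
    have e : q⁻¹ * u⁻¹ * q * u = q⁻¹ * (u⁻¹ * q * u) := by group
    rw [SetLike.mem_coe, e]
    exact Subgroup.mul_mem _ (Subgroup.inv_mem _ hqS) h1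
  · exact Delta_le_stabIm_of_card hc hΔa

end main

end Cfsg.Agent.Lib.Helper43.PGV
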