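import Mathlib
import Cfsg.Prelude.Def_Local
import Cfsg.Prelude.Def_Transfer
import Cfsg.Agent.Lib.Helper41.PGV.Defs
import Cfsg.Agent.Lib.Helper41.PGV.Defs2

/-!
# Project PGV (S3086), helper41's sheet `RED_SHEET2`: leaf [RED-5] in `_of` form (helper43)

`red_5_of`: the statement of `red_5` with the two leaves it uses as hypotheses:
`hT` = conclusion of `timmesfeld_rep` ([T4-REP]) and `hcard` = the cardinality part of `red_3_cor`.
-/

set_option autoImplicit false
set_option linter.unusedSectionVars false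

universe v

namespace Cfsg.Agent.Lib.Helper43.PGV

open Cfsg Cfsg.Agent.Lib.Helper41.PGV

variable {p : ℕ} [Fact p.Prime] {G V : Type v} [Group G] [Finite G] [AddCommGroup V] [Finite V]
  [Module (ZMod p) V] {ρ : Representation (ZMod p) G V} {A K1 : Subgroup G} {a : G}

/-- a subgroup of an elementary abelian subgroup is elementary abelian -/
theorem isElementaryAbelian_of_le {X : Type*} [Group X] {p : ℕ} {B A : Subgroup X} (hle : B ≤ A)
    (hA : IsElementaryAbelian p A) : IsElementaryAbelian p B := by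
  refine ⟨⟨⟨fun x y => ?_⟩⟩, fun b hb => hA.2 b (hle hb)⟩
  have h1 := hA.1.is_comm.comm ⟨x.1, hle x.2⟩ ⟨y.1, hle y.2⟩
  have h2 : x.1 * y.1 = y.1 * x.1 := congrArg Subtype.val h1
  exact Subtype.ext h2

theorem fix_anti (ρ : Representation (ZMod p) G V) {X Y : Set G} (h : X ⊆ Y) : fix ρ Y ≤ fix ρ X :=
  fun _ hv x hx => hv x (h hx)

theorem card_fix_bot (ρ : Representation (ZMod p) G V) :
    Nat.card (fix ρ (((⊥ : Subgroup G) : Subgroup G) : Set G)) = Nat.card V := by
  have : fix ρ (((⊥ : Subgroup G) : Subgroup G) : Set G) = ⊤ := by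
    rw [eq_top_iff]
    intro v _ x hx
    have hx1 : x = 1 := by simpa using hx
    rw [hx1, map_one]; rfl
  rw [this]
  exact Nat.card_congr (Submodule.topEquiv (R := ZMod p) (M := V)).toEquiv

/-- in a counterexample `a ≠ 1` -/
theorem ce_a_ne_one (h : CE ρ A K1 a) : a ≠ 1 := by
  intro ha
  apply h.move
  rw [ha]
  ext x
  simp

/-- in a counterexample `A ≠ 1` -/
theorem ce_ne_bot (h : CE ρ A K1 a) : A ≠ ⊥ := by
  intro hA
  apply ce_a_ne_one h
  have := h.mem
  rwa [hA, Subgroup.mem_bot] at this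

/-- **[RED-5]**, `_of` form.  The exact sheet statement is the one-liner
`theorem red_5 (hp : p = 2) (h : CE ρ A K1 a) : _ :=
  Cfsg.Agent.Lib.Helper43.PGV.red_5_of h (timmesfeld_rep h.inj h.el h.off (Cfsg.Agent.Lib.Helper43.PGV.ce_ne_bot h)) (red_3_cor hp h).2`
(tested against the stubs of `RED_SHEET1/2`). -/
theorem red_5_of (h : CE ρ A K1 a)
    (hT : ∃ Q : Subgroup G, (∀ q, q ∈ Q ↔ q ∈ A ∧ QuadOn ρ A q) ∧ Q ≠ ⊥ ∧ BestOffender ρ Q)
    (hcard : Nat.card A = 2 * Nat.card (NA A K1)) :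
    (∃ Q : Subgroup G, Q ≤ NA A K1 ∧ Q ≠ ⊥ ∧ ∀ q ∈ Q, (ρ q - 1) * (ρ a - 1) = 0) ∨
    (NA A K1 = ⊥ ∧ Nat.card V ≤ 2 * Nat.card (fix ρ ({a} : Set G))) := by
  obtain ⟨Q₀, hmem, hne, hoff⟩ := hT
  have hle : Q₀ ≤ A := fun q hq => ((hmem q).1 hq).1
  have hquad : ∀ q ∈ Q₀, (ρ q - 1) * (ρ a - 1) = 0 := fun q hq => ((hmem q).1 hq).2 a h.mem
  by_cases hQA : Q₀ = A
  · -- all of `A` is `A`-quadratic
    by_cases hB : NA A K1 = ⊥
    · right
      refine ⟨hB, ?_⟩
      have h1 := h.off ⊥ bot_le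
      unfold jj at h1
      rw [card_fix_bot, Subgroup.card_bot, one_mul, hcard, hB, Subgroup.card_bot, mul_one] at h1
      have h2 : Nat.card (fix ρ (A : Set G)) ≤ Nat.card (fix ρ ({a} : Set G)) := by
        apply Nat.card_le_card_of_injective (Submodule.inclusion (fix_anti ρ (by
          intro x hx
          rw [Set.mem_singleton_iff] at hx
          rw [hx]; exact h.mem)))
        exact Submodule.inclusion_injective _
      calc Nat.card V ≤ 2 * Nat.card (fix ρ (A : Set G)) := h1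
        _ ≤ 2 * Nat.card (fix ρ ({a} : Set G)) := Nat.mul_le_mul_left 2 h2
    · left
      refine ⟨NA A K1, le_refl _, hB, ?_⟩
      intro q hq
      apply hquad
      rw [hQA]
      exact hq.1
  · left
    refine ⟨Q₀, ?_, hne, hquad⟩
    have hlt : Nat.card Q₀ < Nat.card A :=
      lt_of_le_of_ne (Subgroup.card_le_of_le hle)
        (fun heq => hQA (Subgroup.eq_of_le_of_card_ge hle heq.ge))
    have hN := h.ih G V ρ h.inj Q₀ hne (isElementaryAbelian_of_le hle h.el) hoff
      (Nat.add_lt_add_left hlt _) K1 h.comp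
    exact le_inf hle hN

end Cfsg.Agent.Lib.Helper43.PGV
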