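import Mathlib
import Cfsg.Prelude.Def_Amalgam
import Cfsg.Agent.Lib.Helper68.AmalBDefs
import Cfsg.Agent.Lib.Helper68.AmalBTools
import Cfsg.Agent.Lib.Helper9.PGroupLemmas

/-!
# S2751 (helper68's sheet `AmalBSHEET.md`): module GSB-[FIX] in `_of` form (helper43)

`eq_bot_of_centralized_of`: the statement of `eq_bot_of_centralized` with the two facts it uses
([P2b] `Za_inf`, [P2c] `Za_fix_le`) as hypotheses, so that this file does not depend on which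
copy of the P2 modules is imported.
-/

set_option autoImplicit false

namespace Cfsg.Agent.Lib.Helper43.GSB

open Cfsg Cfsg.Agent.Lib.Helper12.Amal Cfsg.Agent.Lib.Helper68.AmalD Cfsg.Agent.Lib.Helper68.AmalW
  Cfsg.Agent.Lib.Helper68.AmalB

variable {G : Type*} [Group G] {P₁ P₂ : Subgroup G}

theorem eq_bot_of_centralized_of (hB : BaseB P₁ P₂)
    (hZa_inf : ∀ {x l m : CosetVertex P₁ P₂}, ¬ Helper68.AmalB.IsB x → (cosetGraph P₁ P₂).Adj x l →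
      (cosetGraph P₁ P₂).Adj x m → l ≠ m → Zv l ⊓ Zv m = ⊥)
    (hZa_fix_le : ∀ {x y : CosetVertex P₁ P₂}, (cosetGraph P₁ P₂).Adj x y → Helper68.AmalB.IsB y →
      ∀ {t z : G}, t ∈ Gv x ⊓ Gv y → t ∉ Qv x → z ∈ Zv x → t * z = z * t → z ∈ Zv y)
    {x y₁ y₂ : CosetVertex P₁ P₂} (hx : ¬ Helper68.AmalB.IsB x)
    (h₁ : (cosetGraph P₁ P₂).Adj x y₁) (h₂ : (cosetGraph P₁ P₂).Adj x y₂) (hne : y₁ ≠ y₂)
    {N : Subgroup G} (hN : N ≤ Qv x)
    (hnorm : Gv x ⊓ Gv y₁ ≤ Subgroup.normalizer (N : Set G))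
    {t : G} (ht : t ∈ Gv x ⊓ Gv y₂) (htQ : t ∉ Qv x) (hc : ∀ n ∈ N, t * n = n * t) : N = ⊥ := by
  have hW := hB.W
  by_contra hNbot
  have hy₂ : Helper68.AmalB.IsB y₂ := by
    by_contra h
    exact hx ((hB.adj_type x y₂ h₂).2 h)
  have fG := hW.fin x
  have fT : Finite ↥(Gv x ⊓ Gv y₁) :=
    Finite.of_injective _ (Subgroup.inclusion_injective (inf_le_left : Gv x ⊓ Gv y₁ ≤ Gv x))
  have hNT : N ≤ Gv x ⊓ Gv y₁ := hN.trans (Q_le_T hW h₁)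
  have hnormal : (N.subgroupOf (Gv x ⊓ Gv y₁)).Normal :=
    Subgroup.normal_subgroupOf_of_le_normalizer hnorm
  have hne' : N.subgroupOf (Gv x ⊓ Gv y₁) ≠ ⊥ := by
    intro h
    apply hNbot
    rw [Subgroup.subgroupOf_eq_bot] at h
    exact (disjoint_of_le_iff_left_eq_bot hNT).1 h
  have : Fact (Nat.Prime 2) := ⟨Nat.prime_two⟩
  have hT2 : IsPGroup 2 ↥(Gv x ⊓ Gv y₁) := hW.T_two x y₁ h₁
  obtain ⟨z, hzN, hz1, hzc⟩ :=
    Cfsg.Agent.Lib.Helper9.exists_ne_one_mem_center_of_normal hT2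
      (N.subgroupOf (Gv x ⊓ Gv y₁)) hne'
  -- an element of order `2` in `⟨z⟩`
  have hz2 : 2 ∣ Nat.card ↥(Subgroup.zpowers z) := by
    rw [Nat.card_zpowers]
    obtain ⟨k, hk⟩ := (IsPGroup.iff_orderOf.1 hT2) z
    rw [hk]
    have hk0 : k ≠ 0 := by
      rintro rfl
      rw [pow_zero, orderOf_eq_one_iff] at hk
      exact hz1 hk
    exact dvd_pow_self 2 hk0
  obtain ⟨u', hu'⟩ := exists_prime_orderOf_dvd_card' 2 hz2
  obtain ⟨u'', hu''⟩ := u'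
  have ho'' : orderOf u'' = 2 := by
    rw [← hu']; exact (Subgroup.orderOf_mk u'' hu'').symm
  have hu''N : u'' ∈ N.subgroupOf (Gv x ⊓ Gv y₁) := (Subgroup.zpowers_le.2 hzN) hu''
  have hu''c : u'' ∈ Subgroup.center ↥(Gv x ⊓ Gv y₁) := (Subgroup.zpowers_le.2 hzc) hu''
  obtain ⟨u, huT⟩ := u''
  have ho : orderOf u = 2 := by
    rw [← ho'']; exact (Subgroup.orderOf_mk u huT).symm
  have huN : u ∈ N := Subgroup.mem_subgroupOf.1 hu''N
  have hu2 : u ^ 2 = 1 := by rw [← ho]; exact pow_orderOf_eq_one u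
  have hu1 : u ≠ 1 := by
    intro h
    rw [h, orderOf_one] at ho
    omega
  have huC : u ∈ Subgroup.centralizer ((Gv x ⊓ Gv y₁ : Subgroup G) : Set G) := by
    rw [Subgroup.mem_centralizer_iff]
    intro s hs
    have := (Subgroup.mem_center_iff.1 hu''c) ⟨s, hs⟩
    exact congrArg Subtype.val this
  have huZT : u ∈ ZT (Gv x ⊓ Gv y₁) :=
    Subgroup.subset_closure ⟨⟨huT, huC⟩, hu2⟩
  rw [← hW.Z_inf x y₁ h₁] at huZT
  have hu₂ : u ∈ Zv y₂ := hZa_fix_le h₂ hy₂ ht htQ huZT.1 (hc u huN)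
  have hbot : u ∈ Zv y₁ ⊓ Zv y₂ := ⟨huZT.2, hu₂⟩
  rw [hZa_inf hx h₁ h₂ hne, Subgroup.mem_bot] at hbot
  exact hu1 hbot

end Cfsg.Agent.Lib.Helper43.GSB
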