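import Mathlib
import Cfsg.Prelude.Def_Amalgam
import Cfsg.Agent.Lib.Helper68.AmalBDefs
import Cfsg.Agent.Lib.Helper68.AmalBTools
import Cfsg.Agent.Lib.Helper19.AmalBP2b
import Cfsg.Agent.Lib.Helper19.AmalBP2c
import Cfsg.Agent.Lib.Helper43.AmalBFixOf

/-!
# S2751 (helper68's sheet `AmalBSHEET.md`): module GSB-[FIX] `eq_bot_of_centralized` (helper43)

Exact stub statement; wrapper of `Helper43.GSB.eq_bot_of_centralized_of` (file `AmalBFixOf.lean`,
which does not depend on the P2 modules) with helper19's [P2b], [P2c] (the chain every other GSB module imports).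
-/

set_option autoImplicit false

namespace Cfsg.Agent.Lib.Helper68.AmalB

open Cfsg Cfsg.Agent.Lib.Helper12.Amal Cfsg.Agent.Lib.Helper68.AmalD Cfsg.Agent.Lib.Helper68.AmalW

variable {G : Type*} [Group G] {P₁ P₂ : Subgroup G}

theorem eq_bot_of_centralized (hB : BaseB P₁ P₂) {x y₁ y₂ : CosetVertex P₁ P₂} (hx : ¬ IsB x)
    (h₁ : (cosetGraph P₁ P₂).Adj x y₁) (h₂ : (cosetGraph P₁ P₂).Adj x y₂) (hne : y₁ ≠ y₂)
    {N : Subgroup G} (hN : N ≤ Qv x)
    (hnorm : Gv x ⊓ Gv y₁ ≤ Subgroup.normalizer (N : Set G))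
    {t : G} (ht : t ∈ Gv x ⊓ Gv y₂) (htQ : t ∉ Qv x) (hc : ∀ n ∈ N, t * n = n * t) : N = ⊥ :=
  Cfsg.Agent.Lib.Helper43.GSB.eq_bot_of_centralized_of hB
    (fun hx hl hm hlm => Za_inf hB hx hl hm hlm)
    (fun hxy hy _ _ ht htQ hz hc => Za_fix_le hB hxy hy ht htQ hz hc)
    hx h₁ h₂ hne hN hnorm ht htQ hc

end Cfsg.Agent.Lib.Helper68.AmalB
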