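import Mathlib
import Cfsg.Prelude.Def_Amalgam
import Cfsg.Agent.Lib.Helper68.AmalBDefs
import Cfsg.Agent.Lib.Helper68.AmalBTools
import Cfsg.Agent.Lib.Helper12.AmalVTQuot

/-!
# S2751 (helper68's sheet `AmalBSHEET.md`): modules GSB-[ZERO-a] `zero_normal` and
GSB-[ZERO-b] `zero_count` (helper43)

Elementary finite group theory on `Loc0 P T` (`T` a Sylow `2`-subgroup of `P`,
`P / O₂(P) ≅ S₃`).
-/

set_option autoImplicit false

namespace Cfsg.Agent.Lib.Helper43.GSB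

open Cfsg Cfsg.Agent.Lib.Helper46 Cfsg.Agent.Lib.Helper12.Amal Cfsg.Agent.Lib.Helper68.AmalD
  Cfsg.Agent.Lib.Helper68.AmalW Cfsg.Agent.Lib.Helper68.AmalB

variable {G : Type*} [Group G] {P T : Subgroup G}

theorem loc0_isSylIn (h : Loc0 P T) : IsSylIn 2 T P := by
  obtain ⟨S, hS⟩ := h.syl
  refine ⟨S, ?_⟩
  rw [hS, Subgroup.map_subgroupOf_eq_of_le h.le]

theorem loc0_Q_le_T (h : Loc0 P T) : Qof P ≤ T := pCoreOf_le_of_isSylIn (loc0_isSylIn h)

theorem loc0_Q_conj (_h : Loc0 P T) : ∀ g ∈ P, ∀ x ∈ Qof P, g * x * g⁻¹ ∈ Qof P := by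
  intro g hg x hx
  have := le_normalizer_pCoreOf (p := 2) P hg
  rw [Subgroup.mem_normalizer_iff] at this
  exact (this x).1 hx

theorem loc0_T_isPGroup (h : Loc0 P T) : IsPGroup 2 ↥T := (loc0_isSylIn h).isPGroup

theorem loc0_card_P (h : Loc0 P T) : Nat.card ↥P = 6 * Nat.card ↥(Qof P) := by
  obtain ⟨e⟩ := h.quot
  have h1 := Subgroup.card_mul_index (pCore 2 ↥P)
  have h2 : (pCore 2 ↥P).index = 6 := by
    rw [Subgroup.index, Nat.card_congr e.toEquiv, Nat.card_perm, Nat.card_eq_fintype_card,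
      Fintype.card_fin]
    rfl
  rw [h2] at h1
  rw [card_Qof, ← h1, mul_comm]

theorem loc0_card_T (h : Loc0 P T) : Nat.card ↥T = 2 * Nat.card ↥(Qof P) := by
  have : Fact (Nat.Prime 2) := ⟨Nat.prime_two⟩
  have := h.fin
  have h1 := (loc0_isSylIn h).card
  have hfin : Finite ↥(Qof P) :=
    Finite.of_injective _ (Subgroup.inclusion_injective (pCoreOf_le (p := 2) P))
  obtain ⟨k, hk⟩ := IsPGroup.iff_card.1 (pCoreOf_isPGroup (p := 2) P)
  have hk' : Nat.card ↥(Qof P) = 2 ^ k := hk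
  rw [h1, loc0_card_P h, hk']
  have h6 : 6 * 2 ^ k = 2 ^ (k + 1) * 3 := by rw [pow_succ]; ring
  rw [h6, Nat.factorization_mul (by positivity) (by norm_num),
    Nat.Prime.factorization_pow Nat.prime_two]
  have h3 : (Nat.factorization 3) 2 = 0 :=
    Nat.factorization_eq_zero_of_not_dvd (by norm_num)
  simp only [Finsupp.coe_add, Pi.add_apply, Finsupp.single_eq_same, h3, add_zero]
  rw [pow_succ]; ring

theorem loc0_card_P_T (h : Loc0 P T) : Nat.card ↥P = 3 * Nat.card ↥T := by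
  rw [loc0_card_P h, loc0_card_T h]; ring

/-- a subgroup of prime index `3`, and an element outside it, generate -/
theorem sup_zpowers_eq_of_card [Finite ↥P] (hle : T ≤ P)
    (hcard : Nat.card ↥P = 3 * Nat.card ↥T) {d : G} (hd : d ∈ P) (hdT : d ∉ T) :
    T ⊔ Subgroup.zpowers d = P := by
  have hMP : T ⊔ Subgroup.zpowers d ≤ P := sup_le hle (by rw [Subgroup.zpowers_le]; exact hd)
  have hTM : T ≤ T ⊔ Subgroup.zpowers d := le_sup_left
  have fM : Finite ↥(T ⊔ Subgroup.zpowers d) :=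
    Finite.of_injective _ (Subgroup.inclusion_injective hMP)
  have fT : Finite ↥T := Finite.of_injective _ (Subgroup.inclusion_injective hle)
  obtain ⟨k, hk⟩ := Subgroup.card_dvd_of_le hTM
  obtain ⟨j, hj⟩ := Subgroup.card_dvd_of_le hMP
  have hT0 : 0 < Nat.card ↥T := Nat.card_pos
  have hkj : k * j = 3 := by
    have : Nat.card ↥T * (k * j) = Nat.card ↥T * 3 := by
      rw [← mul_assoc, ← hk, ← hj, hcard]; ring
    exact Nat.eq_of_mul_eq_mul_left hT0 this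
  have hk1 : k ≠ 1 := by
    rintro rfl
    have hMT : T = T ⊔ Subgroup.zpowers d :=
      Subgroup.eq_of_le_of_card_ge hTM (by rw [hk]; simp)
    apply hdT
    rw [hMT]
    exact (le_sup_right : Subgroup.zpowers d ≤ T ⊔ Subgroup.zpowers d)
      (Subgroup.mem_zpowers d)
  have hk3 : k = 3 := by
    have : k ∣ 3 := ⟨j, hkj.symm⟩
    rcases (Nat.dvd_prime Nat.prime_three).1 this with h | h
    · exact absurd h hk1
    · exact h
  have hj1 : j = 1 := by subst hk3; omega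
  exact Subgroup.eq_of_le_of_card_ge hMP (by rw [hj, hj1]; simp)


/-- general form of GSB-[ZERO-a] -/
theorem zero_normal_gen (l : Loc0 P T)
    (h : ¬ P ⊓ Subgroup.centralizer (Qof P : Set G) ≤ Qof P) :
    ∀ N : Subgroup G, N ≤ Qof P → T ≤ Subgroup.normalizer (N : Set G) →
      P ≤ Subgroup.normalizer (N : Set G) := by
  have fP := l.fin
  -- `C = C_P(Q)` is normal in `P`
  have hCn : P ≤ Subgroup.normalizer
      ((P ⊓ Subgroup.centralizer (Qof P : Set G) : Subgroup G) : Set G) := by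
    apply le_normalizer_of_forall
    intro g hg c hc
    rw [Subgroup.mem_inf] at hc ⊢
    obtain ⟨hcP, hcC⟩ := hc
    refine ⟨P.mul_mem (P.mul_mem hg hcP) (P.inv_mem hg), ?_⟩
    rw [Subgroup.mem_centralizer_iff] at hcC ⊢
    intro q hq
    have hq' : g⁻¹ * q * g⁻¹⁻¹ ∈ Qof P := loc0_Q_conj l g⁻¹ (P.inv_mem hg) q hq
    have h1 := hcC _ hq'
    calc q * (g * c * g⁻¹) = g * ((g⁻¹ * q * g⁻¹⁻¹) * c) * g⁻¹ := by group
      _ = g * (c * (g⁻¹ * q * g⁻¹⁻¹)) * g⁻¹ := by rw [h1]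
      _ = g * c * g⁻¹ * q := by group
  -- `C ≰ T`
  have hCT : ¬ P ⊓ Subgroup.centralizer (Qof P : Set G) ≤ T := by
    intro hle
    apply h
    exact VTQ.le_Qof inf_le_left hCn ((loc0_T_isPGroup l).to_le hle)
  obtain ⟨d, hdC, hdT⟩ := SetLike.not_le_iff_exists.1 hCT
  have hsup := sup_zpowers_eq_of_card l.le (loc0_card_P_T l) hdC.1 hdT
  intro N hN hT
  rw [← hsup]
  refine sup_le hT ?_
  apply le_normalizer_of_forall
  intro g hg n hn
  have hgC : g ∈ Subgroup.centralizer (Qof P : Set G) :=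
    (Subgroup.zpowers_le.2 hdC.2) hg
  rw [Subgroup.mem_centralizer_iff] at hgC
  have := hgC n (hN hn)
  have e : g * n * g⁻¹ = n := by rw [← this]; group
  rw [e]; exact hn


/-- the three cosets `dⁱ T` of a subgroup of index `3` -/
theorem exists_pow_mul_of_card [Finite ↥P] (hle : T ≤ P)
    (hcard : Nat.card ↥P = 3 * Nat.card ↥T) {d : G} (hd : d ∈ P) (hd3 : d ^ 3 = 1)
    (hdT : d ∉ T) : ∀ g ∈ P, ∃ i : Fin 3, ∃ t ∈ T, g = d ^ (i : ℕ) * t := by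
  have fT : Finite ↥T := Finite.of_injective _ (Subgroup.inclusion_injective hle)
  have hT0 : 0 < Nat.card ↥T := Nat.card_pos
  have hidx : (T.subgroupOf P).index = 3 := by
    have h1 := Subgroup.card_mul_index (T.subgroupOf P)
    rw [Nat.card_congr (Subgroup.subgroupOfEquivOfLe hle).toEquiv, hcard, mul_comm] at h1
    exact Nat.eq_of_mul_eq_mul_right hT0 h1
  have hcq : Nat.card (↥P ⧸ T.subgroupOf P) = 3 := hidx
  have fq : Finite (↥P ⧸ T.subgroupOf P) := Nat.finite_of_card_ne_zero (by omega)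
  have hsq : d ^ 2 ∈ T → d ∈ T := by
    intro h
    have e : d = (d ^ 2) ^ 2 := by
      rw [← pow_mul]
      show d = d ^ (3 + 1)
      rw [pow_succ, hd3, one_mul]
    rw [e]; exact T.pow_mem h 2
  have key : ∀ a b : ℕ, a < 3 → b < 3 → (d ^ a)⁻¹ * d ^ b ∈ T → a = b := by
    intro a b ha hb h
    interval_cases a <;> interval_cases b
    · rfl
    · exfalso; apply hdT
      have e : (d ^ 0)⁻¹ * d ^ 1 = d := by group
      rwa [e] at h
    · exfalso; apply hdT; apply hsq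
      have e : (d ^ 0)⁻¹ * d ^ 2 = d ^ 2 := by group
      rwa [e] at h
    · exfalso; apply hdT
      have e : (d ^ 1)⁻¹ * d ^ 0 = d⁻¹ := by group
      rw [e] at h; exact T.inv_mem_iff.1 h
    · rfl
    · exfalso; apply hdT
      have e : (d ^ 1)⁻¹ * d ^ 2 = d := by group
      rwa [e] at h
    · exfalso; apply hdT; apply hsq
      have e : (d ^ 2)⁻¹ * d ^ 0 = (d ^ 2)⁻¹ := by group
      rw [e] at h; exact T.inv_mem_iff.1 h
    · exfalso; apply hdT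
      have e : (d ^ 2)⁻¹ * d ^ 1 = d⁻¹ := by group
      rw [e] at h; exact T.inv_mem_iff.1 h
    · rfl
  let f : Fin 3 → ↥P ⧸ T.subgroupOf P :=
    fun i => ((((⟨d, hd⟩ : ↥P) ^ (i : ℕ) : ↥P)) : ↥P ⧸ T.subgroupOf P)
  have hf : Function.Injective f := by
    intro i j hij
    have h := QuotientGroup.eq.1 hij
    rw [Subgroup.mem_subgroupOf] at h
    simp only [Subgroup.coe_mul, Subgroup.coe_inv, Subgroup.coe_pow] at h
    exact Fin.ext (key _ _ i.2 j.2 h)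
  have hbij := (Nat.bijective_iff_injective_and_card f).2 ⟨hf, by rw [hcq]; simp⟩
  intro g hg
  obtain ⟨i, hi⟩ := hbij.2 (((⟨g, hg⟩ : ↥P)) : ↥P ⧸ T.subgroupOf P)
  have h := QuotientGroup.eq.1 hi
  rw [Subgroup.mem_subgroupOf] at h
  simp only [Subgroup.coe_mul, Subgroup.coe_inv, Subgroup.coe_pow] at h
  exact ⟨i, _, h, by group⟩


/-- `|T : O₂(P)| = 2` -/
theorem loc0_relIndex (h : Loc0 P T) : (Qof P).relIndex T = 2 := by
  have fP := h.fin
  have fT : Finite ↥T := Finite.of_injective _ (Subgroup.inclusion_injective h.le)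
  have fQ : Finite ↥(Qof P) :=
    Finite.of_injective _ (Subgroup.inclusion_injective (loc0_Q_le_T h))
  have h1 := Subgroup.relIndex_mul_relIndex ⊥ (Qof P) T bot_le (loc0_Q_le_T h)
  rw [Subgroup.relIndex_bot_left, Subgroup.relIndex_bot_left, loc0_card_T h, mul_comm] at h1
  have hQ0 : 0 < Nat.card ↥(Qof P) := Nat.card_pos
  exact Nat.eq_of_mul_eq_mul_right hQ0 h1

/-- general form of GSB-[ZERO-b] -/
theorem zero_count_gen {P₁ P₂ T : Subgroup G} (l₁ : Loc0 P₁ T) (l₂ : Loc0 P₂ T)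
    (core : ∀ N : Subgroup G, N ≤ T → P₁ ≤ Subgroup.normalizer (N : Set G) →
      P₂ ≤ Subgroup.normalizer (N : Set G) → N = ⊥)
    (hn : ∀ N : Subgroup G, N ≤ Qof P₁ → T ≤ Subgroup.normalizer (N : Set G) →
      P₁ ≤ Subgroup.normalizer (N : Set G)) :
    Nat.card ↥T ≤ 16 := by
  have f₁ := l₁.fin
  have f₂ := l₂.fin
  have fT : Finite ↥T := Finite.of_injective _ (Subgroup.inclusion_injective l₂.le)
  have fQ₂ : Finite ↥(Qof P₂) :=
    Finite.of_injective _ (Subgroup.inclusion_injective (loc0_Q_le_T l₂))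
  -- an element of order 3
  have h3 : 3 ∣ Nat.card ↥P₂ := by rw [loc0_card_P_T l₂]; exact dvd_mul_right 3 _
  have : Fact (Nat.Prime 3) := ⟨Nat.prime_three⟩
  obtain ⟨d', hd'⟩ := exists_prime_orderOf_dvd_card' 3 h3
  obtain ⟨d, hdP⟩ := d'
  have ho : orderOf d = 3 := by
    rw [← hd']; exact (Subgroup.orderOf_mk d hdP).symm
  have hd3 : d ^ 3 = 1 := by rw [← ho]; exact pow_orderOf_eq_one d
  have hdT : d ∉ T := by
    intro hdT
    obtain ⟨k, hk⟩ := (loc0_T_isPGroup l₂) ⟨d, hdT⟩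
    have hk' : d ^ 2 ^ k = 1 := by simpa using congrArg Subtype.val hk
    have h1 := orderOf_dvd_of_pow_eq_one hk'
    rw [ho] at h1
    have h2 := Nat.Prime.dvd_of_dvd_pow Nat.prime_three h1
    omega
  have hdec := exists_pow_mul_of_card l₂.le (loc0_card_P_T l₂) hdP hd3 hdT
  -- `N₀ = Q₁ ∩ Q₂`
  have hTN₀ : ∀ t ∈ T, ∀ n ∈ Qof P₁ ⊓ Qof P₂, t * n * t⁻¹ ∈ Qof P₁ ⊓ Qof P₂ := by
    intro t ht n hn'
    exact ⟨loc0_Q_conj l₁ t (l₁.le ht) n hn'.1, loc0_Q_conj l₂ t (l₂.le ht) n hn'.2⟩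
  let A : Fin 3 → Subgroup G :=
    fun i => (Qof P₁ ⊓ Qof P₂).map (MulAut.conj (d ^ (i : ℕ))).toMonoidHom
  have hKN₀ : (⨅ i, A i) ≤ Qof P₁ ⊓ Qof P₂ := by
    refine (iInf_le A 0).trans ?_
    intro x hx
    change x ∈ (Qof P₁ ⊓ Qof P₂).map (MulAut.conj (d ^ ((0 : Fin 3) : ℕ))).toMonoidHom at hx
    rw [mem_map_conj] at hx
    simpa using hx
  have hP₂K : P₂ ≤ Subgroup.normalizer ((⨅ i, A i : Subgroup G) : Set G) := by
    apply le_normalizer_of_forall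
    intro g hg k hk
    rw [Subgroup.mem_iInf] at hk ⊢
    intro i
    show g * k * g⁻¹ ∈ (Qof P₁ ⊓ Qof P₂).map (MulAut.conj (d ^ (i : ℕ))).toMonoidHom
    rw [mem_map_conj]
    obtain ⟨j, t, ht, hjt⟩ :=
      hdec (g⁻¹ * d ^ (i : ℕ)) (P₂.mul_mem (P₂.inv_mem hg) (P₂.pow_mem hdP _))
    have hkj := hk j
    change k ∈ (Qof P₁ ⊓ Qof P₂).map (MulAut.conj (d ^ (j : ℕ))).toMonoidHom at hkj
    rw [mem_map_conj] at hkj
    have e1 : (d ^ (i : ℕ))⁻¹ * g = t⁻¹ * (d ^ (j : ℕ))⁻¹ := by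
      rw [← mul_inv_rev, ← hjt]; group
    have e : (d ^ (i : ℕ))⁻¹ * (g * k * g⁻¹) * d ^ (i : ℕ) =
        t⁻¹ * ((d ^ (j : ℕ))⁻¹ * k * d ^ (j : ℕ)) * t⁻¹⁻¹ := by
      calc (d ^ (i : ℕ))⁻¹ * (g * k * g⁻¹) * d ^ (i : ℕ)
          = ((d ^ (i : ℕ))⁻¹ * g) * k * (g⁻¹ * d ^ (i : ℕ)) := by group
        _ = t⁻¹ * ((d ^ (j : ℕ))⁻¹ * k * d ^ (j : ℕ)) * t⁻¹⁻¹ := by rw [e1, hjt]; group
    rw [e]
    exact hTN₀ t⁻¹ (T.inv_mem ht) _ hkj
  have hKbot : (⨅ i, A i) = ⊥ := by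
    apply core _ (hKN₀.trans (inf_le_left.trans (loc0_Q_le_T l₁)))
    · exact hn _ (hKN₀.trans inf_le_left) (l₂.le.trans hP₂K)
    · exact hP₂K
  -- the indices
  have hrel : ∀ i, (A i).relIndex (Qof P₂) ≤ 2 := by
    intro i
    have hQ₂ : (Qof P₂).map (MulAut.conj (d ^ (i : ℕ))).toMonoidHom = Qof P₂ :=
      map_conj_eq_of_mem_normalizer (le_normalizer_pCoreOf (p := 2) P₂ (P₂.pow_mem hdP _))
    have h1 := Subgroup.relIndex_map_map_of_injective (Qof P₁ ⊓ Qof P₂) (Qof P₂)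
      (f := (MulAut.conj (d ^ (i : ℕ))).toMonoidHom) (MulEquiv.injective _)
    rw [hQ₂] at h1
    show ((Qof P₁ ⊓ Qof P₂).map (MulAut.conj (d ^ (i : ℕ))).toMonoidHom).relIndex (Qof P₂) ≤ 2
    rw [h1, Subgroup.inf_relIndex_right, ← loc0_relIndex l₁]
    apply Subgroup.relIndex_le_of_le_right (loc0_Q_le_T l₂)
    rw [loc0_relIndex l₁]; norm_num
  have h8 : (⨅ i, A i).relIndex (Qof P₂) ≤ 8 := by
    calc (⨅ i, A i).relIndex (Qof P₂) ≤ ∏ i, (A i).relIndex (Qof P₂) :=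
          Subgroup.relIndex_iInf_le A
      _ ≤ ∏ _i : Fin 3, 2 := Finset.prod_le_prod (fun i _ => Nat.zero_le _) (fun i _ => hrel i)
      _ = 8 := by simp
  rw [hKbot, Subgroup.relIndex_bot_left] at h8
  rw [loc0_card_T l₂]; omega

end Cfsg.Agent.Lib.Helper43.GSB

namespace Cfsg.Agent.Lib.Helper68.AmalB

open Cfsg Cfsg.Agent.Lib.Helper12.Amal Cfsg.Agent.Lib.Helper68.AmalD Cfsg.Agent.Lib.Helper68.AmalW

variable {G : Type*} [Group G] {P₁ P₂ : Subgroup G}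

/-- **[G-ZERO-a]** if `C_{P₁}(O₂(P₁)) ≰ O₂(P₁)`, every `T`-invariant subgroup of `O₂(P₁)` is
`P₁`-invariant -/
theorem zero_normal (l₁ : Loc0 P₁ (P₁ ⊓ P₂))
    (h : ¬ P₁ ⊓ Subgroup.centralizer (Qof P₁ : Set G) ≤ Qof P₁) :
    ∀ N : Subgroup G, N ≤ Qof P₁ → P₁ ⊓ P₂ ≤ Subgroup.normalizer (N : Set G) →
      P₁ ≤ Subgroup.normalizer (N : Set G) :=
  Cfsg.Agent.Lib.Helper43.GSB.zero_normal_gen l₁ h

/-- **[G-ZERO-b]** then `|T| ≤ 16` -/
theorem zero_count (l₁ : Loc0 P₁ (P₁ ⊓ P₂)) (l₂ : Loc0 P₂ (P₁ ⊓ P₂))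
    (core : ∀ N : Subgroup G, N ≤ P₁ ⊓ P₂ → P₁ ≤ Subgroup.normalizer (N : Set G) →
      P₂ ≤ Subgroup.normalizer (N : Set G) → N = ⊥)
    (hn : ∀ N : Subgroup G, N ≤ Qof P₁ → P₁ ⊓ P₂ ≤ Subgroup.normalizer (N : Set G) →
      P₁ ≤ Subgroup.normalizer (N : Set G)) :
    Nat.card ↥(P₁ ⊓ P₂) ≤ 16 :=
  Cfsg.Agent.Lib.Helper43.GSB.zero_count_gen l₁ l₂ core hn

end Cfsg.Agent.Lib.Helper68.AmalB
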