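/-
helper43: ASCHO2-[P-3] (hedge; project ASCHO second sheet, coordinator helper5).
`Ω` does not normalise a field subalgebra of odd prime degree.

Proof: `g = 1 + N ∈ Ω` ([PLANE]), `N² = 0`, image of `N` inside the plane `span {p, w}`.  For `k ∈ K`,
`d := g k g⁻¹ − k ∈ K` and `d g = N k − k N` kills a non-zero vector (four linear conditions in
dimension ≥ 7), so `d` is not invertible, hence `d = 0`: `N` commutes with `K`.  Then the image of `N`
is `K`-stable, and `k ↦ k v` (`v ≠ 0` in the image) embeds `K` into the plane: `r ≤ 2`.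
-/
import Mathlib
import Cfsg.Prelude.Def_GeometricClasses
import Cfsg.Agent.Lib.Helper99.AschDefs
import Cfsg.Agent.Lib.Helper5.AschODefs
import Cfsg.Agent.Lib.Helper5.AschOBasic
import Cfsg.Agent.Lib.Helper94.OrthBridge
import Cfsg.Agent.Lib.Helper43.AschO2Plane

set_option autoImplicit false

namespace Cfsg.Agent.Lib.Helper5.AschO

open Cfsg Cfsg.Geo Cfsg.Agent.Lib.Helper99.Asch
open scoped MatrixGroups Matrix Kronecker

variable {ι : Type} [Fintype ι] [DecidableEq ι] {F : Type*} [Field F] [Fintype F]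

/-- ASCHO2-[P-3]: `Ω` does not normalise a field subalgebra of odd prime degree. -/
theorem not_omegaGL_le_subalgebraNormalizer {Q : (ι → F) → F} (hQ : IsNondegenerateQuadraticForm Q)
    (hodd : Odd (Fintype.card F)) (h7 : 7 ≤ Fintype.card ι) (r : ℕ) (hr : r.Prime) (hr2 : r ≠ 2)
    (K : Subalgebra F (Matrix ι ι F)) (hK : IsFieldSubalgebra r K) :
    ¬ omegaGL Q ≤ subalgebraNormalizer K := by
  classical
  intro hle
  obtain ⟨N, p, w, hind, hN0, hNN, hNz, hfam⟩ := exists_long_root_family hQ hodd h7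
  obtain ⟨g, hgΩ, hg⟩ := hfam 1
  rw [one_smul] at hg
  have hgn : ∀ k : Matrix ι ι F, k ∈ K ↔
      (g : Matrix ι ι F) * k * ((g⁻¹ : GL ι F) : Matrix ι ι F) ∈ K := hle hgΩ
  have hginv : ((g⁻¹ : GL ι F) : Matrix ι ι F) * (g : Matrix ι ι F) = 1 := by
    rw [← Units.val_mul, inv_mul_cancel, Units.val_one]
  have hfr : Module.finrank F (ι → F) = Fintype.card ι := Module.finrank_fintype_fun_eq_card F
  -- the plane
  set S : Submodule F (ι → F) := Submodule.span F (Set.range ![p, w]) with hS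
  have hSdim : Module.finrank F S = 2 := by
    rw [hS, finrank_span_eq_card hind, Fintype.card_fin]
  have hpS : p ∈ S := Submodule.subset_span ⟨0, rfl⟩
  have hwS : w ∈ S := Submodule.subset_span ⟨1, rfl⟩
  have hNS : ∀ z, N *ᵥ z ∈ S := by
    intro z
    rw [hNz]
    exact S.sub_mem (S.smul_mem _ hpS) (S.smul_mem _ hwS)
  -- invertibility in K
  have hKinv : ∀ x ∈ K, x ≠ 0 → ∀ v : ι → F, x *ᵥ v = 0 → v = 0 := by
    intro x hx hx0 v hv
    obtain ⟨y, hyK, hxy⟩ := hK.inv x hx hx0
    have hyx : y * x = 1 := by rw [← hK.comm x hx y hyK]; exact hxy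
    have : (y * x) *ᵥ v = 0 := by rw [← Matrix.mulVec_mulVec, hv, Matrix.mulVec_zero]
    rwa [hyx, Matrix.one_mulVec] at this
  -- N commutes with K
  have hcomm : ∀ k ∈ K, N * k = k * N := by
    intro k hk
    by_contra hne
    set d := (g : Matrix ι ι F) * k * ((g⁻¹ : GL ι F) : Matrix ι ι F) - k with hd
    have hdK : d ∈ K := K.sub_mem ((hgn k).1 hk) hk
    have hdg : d * (g : Matrix ι ι F) = N * k - k * N := by
      rw [hd, sub_mul, mul_assoc, hginv, mul_one, hg]
      noncomm_ring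
    have hd0 : d ≠ 0 := by
      intro h0
      rw [h0, zero_mul] at hdg
      exact hne (sub_eq_zero.1 hdg.symm)
    -- a non-zero vector killed by N and N k
    let B := Cfsg.Agent.Lib.Helper94.polarBilin hQ
    let φ : (ι → F) →ₗ[F] (Fin 4 → F) :=
      LinearMap.pi ![B.flip w, B.flip p, (B.flip w) ∘ₗ Matrix.toLin' k, (B.flip p) ∘ₗ Matrix.toLin' k]
    have hker : LinearMap.ker φ ≠ ⊥ := by
      apply LinearMap.ker_ne_bot_of_finrank_lt
      rw [hfr, Module.finrank_fintype_fun_eq_card, Fintype.card_fin]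
      omega
    obtain ⟨z, hzker, hz0⟩ := Submodule.exists_mem_ne_zero_of_ne_bot hker
    rw [LinearMap.mem_ker] at hzker
    have h0 : QuadraticMap.polar Q z w = 0 := congrFun hzker 0
    have h1 : QuadraticMap.polar Q z p = 0 := congrFun hzker 1
    have h2 : QuadraticMap.polar Q (k *ᵥ z) w = 0 := by
      have := congrFun hzker 2
      simpa [φ, B, Cfsg.Agent.Lib.Helper94.polarBilin_apply] using this
    have h3 : QuadraticMap.polar Q (k *ᵥ z) p = 0 := by
      have := congrFun hzker 3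
      simpa [φ, B, Cfsg.Agent.Lib.Helper94.polarBilin_apply] using this
    have hNz0 : N *ᵥ z = 0 := by rw [hNz, h0, h1]; simp
    have hNkz0 : N *ᵥ (k *ᵥ z) = 0 := by rw [hNz, h2, h3]; simp
    have hkill : (d * (g : Matrix ι ι F)) *ᵥ z = 0 := by
      rw [hdg, Matrix.sub_mulVec, ← Matrix.mulVec_mulVec, ← Matrix.mulVec_mulVec, hNz0, hNkz0,
        Matrix.mulVec_zero, sub_zero]
    rw [← Matrix.mulVec_mulVec] at hkill
    have hgz : (g : Matrix ι ι F) *ᵥ z = 0 := hKinv d hdK hd0 _ hkill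
    have : (((g⁻¹ : GL ι F) : Matrix ι ι F) * (g : Matrix ι ι F)) *ᵥ z = 0 := by
      rw [← Matrix.mulVec_mulVec, hgz, Matrix.mulVec_zero]
    rw [hginv, Matrix.one_mulVec] at this
    exact hz0 this
  -- a non-zero vector in the image of N
  obtain ⟨z0, hz0⟩ : ∃ z0 : ι → F, N *ᵥ z0 ≠ 0 := by
    by_contra hcon
    push Not at hcon
    apply hN0
    apply Matrix.toLin'.injective
    apply LinearMap.ext
    intro z
    rw [Matrix.toLin'_apply, hcon z, map_zero, LinearMap.zero_apply]
  set v := N *ᵥ z0 with hv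
  have hkvS : ∀ k ∈ K, k *ᵥ v ∈ S := by
    intro k hk
    rw [hv, Matrix.mulVec_mulVec, ← hcomm k hk, ← Matrix.mulVec_mulVec]
    exact hNS _
  -- the embedding of K into the plane
  let ψ0 : K →ₗ[F] (ι → F) :=
    { toFun := fun k => (k : Matrix ι ι F) *ᵥ v
      map_add' := by intro a b; simp [Matrix.add_mulVec]
      map_smul' := by intro c a; simp [Matrix.smul_mulVec] }
  let ψ : K →ₗ[F] S := LinearMap.codRestrict S ψ0 (fun k => hkvS k k.2)
  have hψinj : Function.Injective ψ := by
    rw [← LinearMap.ker_eq_bot, LinearMap.ker_eq_bot']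
    intro k hk
    have hk0 : (k : Matrix ι ι F) *ᵥ v = 0 := congrArg Subtype.val hk
    by_contra hkne
    have : (k : Matrix ι ι F) ≠ 0 := fun h => hkne (Subtype.ext h)
    exact hz0 (hKinv k k.2 this v hk0)
  have hle2 : Module.finrank F K ≤ Module.finrank F S :=
    LinearMap.finrank_le_finrank_of_injective hψinj
  rw [hK.finrank_eq, hSdim] at hle2
  have := hr.two_le
  omega

end Cfsg.Agent.Lib.Helper5.AschO
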