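import Mathlib
import Cfsg.Agent.Lib.Helper14.PSL2Borel

/-!
# Sylow `p`-subgroups of `PSL₂(q)`: generation and irreducibility (helper43, S2768 [BAU-PSL2])

Core facts about `upperBar F ≤ PSL₂(F)`:
* `eq_top_of_upper_lower`: a subgroup containing all upper and lower unipotent elements is `⊤`;
* `eq_top_of_upperU_of_conj`: a subgroup containing one non-trivial upper unipotent element and a
  conjugate `g U g⁻¹` with `g` not upper triangular is `⊤`;
* `eq_bot_or_eq_of_invariant`: a subgroup of `U` invariant under the diagonal torus is `⊥` or `U`.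
-/

set_option autoImplicit false
set_option linter.unusedSectionVars false
set_option linter.unusedVariables false

namespace Cfsg.Agent.Lib.Helper43.BauPSL2

open Cfsg.Agent.Lib.Helper41 Cfsg.Agent.Lib.Helper14 Cfsg.Agent.Lib.Helper11

variable {F : Type*} [Field F]

local notation "PSL2" => Matrix.ProjectiveSpecialLinearGroup (Fin 2) F
local notation "SL2" => Matrix.SpecialLinearGroup (Fin 2) F

/-- the projection -/
abbrev pr (g : SL2) : PSL2 := QuotientGroup.mk g

theorem pr_mul (g h : SL2) : pr (g * h) = pr g * pr h := rfl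

theorem pr_inv (g : SL2) : pr g⁻¹ = (pr g)⁻¹ := rfl

/-- Bruhat-type decomposition of an element with non-zero lower left entry -/
theorem eq_upper_lower_upper (g : SL2) (hc : (g : Matrix (Fin 2) (Fin 2) F) 1 0 ≠ 0) :
    g = upperU (((g : Matrix (Fin 2) (Fin 2) F) 0 0 - 1) / (g : Matrix (Fin 2) (Fin 2) F) 1 0)
        * lowerU ((g : Matrix (Fin 2) (Fin 2) F) 1 0)
        * upperU (((g : Matrix (Fin 2) (Fin 2) F) 1 1 - 1) / (g : Matrix (Fin 2) (Fin 2) F) 1 0) := by
  have hdet := sl2_det g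
  apply sl2_ext
  · rw [mul_apply_00, mul_apply_00, mul_apply_01]
    simp only [coe_upperU, coe_lowerU, Matrix.of_apply, Matrix.cons_val', Matrix.cons_val_zero,
      Matrix.cons_val_one, Matrix.cons_val_fin_one]
    field_simp
    ring
  · rw [mul_apply_01, mul_apply_00, mul_apply_01]
    simp only [coe_upperU, coe_lowerU, Matrix.of_apply, Matrix.cons_val', Matrix.cons_val_zero,
      Matrix.cons_val_one, Matrix.cons_val_fin_one]
    field_simp
    linear_combination (-(1 : F)) * hdet
  · rw [mul_apply_10, mul_apply_10, mul_apply_11]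
    simp only [coe_upperU, coe_lowerU, Matrix.of_apply, Matrix.cons_val', Matrix.cons_val_zero,
      Matrix.cons_val_one, Matrix.cons_val_fin_one]
    ring
  · rw [mul_apply_11, mul_apply_10, mul_apply_11]
    simp only [coe_upperU, coe_lowerU, Matrix.of_apply, Matrix.cons_val', Matrix.cons_val_zero,
      Matrix.cons_val_one, Matrix.cons_val_fin_one]
    field_simp
    ring

/-- a subgroup of `PSL₂` containing all unipotent elements is everything -/
theorem eq_top_of_upper_lower (Y : Subgroup PSL2) (hu : ∀ x : F, pr (upperU x) ∈ Y)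
    (hl : ∀ x : F, pr (lowerU x) ∈ Y) : Y = ⊤ := by
  have key : ∀ g : SL2, (g : Matrix (Fin 2) (Fin 2) F) 1 0 ≠ 0 → pr g ∈ Y := by
    intro g hc
    rw [eq_upper_lower_upper g hc, pr_mul, pr_mul]
    exact Y.mul_mem (Y.mul_mem (hu _) (hl _)) (hu _)
  rw [eq_top_iff]
  intro y _
  obtain ⟨g, rfl⟩ := QuotientGroup.mk_surjective y
  by_cases hc : (g : Matrix (Fin 2) (Fin 2) F) 1 0 = 0
  · have hdet := sl2_det g
    rw [hc, mul_zero, sub_zero] at hdet
    have ha : (g : Matrix (Fin 2) (Fin 2) F) 0 0 ≠ 0 := left_ne_zero_of_mul_eq_one hdet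
    have h1 : pr (lowerU 1 * g) ∈ Y := by
      apply key
      rw [mul_apply_10]
      simp [coe_lowerU, hc, ha]
    rw [pr_mul] at h1
    have h2 := Y.mul_mem (Y.inv_mem (hl 1)) h1
    rwa [inv_mul_cancel_left] at h2
  · exact key g hc

/-- the element moving the lower unipotent group to the upper one -/
theorem conj_lowerU_eq (x₀ : F) (hx₀ : x₀ ≠ 0) (y : F) :
    (lowerU (-x₀⁻¹) * upperU x₀) * lowerU y = upperU (-(x₀ ^ 2 * y)) * (lowerU (-x₀⁻¹) * upperU x₀) := by
  apply sl2_ext
  · rw [mul_apply_00, mul_apply_00, mul_apply_01, mul_apply_00, mul_apply_00, mul_apply_10]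
    simp only [coe_upperU, coe_lowerU, Matrix.of_apply, Matrix.cons_val', Matrix.cons_val_zero,
      Matrix.cons_val_one, Matrix.cons_val_fin_one]
    field_simp
    ring
  · rw [mul_apply_01, mul_apply_00, mul_apply_01, mul_apply_01, mul_apply_01, mul_apply_11]
    simp only [coe_upperU, coe_lowerU, Matrix.of_apply, Matrix.cons_val', Matrix.cons_val_zero,
      Matrix.cons_val_one, Matrix.cons_val_fin_one]
    field_simp
    ring
  · rw [mul_apply_10, mul_apply_10, mul_apply_11, mul_apply_10, mul_apply_00, mul_apply_10]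
    simp only [coe_upperU, coe_lowerU, Matrix.of_apply, Matrix.cons_val', Matrix.cons_val_zero,
      Matrix.cons_val_one, Matrix.cons_val_fin_one]
    field_simp
    ring
  · rw [mul_apply_11, mul_apply_10, mul_apply_11, mul_apply_11, mul_apply_01, mul_apply_11]
    simp only [coe_upperU, coe_lowerU, Matrix.of_apply, Matrix.cons_val', Matrix.cons_val_zero,
      Matrix.cons_val_one, Matrix.cons_val_fin_one]
    field_simp
    ring

/-- one non-trivial upper unipotent element and all lower unipotent elements generate -/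
theorem eq_top_of_upperU_of_lower (Y : Subgroup PSL2) (x₀ : F) (hx₀ : x₀ ≠ 0)
    (hu : pr (upperU x₀) ∈ Y) (hl : ∀ x : F, pr (lowerU x) ∈ Y) : Y = ⊤ := by
  apply eq_top_of_upper_lower Y _ hl
  intro t
  have hM : pr (lowerU (-x₀⁻¹) * upperU x₀) ∈ Y := by
    rw [pr_mul]
    exact Y.mul_mem (hl _) hu
  have h1 := conj_lowerU_eq x₀ hx₀ (-(t / x₀ ^ 2))
  have h2 : -(x₀ ^ 2 * -(t / x₀ ^ 2)) = t := by
    field_simp
  rw [h2] at h1
  have h3 : upperU t = (lowerU (-x₀⁻¹) * upperU x₀) * lowerU (-(t / x₀ ^ 2)) *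
      (lowerU (-x₀⁻¹) * upperU x₀)⁻¹ := by
    rw [h1, mul_inv_cancel_right]
  rw [h3, pr_mul, pr_mul, pr_inv]
  exact Y.mul_mem (Y.mul_mem hM (hl _)) (Y.inv_mem hM)

/-- one non-trivial upper unipotent element and a conjugate of the upper unipotent group by a
non-triangular element generate -/
theorem eq_top_of_upperU_of_conj (Y : Subgroup PSL2) (x₀ : F) (hx₀ : x₀ ≠ 0)
    (hu : pr (upperU x₀) ∈ Y) (N : SL2) (hN : (N : Matrix (Fin 2) (Fin 2) F) 1 0 ≠ 0)
    (hc : ∀ s : F, pr (N * upperU s * N⁻¹) ∈ Y) : Y = ⊤ := by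
  set γ := (N : Matrix (Fin 2) (Fin 2) F) 1 0 with hγ
  set α := (N : Matrix (Fin 2) (Fin 2) F) 0 0 with hα
  set v : SL2 := upperU (α / γ) with hv
  set N' : SL2 := v⁻¹ * N with hN'
  have hN'00 : (N' : Matrix (Fin 2) (Fin 2) F) 0 0 = 0 := by
    rw [hN', hv, ← upperU_neg, mul_apply_00]
    simp only [coe_upperU, Matrix.of_apply, Matrix.cons_val', Matrix.cons_val_zero,
      Matrix.cons_val_one, Matrix.cons_val_fin_one]
    rw [← hα, ← hγ]
    field_simp
    ring
  have hN'10 : (N' : Matrix (Fin 2) (Fin 2) F) 1 0 = γ := by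
    rw [hN', hv, ← upperU_neg, mul_apply_10]
    simp only [coe_upperU, Matrix.of_apply, Matrix.cons_val', Matrix.cons_val_zero,
      Matrix.cons_val_one, Matrix.cons_val_fin_one]
    rw [← hγ]
    ring
  -- the conjugated subgroup
  set Y₁ : Subgroup PSL2 := Y.comap (MulAut.conj (pr v)).toMonoidHom with hY₁
  have hmem : ∀ y : PSL2, y ∈ Y₁ ↔ pr v * y * (pr v)⁻¹ ∈ Y := by
    intro y
    rw [hY₁, Subgroup.mem_comap]
    rfl
  have h1 : Y₁ = ⊤ := by
    apply eq_top_of_upperU_of_lower Y₁ x₀ hx₀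
    · rw [hmem, ← pr_inv, ← pr_mul, ← pr_mul, hv, ← upperU_neg, ← upperU_add, ← upperU_add]
      have : α / γ + x₀ + -(α / γ) = x₀ := by ring
      rw [this]
      exact hu
    · intro y
      rw [hmem, ← pr_inv, ← pr_mul, ← pr_mul]
      have h3 := conj_upperU_of_apply_00_eq_zero N' hN'00 (-(y / γ ^ 2))
      rw [hN'10] at h3
      have h4 : -(-(y / γ ^ 2) * γ ^ 2) = y := by
        field_simp
      rw [h4] at h3
      rw [← h3, hN']
      have h5 : v * (v⁻¹ * N * upperU (-(y / γ ^ 2)) * (v⁻¹ * N)⁻¹) * v⁻¹ =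
          N * upperU (-(y / γ ^ 2)) * N⁻¹ := by group
      rw [h5]
      exact hc _
  rw [eq_top_iff]
  intro y _
  have h2 : (pr v)⁻¹ * y * pr v ∈ Y₁ := by rw [h1]; exact Subgroup.mem_top _
  rw [hmem] at h2
  have h3 : pr v * ((pr v)⁻¹ * y * pr v) * (pr v)⁻¹ = y := by group
  rwa [h3] at h2

end Cfsg.Agent.Lib.Helper43.BauPSL2
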