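import Mathlib
import Cfsg.Agent.Lib.Helper43.BauPSL2a

/-!
# Sylow `p`-subgroups of `PSL₂(q)` (helper43, S2768 [BAU-PSL2]), part 2

Irreducibility of the torus action on `upperBar F`, and the final statement `psl2_sylow_facts`.
-/

set_option autoImplicit false
set_option linter.unusedSectionVars false
set_option linter.unusedVariables false

namespace Cfsg.Agent.Lib.Helper43.BauPSL2

open Cfsg.Agent.Lib.Helper41 Cfsg.Agent.Lib.Helper14 Cfsg.Agent.Lib.Helper11

variable {F : Type*} [Field F]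

local notation "PSL2" => Matrix.ProjectiveSpecialLinearGroup (Fin 2) F
local notation "SL2" => Matrix.SpecialLinearGroup (Fin 2) F

/-- the diagonal element `diag(t, t⁻¹)` -/
def diagEl (t : F) (ht : t ≠ 0) : SL2 :=
  ⟨!![t, 0; 0, t⁻¹], by rw [Matrix.det_fin_two_of, mul_inv_cancel₀ ht, mul_zero, sub_zero]⟩

theorem coe_diagEl (t : F) (ht : t ≠ 0) :
    ((diagEl t ht : SL2) : Matrix (Fin 2) (Fin 2) F) = !![t, 0; 0, t⁻¹] := rfl

theorem pr_mem_normalizer_of_apply_10 (b : SL2) (hb : (b : Matrix (Fin 2) (Fin 2) F) 1 0 = 0) :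
    pr b ∈ Subgroup.normalizer ((upperBar F : Subgroup PSL2) : Set PSL2) := by
  rw [normalizer_upperBar, mk_mem_borelBar_iff]
  exact hb

theorem apply_10_of_pr_mem_normalizer (b : SL2)
    (hb : pr b ∈ Subgroup.normalizer ((upperBar F : Subgroup PSL2) : Set PSL2)) :
    (b : Matrix (Fin 2) (Fin 2) F) 1 0 = 0 := by
  rw [normalizer_upperBar, mk_mem_borelBar_iff] at hb
  exact hb

theorem pr_upperU_eq_one_iff (x : F) : pr (upperU x) = 1 ↔ x = 0 := by
  constructor
  · intro h
    have h1 : pr (upperU x) = pr (upperU (0 : F)) := by rw [h, upperU_zero]; rfl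
    exact mk_upperU_injective h1
  · rintro rfl
    rw [upperU_zero]
    rfl

/-- a torus-invariant subgroup of the unipotent group is trivial or everything -/
theorem eq_bot_or_eq_upperBar [Fintype F] (H : Subgroup PSL2) (hH : H ≤ upperBar F)
    (hinv : ∀ g ∈ Subgroup.normalizer ((upperBar F : Subgroup PSL2) : Set PSL2),
      ∀ h ∈ H, g * h * g⁻¹ ∈ H) : H = ⊥ ∨ H = upperBar F := by
  by_cases hbot : H = ⊥
  · left; exact hbot
  right
  obtain ⟨h₀, hh₀, hh₀1⟩ := (Subgroup.ne_bot_iff_exists_ne_one.mp hbot) |> fun ⟨x, hx⟩ =>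
    (⟨x.1, x.2, fun h => hx (Subtype.ext h)⟩ : ∃ h₀ : PSL2, h₀ ∈ H ∧ h₀ ≠ 1)
  obtain ⟨x₀, rfl⟩ := hH hh₀
  have hx₀ : x₀ ≠ 0 := fun h => hh₀1 ((pr_upperU_eq_one_iff x₀).mpr h)
  -- closure under multiplication by squares
  have hsq : ∀ (s x : F), pr (upperU x) ∈ H → pr (upperU (s ^ 2 * x)) ∈ H := by
    intro s x hx
    by_cases hs : s = 0
    · rw [hs]
      have : ((0 : F) ^ 2 * x) = 0 := by ring
      rw [this, upperU_zero]
      exact H.one_mem
    · have h1 := hinv (pr (diagEl s hs))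
        (pr_mem_normalizer_of_apply_10 _ (by simp [coe_diagEl])) _ hx
      rw [← pr_inv, ← pr_mul, ← pr_mul,
        conj_upperU_of_apply_10_eq_zero (diagEl s hs) (by simp [coe_diagEl])] at h1
      have h2 : x * ((diagEl s hs : SL2) : Matrix (Fin 2) (Fin 2) F) 0 0 ^ 2 = s ^ 2 * x := by
        simp [coe_diagEl]
        ring
      rw [h2] at h1
      exact h1
  have hadd : ∀ x y : F, pr (upperU x) ∈ H → pr (upperU y) ∈ H → pr (upperU (x - y)) ∈ H := by
    intro x y hx hy
    rw [sub_eq_add_neg, upperU_add, upperU_neg, pr_mul, pr_inv]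
    exact H.mul_mem hx (H.inv_mem hy)
  have hall : ∀ y : F, pr (upperU y) ∈ H := by
    intro y
    by_cases h2 : (2 : F) = 0
    · -- characteristic two
      have hchar : ringChar F = 2 := by
        have : CharP F 2 := by
          apply CharTwo.of_one_ne_zero_of_two_eq_zero one_ne_zero
          exact_mod_cast h2
        exact ringChar.eq F 2
      obtain ⟨s, hs⟩ := FiniteField.isSquare_of_char_two hchar (y / x₀)
      have h3 : y = s ^ 2 * x₀ := by
        rw [pow_two, ← hs]
        field_simp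
      rw [h3]
      exact hsq s x₀ hh₀
    · have h3 : y = ((y / x₀ + 1) / 2) ^ 2 * x₀ - ((y / x₀ - 1) / 2) ^ 2 * x₀ := by
        field_simp
        ring
      rw [h3]
      exact hadd _ _ (hsq _ x₀ hh₀) (hsq _ x₀ hh₀)
  apply le_antisymm hH
  rintro _ ⟨y, rfl⟩
  exact hall y

end Cfsg.Agent.Lib.Helper43.BauPSL2
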