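import Mathlib
import Cfsg.Agent.Lib.Helper43.BauPSL2b

/-!
# Sylow `p`-subgroups of `PSL₂(q)` (helper43, S2768 [BAU-PSL2]): the final statement
-/

set_option autoImplicit false
set_option linter.unusedSectionVars false
set_option linter.unusedVariables false

namespace Cfsg.Agent.Lib.Helper43

open Cfsg.Agent.Lib.Helper41 Cfsg.Agent.Lib.Helper14 Cfsg.Agent.Lib.Helper11
  Cfsg.Agent.Lib.Helper43.BauPSL2

/-- **module [BAU-PSL2] of S2768–S2770** -/
theorem psl2_sylow_facts {X : Type*} [Group X] (F : Type) [Field F] [Fintype F] {p n : ℕ}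
    [Fact p.Prime] (hn : 1 ≤ n) (hF : Fintype.card F = p ^ n)
    (e : X ≃* Matrix.ProjectiveSpecialLinearGroup (Fin 2) F) (P : Sylow p X) :
    Nat.card (P : Subgroup X) = p ^ n ∧
    (∀ a ∈ (P : Subgroup X), ∀ b ∈ (P : Subgroup X), a * b = b * a) ∧
    (∀ a ∈ (P : Subgroup X), a ^ p = 1) ∧
    (∀ P' : Sylow p X, P' ≠ P → ∀ a ∈ (P : Subgroup X), a ≠ 1 →
      Subgroup.closure (insert a ((P' : Subgroup X) : Set X)) = ⊤) ∧
    (∀ H : Subgroup X, H ≤ (P : Subgroup X) →
      (∀ g ∈ Subgroup.normalizer ((P : Subgroup X) : Set X), ∀ h ∈ H, g * h * g⁻¹ ∈ H) →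
      H = ⊥ ∨ H = (P : Subgroup X)) ∧
    (∃ P' : Sylow p X, P' ≠ P) := by
  classical
  have hchar : CharP F p := charP_of_card_eq_prime_pow hF
  have hfinX : Finite X := Finite.of_equiv _ e.symm.toEquiv
  have hU : IsPGroup p (upperBar F) := isPGroup_upperBar p
  have hidx := not_dvd_index_upperBar (F := F) p
  set P₀ : Sylow p (Matrix.ProjectiveSpecialLinearGroup (Fin 2) F) := hU.toSylow hidx with hP₀def
  have hP₀ : (P₀ : Subgroup (Matrix.ProjectiveSpecialLinearGroup (Fin 2) F)) = upperBar F :=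
    IsPGroup.toSylow_coe _ _
  have hesurj : Function.Surjective (e.toMonoidHom) := e.surjective
  set P₁ : Sylow p (Matrix.ProjectiveSpecialLinearGroup (Fin 2) F) := P.mapSurjective hesurj
    with hP₁def
  have hP₁ : ∀ x : X, e x ∈ P₁ ↔ x ∈ (P : Subgroup X) := by
    intro x
    show e x ∈ (P : Subgroup X).map e.toMonoidHom ↔ _
    constructor
    · rintro ⟨y, hy, hxy⟩
      have : y = x := e.injective hxy
      rw [← this]
      exact hy
    · intro hx
      exact ⟨x, hx, rfl⟩
  obtain ⟨g, hg⟩ := MulAction.exists_smul_eq (Matrix.ProjectiveSpecialLinearGroup (Fin 2) F) P₁ P₀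
  set ψ : X ≃* Matrix.ProjectiveSpecialLinearGroup (Fin 2) F := e.trans (MulAut.conj g) with hψdef
  have hψ : ∀ x : X, ψ x = g * e x * g⁻¹ := fun x => rfl
  have hPmem : ∀ x : X, x ∈ (P : Subgroup X) ↔ ψ x ∈ upperBar F := by
    intro x
    rw [← hP₀, ← hg]
    show _ ↔ ψ x ∈ g • P₁
    rw [mem_sylow_smul_iff, hψ, ← hP₁]
    have : g⁻¹ * (g * e x * g⁻¹) * g = e x := by group
    rw [this]
  have hPmem' : ∀ y : Matrix.ProjectiveSpecialLinearGroup (Fin 2) F,
      y ∈ upperBar F ↔ ψ.symm y ∈ (P : Subgroup X) := by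
    intro y
    rw [hPmem, MulEquiv.apply_symm_apply]
  have hmap : (P : Subgroup X).map ψ.toMonoidHom = upperBar F := by
    ext y
    constructor
    · rintro ⟨x, hx, rfl⟩
      exact (hPmem x).mp hx
    · intro hy
      exact ⟨ψ.symm y, (hPmem' y).mp hy, MulEquiv.apply_symm_apply ψ y⟩
  have hnorm : ∀ x : X, x ∈ Subgroup.normalizer ((P : Subgroup X) : Set X) ↔
      ψ x ∈ Subgroup.normalizer ((upperBar F :
        Subgroup (Matrix.ProjectiveSpecialLinearGroup (Fin 2) F)) :
        Set (Matrix.ProjectiveSpecialLinearGroup (Fin 2) F)) := by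
    intro x
    rw [Subgroup.mem_normalizer_iff, Subgroup.mem_normalizer_iff]
    constructor
    · intro h y
      have h1 := h (ψ.symm y)
      rw [hPmem, hPmem, map_mul, map_mul, map_inv, MulEquiv.apply_symm_apply] at h1
      exact h1
    · intro h y
      have h1 := h (ψ y)
      rw [hPmem, hPmem, map_mul, map_mul, map_inv]
      exact h1
  -- elements of `P` as unipotent matrices
  have hPel : ∀ a ∈ (P : Subgroup X), ∃ t : F, ψ a = pr (upperU t) := by
    intro a ha
    exact (hPmem a).mp ha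
  refine ⟨?_, ?_, ?_, ?_, ?_, ?_⟩
  · rw [← hF, ← card_upperBar, ← hmap]
    exact (Subgroup.card_map_of_injective ψ.injective).symm
  · intro a ha b hb
    obtain ⟨s, hs⟩ := hPel a ha
    obtain ⟨t, ht⟩ := hPel b hb
    apply ψ.injective
    rw [map_mul, map_mul, hs, ht, ← pr_mul, ← pr_mul, ← upperU_add, ← upperU_add, add_comm]
  · intro a ha
    obtain ⟨s, hs⟩ := hPel a ha
    apply ψ.injective
    rw [map_pow, map_one, hs]
    show (QuotientGroup.mk (upperU s) : Matrix.ProjectiveSpecialLinearGroup (Fin 2) F) ^ p = 1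
    rw [← QuotientGroup.mk_pow, upperU_pow, CharP.cast_eq_zero, zero_mul, upperU_zero]
    rfl
  · intro P' hP' a ha ha1
    obtain ⟨x, hx⟩ := MulAction.exists_smul_eq X P P'
    obtain ⟨x₀, hx₀⟩ := hPel a ha
    have hx₀0 : x₀ ≠ 0 := by
      rintro rfl
      apply ha1
      apply ψ.injective
      rw [hx₀, upperU_zero, map_one]
      rfl
    obtain ⟨N, hN⟩ := QuotientGroup.mk_surjective (ψ x)
    have hN10 : (N : Matrix (Fin 2) (Fin 2) F) 1 0 ≠ 0 := by
      intro h0
      apply hP'
      rw [← hx]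
      apply Sylow.smul_eq_iff_mem_normalizer.mpr
      have h3 := (hnorm x).mpr (by
        rw [← hN]
        exact pr_mem_normalizer_of_apply_10 N h0)
      exact h3
    set Y : Subgroup X := Subgroup.closure (insert a ((P' : Subgroup X) : Set X)) with hY
    have hY' : Y.map ψ.toMonoidHom = ⊤ := by
      apply eq_top_of_upperU_of_conj _ x₀ hx₀0 _ N hN10
      · intro s
        have hu : ψ.symm (pr (upperU s)) ∈ (P : Subgroup X) := (hPmem' _).mp ⟨s, rfl⟩
        have h1 : x * ψ.symm (pr (upperU s)) * x⁻¹ ∈ Y := by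
          apply Subgroup.subset_closure
          apply Set.mem_insert_of_mem
          show x * ψ.symm (pr (upperU s)) * x⁻¹ ∈ P'
          rw [← hx, mem_sylow_smul_iff]
          have : x⁻¹ * (x * ψ.symm (pr (upperU s)) * x⁻¹) * x = ψ.symm (pr (upperU s)) := by group
          rw [this]
          exact hu
        refine ⟨_, h1, ?_⟩
        show ψ (x * ψ.symm (pr (upperU s)) * x⁻¹) = _
        rw [map_mul, map_mul, map_inv, MulEquiv.apply_symm_apply, ← hN]
        rfl
      · refine ⟨a, Subgroup.subset_closure (Set.mem_insert _ _), ?_⟩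
        exact hx₀
    rw [eq_top_iff]
    intro y _
    have h1 : ψ y ∈ Y.map ψ.toMonoidHom := by rw [hY']; exact Subgroup.mem_top _
    obtain ⟨y', hy', hyy'⟩ := h1
    have : y' = y := ψ.injective hyy'
    rw [← this]
    exact hy'
  · intro H hH hinv
    have h1 := eq_bot_or_eq_upperBar (H.map ψ.toMonoidHom) (by
      rw [← hmap]
      exact Subgroup.map_mono hH) (by
      rintro b hb _ ⟨h, hh, rfl⟩
      have hb' : ψ.symm b ∈ Subgroup.normalizer ((P : Subgroup X) : Set X) := by
        rw [hnorm, MulEquiv.apply_symm_apply]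
        exact hb
      refine ⟨ψ.symm b * h * (ψ.symm b)⁻¹, hinv _ hb' h hh, ?_⟩
      show ψ (ψ.symm b * h * (ψ.symm b)⁻¹) = _
      rw [map_mul, map_mul, map_inv, MulEquiv.apply_symm_apply]
      rfl)
    rcases h1 with h1 | h1
    · left
      exact (Subgroup.map_eq_bot_iff_of_injective H ψ.injective).mp h1
    · right
      rw [← hmap] at h1
      exact Subgroup.map_injective ψ.injective h1
  · refine ⟨ψ.symm (pr weylW) • P, ?_⟩
    intro h
    have h0 := Sylow.smul_eq_iff_mem_normalizer.mp h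
    have h1 := (hnorm (ψ.symm (pr weylW))).mp h0
    rw [MulEquiv.apply_symm_apply] at h1
    have h2 := apply_10_of_pr_mem_normalizer _ h1
    rw [coe_weylW] at h2
    simp at h2

end Cfsg.Agent.Lib.Helper43
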