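/-
helper43: module BLK-[3B] of helper94's part 2 of S5634: every permutation of the members of a
decomposition is induced by an element of determinant one of the stabiliser.
-/
import Mathlib
import Cfsg.Agent.Lib.Helper94.Blk.Core

set_option autoImplicit false
set_option linter.unusedSectionVars false
set_option linter.unusedVariables false

namespace Cfsg.Agent.Lib.Helper43.Blk3B

open Cfsg.Agent.Lib.Helper94 Cfsg.Agent.Lib.Helper94.SympData Cfsg.Agent.Lib.Helper94.Blk

variable {K V : Type*} [Field K] [AddCommGroup V] [Module K V] [FiniteDimensional K V]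
  {t m : ℕ} {D : Fin t → Submodule K V}

/-- expansion of a vector in the adapted basis -/
theorem expand (hD : LDecomp m D) (x : V) : ∑ l, ∑ a, hD.coo l a x • hD.vec l a = x := by
  conv_rhs => rw [← hD.sum_proj x]
  apply Finset.sum_congr rfl
  intro l _
  rw [hD.proj_eq_sum]

/-- the linear map sending `vec l a` to `vec (σ l) a` -/
noncomputable def permMap (hD : LDecomp m D) (σ : Equiv.Perm (Fin t)) : V →ₗ[K] V :=
  ∑ l, ∑ a, (hD.coo l a).smulRight (hD.vec (σ l) a)

theorem permMap_apply (hD : LDecomp m D) (σ : Equiv.Perm (Fin t)) (x : V) :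
    permMap hD σ x = ∑ l, ∑ a, hD.coo l a x • hD.vec (σ l) a := by
  unfold permMap
  rw [LinearMap.sum_apply]
  apply Finset.sum_congr rfl
  intro l _
  rw [LinearMap.sum_apply]
  apply Finset.sum_congr rfl
  intro a _
  rw [LinearMap.smulRight_apply]

theorem coo_permMap (hD : LDecomp m D) (σ : Equiv.Perm (Fin t)) (x : V) (l' : Fin t) (a' : Fin m) :
    hD.coo l' a' (permMap hD σ x) = hD.coo (σ⁻¹ l') a' x := by
  rw [permMap_apply, map_sum, Finset.sum_eq_single (σ⁻¹ l')]
  · rw [map_sum, Finset.sum_eq_single a']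
    · rw [map_smul, hD.coo_vec, if_pos ⟨by simp, rfl⟩, smul_eq_mul, mul_one]
    · intro b _ hb
      rw [map_smul, hD.coo_vec, if_neg (fun h => hb h.2.symm), smul_zero]
    · intro h; exact absurd (Finset.mem_univ _) h
  · intro l _ hl
    rw [map_sum]
    apply Finset.sum_eq_zero
    intro b _
    rw [map_smul, hD.coo_vec, if_neg, smul_zero]
    rintro ⟨h, -⟩
    apply hl
    rw [h]; simp
  · intro h; exact absurd (Finset.mem_univ _) h

theorem permMap_permMap (hD : LDecomp m D) (σ τ : Equiv.Perm (Fin t)) (x : V) :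
    permMap hD τ (permMap hD σ x) = permMap hD (τ * σ) x := by
  rw [permMap_apply hD τ, permMap_apply hD (τ * σ)]
  simp only [coo_permMap]
  rw [← Equiv.sum_comp σ]
  apply Finset.sum_congr rfl
  intro l _
  apply Finset.sum_congr rfl
  intro a _
  simp

theorem permMap_one (hD : LDecomp m D) (x : V) : permMap hD 1 x = x := by
  rw [permMap_apply]
  simp only [Equiv.Perm.coe_one, id_eq]
  exact expand hD x

/-- the automorphism sending `vec l a` to `vec (σ l) a` -/
noncomputable def permEquiv (hD : LDecomp m D) (σ : Equiv.Perm (Fin t)) : V ≃ₗ[K] V :=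
  LinearEquiv.ofLinearMap (permMap hD σ) (permMap hD σ⁻¹)
    (by
      apply LinearMap.ext
      intro x
      rw [LinearMap.comp_apply, permMap_permMap, mul_inv_cancel, permMap_one]
      rfl)
    (by
      apply LinearMap.ext
      intro x
      rw [LinearMap.comp_apply, permMap_permMap, inv_mul_cancel, permMap_one]
      rfl)

theorem permEquiv_apply (hD : LDecomp m D) (σ : Equiv.Perm (Fin t)) (x : V) :
    permEquiv hD σ x = permMap hD σ x := rfl

theorem coo_eq_zero_of_mem (hD : LDecomp m D) {l l' : Fin t} (hl : l' ≠ l) {x : V} (hx : x ∈ D l)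
    (a : Fin m) : hD.coo l' a x = 0 := by
  rw [hD.coo_apply, hD.proj_of_mem_ne (Ne.symm hl) hx, map_zero, Finsupp.zero_apply]

theorem permMap_mem (hD : LDecomp m D) (σ : Equiv.Perm (Fin t)) {l : Fin t} {x : V}
    (hx : x ∈ D l) : permMap hD σ x ∈ D (σ l) := by
  rw [permMap_apply, Finset.sum_eq_single l]
  · apply Submodule.sum_mem
    intro a _
    exact Submodule.smul_mem _ _ (hD.vec_mem (σ l) a)
  · intro l' _ hl'
    apply Finset.sum_eq_zero
    intro a _
    rw [coo_eq_zero_of_mem hD hl' hx, zero_smul]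
  · intro h; exact absurd (Finset.mem_univ _) h

/-- an automorphism mapping `D l` into `D l'` maps it onto `D l'` -/
theorem map_eq_of_le (hD : LDecomp m D) (g : V ≃ₗ[K] V) {l l' : Fin t}
    (h : ∀ x ∈ D l, g x ∈ D l') : (D l).map (g : V →ₗ[K] V) = D l' := by
  apply Submodule.eq_of_le_of_finrank_eq
  · rintro y ⟨x, hx, rfl⟩
    exact h x hx
  · rw [LinearEquiv.finrank_map_eq, hD.finrank_eq, hD.finrank_eq]

theorem map_permEquiv (hD : LDecomp m D) (σ : Equiv.Perm (Fin t)) (l : Fin t) :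
    (D l).map ((permEquiv hD σ : V ≃ₗ[K] V) : V →ₗ[K] V) = D (σ l) :=
  map_eq_of_le hD _ (fun x hx => permMap_mem hD σ hx)

/-- **[BLK-3B]** -/
theorem exists_perm_mem (hD : LDecomp m D) (hm : 1 ≤ m) (π : Equiv.Perm (Fin t)) :
    ∃ s ∈ stabDec D ⊓ SLe K V, ∀ l, (D l).map ((s : V ≃ₗ[K] V) : V →ₗ[K] V) = D (π l) := by
  classical
  rcases Nat.eq_zero_or_pos t with ht | ht
  · subst ht
    refine ⟨1, (stabDec D ⊓ SLe K V).one_mem, fun l => l.elim0⟩
  set P : V ≃ₗ[K] V := permEquiv hD π with hP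
  set d : Kˣ := LinearEquiv.det P with hd
  let l₀ : Fin t := ⟨0, ht⟩
  let a₀ : Fin m := ⟨0, hm⟩
  set f : Module.Dual K V := ((d⁻¹ : Kˣ) - 1 : K) • hD.coo l₀ a₀ with hf
  have hfv : 1 + f (hD.vec l₀ a₀) = ((d⁻¹ : Kˣ) : K) := by
    rw [hf, LinearMap.smul_apply, hD.coo_vec, if_pos ⟨rfl, rfl⟩, smul_eq_mul, mul_one]
    ring
  have hu : IsUnit (1 + f (hD.vec l₀ a₀)) := by
    rw [hfv]; exact (d⁻¹).isUnit
  set δ : V ≃ₗ[K] V := LinearEquiv.dilatransvection hu with hδ
  have hδapp : ∀ x, δ x = x + f x • hD.vec l₀ a₀ := fun x => LinearEquiv.dilatransvection.apply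
  have hδmap : ∀ l, (D l).map (δ : V →ₗ[K] V) = D l := by
    intro l
    apply map_eq_of_le hD
    intro x hx
    rw [hδapp]
    by_cases hl : l = l₀
    · subst hl
      exact Submodule.add_mem _ hx (Submodule.smul_mem _ _ (hD.vec_mem _ a₀))
    · have : f x = 0 := by
        rw [hf, LinearMap.smul_apply, coo_eq_zero_of_mem hD (Ne.symm hl) hx, smul_zero]
      rw [this, zero_smul, add_zero]
      exact hx
  have hmap : ∀ l, (D l).map ((P * δ : V ≃ₗ[K] V) : V →ₗ[K] V) = D (π l) := by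
    intro l
    have : ((P * δ : V ≃ₗ[K] V) : V →ₗ[K] V) = (P : V →ₗ[K] V) ∘ₗ (δ : V →ₗ[K] V) := rfl
    rw [this, Submodule.map_comp, hδmap, hP, map_permEquiv]
  refine ⟨P * δ, ⟨⟨π, hmap⟩, ?_⟩, hmap⟩
  show P * δ ∈ SLe K V
  rw [mem_SLe, map_mul]
  have hdetδ : LinearEquiv.det δ = d⁻¹ := by
    apply Units.ext
    rw [hδ, LDecomp.det_dilatransvection hu, hfv]
  rw [hdetδ, ← hd, mul_inv_cancel]

end Cfsg.Agent.Lib.Helper43.Blk3B
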