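import Mathlib

set_option autoImplicit false

/-!
# Rank of a block diagonal matrix
-/

namespace Cfsg.Agent.Lib.Helper43

open Matrix Module

variable {F : Type*} [Field F]

/-- The product of two submodules is linearly equivalent to the product of the submodules as types. -/
def submoduleProdEquiv {M N : Type*} [AddCommGroup M] [Module F M] [AddCommGroup N] [Module F N]
    (p : Submodule F M) (q : Submodule F N) : (p.prod q) ≃ₗ[F] (p × q) where
  toFun x := (⟨x.1.1, x.2.1⟩, ⟨x.1.2, x.2.2⟩)
  invFun y := ⟨(y.1.1, y.2.1), ⟨y.1.2, y.2.2⟩⟩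
  map_add' _ _ := rfl
  map_smul' _ _ := rfl
  left_inv _ := rfl
  right_inv _ := rfl

theorem finrank_submodule_prod {M N : Type*} [AddCommGroup M] [Module F M] [AddCommGroup N]
    [Module F N] [FiniteDimensional F M] [FiniteDimensional F N]
    (p : Submodule F M) (q : Submodule F N) :
    finrank F (p.prod q) = finrank F p + finrank F q := by
  rw [LinearEquiv.finrank_eq (submoduleProdEquiv p q), Module.finrank_prod]

/-- The rank of a block diagonal matrix is the sum of the ranks of the blocks. -/
theorem rank_fromBlocks_diag {p q : Type*} [Fintype p] [Fintype q] [DecidableEq p] [DecidableEq q]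
    (A : Matrix p p F) (D : Matrix q q F) :
    (fromBlocks A 0 0 D).rank = A.rank + D.rank := by
  let e := LinearEquiv.sumArrowLequivProdArrow p q F F
  have hL : (fromBlocks A 0 0 D).mulVecLin =
      e.symm.toLinearMap ∘ₗ ((A.mulVecLin.prodMap D.mulVecLin) ∘ₗ e.toLinearMap) := by
    apply LinearMap.ext
    intro v
    have hv : v = Sum.elim (v ∘ Sum.inl) (v ∘ Sum.inr) := by ext i; cases i <;> rfl
    simp only [mulVecLin_apply, LinearMap.comp_apply, LinearEquiv.coe_coe, LinearMap.prodMap_apply]
    conv_lhs => rw [hv, fromBlocks_mulVec]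
    ext i
    cases i with
    | inl i =>
      simp only [zero_mulVec, add_zero, Sum.elim_inl]
      rw [LinearEquiv.sumArrowLequivProdArrow_symm_apply_inl]
      rfl
    | inr i =>
      simp only [zero_mulVec, zero_add, Sum.elim_inr]
      rw [LinearEquiv.sumArrowLequivProdArrow_symm_apply_inr]
      rfl
  unfold Matrix.rank
  rw [hL, LinearMap.range_comp, LinearEquiv.finrank_map_eq,
    LinearMap.range_comp_of_range_eq_top _ (LinearEquiv.range e), LinearMap.range_prodMap,
    finrank_submodule_prod]

end Cfsg.Agent.Lib.Helper43
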