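import Cfsg.Agent.Lib.Helper18.WeylSum2

/-!
# Project C2F4 (S2369, helper69's sheet): module C2F4-[PARCARD] `card_of_borel_le` (helper43)

A subgroup `B ≤ M ≤ G` of a Chevalley group has order `|B| Σ_{w ∈ W_J} q^{l(w)}`, `J` = the fundamental reflections
lying in `M` (BN-pair counting: restrict helper18's bijection `cellMap` to the cells of `W_J`).
-/

set_option autoImplicit false

namespace Cfsg.Agent.Lib.Helper43.C2F4

open Cfsg.Lie Cfsg.Agent.Lib.Helper18 Cfsg.Agent.Lib.Helper17 Cfsg.Agent.Lib.Helper6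

universe u

variable {F : Type u} [Field F] {D : ChevalleyDatum}

/-- a word of `J`-letters lies in `M` -/
theorem nW_mem_of_word (hD : D ∈ [chevG2, chevB2, chevD4, chevF4, chevE6, chevE7, chevE8])
    (C : ChevData.{u} D) (M : Subgroup (GL D.Idx F)) (J : List ℕ)
    (hJ : ∀ j < D.rank, (j ∈ J ↔ sG hD C j ∈ M)) (ws : List ℕ) (hws : ∀ i ∈ ws, i ∈ J ∧ i < D.rank) :
    nW hD C ws ∈ M := by
  induction ws with
  | nil => rw [nW_nil]; exact one_mem _
  | cons i ws ih =>
    rw [nW_cons]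
    have hi := hws i List.mem_cons_self
    exact mul_mem ((hJ i hi.2).mp hi.1) (ih fun j hj => hws j (List.mem_cons_of_mem _ hj))

/-- a product of fundamental reflections of `M` is a word in `J` -/
theorem exists_word_of_list (hD : D ∈ [chevG2, chevB2, chevD4, chevF4, chevE6, chevE7, chevE8])
    (C : ChevData.{u} D) (J : List ℕ) (l : List ↥(D.group F))
    (hl : ∀ s ∈ l, ∃ i, (i ∈ J ∧ i < D.rank) ∧ (s : GL D.Idx F) = sG hD C i) :
    ∃ ws : List ℕ, (∀ i ∈ ws, i ∈ J ∧ i < D.rank) ∧ ((l.prod : ↥(D.group F)) : GL D.Idx F) = nW hD C ws := by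
  induction l with
  | nil => exact ⟨[], by simp, rfl⟩
  | cons s l ih =>
    obtain ⟨ws, hws, e⟩ := ih fun t ht => hl t (List.mem_cons_of_mem _ ht)
    obtain ⟨i, hi, hs⟩ := hl s List.mem_cons_self
    refine ⟨i :: ws, ?_, ?_⟩
    · intro j hj
      rcases List.mem_cons.mp hj with rfl | h
      · exact hi
      · exact hws j h
    · rw [List.prod_cons, nW_cons, ← e, ← hs]
      rfl

/-- the element `n_w` lies in `M` iff `w` lies in `W_J` -/
theorem nW_wd_mem_iff (hD : D ∈ [chevG2, chevB2, chevD4, chevF4, chevE6, chevE7, chevE8])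
    (C : ChevData.{u} D) (M : Subgroup (GL D.Idx F)) (hBM : D.borelSubgroup F ≤ M)
    (J : List ℕ) (hJ : ∀ j < D.rank, (j ∈ J ↔ sG hD C j ∈ M)) (w : ↥(WF C)) :
    nW hD C (wd C w) ∈ M ↔ w.1 ∈ WJ C J := by
  obtain ⟨hBG, hNG, -⟩ := Cfsg.Agent.S1043.result (F := F) D hD
  have hBN : D.borelSubgroup F ⊓ D.monomialSubgroup F = D.diagonalSubgroup F :=
    (Cfsg.Agent.S1040.result D hD).2
  constructor
  · intro hn
    obtain ⟨P, hPB, hPN, hPS⟩ := Cfsg.Agent.S1042.exists_bnPair (F := F) D hD C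
    have hnN : nW (F := F) hD C (wd C w) ∈ D.monomialSubgroup F := nW_mem_monomial hD C _
    set n' : ↥(D.group F) := ⟨nW hD C (wd C w), hNG hnN⟩ with hn'
    have hn'N : n' ∈ P.N := by
      rw [hPN, Subgroup.mem_subgroupOf]; exact hnN
    have hBM' : P.B ≤ M.subgroupOf (D.group F) := by
      intro b hb
      rw [hPB, Subgroup.mem_subgroupOf] at hb
      rw [Subgroup.mem_subgroupOf]
      exact hBM hb
    have hn'M : n' ∈ M.subgroupOf (D.group F) := by
      rw [Subgroup.mem_subgroupOf]; exact hn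
    obtain ⟨l, hrep, hlen⟩ := exists_rep_len P hn'N
    have hlet := letters_mem P hBM' l n' hn'N hn'M hrep hlen
    have hl : ∀ s ∈ l, ∃ i, (i ∈ J ∧ i < D.rank) ∧ (s : GL D.Idx F) = sG hD C i := by
      intro s hs
      have hsS := hrep.1 s hs
      rw [hPS] at hsS
      obtain ⟨i, hi, hsi⟩ := hsS
      have hsi' : (s : GL D.Idx F) = sG hD C i := Units.ext (by rw [hsi, coe_sG hD C i hi])
      have hsM := hlet s hs
      rw [Subgroup.mem_subgroupOf, hsi'] at hsM
      exact ⟨i, ⟨(hJ i hi).mpr hsM, hi⟩, hsi'⟩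
    obtain ⟨ws, hws, e⟩ := exists_word_of_list hD C J l hl
    have hrel := hrep.2
    unfold Cfsg.Agent.Lib.Helper6.Rel at hrel
    rw [hPB, Subgroup.mem_subgroupOf] at hrel
    have hrel' : (nW (F := F) hD C ws)⁻¹ * nW hD C (wd C w) ∈ D.borelSubgroup F := by
      rw [← e]
      simpa using hrel
    have hdiag : (nW (F := F) hD C ws)⁻¹ * nW hD C (wd C w) ∈ D.diagonalSubgroup F := by
      rw [← hBN]
      exact Subgroup.mem_inf.mpr ⟨hrel', mul_mem (inv_mem (nW_mem_monomial hD C ws)) hnN⟩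
    have hws' : ∀ i ∈ ws, i < D.rank := fun i hi => (hws i hi).2
    have heq : wordPerm C ws = w.1 := by
      rw [← wordPerm_wd C w]
      ext r
      rw [wordPerm_apply C _ hws', wordPerm_apply C _ (wd_lt C w)]
      have e2 : nW (F := F) hD C ws * ((nW hD C ws)⁻¹ * nW hD C (wd C w)) = nW hD C (wd C w) * 1 := by
        group
      exact (wordRootF_eq_of_eq hD C _ _ hws' (wd_lt C w) _ 1 hdiag (one_mem _) e2 r.val r.isLt).symm
    rw [← heq]
    exact wordPerm_mem_WJ C J ws hws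
  · intro hw
    obtain ⟨ws, hws, hperm⟩ := exists_word_of_mem_WJ C J w.1 hw
    have h1 := nW_mem_of_word hD C M J hJ ws hws
    have h2 := nW_inv_mul_nW_mem (F := F) hD C ws (wd C w) (fun i hi => (hws i hi).2) (wd_lt C w)
      (hperm.trans (wordPerm_wd C w).symm)
    have e : nW (F := F) hD C (wd C w) = nW hD C ws * ((nW hD C ws)⁻¹ * nW hD C (wd C w)) := by group
    rw [e]
    exact mul_mem h1 (hBM (borel_of_diagonal _ h2))

/-- a cell meets `M` iff its Weyl element lies in `W_J` -/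
theorem cellMap_mem_iff (hD : D ∈ [chevG2, chevB2, chevD4, chevF4, chevE6, chevE7, chevE8])
    (C : ChevData.{u} D) (M : Subgroup (GL D.Idx F)) (hBM : D.borelSubgroup F ≤ M)
    (J : List ℕ) (hJ : ∀ j < D.rank, (j ∈ J ↔ sG hD C j ∈ M))
    (a : Σ w : ↥(WF C), ↥(D.borelSubgroup F) × ({r // r ∈ negList C (wd C w)} → F)) :
    ((cellMap (F := F) hD C a : ↥(D.group F)) : GL D.Idx F) ∈ M ↔ a.1.1 ∈ WJ C J := by
  rw [← nW_wd_mem_iff hD C M hBM J hJ a.1]
  have hb : (a.2.1 : GL D.Idx F) ∈ M := hBM a.2.1.2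
  have hu : prodL hD (negList C (wd C a.1)) (extL _ a.2.2) ∈ M :=
    hBM (borel_of_posUnipotent _ (prodL_mem_posUnipotent hD _
      (fun r hr => ((mem_negList C _ r).mp hr).1) _))
  show (a.2.1 : GL D.Idx F) * nW hD C (wd C a.1) * prodL hD (negList C (wd C a.1)) (extL _ a.2.2) ∈ M ↔ _
  constructor
  · intro h
    have e : nW (F := F) hD C (wd C a.1) = (a.2.1 : GL D.Idx F)⁻¹ *
        ((a.2.1 : GL D.Idx F) * nW hD C (wd C a.1) * prodL hD (negList C (wd C a.1)) (extL _ a.2.2)) *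
        (prodL hD (negList C (wd C a.1)) (extL _ a.2.2))⁻¹ := by group
    rw [e]
    exact mul_mem (mul_mem (inv_mem hb) h) (inv_mem hu)
  · intro h
    exact mul_mem (mul_mem hb h) hu

end Cfsg.Agent.Lib.Helper43.C2F4

namespace Cfsg.Agent.Lib.Helper69.C2F4

open Cfsg.Lie Cfsg.Agent.Lib.Helper18 Cfsg.Agent.Lib.Helper17 Cfsg.Agent.Lib.Helper6

universe u

variable {F : Type u} [Field F] {D : ChevalleyDatum}

/-- C2F4-[PARCARD]  (generic, reusable; BN-pair counting).  A subgroup `B ≤ M ≤ G` has order `|B| Σ_{w ∈ W_J} q^{l(w)}`,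
`J` = the fundamental reflections lying in `M`. -/
theorem card_of_borel_le [Fintype F] (hD : D ∈ [chevG2, chevB2, chevD4, chevF4, chevE6, chevE7, chevE8])
    (C : ChevData.{u} D) (M : Subgroup (GL D.Idx F)) (hBM : D.borelSubgroup F ≤ M) (hMG : M ≤ D.group F)
    (J : List ℕ) (hJ : ∀ j < D.rank, (j ∈ J ↔ sG hD C j ∈ M)) :
    Nat.card M = Nat.card (D.borelSubgroup F) * wsum C J (Fintype.card F) := by
  classical
  obtain ⟨L⟩ := nonempty_levelData D hD
  let e := Equiv.ofBijective (cellMap (F := F) hD C) ⟨cellMap_injective hD C, cellMap_surjective hD C L⟩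
  have e1 : ↥M ≃ {g : ↥(D.group F) // (g : GL D.Idx F) ∈ M} :=
    { toFun := fun g => ⟨⟨g.1, hMG g.2⟩, g.2⟩
      invFun := fun g => ⟨g.1.1, g.2⟩
      left_inv := fun g => rfl
      right_inv := fun g => rfl }
  have e2 : {a : Σ w : ↥(WF C), ↥(D.borelSubgroup F) × ({r // r ∈ negList C (wd C w)} → F) // a.1.1 ∈ WJ C J}
      ≃ {g : ↥(D.group F) // (g : GL D.Idx F) ∈ M} :=
    e.subtypeEquiv (fun a => (Cfsg.Agent.Lib.Helper43.C2F4.cellMap_mem_iff hD C M hBM J hJ a).symm)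
  rw [Nat.card_congr e1, ← Nat.card_congr e2,
    Nat.card_congr (Equiv.subtypeSigmaEquiv _ (fun w : ↥(WF C) => w.1 ∈ WJ C J)), Nat.card_sigma]
  unfold wsum
  rw [Finset.mul_sum]
  refine Finset.sum_bij (fun x _ => x.1.1) ?_ ?_ ?_ ?_
  · intro x _
    rw [mem_WJF]
    exact x.2
  · intro x _ y _ h
    exact Subtype.ext (Subtype.ext h)
  · intro v hv
    rw [mem_WJF] at hv
    have hvW : v ∈ WF C := by
      rw [mem_WF, ← WJ_range]
      obtain ⟨ws, hws, rfl⟩ := exists_word_of_mem_WJ C J v hv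
      rw [WJ_range]
      exact wordPerm_mem C ws fun i hi => (hws i hi).2
    exact ⟨⟨⟨v, hvW⟩, hv⟩, Finset.mem_univ _, rfl⟩
  · intro x _
    rw [Nat.card_prod, Nat.card_fun, Nat.card_eq_fintype_card (α := F)]
    congr 2
    rw [Nat.card_eq_fintype_card, Fintype.card_of_subtype (negList C (wd C x.1)).toFinset (by simp),
      List.toFinset_card_of_nodup ((negList_sorted C _).imp (fun h => Nat.ne_of_lt h)),
      length_negList hD C _ (wd_lt C x.1), wordPerm_wd]

end Cfsg.Agent.Lib.Helper69.C2F4
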