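import Cfsg.Agent.Lib.Helper69.C2F4.Defs
import Cfsg.Agent.Lib.Helper18.OrderF4
import Cfsg.Agent.S1035

/-!
# Project C2F4 (S2369, helper69's sheet): module C2F4-[WSUM] (helper43)

The Poincaré sums of the parabolic subgroups `W_{03}` and `W_{12}` of the Weyl group of type `F4` (two `LevelCert`s each,
as in `Helper18.OrderF4`), and the order of the Borel subgroup of `F4(K)`.
-/

set_option autoImplicit false

namespace Cfsg.Agent.Lib.Helper43.C2F4

open Cfsg.Lie Cfsg.Agent.Lib.Helper18

/-- `J = [0, 3]`, `J' = [0]`, 2 cosets. -/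
def weylCert_F4_03 : LevelCert where
  J := [0, 3]
  J' := [0]
  theta := 0
  mask := 0x200004000
  words := [[], [3]]
  ptabs := [0x2f2e2d2c2b2a292827262524232221201f1e1d1c1b1a191817161514131211100f0e0d0c0b0a09080706050403020100, 0x2e2f2d2c2b292a2827252623242221201e1f1c1d1b191a1718151614121310110f0e0d0b0c090a080705060403020001]
  cert := [[(0, 1), (1, 0)], [(1, 1), (0, 0)]]

set_option maxRecDepth 1000000 in
theorem weylCert_F4_03_ok : weylCert_F4_03.ok wTabs_F4 simples_F4 48 4 = true := by decide +kernel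

set_option maxRecDepth 1000000 in
theorem weylCert_F4_03_counts : weylCert_F4_03.ptabs.map (cntTab 48) = [0, 1] := by decide +kernel

/-- `J = [1, 2]`, `J' = [1]`, 4 cosets. -/
def weylCert_F4_12 : LevelCert where
  J := [1, 2]
  J' := [1]
  theta := 1
  mask := 0x8100000
  words := [[], [2], [1, 2], [2, 1, 2]]
  ptabs := [0x2f2e2d2c2b2a292827262524232221201f1e1d1c1b1a191817161514131211100f0e0d0c0b0a09080706050403020100, 0x2f2d2e2c2a2b2928262725242223211f201e1d1b1c18161a151917131412110f100e0c0d0b0a08090706040503010200, 0x2f2b2e2c2a2d2927242823262125221a20191d141c18111f101e17131b12160f150d0a0e090c070b0806020503010400, 0x2f2a2d2c2b2e292624282227212523181f161d131b1a11200f1e15141c121910170c0a0e080d070b0906010403020500]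
  cert := [[(0, 2), (1, 0)], [(2, 0), (0, 0)], [(1, 0), (3, 0)], [(3, 2), (2, 0)]]

set_option maxRecDepth 1000000 in
theorem weylCert_F4_12_ok : weylCert_F4_12.ok wTabs_F4 simples_F4 48 4 = true := by decide +kernel

set_option maxRecDepth 1000000 in
theorem weylCert_F4_12_counts : weylCert_F4_12.ptabs.map (cntTab 48) = [0, 1, 2, 3] := by decide +kernel

/-- `J = [1]`, `J' = []`, 2 cosets. -/
def weylCert_F4_1only : LevelCert where
  J := [1]
  J' := []
  theta := 2
  mask := 0x0
  words := [[], [1]]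
  ptabs := [0x2f2e2d2c2b2a292827262524232221201f1e1d1c1b1a191817161514131211100f0e0d0c0b0a09080706050403020100, 0x2f2e2b2c2d2a292728242326252122201a191d1c141f1e181711101b131216150f0d0e0a090c0b070806050203040100]
  cert := [[(1, 0)], [(0, 0)]]

set_option maxRecDepth 1000000 in
theorem weylCert_F4_1only_ok : weylCert_F4_1only.ok wTabs_F4 simples_F4 48 4 = true := by decide +kernel

set_option maxRecDepth 1000000 in
theorem weylCert_F4_1only_counts : weylCert_F4_1only.ptabs.map (cntTab 48) = [0, 1] := by decide +kernel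


theorem level_sum_counts (L : LevelCert) (n : ℕ) (cs : List ℕ) (h : L.ptabs.map (cntTab n) = cs) (q : ℕ) :
    (L.ptabs.map fun tab => q ^ cntTab n tab).sum = (cs.map fun c => q ^ c).sum := by
  rw [← h, List.map_map]
  rfl

end Cfsg.Agent.Lib.Helper43.C2F4

namespace Cfsg.Agent.Lib.Helper69.C2F4

open Cfsg.Lie Cfsg.Agent.Lib.Helper18 Cfsg.Agent.Lib.Helper91.ReeF4 Cfsg.Agent.Lib.Helper18.F4T
open Cfsg.Agent.Lib.Helper43.C2F4

universe u

/-- C2F4-[WSUM] (a).  `W_{03} = {1, s0, s3, s0 s3}`, lengths 0 1 1 2. -/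
theorem wsum_03 (q : ℕ) : wsum chevData_F4.{u} [0, 3] q = (1 + q) ^ 2 := by
  have hD : chevF4 ∈ [chevG2, chevB2, chevD4, chevF4, chevE6, chevE7, chevE8] := by simp
  have h0 : wsum chevData_F4.{u} weylCert_F4_03.J q = (weylCert_F4_03.ptabs.map fun tab => q ^ cntTab 48 tab).sum *
      wsum chevData_F4.{u} weylCert_F4_03.J' q := wsum_level hD chevData_F4.{u} weylCert_F4_03 weylCert_F4_03_ok q
  rw [level_sum_counts _ _ _ weylCert_F4_03_counts] at h0
  have h1 : wsum chevData_F4.{u} weylCert_F4_3.J q = (weylCert_F4_3.ptabs.map fun tab => q ^ cntTab 48 tab).sum *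
      wsum chevData_F4.{u} weylCert_F4_3.J' q := wsum_level hD chevData_F4.{u} weylCert_F4_3 weylCert_F4_3_ok q
  rw [level_sum_counts _ _ _ weylCounts_F4_3_eq] at h1
  have e0 : ([0, 3] : List ℕ) = weylCert_F4_03.J := rfl
  have e1 : weylCert_F4_03.J' = weylCert_F4_3.J := rfl
  have e2 : weylCert_F4_3.J' = [] := rfl
  rw [e0, h0, e1, h1, e2, wsum_nil]
  simp only [weylCounts_F4_3, List.map_cons, List.map_nil, List.sum_cons, List.sum_nil]
  ring

/-- C2F4-[WSUM] (b).  `W_{12}` is dihedral of order 8, lengths 0 1 1 2 2 3 3 4. -/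
theorem wsum_12 (q : ℕ) : wsum chevData_F4.{u} [1, 2] q = (1 + q) ^ 2 * (1 + q ^ 2) := by
  have hD : chevF4 ∈ [chevG2, chevB2, chevD4, chevF4, chevE6, chevE7, chevE8] := by simp
  have h0 : wsum chevData_F4.{u} weylCert_F4_12.J q = (weylCert_F4_12.ptabs.map fun tab => q ^ cntTab 48 tab).sum *
      wsum chevData_F4.{u} weylCert_F4_12.J' q := wsum_level hD chevData_F4.{u} weylCert_F4_12 weylCert_F4_12_ok q
  rw [level_sum_counts _ _ _ weylCert_F4_12_counts] at h0
  have h1 : wsum chevData_F4.{u} weylCert_F4_1only.J q = (weylCert_F4_1only.ptabs.map fun tab => q ^ cntTab 48 tab).sum *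
      wsum chevData_F4.{u} weylCert_F4_1only.J' q :=
    wsum_level hD chevData_F4.{u} weylCert_F4_1only weylCert_F4_1only_ok q
  rw [level_sum_counts _ _ _ weylCert_F4_1only_counts] at h1
  have e0 : ([1, 2] : List ℕ) = weylCert_F4_12.J := rfl
  have e1 : weylCert_F4_12.J' = weylCert_F4_1only.J := rfl
  have e2 : weylCert_F4_1only.J' = [] := rfl
  rw [e0, h0, e1, h1, e2, wsum_nil]
  simp only [List.map_cons, List.map_nil, List.sum_cons, List.sum_nil]
  ring

variable {K : Type u} [Field K]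

/-- C2F4-[WSUM] (c).  `card_borel` (Order5) + `S1027.card_posUnipotent` + `S1035.result` at `(chevF4, 1)`. -/
theorem card_borel_F4 [Fintype K] :
    Nat.card (chevF4.borelSubgroup K) = Fintype.card K ^ 24 * (Fintype.card K - 1) ^ 4 := by
  have hD : chevF4 ∈ [chevG2, chevB2, chevD4, chevF4, chevE6, chevE7, chevE8] := by simp
  rw [card_borel hD, Cfsg.Agent.S1027.card_posUnipotent chevF4 hD]
  have h := Cfsg.Agent.S1035.result (F := K) (q := Fintype.card K) rfl (chevF4, 1) (by simp)
  simp only [one_mul] at h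
  rw [h]
  rfl

end Cfsg.Agent.Lib.Helper69.C2F4
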