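/-
helper43: over a field, every square matrix is similar to its transpose.
Proof: the `F[X]`-module defined by the matrix is a direct sum of cyclic modules `F[X]/(f)`; each of
these carries a non-degenerate bilinear form for which multiplication by `X` is self-adjoint; hence so
does the whole module, and the Gram matrix of that form conjugates the matrix to its transpose.
-/
import Mathlib

set_option autoImplicit false

namespace Cfsg.Agent.Lib.Helper43

open Polynomial DirectSum

variable {F : Type*} [Field F]

/-- `N` carries a non-degenerate `F`-bilinear form for which multiplication by `X` is self-adjoint. -/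
def HasSelfAdjointForm (F : Type*) [Field F] (N : Type*) [AddCommGroup N] [Module F N]
    [Module F[X] N] : Prop :=
  ∃ B : N →ₗ[F] N →ₗ[F] F, B.SeparatingLeft ∧ ∀ u v, B ((X : F[X]) • u) v = B u ((X : F[X]) • v)

section PowerBasis

variable {Q : Type*} [CommRing Q] [Algebra F Q]

theorem repr_aeval_gen (pb : PowerBasis F Q) (h : F[X]) (hdeg : h.natDegree < pb.dim)
    (i : Fin pb.dim) : pb.basis.repr (aeval pb.gen h) i = h.coeff i := by
  rw [aeval_eq_sum_range' hdeg, ← Fin.sum_univ_eq_sum_range (fun j => h.coeff j • pb.gen ^ j)]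
  have : ∑ j : Fin pb.dim, h.coeff j • pb.gen ^ (j : ℕ) = ∑ j : Fin pb.dim, h.coeff j • pb.basis j := by
    simp [PowerBasis.coe_basis]
  rw [this, Module.Basis.repr_sum_self]

theorem exists_form_of_powerBasis (pb : PowerBasis F Q) :
    ∃ B : Q →ₗ[F] Q →ₗ[F] F, B.SeparatingLeft ∧ ∀ u v, B (pb.gen * u) v = B u (pb.gen * v) := by
  by_cases hd : pb.dim = 0
  · refine ⟨0, ?_, fun u v => rfl⟩
    intro u _
    apply pb.basis.ext_elem
    intro i
    exact absurd i.2 (by omega)
  · set last : Fin pb.dim := ⟨pb.dim - 1, by omega⟩ with hlast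
    set lam : Q →ₗ[F] F := pb.basis.coord last with hlam
    refine ⟨(LinearMap.mul F Q).compr₂ lam, ?_, ?_⟩
    · intro u hu
      by_contra hne
      have : Nontrivial Q := ⟨u, 0, hne⟩
      obtain ⟨g, hgdeg, rfl⟩ := pb.exists_eq_aeval u
      have hg0 : g ≠ 0 := by
        rintro rfl
        exact hne (by simp)
      set e := pb.dim - 1 - g.natDegree with he
      have h1 := hu (pb.gen ^ e)
      rw [LinearMap.compr₂_apply, LinearMap.mul_apply'] at h1
      have h2 : aeval pb.gen g * pb.gen ^ e = aeval pb.gen (g * X ^ e) := by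
        rw [map_mul, map_pow, aeval_X]
      have hdeg : (g * X ^ e).natDegree < pb.dim := by
        rw [natDegree_mul_X_pow e hg0]; omega
      rw [h2, hlam, Module.Basis.coord_apply, repr_aeval_gen pb _ hdeg] at h1
      have h3 : ((last : Fin pb.dim) : ℕ) = g.natDegree + e := by
        rw [hlast]; simp only; omega
      rw [h3, coeff_mul_X_pow] at h1
      exact hg0 (leadingCoeff_eq_zero.mp h1)
    · intro u v
      rw [LinearMap.compr₂_apply, LinearMap.compr₂_apply, LinearMap.mul_apply', LinearMap.mul_apply']
      congr 1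
      ring

end PowerBasis

/-- cyclic torsion modules carry a self-adjoint form -/
theorem hasSelfAdjointForm_quotient (f : F[X]) (hf : f ≠ 0) :
    HasSelfAdjointForm F (F[X] ⧸ F[X] ∙ f) := by
  obtain ⟨B, hBsep, hBadj⟩ := exists_form_of_powerBasis (AdjoinRoot.powerBasis hf)
  rw [AdjoinRoot.powerBasis_gen] at hBadj
  let toAR : (F[X] ⧸ F[X] ∙ f) → AdjoinRoot f := fun u => u
  have hX : ∀ u : F[X] ⧸ F[X] ∙ f, toAR ((X : F[X]) • u) = AdjoinRoot.root f * toAR u := by
    intro u
    induction u using Quotient.inductionOn with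
    | _ g => rfl
  refine ⟨B, hBsep, ?_⟩
  intro u v
  have h1 := hBadj (toAR u) (toAR v)
  rw [← hX, ← hX] at h1
  exact h1

/-- finite direct sums of modules with self-adjoint forms have self-adjoint forms -/
theorem hasSelfAdjointForm_directSum {ι : Type*} [Fintype ι] [DecidableEq ι] (N : ι → Type*)
    [∀ i, AddCommGroup (N i)] [∀ i, Module F (N i)] [∀ i, Module F[X] (N i)]
    (h : ∀ i, HasSelfAdjointForm F (N i)) : HasSelfAdjointForm F (⨁ i, N i) := by
  choose B hBsep hBadj using h
  refine ⟨∑ i, (B i).compl₁₂ (DirectSum.component F ι N i) (DirectSum.component F ι N i), ?_, ?_⟩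
  · intro u hu
    apply DirectSum.ext_component F
    intro i
    rw [map_zero]
    apply hBsep i
    intro w
    have h1 := hu (DirectSum.lof F ι N i w)
    rw [LinearMap.sum_apply, LinearMap.sum_apply, Finset.sum_eq_single i] at h1
    · rw [LinearMap.compl₁₂_apply, DirectSum.component.lof_self] at h1
      exact h1
    · intro j _ hji
      rw [LinearMap.compl₁₂_apply, DirectSum.component.of, dif_neg (Ne.symm hji), map_zero]
    · intro hi
      exact absurd (Finset.mem_univ i) hi
  · intro u v
    rw [LinearMap.sum_apply, LinearMap.sum_apply, LinearMap.sum_apply, LinearMap.sum_apply]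
    apply Finset.sum_congr rfl
    intro i _
    rw [LinearMap.compl₁₂_apply, LinearMap.compl₁₂_apply]
    have h1 : DirectSum.component F ι N i ((X : F[X]) • u) = (X : F[X]) • DirectSum.component F ι N i u := by
      rw [← DirectSum.apply_eq_component, ← DirectSum.apply_eq_component, DirectSum.smul_apply]
    have h2 : DirectSum.component F ι N i ((X : F[X]) • v) = (X : F[X]) • DirectSum.component F ι N i v := by
      rw [← DirectSum.apply_eq_component, ← DirectSum.apply_eq_component, DirectSum.smul_apply]
    rw [h1, h2, hBadj]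

/-- self-adjoint forms transport along `F[X]`-linear equivalences -/
theorem HasSelfAdjointForm.of_equiv {M N : Type*} [AddCommGroup M] [Module F M] [Module F[X] M]
    [IsScalarTower F F[X] M] [AddCommGroup N] [Module F N] [Module F[X] N] [IsScalarTower F F[X] N]
    (e : M ≃ₗ[F[X]] N) (h : HasSelfAdjointForm F N) : HasSelfAdjointForm F M := by
  obtain ⟨B, hBsep, hBadj⟩ := h
  set eF : M ≃ₗ[F] N := e.restrictScalars F with heF
  have heF_apply : ∀ u, eF u = e u := fun u => rfl
  refine ⟨B.compl₁₂ (eF : M →ₗ[F] N) (eF : M →ₗ[F] N), ?_, ?_⟩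
  · intro u hu
    have h1 : eF u = 0 := by
      apply hBsep
      intro w
      have := hu (eF.symm w)
      rw [LinearMap.compl₁₂_apply] at this
      simpa using this
    exact eF.map_eq_zero_iff.mp h1
  · intro u v
    rw [LinearMap.compl₁₂_apply, LinearMap.compl₁₂_apply]
    simp only [LinearEquiv.coe_coe, heF_apply, map_smul]
    exact hBadj _ _

/-- the module of an endomorphism of a finite-dimensional space has a self-adjoint form -/
theorem hasSelfAdjointForm_aeval {V : Type*} [AddCommGroup V] [Module F V] [FiniteDimensional F V]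
    (φ : Module.End F V) : HasSelfAdjointForm F (Module.AEval' φ) := by
  have htors : Module.IsTorsion F[X] (Module.AEval' φ) :=
    Module.AEval.isTorsion_of_finiteDimensional F V φ
  obtain ⟨ι, _, p, hp, e, ⟨equiv⟩⟩ := Module.equiv_directSum_of_isTorsion htors
  classical
  apply HasSelfAdjointForm.of_equiv equiv
  apply hasSelfAdjointForm_directSum
  intro i
  exact hasSelfAdjointForm_quotient _ (pow_ne_zero _ (hp i).ne_zero)

/-- every square matrix over a field is similar to its transpose -/
theorem exists_conj_transpose {ι : Type*} [Fintype ι] [DecidableEq ι] (A : Matrix ι ι F) :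
    ∃ S : Matrix ι ι F, IsUnit S ∧ S * A = A.transpose * S := by
  classical
  set φ : Module.End F (ι → F) := Matrix.toLin' A with hφ
  obtain ⟨B, hBsep, hBadj⟩ := hasSelfAdjointForm_aeval φ
  set o := Module.AEval'.of φ with ho
  set B' : (ι → F) →ₗ[F] (ι → F) →ₗ[F] F :=
    B.compl₁₂ (o : (ι → F) →ₗ[F] Module.AEval' φ) (o : (ι → F) →ₗ[F] Module.AEval' φ) with hB'
  have hB'adj : ∀ u v, B' (A.mulVec u) v = B' u (A.mulVec v) := by
    intro u v
    rw [hB', LinearMap.compl₁₂_apply, LinearMap.compl₁₂_apply]
    simp only [LinearEquiv.coe_coe]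
    have h1 : o (A.mulVec u) = (X : F[X]) • o u := by
      rw [ho, Module.AEval'.X_smul_of, hφ, Matrix.toLin'_apply]
    have h2 : o (A.mulVec v) = (X : F[X]) • o v := by
      rw [ho, Module.AEval'.X_smul_of, hφ, Matrix.toLin'_apply]
    rw [h1, h2, hBadj]
  have hB'sep : ∀ u, (∀ v, B' u v = 0) → u = 0 := by
    intro u hu
    have h1 : o u = 0 := by
      apply hBsep
      intro w
      have := hu (o.symm w)
      rw [hB', LinearMap.compl₁₂_apply] at this
      simpa using this
    exact o.map_eq_zero_iff.mp h1
  set S : Matrix ι ι F := LinearMap.toMatrix₂' F B' with hS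
  have hSB : ∀ u v, B' u v = u ⬝ᵥ S.mulVec v := by
    intro u v
    rw [← Matrix.toLinearMap₂'_apply', hS, Matrix.toLinearMap₂'_toMatrix']
  refine ⟨S, ?_, ?_⟩
  · rw [← Matrix.vecMul_injective_iff_isUnit]
    intro u u' huu'
    have h0 : Matrix.vecMul (u - u') S = 0 := by
      rw [Matrix.sub_vecMul]
      exact sub_eq_zero.mpr huu'
    have : u - u' = 0 := by
      apply hB'sep
      intro v
      rw [hSB, Matrix.dotProduct_mulVec, h0, zero_dotProduct]
    exact sub_eq_zero.mp this
  · apply (Matrix.toLinearMap₂' F (S₁ := F) (S₂ := F) (N₂ := F) (n := ι) (m := ι)).injective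
    refine LinearMap.ext fun u => LinearMap.ext fun v => ?_
    rw [Matrix.toLinearMap₂'_apply', Matrix.toLinearMap₂'_apply']
    have hL : u ⬝ᵥ (S * A).mulVec v = B' u (A.mulVec v) := by rw [hSB, Matrix.mulVec_mulVec]
    have hR : u ⬝ᵥ (A.transpose * S).mulVec v = B' (A.mulVec u) v := by
      rw [hSB, ← Matrix.mulVec_mulVec, Matrix.dotProduct_mulVec, Matrix.vecMul_transpose]
    rw [hL, hR, hB'adj]

end Cfsg.Agent.Lib.Helper43
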