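/-
helper43: CORE for part 2 of the S5634 project (decompositions into blocks of dimension m ≥ 2,
transvection method) in the world of linear automorphisms (helper94's `LDecomp`, `SympData.stabDec`,
`SympData.SLe`).  Total transvections `tvT f v`, their algebra, block functionals.
-/
import Mathlib
import Cfsg.Agent.Lib.Helper94.LinDecomp3

set_option autoImplicit false
set_option linter.unusedSectionVars false
set_option linter.unusedVariables false
set_option linter.unusedSimpArgs false

namespace Cfsg.Agent.Lib.Helper43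

open Cfsg.Agent.Lib.Helper94 Module

variable {K V : Type*} [Field K] [AddCommGroup V] [Module K V]

/-- the transvection `x ↦ x + f x • v` if `f v = 0`, and `1` otherwise -/
noncomputable def tvT (f : Dual K V) (v : V) : V ≃ₗ[K] V := by
  classical
  exact if h : f v = 0 then LinearEquiv.transvection h else 1

theorem tvT_of (f : Dual K V) (v : V) (h : f v = 0) : tvT f v = LinearEquiv.transvection h := by
  classical
  unfold tvT
  rw [dif_pos h]

theorem tvT_apply {f : Dual K V} {v : V} (h : f v = 0) (x : V) : tvT f v x = x + f x • v := by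
  rw [tvT_of f v h]
  rfl

theorem tvT_zero_left (v : V) : tvT (0 : Dual K V) v = 1 := by
  apply LinearEquiv.ext
  intro x
  rw [tvT_apply (by simp)]
  simp

theorem tvT_zero_right (f : Dual K V) : tvT f (0 : V) = 1 := by
  apply LinearEquiv.ext
  intro x
  rw [tvT_apply (by simp)]
  simp

theorem tvT_mul_left {f f' : Dual K V} {v : V} (h : f v = 0) (h' : f' v = 0) :
    tvT f v * tvT f' v = tvT (f + f') v := by
  apply LinearEquiv.ext
  intro x
  have h2 : (f + f') v = 0 := by rw [LinearMap.add_apply, h, h', add_zero]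
  rw [LinearEquiv.mul_apply, tvT_apply h', tvT_apply h, tvT_apply h2, map_add, map_smul, h,
    smul_zero, add_zero, LinearMap.add_apply, add_smul]
  abel

theorem tvT_mul_right {f : Dual K V} {v v' : V} (h : f v = 0) (h' : f v' = 0) :
    tvT f v * tvT f v' = tvT f (v + v') := by
  apply LinearEquiv.ext
  intro x
  have h2 : f (v + v') = 0 := by rw [map_add, h, h', add_zero]
  rw [LinearEquiv.mul_apply, tvT_apply h', tvT_apply h, tvT_apply h2, map_add, map_smul, h',
    smul_zero, add_zero, smul_add]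
  abel

theorem tvT_inv {f : Dual K V} {v : V} (h : f v = 0) : (tvT f v)⁻¹ = tvT (-f) v := by
  have h' : (-f) v = 0 := by rw [LinearMap.neg_apply, h, neg_zero]
  rw [inv_eq_iff_mul_eq_one, tvT_mul_left h h', add_neg_cancel, tvT_zero_left]

/-- conjugation of a transvection -/
theorem conj_tvT (g : V ≃ₗ[K] V) {f : Dual K V} {v : V} (h : f v = 0) :
    g * tvT f v * g⁻¹ = tvT (f ∘ₗ ((g⁻¹ : V ≃ₗ[K] V) : V →ₗ[K] V)) (g v) := by
  have h' : (f ∘ₗ ((g⁻¹ : V ≃ₗ[K] V) : V →ₗ[K] V)) (g v) = 0 := by
    rw [LinearMap.comp_apply]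
    change f (g⁻¹ (g v)) = 0
    rw [← LinearEquiv.mul_apply, inv_mul_cancel]
    exact h
  apply LinearEquiv.ext
  intro x
  rw [tvT_apply h', LinearEquiv.mul_apply, LinearEquiv.mul_apply, tvT_apply h, map_add, map_smul,
    ← LinearEquiv.mul_apply, mul_inv_cancel]
  rfl

/-- the commutator of two transvections `[1 + f⊗v, 1 + f'⊗v'] = 1 - f'(v) f⊗v'` when `f v' = 0` -/
theorem comm_tvT {f f' : Dual K V} {v v' : V} (h : f v = 0) (h' : f' v' = 0) (h0 : f v' = 0) :
    tvT f v * tvT f' v' * (tvT f v)⁻¹ * (tvT f' v')⁻¹ = tvT (-(f' v) • f) v' := by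
  have hn : (-f) v = 0 := by rw [LinearMap.neg_apply, h, neg_zero]
  have hn' : (-f') v' = 0 := by rw [LinearMap.neg_apply, h', neg_zero]
  have h2 : (-(f' v) • f) v' = 0 := by rw [LinearMap.smul_apply, h0, smul_zero]
  rw [tvT_inv h, tvT_inv h']
  apply LinearEquiv.ext
  intro x
  simp only [LinearEquiv.mul_apply]
  rw [tvT_apply hn', tvT_apply hn, tvT_apply h', tvT_apply h, tvT_apply h2]
  simp only [map_add, map_smul, map_neg, LinearMap.neg_apply, LinearMap.smul_apply, smul_eq_mul,
    h, h', h0, mul_zero, add_zero, neg_zero, zero_smul, smul_zero, neg_smul, smul_add, smul_neg,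
    neg_neg, zero_add]
  module

theorem tvT_mem_SLe (f : Dual K V) (v : V) : tvT f v ∈ SympData.SLe K V := by
  classical
  rw [SympData.mem_SLe]
  unfold tvT
  split_ifs with h
  · exact LinearEquiv.transvection.det_eq_one h
  · exact map_one _

/-! ### block functionals -/

variable {t m : ℕ} {D : Fin t → Submodule K V}

/-- `f` vanishes on all members except possibly `D i` -/
def BlockFun (D : Fin t → Submodule K V) (i : Fin t) (f : Dual K V) : Prop :=
  ∀ j, j ≠ i → ∀ x ∈ D j, f x = 0

/-- the part of `f` living on the `i`-th member -/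
noncomputable def LDres (hD : LDecomp m D) (i : Fin t) (f : Dual K V) : Dual K V :=
  f ∘ₗ (D i).subtype ∘ₗ hD.proj i

theorem LDres_apply (hD : LDecomp m D) (i : Fin t) (f : Dual K V) (x : V) :
    LDres hD i f x = f (hD.proj i x : V) := rfl

theorem LDres_of_mem (hD : LDecomp m D) {i : Fin t} (f : Dual K V) {x : V} (hx : x ∈ D i) :
    LDres hD i f x = f x := by
  rw [LDres_apply, hD.proj_of_mem hx]

theorem blockFun_LDres (hD : LDecomp m D) (i : Fin t) (f : Dual K V) :
    BlockFun D i (LDres hD i f) := by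
  intro j hji x hx
  rw [LDres_apply, hD.proj_of_mem_ne hji hx]
  simp

theorem sum_LDres (hD : LDecomp m D) (f : Dual K V) : ∑ i, LDres hD i f = f := by
  apply LinearMap.ext
  intro x
  rw [LinearMap.sum_apply]
  simp only [LDres_apply]
  rw [← map_sum, hD.sum_proj]

theorem BlockFun.apply_eq (hD : LDecomp m D) {i : Fin t} {f : Dual K V} (hf : BlockFun D i f)
    (x : V) : f x = f (hD.proj i x : V) := by
  conv_lhs => rw [← hD.sum_proj x]
  rw [map_sum, Finset.sum_eq_single i]
  · intro j _ hji
    exact hf j hji _ (hD.proj j x).2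
  · intro h; exact absurd (Finset.mem_univ i) h

/-- `M` contains the transvections `1 + cψ⊗w` for one non-zero `w ∈ D i` and one non-zero
functional `ψ` living on `D i'`, `i ≠ i'` -/
def Mixed (M : Subgroup (V ≃ₗ[K] V)) (D : Fin t → Submodule K V) : Prop :=
  ∃ i i' : Fin t, i ≠ i' ∧ ∃ w ∈ D i, w ≠ 0 ∧ ∃ ψ : Dual K V, ψ ≠ 0 ∧ BlockFun D i' ψ ∧
    ∀ c : K, tvT (c • ψ) w ∈ M

/-- `M` contains all transvections with centre in `D i` and functional living on `D i'` -/
def AllPair (M : Subgroup (V ≃ₗ[K] V)) (D : Fin t → Submodule K V) (i i' : Fin t) : Prop :=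
  ∀ w ∈ D i, ∀ ψ : Dual K V, BlockFun D i' ψ → tvT ψ w ∈ M


/-! ### existence of block functionals and vectors -/

/-- a functional living on `D i`, vanishing at `w` and equal to `1` at `u ∉ span {w}` -/
theorem exists_blockFun_sep (hD : LDecomp m D) {i : Fin t} {u w : V} (hu : u ∈ D i)
    (hw : w ∈ D i) (h : u ∉ Submodule.span K {w}) :
    ∃ ψ : Dual K V, BlockFun D i ψ ∧ ψ w = 0 ∧ ψ u = 1 := by
  obtain ⟨χ, hχu, hχ⟩ := Submodule.exists_dual_map_eq_bot_of_notMem h inferInstance
  have hχw : χ w = 0 := by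
    have : χ w ∈ (Submodule.span K {w}).map χ := ⟨w, Submodule.mem_span_singleton_self w, rfl⟩
    rw [hχ] at this
    simpa using this
  refine ⟨(χ u)⁻¹ • LDres hD i χ, ?_, ?_, ?_⟩
  · intro j hji x hx
    rw [LinearMap.smul_apply, blockFun_LDres hD i χ j hji x hx, smul_zero]
  · rw [LinearMap.smul_apply, LDres_of_mem hD χ hw, hχw, smul_zero]
  · rw [LinearMap.smul_apply, LDres_of_mem hD χ hu, smul_eq_mul, inv_mul_cancel₀ hχu]

/-- a member of dimension at least two is not contained in a line -/
theorem exists_not_mem_span [FiniteDimensional K V] (hD : LDecomp m D) (hm : 2 ≤ m) (i : Fin t)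
    (u : V) : ∃ w ∈ D i, w ∉ Submodule.span K {u} := by
  by_contra hcon
  push Not at hcon
  have hle : D i ≤ Submodule.span K {u} := hcon
  have h1 := Submodule.finrank_mono hle
  rw [hD.finrank_eq i] at h1
  have h2 : finrank K (Submodule.span K {u}) ≤ 1 := by
    have := finrank_span_le_card (R := K) ({u} : Set V)
    simpa using this
  omega

/-- a functional living on `D i`, vanishing at `w ∈ D i`, and non-zero on `D i` -/
theorem exists_blockFun_ker [FiniteDimensional K V] (hD : LDecomp m D) (hm : 2 ≤ m) {i : Fin t}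
    {w : V} (hw : w ∈ D i) :
    ∃ ψ : Dual K V, BlockFun D i ψ ∧ ψ w = 0 ∧ ∃ x ∈ D i, ψ x = 1 := by
  obtain ⟨x, hx, hxw⟩ := exists_not_mem_span hD hm i w
  obtain ⟨ψ, h1, h2, h3⟩ := exists_blockFun_sep hD hx hw hxw
  exact ⟨ψ, h1, h2, x, hx, h3⟩

end Cfsg.Agent.Lib.Helper43
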