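/-
helper43: Dye's lemma — in characteristic two an isometry of a non-degenerate alternating form
preserves a quadratic form polarising to it.
-/
import Cfsg.Agent.Lib.Helper43.FormInv

set_option autoImplicit false

namespace Cfsg.Agent.Lib.Helper43

open Matrix Module

variable {F : Type*} [Field F]

/-- Dye's lemma: over a finite field of characteristic two, an isometry of a non-degenerate
alternating form preserves a quadratic form polarising to it -/
theorem exists_quadraticForm_of_formInv [Finite F] [CharP F 2] {n : ℕ}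
    (Ω T : Matrix (Fin n) (Fin n) F) (h : FormInv (-1 : F) True Ω T) :
    ∃ Q : QuadraticForm F (Fin n → F),
      (∀ x y, QuadraticMap.polar Q x y = x ⬝ᵥ Ω *ᵥ y) ∧ ∀ x, Q (T *ᵥ x) = Q x := by
  classical
  have hsymm : ∀ i j, Ω j i = Ω i j := by
    intro i j
    have := congrFun (congrFun h.symm i) j
    rw [Matrix.transpose_apply, Matrix.smul_apply, smul_eq_mul, neg_one_mul,
      CharTwo.neg_eq] at this
    exact this
  -- the upper triangular part
  let Ωu : Matrix (Fin n) (Fin n) F := Matrix.of fun i j => if i < j then Ω i j else 0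
  have hΩu : Ωu + Ωuᵀ = Ω := by
    ext i j
    simp only [Ωu, Matrix.add_apply, Matrix.transpose_apply, Matrix.of_apply]
    rcases lt_trichotomy i j with hij | hij | hij
    · rw [if_pos hij, if_neg (not_lt.mpr hij.le), add_zero]
    · subst hij
      rw [if_neg (lt_irrefl _), add_zero, h.diag trivial]
    · rw [if_neg (not_lt.mpr hij.le), if_pos hij, zero_add, hsymm]
  let β : LinearMap.BilinForm F (Fin n → F) := Matrix.toBilin' Ωu
  have hβ : ∀ x y, β x y = x ⬝ᵥ Ωu *ᵥ y := fun x y => Matrix.toBilin'_apply' Ωu x y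
  let Q₀ : QuadraticForm F (Fin n → F) := LinearMap.BilinMap.toQuadraticMap β
  have hQ₀ : ∀ x, Q₀ x = x ⬝ᵥ Ωu *ᵥ x := fun x => by
    rw [LinearMap.BilinMap.toQuadraticMap_apply, hβ]
  have hpolar₀ : ∀ x y, QuadraticMap.polar Q₀ x y = x ⬝ᵥ Ω *ᵥ y := by
    intro x y
    rw [LinearMap.BilinMap.polar_toQuadraticMap, hβ, hβ, ← hΩu, Matrix.add_mulVec,
      dotProduct_add]
    congr 1
    rw [Matrix.mulVec_transpose, dotProduct_comm x, ← Matrix.dotProduct_mulVec]
  have hTpolar : ∀ x y, (T *ᵥ x) ⬝ᵥ Ω *ᵥ (T *ᵥ y) = x ⬝ᵥ Ω *ᵥ y := by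
    intro x y
    rw [Matrix.mulVec_mulVec, ← Matrix.vecMul_transpose, ← Matrix.dotProduct_mulVec,
      Matrix.mulVec_mulVec, ← mul_assoc, h.pres]
  -- the defect
  let D : (Fin n → F) → F := fun x => Q₀ (T *ᵥ x) + Q₀ x
  have hDadd : ∀ x y, D (x + y) = D x + D y := by
    intro x y
    have h1 : Q₀ (x + y) = Q₀ x + Q₀ y + x ⬝ᵥ Ω *ᵥ y := by
      rw [← hpolar₀, QuadraticMap.polar]; ring
    have h2 : Q₀ (T *ᵥ x + T *ᵥ y) = Q₀ (T *ᵥ x) + Q₀ (T *ᵥ y) + x ⬝ᵥ Ω *ᵥ y := by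
      rw [← hTpolar, ← hpolar₀, QuadraticMap.polar]; ring
    simp only [D]
    rw [Matrix.mulVec_add, h1, h2]
    have h3 : x ⬝ᵥ Ω *ᵥ y + x ⬝ᵥ Ω *ᵥ y = 0 := CharTwo.add_self_eq_zero _
    linear_combination h3
  have hDsmul : ∀ (c : F) x, D (c • x) = c ^ 2 * D x := by
    intro c x
    simp only [D]
    rw [Matrix.mulVec_smul, QuadraticMap.map_smul, QuadraticMap.map_smul, smul_eq_mul, smul_eq_mul]
    ring
  have : PerfectRing F 2 := PerfectRing.ofFiniteOfIsReduced 2 F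
  let σ : F ≃+* F := (frobeniusEquiv F 2).symm
  have hσ : ∀ a, σ a ^ 2 = a := fun a => frobeniusEquiv_symm_pow_p F 2 a
  have hσ' : ∀ a, σ (a ^ 2) = a := fun a => frobeniusEquiv_symm_pow F 2 a
  let ℓ₀ : (Fin n → F) →ₗ[F] F :=
    { toFun := fun x => σ (D x)
      map_add' := fun x y => by rw [hDadd, map_add]
      map_smul' := fun c x => by
        simp only [RingHom.id_apply]
        rw [hDsmul, map_mul, hσ', smul_eq_mul] }
  have hℓ₀ : ∀ x, ℓ₀ x ^ 2 = D x := fun x => hσ (D x)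
  -- ℓ₀ vanishes on the fixed vectors
  let N : (Fin n → F) →ₗ[F] (Fin n → F) := Matrix.toLin' T - 1
  have hN : ∀ x, N x = T *ᵥ x - x := fun x => by
    simp only [N, LinearMap.sub_apply, Matrix.toLin'_apply, Module.End.one_apply]
  have hann : ℓ₀ ∈ (LinearMap.ker N).dualAnnihilator := by
    rw [Submodule.mem_dualAnnihilator]
    intro x hx
    rw [LinearMap.mem_ker, hN, sub_eq_zero] at hx
    show σ (D x) = 0
    simp only [D]
    rw [hx, CharTwo.add_self_eq_zero, map_zero]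
  rw [← LinearMap.range_dualMap_eq_dualAnnihilator_ker] at hann
  obtain ⟨ℓ, hℓ⟩ := hann
  have hℓ' : ∀ x, ℓ (N x) = ℓ₀ x := fun x => by
    rw [← hℓ]; rfl
  refine ⟨Q₀ + QuadraticMap.linMulLin ℓ ℓ, ?_, ?_⟩
  · intro x y
    rw [show ⇑(Q₀ + QuadraticMap.linMulLin ℓ ℓ) = ⇑Q₀ + ⇑(QuadraticMap.linMulLin ℓ ℓ) from rfl,
      QuadraticMap.polar_add, hpolar₀]
    have : QuadraticMap.polar (⇑(QuadraticMap.linMulLin ℓ ℓ)) x y = 0 := by
      simp only [QuadraticMap.polar, QuadraticMap.linMulLin_apply, map_add]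
      have h3 : ℓ x * ℓ y + ℓ x * ℓ y = 0 := CharTwo.add_self_eq_zero _
      linear_combination h3
    rw [this, add_zero]
  · intro x
    show Q₀ (T *ᵥ x) + QuadraticMap.linMulLin ℓ ℓ (T *ᵥ x) =
      Q₀ x + QuadraticMap.linMulLin ℓ ℓ x
    rw [QuadraticMap.linMulLin_apply, QuadraticMap.linMulLin_apply]
    have h1 : T *ᵥ x = x + N x := by rw [hN]; abel
    have h2 : ℓ (T *ᵥ x) = ℓ x + ℓ₀ x := by rw [h1, map_add, hℓ']
    have h3 : Q₀ (T *ᵥ x) = Q₀ x + D x := by
      simp only [D]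
      have : Q₀ x + Q₀ x = 0 := CharTwo.add_self_eq_zero _
      linear_combination -this
    rw [h2, h3, ← hℓ₀]
    have h4 : ℓ x * ℓ₀ x + ℓ x * ℓ₀ x = 0 := CharTwo.add_self_eq_zero _
    have h5 : ℓ₀ x ^ 2 + ℓ₀ x ^ 2 = 0 := CharTwo.add_self_eq_zero _
    linear_combination h4 + h5

end Cfsg.Agent.Lib.Helper43
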