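/-
helper43: matrices commuting with the unipotent matrix of a given Jordan type:
explicit description by their columns at the block generators.
-/
import Cfsg.Prelude.Def_JordanBlocks

set_option autoImplicit false

namespace Cfsg.Agent.Lib.Helper43

open Matrix

section

variable {F : Type*} [Field F] {t : ℕ} (d : Fin t → ℕ)

theorem jordanTypeMatrix_apply' (x y : (k : Fin t) × Fin (d k)) :
    Cfsg.jordanTypeMatrix d F x y =
      (if x = y then 1 else 0) + (if x.1 = y.1 ∧ (x.2 : ℕ) = (y.2 : ℕ) + 1 then 1 else 0) := by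
  obtain ⟨k', a'⟩ := x
  obtain ⟨k, a⟩ := y
  unfold Cfsg.jordanTypeMatrix
  by_cases hk : k' = k
  · subst hk
    rw [Matrix.blockDiagonal'_apply_eq]
    simp only [Cfsg.jordanBlock, Matrix.of_apply, true_and]
    by_cases h1 : (a' : ℕ) = a
    · have : a' = a := Fin.ext h1
      subst this
      simp
    · have h2 : ¬ ((⟨k', a'⟩ : (k : Fin t) × Fin (d k)) = ⟨k', a⟩) := by
        intro h
        apply h1
        have := (Sigma.mk.inj_iff.mp h).2
        rw [eq_of_heq this]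
      rw [if_neg h1, if_neg h2, zero_add]
  · rw [Matrix.blockDiagonal'_apply_ne _ _ _ hk]
    have h2 : ¬ ((⟨k', a'⟩ : (k : Fin t) × Fin (d k)) = ⟨k, a⟩) := by
      intro h
      exact hk (Sigma.mk.inj_iff.mp h).1
    rw [if_neg h2, if_neg (fun h => hk h.1), zero_add]

/-- the nilpotent part `N` of the Jordan type matrix: `N e_(k,a) = e_(k,a+1)` -/
def jordanNil (F : Type*) [Field F] {t : ℕ} (d : Fin t → ℕ) :
    Matrix ((k : Fin t) × Fin (d k)) ((k : Fin t) × Fin (d k)) F :=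
  Matrix.of fun x y => if x.1 = y.1 ∧ (x.2 : ℕ) = (y.2 : ℕ) + 1 then 1 else 0

theorem jordanTypeMatrix_eq_one_add : Cfsg.jordanTypeMatrix d F = 1 + jordanNil F d := by
  ext x y
  rw [jordanTypeMatrix_apply', Matrix.add_apply, Matrix.one_apply]
  rfl

theorem commute_jordanTypeMatrix_iff (g : Matrix ((k : Fin t) × Fin (d k)) ((k : Fin t) × Fin (d k)) F) :
    g * Cfsg.jordanTypeMatrix d F = Cfsg.jordanTypeMatrix d F * g ↔
      g * jordanNil F d = jordanNil F d * g := by
  rw [jordanTypeMatrix_eq_one_add, mul_add, add_mul, mul_one, one_mul, add_right_inj]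

theorem mul_jordanNil_apply (g : Matrix ((k : Fin t) × Fin (d k)) ((k : Fin t) × Fin (d k)) F)
    (x : (k : Fin t) × Fin (d k)) (k : Fin t) (a : ℕ) (ha : a < d k) :
    (g * jordanNil F d) x ⟨k, ⟨a, ha⟩⟩ =
      if h : a + 1 < d k then g x ⟨k, ⟨a + 1, h⟩⟩ else 0 := by
  rw [Matrix.mul_apply]
  split_ifs with h
  · rw [Finset.sum_eq_single (⟨k, ⟨a + 1, h⟩⟩ : (k : Fin t) × Fin (d k))]
    · simp [jordanNil]
    · intro z _ hz
      have : ¬ (z.1 = k ∧ (z.2 : ℕ) = a + 1) := by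
        rintro ⟨h1, h2⟩
        apply hz
        obtain ⟨z1, z2⟩ := z
        simp only at h1 h2
        subst h1
        congr 1
        exact Fin.ext h2
      simp [jordanNil, this]
    · intro hh; exact absurd (Finset.mem_univ _) hh
  · apply Finset.sum_eq_zero
    intro z _
    have : ¬ (z.1 = k ∧ (z.2 : ℕ) = a + 1) := by
      rintro ⟨h1, h2⟩
      obtain ⟨z1, z2⟩ := z
      simp only at h1 h2
      subst h1
      have := z2.isLt
      omega
    simp [jordanNil, this]

theorem jordanNil_mul_apply (g : Matrix ((k : Fin t) × Fin (d k)) ((k : Fin t) × Fin (d k)) F)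
    (k' : Fin t) (a' : ℕ) (ha' : a' < d k') (y : (k : Fin t) × Fin (d k)) :
    (jordanNil F d * g) ⟨k', ⟨a', ha'⟩⟩ y =
      if h : 1 ≤ a' then g ⟨k', ⟨a' - 1, by omega⟩⟩ y else 0 := by
  rw [Matrix.mul_apply]
  split_ifs with h
  · rw [Finset.sum_eq_single (⟨k', ⟨a' - 1, by omega⟩⟩ : (k : Fin t) × Fin (d k))]
    · have : a' = a' - 1 + 1 := by omega
      simp [jordanNil, ← this]
    · intro z _ hz
      have : ¬ (k' = z.1 ∧ a' = (z.2 : ℕ) + 1) := by
        rintro ⟨h1, h2⟩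
        apply hz
        obtain ⟨z1, z2⟩ := z
        simp only at h1 h2
        subst h1
        congr 1
        apply Fin.ext
        simp only
        omega
      simp [jordanNil, this]
    · intro hh; exact absurd (Finset.mem_univ _) hh
  · apply Finset.sum_eq_zero
    intro z _
    have : ¬ (k' = z.1 ∧ a' = (z.2 : ℕ) + 1) := by
      rintro ⟨_, h2⟩
      omega
    simp [jordanNil, this]

/-- the matrix commuting with `N` whose column at `(k,0)` is `W k` -/
def centMat (W : Fin t → ((k : Fin t) × Fin (d k)) → F) :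
    Matrix ((k : Fin t) × Fin (d k)) ((k : Fin t) × Fin (d k)) F :=
  Matrix.of fun x y =>
    if h : (y.2 : ℕ) ≤ (x.2 : ℕ) then
      W y.1 ⟨x.1, ⟨(x.2 : ℕ) - (y.2 : ℕ), lt_of_le_of_lt (Nat.sub_le _ _) x.2.isLt⟩⟩
    else 0

/-- the condition `N ^ (d k) (W k) = 0` on the columns -/
def IsCentCols (W : Fin t → ((k : Fin t) × Fin (d k)) → F) : Prop :=
  ∀ (k k' : Fin t) (a' : ℕ) (ha' : a' < d k'), a' + d k < d k' → W k ⟨k', ⟨a', ha'⟩⟩ = 0

theorem centMat_apply_mk (W : Fin t → ((k : Fin t) × Fin (d k)) → F)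
    (k' : Fin t) (a' : ℕ) (ha' : a' < d k') (k : Fin t) (a : ℕ) (ha : a < d k) :
    centMat d W ⟨k', ⟨a', ha'⟩⟩ ⟨k, ⟨a, ha⟩⟩ =
      if h : a ≤ a' then W k ⟨k', ⟨a' - a, by omega⟩⟩ else 0 := rfl

theorem centMat_apply_zero (W : Fin t → ((k : Fin t) × Fin (d k)) → F)
    (x : (k : Fin t) × Fin (d k)) (k : Fin t) (h0 : 0 < d k) :
    centMat d W x ⟨k, ⟨0, h0⟩⟩ = W k x := by
  obtain ⟨k', a', ha'⟩ := x
  rw [centMat_apply_mk, dif_pos (Nat.zero_le _)]
  rfl

/-- a matrix commuting with `N` is determined by its columns at the `(k,0)` -/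
theorem apply_of_commute_jordanNil
    (g : Matrix ((k : Fin t) × Fin (d k)) ((k : Fin t) × Fin (d k)) F)
    (hg : g * jordanNil F d = jordanNil F d * g) (k : Fin t) (h0 : 0 < d k) :
    ∀ (a : ℕ) (ha : a < d k) (k' : Fin t) (a' : ℕ) (ha' : a' < d k'),
      g ⟨k', ⟨a', ha'⟩⟩ ⟨k, ⟨a, ha⟩⟩ =
        if h : a ≤ a' then g ⟨k', ⟨a' - a, by omega⟩⟩ ⟨k, ⟨0, h0⟩⟩ else 0 := by
  intro a
  induction a with
  | zero =>
    intro ha k' a' ha'
    rw [dif_pos (Nat.zero_le _)]
    rfl
  | succ a ih =>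
    intro ha k' a' ha'
    have h1 := congrFun (congrFun hg ⟨k', ⟨a', ha'⟩⟩) ⟨k, ⟨a, by omega⟩⟩
    rw [mul_jordanNil_apply, jordanNil_mul_apply, dif_pos ha] at h1
    rw [h1]
    rcases Nat.eq_zero_or_pos a' with h2 | h2
    · subst h2
      rw [dif_neg (by omega), dif_neg (by omega)]
    · have h2' : 1 ≤ a' := h2
      rw [dif_pos h2', ih (by omega) k' (a' - 1) (by omega)]
      by_cases h3 : a ≤ a' - 1
      · rw [dif_pos h3, dif_pos (by omega)]
        congr 3
        omega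
      · rw [dif_neg h3, dif_neg (by omega)]

theorem eq_centMat_of_commute_jordanNil (hd : ∀ k, 1 ≤ d k)
    (g : Matrix ((k : Fin t) × Fin (d k)) ((k : Fin t) × Fin (d k)) F)
    (hg : g * jordanNil F d = jordanNil F d * g) :
    g = centMat d (fun k x => g x ⟨k, ⟨0, hd k⟩⟩) := by
  ext ⟨k', a', ha'⟩ ⟨k, a, ha⟩
  rw [apply_of_commute_jordanNil d g hg k (hd k) a ha k' a' ha', centMat_apply_mk]

theorem isCentCols_of_commute_jordanNil (hd : ∀ k, 1 ≤ d k)
    (g : Matrix ((k : Fin t) × Fin (d k)) ((k : Fin t) × Fin (d k)) F)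
    (hg : g * jordanNil F d = jordanNil F d * g) :
    IsCentCols d (fun k x => g x ⟨k, ⟨0, hd k⟩⟩) := by
  intro k k' a' ha' hlt
  have hk := hd k
  have h1 := congrFun (congrFun hg ⟨k', ⟨a' + d k, hlt⟩⟩) ⟨k, ⟨d k - 1, by omega⟩⟩
  rw [mul_jordanNil_apply, jordanNil_mul_apply, dif_neg (by omega), dif_pos (by omega),
    apply_of_commute_jordanNil d g hg k (hd k), dif_pos (by omega)] at h1
  simp only
  rw [h1]
  congr 3
  omega

theorem centMat_commute (W : Fin t → ((k : Fin t) × Fin (d k)) → F) (hW : IsCentCols d W) :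
    centMat d W * jordanNil F d = jordanNil F d * centMat d W := by
  ext ⟨k', a', ha'⟩ ⟨k, a, ha⟩
  rw [mul_jordanNil_apply, jordanNil_mul_apply]
  by_cases h1 : a + 1 < d k
  · rw [dif_pos h1, centMat_apply_mk]
    by_cases h2 : a + 1 ≤ a'
    · rw [dif_pos h2, dif_pos (by omega), centMat_apply_mk, dif_pos (by omega)]
      congr 3
      omega
    · rw [dif_neg h2]
      by_cases h3 : 1 ≤ a'
      · rw [dif_pos h3, centMat_apply_mk, dif_neg (by omega)]
      · rw [dif_neg h3]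
  · rw [dif_neg h1]
    by_cases h3 : 1 ≤ a'
    · rw [dif_pos h3, centMat_apply_mk]
      by_cases h4 : a ≤ a' - 1
      · rw [dif_pos h4]
        symm
        apply hW
        omega
      · rw [dif_neg h4]
    · rw [dif_neg h3]

end

end Cfsg.Agent.Lib.Helper43
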