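/-
helper43: invertibility of a matrix commuting with the unipotent matrix of a given Jordan type,
in terms of the diagonal blocks at the generators (block triangular determinant).
-/
import Cfsg.Agent.Lib.Helper43.GLUnipCentStruct

set_option autoImplicit false

namespace Cfsg.Agent.Lib.Helper43

open Matrix

section

variable {F : Type*} [Field F] {t : ℕ} (d : Fin t → ℕ)

/-- the block order: by height `d k - a`, then by decreasing `a` -/
def centOrd (x : (k : Fin t) × Fin (d k)) : ℤ ×ₗ ℤ :=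
  toLex ((d x.1 : ℤ) - ((x.2 : ℕ) : ℤ), -((x.2 : ℕ) : ℤ))

theorem centMat_blockTriangular (W : Fin t → ((k : Fin t) × Fin (d k)) → F)
    (hW : IsCentCols d W) : (centMat d W).BlockTriangular (centOrd d) := by
  rintro ⟨k', a', ha'⟩ ⟨k, a, ha⟩ hlt
  rw [centMat_apply_mk]
  by_cases h : a ≤ a'
  · rw [dif_pos h]
    apply hW
    simp only [centOrd, Prod.Lex.toLex_lt_toLex] at hlt
    omega
  · rw [dif_neg h]

/-- the diagonal block of size `a_i` attached to the blocks of size `i` -/
def lamMat (hd : ∀ k, 1 ≤ d k) (W : Fin t → ((k : Fin t) × Fin (d k)) → F) (i : ℕ) :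
    Matrix {k : Fin t // d k = i} {k : Fin t // d k = i} F :=
  Matrix.of fun k' k => W k.1 ⟨k'.1, ⟨0, hd k'.1⟩⟩

/-- the blocks of the order `centOrd` -/
def centBlockEquiv (x₀ : (k : Fin t) × Fin (d k)) :
    {k : Fin t // d k = d x₀.1} ≃ {x : (k : Fin t) × Fin (d k) // centOrd d x = centOrd d x₀} where
  toFun k := ⟨⟨k.1, ⟨x₀.2, by rw [k.2]; exact x₀.2.isLt⟩⟩, by simp [centOrd, k.2]⟩
  invFun x := ⟨x.1.1, by
    have := x.2
    simp only [centOrd, toLex_inj, Prod.mk.injEq] at this
    omega⟩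
  left_inv k := rfl
  right_inv x := by
    obtain ⟨⟨k, a, ha⟩, hx⟩ := x
    have h1 : a = x₀.2 := by
      simp only [centOrd, toLex_inj, Prod.mk.injEq] at hx
      omega
    subst h1
    rfl

theorem det_toSquareBlock_centMat (hd : ∀ k, 1 ≤ d k)
    (W : Fin t → ((k : Fin t) × Fin (d k)) → F) (x₀ : (k : Fin t) × Fin (d k)) :
    ((centMat d W).toSquareBlock (centOrd d) (centOrd d x₀)).det =
      (lamMat d hd W (d x₀.1)).det := by
  rw [← Matrix.det_submatrix_equiv_self (centBlockEquiv d x₀)]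
  congr 1
  ext k' k
  simp only [Matrix.submatrix_apply, Matrix.toSquareBlock_def, Matrix.of_apply, centBlockEquiv,
    Equiv.coe_fn_mk, lamMat]
  rw [centMat_apply_mk, dif_pos le_rfl]
  congr 3
  exact Nat.sub_self _

theorem det_centMat_ne_zero_iff (hd : ∀ k, 1 ≤ d k)
    (W : Fin t → ((k : Fin t) × Fin (d k)) → F) (hW : IsCentCols d W) :
    (centMat d W).det ≠ 0 ↔ ∀ i : ℕ, (lamMat d hd W i).det ≠ 0 := by
  rw [(centMat_blockTriangular d W hW).det, Finset.prod_ne_zero_iff]
  constructor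
  · intro h i
    by_cases hi : ∃ k, d k = i
    · obtain ⟨k, rfl⟩ := hi
      have := h (centOrd d ⟨k, ⟨0, hd k⟩⟩) (Finset.mem_image_of_mem _ (Finset.mem_univ _))
      rwa [det_toSquareBlock_centMat d hd] at this
    · haveI : IsEmpty {k : Fin t // d k = i} := ⟨fun k => hi ⟨k.1, k.2⟩⟩
      rw [Matrix.det_isEmpty]
      exact one_ne_zero
  · intro h β hβ
    obtain ⟨x₀, _, rfl⟩ := Finset.mem_image.mp hβ
    rw [det_toSquareBlock_centMat d hd]
    exact h _

end

end Cfsg.Agent.Lib.Helper43
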