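/-
helper43: the centralizer in GL of the unipotent matrix of a given Jordan type is in bijection
with a product of general linear groups and an affine space.
-/
import Cfsg.Agent.Lib.Helper43.GLUnipCentDet

set_option autoImplicit false

namespace Cfsg.Agent.Lib.Helper43

open Matrix

section

variable {F : Type*} [Field F] {t : ℕ} (d : Fin t → ℕ)

/-- the admissible generator columns with invertible diagonal blocks -/
def GoodCols (F : Type*) [Field F] {t : ℕ} (d : Fin t → ℕ) (hd : ∀ k, 1 ≤ d k) : Type _ :=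
  {W : Fin t → ((k : Fin t) × Fin (d k)) → F //
    IsCentCols d W ∧ ∀ i : ℕ, (lamMat d hd W i).det ≠ 0}

theorem GL_det_ne_zero {n : Type*} [Fintype n] [DecidableEq n] (g : GL n F) :
    (g : Matrix n n F).det ≠ 0 :=
  ((Matrix.isUnit_iff_isUnit_det _).mp g.isUnit).ne_zero

/-- the generator columns of a centralizing element -/
noncomputable def centToCols (hd : ∀ k, 1 ≤ d k) :
    {g : GL ((k : Fin t) × Fin (d k)) F //
      (g : Matrix ((k : Fin t) × Fin (d k)) ((k : Fin t) × Fin (d k)) F) *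
        Cfsg.jordanTypeMatrix d F = Cfsg.jordanTypeMatrix d F *
          (g : Matrix ((k : Fin t) × Fin (d k)) ((k : Fin t) × Fin (d k)) F)} →
      GoodCols F d hd := fun g =>
  ⟨fun k x => (g.1 : Matrix ((k : Fin t) × Fin (d k)) ((k : Fin t) × Fin (d k)) F) x
      ⟨k, ⟨0, hd k⟩⟩, by
    have hg := (commute_jordanTypeMatrix_iff d _).mp g.2
    refine ⟨isCentCols_of_commute_jordanNil d hd _ hg, ?_⟩
    rw [← det_centMat_ne_zero_iff d hd _ (isCentCols_of_commute_jordanNil d hd _ hg),
      ← eq_centMat_of_commute_jordanNil d hd _ hg]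
    exact GL_det_ne_zero g.1⟩

theorem centToCols_bijective (hd : ∀ k, 1 ≤ d k) :
    Function.Bijective (centToCols (F := F) d hd) := by
  constructor
  · intro g g' h
    have hg := (commute_jordanTypeMatrix_iff d _).mp g.2
    have hg' := (commute_jordanTypeMatrix_iff d _).mp g'.2
    have h1 := eq_centMat_of_commute_jordanNil d hd _ hg
    have h2 := eq_centMat_of_commute_jordanNil d hd _ hg'
    have h3 : (fun k x => (g.1 : Matrix ((k : Fin t) × Fin (d k)) ((k : Fin t) × Fin (d k)) F) x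
        ⟨k, ⟨0, hd k⟩⟩) = (fun k x =>
        (g'.1 : Matrix ((k : Fin t) × Fin (d k)) ((k : Fin t) × Fin (d k)) F) x
        ⟨k, ⟨0, hd k⟩⟩) := congrArg Subtype.val h
    apply Subtype.ext
    apply Units.ext
    rw [h1, h2, h3]
  · rintro ⟨W, hW, hdet⟩
    have h1 : (centMat d W).det ≠ 0 := (det_centMat_ne_zero_iff d hd W hW).mpr hdet
    refine ⟨⟨Matrix.GeneralLinearGroup.mkOfDetNeZero (centMat d W) h1, ?_⟩, ?_⟩
    · rw [commute_jordanTypeMatrix_iff]
      exact centMat_commute d W hW
    · apply Subtype.ext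
      funext k x
      exact centMat_apply_zero d W x k (hd k)

theorem card_centralizer_eq_card_goodCols (hd : ∀ k, 1 ≤ d k) :
    Nat.card {g : GL ((k : Fin t) × Fin (d k)) F //
      (g : Matrix ((k : Fin t) × Fin (d k)) ((k : Fin t) × Fin (d k)) F) *
        Cfsg.jordanTypeMatrix d F = Cfsg.jordanTypeMatrix d F *
          (g : Matrix ((k : Fin t) × Fin (d k)) ((k : Fin t) × Fin (d k)) F)} =
      Nat.card (GoodCols F d hd) :=
  Nat.card_congr (Equiv.ofBijective _ (centToCols_bijective d hd))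

/-- the free positions off the diagonal blocks -/
abbrev FreePos : Type :=
  {p : Fin t × ((k : Fin t) × Fin (d k)) //
    d p.2.1 ≤ (p.2.2 : ℕ) + d p.1 ∧ ¬ (d p.2.1 = d p.1 ∧ (p.2.2 : ℕ) = 0)}

/-- columns from diagonal blocks and free entries -/
noncomputable def mkCols
    (G : ∀ i : Fin (Finset.univ.sup d + 1), GL {k : Fin t // d k = (i : ℕ)} F)
    (r : FreePos d → F) : Fin t → ((k : Fin t) × Fin (d k)) → F := fun k x =>
  if h₀ : d x.1 = d k ∧ (x.2 : ℕ) = 0 then
    (G ⟨d k, Nat.lt_succ_of_le (Finset.le_sup (Finset.mem_univ k))⟩ :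
      Matrix {k' : Fin t // d k' = d k} {k' : Fin t // d k' = d k} F) ⟨x.1, h₀.1⟩ ⟨k, rfl⟩
  else if h₁ : d x.1 ≤ (x.2 : ℕ) + d k then r ⟨(k, x), ⟨h₁, h₀⟩⟩ else 0

theorem mkCols_isCentCols
    (G : ∀ i : Fin (Finset.univ.sup d + 1), GL {k : Fin t // d k = (i : ℕ)} F)
    (r : FreePos d → F) : IsCentCols d (mkCols d G r) := by
  intro k k' a' ha' hlt
  unfold mkCols
  rw [dif_neg, dif_neg]
  · simp only; omega
  · simp only; omega

theorem lamMat_mkCols (hd : ∀ k, 1 ≤ d k)
    (G : ∀ i : Fin (Finset.univ.sup d + 1), GL {k : Fin t // d k = (i : ℕ)} F)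
    (r : FreePos d → F) (i : ℕ) (hi : i < Finset.univ.sup d + 1) :
    lamMat d hd (mkCols d G r) i =
      (G ⟨i, hi⟩ : Matrix {k' : Fin t // d k' = i} {k' : Fin t // d k' = i} F) := by
  ext ⟨k', hk'⟩ ⟨k, hk⟩
  subst hk
  simp only [lamMat, Matrix.of_apply, mkCols]
  rw [dif_pos ⟨hk', trivial⟩]

theorem mkCols_free
    (G : ∀ i : Fin (Finset.univ.sup d + 1), GL {k : Fin t // d k = (i : ℕ)} F)
    (r : FreePos d → F) (p : FreePos d) : mkCols d G r p.1.1 p.1.2 = r p := by
  obtain ⟨⟨k, x⟩, h1, h2⟩ := p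
  unfold mkCols
  simp only
  rw [dif_neg h2, dif_pos h1]

/-- the decomposition of the admissible columns -/
noncomputable def goodColsEquiv (hd : ∀ k, 1 ≤ d k) :
    GoodCols F d hd ≃
      (∀ i : Fin (Finset.univ.sup d + 1), GL {k : Fin t // d k = (i : ℕ)} F) × (FreePos d → F) where
  toFun W := (fun i => Matrix.GeneralLinearGroup.mkOfDetNeZero (lamMat d hd W.1 i) (W.2.2 i),
    fun p => W.1 p.1.1 p.1.2)
  invFun Gr := ⟨mkCols d Gr.1 Gr.2, mkCols_isCentCols d Gr.1 Gr.2, by
      intro i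
      by_cases hi : i < Finset.univ.sup d + 1
      · rw [lamMat_mkCols d hd Gr.1 Gr.2 i hi]
        exact GL_det_ne_zero _
      · have : IsEmpty {k : Fin t // d k = i} := ⟨fun k => hi (by
          rw [← k.2]
          exact Nat.lt_succ_of_le (Finset.le_sup (Finset.mem_univ k.1)))⟩
        rw [Matrix.det_isEmpty]
        exact one_ne_zero⟩
  left_inv W := by
    apply Subtype.ext
    funext k x
    simp only [mkCols]
    split_ifs with h₀ h₁
    · simp only [Matrix.GeneralLinearGroup.mkOfDetNeZero, lamMat]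
      obtain ⟨k', a', ha'⟩ := x
      simp only at h₀
      obtain ⟨h2, h3⟩ := h₀
      subst h3
      rfl
    · rfl
    · obtain ⟨k', a', ha'⟩ := x
      symm
      apply W.2.1
      simp only at h₁
      omega
  right_inv Gr := by
    obtain ⟨G, r⟩ := Gr
    apply Prod.ext
    · funext i
      apply Units.ext
      exact lamMat_mkCols d hd G r i.1 i.2
    · funext p
      exact mkCols_free d G r p

end

end Cfsg.Agent.Lib.Helper43
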