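/-
helper43: counting the free positions of the centralizer of a unipotent matrix of given Jordan type,
and the order of GL over a general finite index type.
-/
import Cfsg.Agent.Lib.Helper43.GLUnipCentCount

set_option autoImplicit false

namespace Cfsg.Agent.Lib.Helper43

open Matrix

/-- number of free positions between a block of size `m` (column) and one of size `n` (row) -/
def freeCount (m n : ℕ) : ℕ := if m = n then m - 1 else min m n

theorem sum_fin_free (m n : ℕ) (hm : 1 ≤ m) (hn : 1 ≤ n) :
    (∑ a : Fin n, if n ≤ (a : ℕ) + m ∧ ¬ (n = m ∧ (a : ℕ) = 0) then 1 else 0) = freeCount m n := by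
  rw [Fin.sum_univ_eq_sum_range (fun a => if n ≤ a + m ∧ ¬ (n = m ∧ a = 0) then 1 else 0) n,
    ← Finset.card_filter]
  have : (Finset.range n).filter (fun a => n ≤ a + m ∧ ¬ (n = m ∧ a = 0)) =
      Finset.Ico (if m = n then 1 else n - m) n := by
    ext a
    simp only [Finset.mem_filter, Finset.mem_range, Finset.mem_Ico]
    split_ifs with h <;> omega
  rw [this, Nat.card_Ico]
  unfold freeCount
  split_ifs with h <;> omega

section

variable {t : ℕ} (d : Fin t → ℕ)

theorem sum_comp_blockSize (f : ℕ → ℕ) :
    ∑ k, f (d k) = ∑ i ∈ Finset.range (Finset.univ.sup d + 1),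
      (Finset.univ.filter (fun k : Fin t => d k = i)).card * f i := by
  rw [← Finset.sum_fiberwise_of_maps_to (s := Finset.univ) (t := Finset.range (Finset.univ.sup d + 1))
    (g := d) (f := fun k => f (d k))]
  · apply Finset.sum_congr rfl
    intro i _
    rw [Finset.sum_congr rfl (g := fun _ => f i), Finset.sum_const, smul_eq_mul]
    intro k hk
    rw [(Finset.mem_filter.mp hk).2]
  · intro k _
    exact Finset.mem_range.mpr (Nat.lt_succ_of_le (Finset.le_sup (Finset.mem_univ k)))

theorem card_freePos (hd : ∀ k, 1 ≤ d k) :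
    Nat.card (FreePos d) = ∑ k, ∑ k', freeCount (d k) (d k') := by
  rw [Nat.card_eq_fintype_card, Fintype.card_subtype, Finset.card_filter, Fintype.sum_prod_type]
  apply Finset.sum_congr rfl
  intro k _
  rw [Fintype.sum_sigma]
  apply Finset.sum_congr rfl
  intro k' _
  exact sum_fin_free (d k) (d k') (hd k) (hd k')

theorem sum_freeCount_eq (s : Finset ℕ) (α : ℕ → ℕ) :
    ∑ i ∈ s, α i * ∑ j ∈ s, α j * freeCount i j =
      2 * (∑ i ∈ s, ∑ j ∈ s, if i < j then i * α i * α j else 0) +
        ∑ i ∈ s, (i - 1) * α i ^ 2 := by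
  have h1 : ∀ i ∈ s, α i * ∑ j ∈ s, α j * freeCount i j =
      (∑ j ∈ s, if i < j then i * α i * α j else 0) +
        (∑ j ∈ s, if j < i then j * α j * α i else 0) + (i - 1) * α i ^ 2 := by
    intro i hi
    have h2 : (i - 1) * α i ^ 2 = ∑ j ∈ s, if i = j then (j - 1) * α j ^ 2 else 0 := by
      rw [Finset.sum_ite_eq, if_pos hi]
    rw [h2, Finset.mul_sum, ← Finset.sum_add_distrib, ← Finset.sum_add_distrib]
    apply Finset.sum_congr rfl
    intro j _
    unfold freeCount
    rcases lt_trichotomy i j with h | h | h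
    · rw [if_pos h, if_neg (show ¬ j < i by omega), if_neg (show ¬ i = j by omega),
        if_neg (show ¬ i = j by omega), min_eq_left h.le]
      ring
    · subst h
      rw [if_neg (show ¬ i < i by omega), if_pos rfl, if_pos rfl]
      ring
    · rw [if_neg (show ¬ i < j by omega), if_pos h, if_neg (show ¬ i = j by omega),
        if_neg (show ¬ i = j by omega), min_eq_right h.le]
      ring
  rw [Finset.sum_congr rfl h1, Finset.sum_add_distrib, Finset.sum_add_distrib, two_mul]
  congr 2
  rw [Finset.sum_comm]

theorem card_freePos_eq (hd : ∀ k, 1 ≤ d k) :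
    Nat.card (FreePos d) =
      2 * (∑ i ∈ Finset.range (Finset.univ.sup d + 1), ∑ j ∈ Finset.range (Finset.univ.sup d + 1),
        if i < j then i * (Finset.univ.filter (fun k : Fin t => d k = i)).card *
          (Finset.univ.filter (fun k : Fin t => d k = j)).card else 0) +
        ∑ i ∈ Finset.range (Finset.univ.sup d + 1),
          (i - 1) * (Finset.univ.filter (fun k : Fin t => d k = i)).card ^ 2 := by
  rw [card_freePos d hd, ← sum_freeCount_eq]
  rw [sum_comp_blockSize d (fun i => ∑ k', freeCount i (d k'))]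
  apply Finset.sum_congr rfl
  intro i _
  rw [sum_comp_blockSize d (fun j => freeCount i j)]

end

section

variable (F : Type*) [Field F] [Fintype F]

theorem card_GL_fintype (n : Type*) [Fintype n] [DecidableEq n] :
    Nat.card (GL n F) = ∏ j : Fin (Fintype.card n),
      (Fintype.card F ^ Fintype.card n - Fintype.card F ^ (j : ℕ)) := by
  rw [← Matrix.card_GL_field]
  exact Nat.card_congr
    (Units.mapEquiv (Matrix.reindexRingEquiv F (Fintype.equivFin n)).toMulEquiv).toEquiv

theorem card_goodCols {t : ℕ} (d : Fin t → ℕ) (hd : ∀ k, 1 ≤ d k) :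
    Nat.card (GoodCols F d hd) =
      (∏ i : Fin (Finset.univ.sup d + 1), Nat.card (GL {k : Fin t // d k = (i : ℕ)} F)) *
        Fintype.card F ^ Nat.card (FreePos d) := by
  rw [Nat.card_congr (goodColsEquiv d hd), Nat.card_prod, Nat.card_pi, Nat.card_fun,
    Nat.card_eq_fintype_card (α := F)]

end

end Cfsg.Agent.Lib.Helper43
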