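/-
helper43: the "half the weight" quadratic form on even-weight vectors over `ZMod 2`.
-/
import Mathlib

set_option autoImplicit false

namespace Cfsg.Agent.Lib.Helper43

open Matrix

variable {X : Type*} [Fintype X]

/-- the weight of a vector over `ZMod 2` -/
def wt (w : X → ZMod 2) : ℕ := ∑ x, (w x).val

theorem wt_cast (w : X → ZMod 2) : ((wt w : ℕ) : ZMod 2) = ∑ x, w x := by
  unfold wt
  push_cast
  apply Finset.sum_congr rfl
  intro x _
  exact ZMod.natCast_zmod_val (w x)

theorem wt_add (u w : X → ZMod 2) : wt (u + w) + 2 * wt (u * w) = wt u + wt w := by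
  unfold wt
  rw [Finset.mul_sum, ← Finset.sum_add_distrib, ← Finset.sum_add_distrib]
  apply Finset.sum_congr rfl
  intro x _
  simp only [Pi.add_apply, Pi.mul_apply]
  generalize u x = a
  generalize w x = b
  revert a b
  decide

theorem wt_mul_cast (u w : X → ZMod 2) : ((wt (u * w) : ℕ) : ZMod 2) = u ⬝ᵥ w := by
  rw [wt_cast]
  rfl

theorem wt_comp_equiv (σ : X ≃ X) (w : X → ZMod 2) : wt (fun x => w (σ x)) = wt w := by
  unfold wt
  exact Equiv.sum_comp σ (fun x => (w x).val)

theorem wt_add_one (w : X → ZMod 2) : wt (fun x => w x + 1) + wt w = Fintype.card X := by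
  unfold wt
  rw [← Finset.sum_add_distrib]
  have : ∀ x, (w x + 1).val + (w x).val = 1 := by
    intro x
    generalize w x = a
    revert a
    decide
  simp only [this, Finset.sum_const, Finset.card_univ, smul_eq_mul, mul_one]

/-- half the weight, modulo 2 -/
def halfWt (w : X → ZMod 2) : ZMod 2 := ((wt w / 2 : ℕ) : ZMod 2)

theorem even_wt_of_sum_eq_zero {w : X → ZMod 2} (hw : ∑ x, w x = 0) : Even (wt w) := by
  rw [← wt_cast] at hw
  exact (ZMod.natCast_eq_zero_iff_even).mp hw

/-- the polarization identity for the half weight -/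
theorem halfWt_add {u w : X → ZMod 2} (hu : ∑ x, u x = 0) (hw : ∑ x, w x = 0) :
    halfWt (u + w) = halfWt u + halfWt w + u ⬝ᵥ w := by
  obtain ⟨a, ha⟩ := even_wt_of_sum_eq_zero hu
  obtain ⟨b, hb⟩ := even_wt_of_sum_eq_zero hw
  have h1 := wt_add u w
  rw [← wt_mul_cast]
  unfold halfWt
  set c := wt (u * w)
  have h2 : wt (u + w) = 2 * (a + b - c) := by omega
  have h3 : c ≤ a + b := by omega
  rw [h2, ha, hb]
  have e1 : 2 * (a + b - c) / 2 = a + b - c := by omega
  have e2 : (a + a) / 2 = a := by omega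
  have e3 : (b + b) / 2 = b := by omega
  rw [e1, e2, e3, Nat.cast_sub h3]
  push_cast
  have : ∀ z : ZMod 2, -z = z := by decide
  rw [sub_eq_add_neg, this]

theorem halfWt_comp_equiv (σ : X ≃ X) (w : X → ZMod 2) : halfWt (fun x => w (σ x)) = halfWt w := by
  unfold halfWt
  rw [wt_comp_equiv]

/-- on a set of size divisible by 4, complementing does not change the half weight of an
even-weight vector -/
theorem halfWt_add_one {w : X → ZMod 2} (hw : ∑ x, w x = 0) (hcard : 4 ∣ Fintype.card X) :
    halfWt (fun x => w x + 1) = halfWt w := by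
  obtain ⟨a, ha⟩ := even_wt_of_sum_eq_zero hw
  obtain ⟨n, hn⟩ := hcard
  have h1 := wt_add_one w
  unfold halfWt
  have h2 : wt (fun x => w x + 1) = 2 * (2 * n - a) := by omega
  have h3 : a ≤ 2 * n := by omega
  rw [h2, ha]
  have e1 : 2 * (2 * n - a) / 2 = 2 * n - a := by omega
  have e2 : (a + a) / 2 = a := by omega
  rw [e1, e2, Nat.cast_sub h3]
  push_cast
  have h4 : (2 : ZMod 2) = 0 := by decide
  have : ∀ z : ZMod 2, -z = z := by decide
  rw [h4, zero_mul, zero_sub, this]

end Cfsg.Agent.Lib.Helper43
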