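/-
helper43: a unipotent matrix of Jordan type `d` similar to an isometry of a non-degenerate
alternating form has an even number of blocks of each odd size.
-/
import Cfsg.Agent.Lib.Helper43.JordanRank
import Cfsg.Agent.Lib.Helper36.AltEven

set_option autoImplicit false

namespace Cfsg.Agent.Lib.Helper43

open Matrix Module

variable {F : Type*} [Field F] {ι : Type*} [Fintype ι] [DecidableEq ι]

/-- for an isometry `A` of a non-degenerate form `Ω` and `N = A - 1`: `(N^l)ᵀ Ω N^l` is an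
invertible multiple of `N^(2l)` -/
theorem exists_unit_mul_pow_two_mul (Ω A : Matrix ι ι F) (hΩ : IsUnit Ω.det)
    (hA : Aᵀ * Ω * A = Ω) (l : ℕ) :
    ∃ P : Matrix ι ι F, IsUnit P.det ∧
      ((A - 1) ^ l)ᵀ * Ω * (A - 1) ^ l = P * (A - 1) ^ (2 * l) := by
  have hAdet : IsUnit A.det := by
    have h := congrArg Matrix.det hA
    rw [Matrix.det_mul, Matrix.det_mul, Matrix.det_transpose] at h
    have h0 : Ω.det ≠ 0 := hΩ.ne_zero
    rw [isUnit_iff_ne_zero]
    intro hz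
    rw [hz, zero_mul, zero_mul] at h
    exact h0 h.symm
  have hAA : A * A⁻¹ = 1 := Matrix.mul_nonsing_inv A hAdet
  have hAA' : A⁻¹ * A = 1 := Matrix.nonsing_inv_mul A hAdet
  have h1 : Aᵀ * Ω = Ω * A⁻¹ := by
    calc Aᵀ * Ω = Aᵀ * Ω * (A * A⁻¹) := by rw [hAA, mul_one]
      _ = (Aᵀ * Ω * A) * A⁻¹ := by simp only [mul_assoc]
      _ = Ω * A⁻¹ := by rw [hA]
  have h2 : (A - 1)ᵀ * Ω = Ω * (A⁻¹ - 1) := by
    rw [Matrix.transpose_sub, Matrix.transpose_one, sub_mul, one_mul, h1, mul_sub, mul_one]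
  have h3 : ∀ k : ℕ, ((A - 1)ᵀ) ^ k * Ω = Ω * (A⁻¹ - 1) ^ k := by
    intro k
    induction k with
    | zero => simp
    | succ k ih =>
      rw [pow_succ, mul_assoc, h2, ← mul_assoc, ih, mul_assoc, ← pow_succ]
  have h4 : A⁻¹ - 1 = -(A⁻¹ * (A - 1)) := by
    rw [mul_sub, hAA', mul_one]; abel
  have hcomm : Commute A⁻¹ (A - 1) := by
    have : Commute A⁻¹ A := hAA'.trans hAA.symm
    exact this.sub_right (Commute.one_right _)
  refine ⟨Ω * ((-1 : Matrix ι ι F) ^ l * (A⁻¹) ^ l), ?_, ?_⟩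
  · rw [Matrix.det_mul, Matrix.det_mul, Matrix.det_pow A⁻¹]
    refine hΩ.mul (IsUnit.mul ?_ ?_)
    · have h5 : ((-1 : Matrix ι ι F) ^ l) * ((-1 : Matrix ι ι F) ^ l) = 1 := by
        rw [← pow_add, ← two_mul, pow_mul, neg_one_sq, one_pow]
      have h6 := congrArg Matrix.det h5
      rw [Matrix.det_mul, Matrix.det_one] at h6
      exact IsUnit.of_mul_eq_one _ h6
    · exact IsUnit.pow _ (Matrix.isUnit_nonsing_inv_det A hAdet)
  · rw [Matrix.transpose_pow, h3, h4, neg_pow, hcomm.mul_pow, two_mul, pow_add]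
    simp only [mul_assoc]

/-- an isometry `A` of a non-degenerate alternating form: `(A - 1)^(2l)` has even rank -/
theorem even_rank_sub_one_pow (Ω A : Matrix ι ι F) (hΩ : IsUnit Ω.det)
    (halt : ∀ x : ι → F, x ⬝ᵥ Ω *ᵥ x = 0) (hA : Aᵀ * Ω * A = Ω) (l : ℕ) :
    Even ((A - 1) ^ (2 * l)).rank := by
  obtain ⟨P, hP, hPeq⟩ := exists_unit_mul_pow_two_mul Ω A hΩ hA l
  rw [← Matrix.rank_mul_eq_right_of_isUnit_det P _ hP, ← hPeq]
  apply Cfsg.Agent.Lib.Helper36.even_rank_of_alt_matrix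
  intro x
  rw [← Matrix.mulVec_mulVec, ← Matrix.mulVec_mulVec, Matrix.dotProduct_mulVec,
    Matrix.vecMul_transpose]
  exact halt _

/-- the ranks of the powers of `A - 1` for a matrix similar to a unipotent matrix of Jordan type
`d` -/
theorem rank_sub_one_pow_of_isConj {t : ℕ} (d : Fin t → ℕ) (e : ((k : Fin t) × Fin (d k)) ≃ ι)
    (A : Matrix ι ι F)
    (hconj : IsConj (Matrix.reindex e e (Cfsg.jordanTypeMatrix d F)) A) (k : ℕ) :
    ((A - 1) ^ k).rank = ∑ i, (d i - k) := by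
  obtain ⟨c, hc⟩ := hconj
  have hcdet : IsUnit (c : Matrix ι ι F).det := (Matrix.isUnit_iff_isUnit_det _).mp c.isUnit
  have h1 : SemiconjBy (c : Matrix ι ι F) (Matrix.reindex e e (Cfsg.jordanTypeMatrix d F) - 1)
      (A - 1) := by
    show (c : Matrix ι ι F) * _ = _ * (c : Matrix ι ι F)
    rw [mul_sub, sub_mul, mul_one, one_mul, hc.eq]
  have h2 := (h1.pow_right k).eq
  have h3 : Matrix.reindex e e (Cfsg.jordanTypeMatrix d F) - 1 =
      Matrix.reindexAlgEquiv F F e (Cfsg.jordanTypeMatrix d F - 1) := by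
    rw [map_sub, map_one]
    rfl
  rw [← Matrix.rank_mul_eq_left_of_isUnit_det (c : Matrix ι ι F) _ hcdet, ← h2,
    Matrix.rank_mul_eq_right_of_isUnit_det _ _ hcdet, h3, ← map_pow]
  show (Matrix.reindex e e _).rank = _
  rw [Matrix.rank_reindex, rank_jordanTypeMatrix_sub_one_pow]

/-- a unipotent matrix of Jordan type `d` similar to an isometry of a non-degenerate alternating
form has an even number of blocks of each odd size -/
theorem even_card_of_isConj_alt {t : ℕ} (d : Fin t → ℕ) (e : ((k : Fin t) × Fin (d k)) ≃ ι)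
    (Ω A : Matrix ι ι F) (hΩ : IsUnit Ω.det)
    (halt : ∀ x : ι → F, x ⬝ᵥ Ω *ᵥ x = 0) (hA : Aᵀ * Ω * A = Ω)
    (hconj : IsConj (Matrix.reindex e e (Cfsg.jordanTypeMatrix d F)) A) (j : ℕ) (hj : Odd j) :
    Even (Finset.univ.filter (fun k : Fin t => d k = j)).card := by
  obtain ⟨l, rfl⟩ := hj
  have h1 := card_filter_add_two_mul d (2 * l + 1) (by omega)
  have h2 := even_rank_sub_one_pow Ω A hΩ halt hA l
  have h3 := even_rank_sub_one_pow Ω A hΩ halt hA (l + 1)
  rw [rank_sub_one_pow_of_isConj d e A hconj] at h2 h3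
  have e1 : 2 * l + 1 - 1 = 2 * l := by omega
  have e2 : 2 * l + 1 + 1 = 2 * (l + 1) := by omega
  rw [e1, e2] at h1
  have h4 : Even ((Finset.univ.filter (fun k : Fin t => d k = 2 * l + 1)).card +
      2 * ∑ i, (d i - (2 * l + 1))) := by
    rw [h1]; exact h2.add h3
  exact (Nat.even_add.mp h4).mpr (even_two_mul _)

end Cfsg.Agent.Lib.Helper43
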