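/-
helper43: in odd characteristic the Jordan block of odd size preserves a non-degenerate symmetric
bilinear form (anti-diagonal form with alternating signs, shift matrix skew, Cayley transform).
-/
import Cfsg.Agent.Lib.Helper43.JordanBlockAlt
import Cfsg.Agent.Lib.Helper43.SympRegUnip

set_option autoImplicit false

namespace Cfsg.Agent.Lib.Helper43

open Matrix Module

variable {F : Type*} [Field F] {n : ℕ}

/-- the anti-diagonal matrix with alternating signs -/
def antiDiagMat (n : ℕ) (F : Type*) [Field F] : Matrix (Fin n) (Fin n) F :=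
  Matrix.of fun i j => if Fin.rev i = j then (-1 : F) ^ (i : ℕ) else 0

theorem antiDiagMat_mul (M : Matrix (Fin n) (Fin n) F) (i j : Fin n) :
    (antiDiagMat n F * M) i j = (-1 : F) ^ (i : ℕ) * M (Fin.rev i) j := by
  simp [antiDiagMat, Matrix.mul_apply]

theorem mul_antiDiagMat (M : Matrix (Fin n) (Fin n) F) (i j : Fin n) :
    (M * antiDiagMat n F) i j = M i (Fin.rev j) * (-1 : F) ^ ((Fin.rev j : Fin n) : ℕ) := by
  simp only [antiDiagMat, Matrix.mul_apply, Matrix.of_apply, mul_ite, mul_zero]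
  rw [Finset.sum_eq_single (Fin.rev j)]
  · simp
  · intro k _ hk
    rw [if_neg]
    intro h
    apply hk
    rw [← h, Fin.rev_rev]
  · intro h; exact absurd (Finset.mem_univ _) h

theorem antiDiagMat_transpose (hn : Odd n) : (antiDiagMat n F)ᵀ = antiDiagMat n F := by
  ext i j
  simp only [antiDiagMat, Matrix.transpose_apply, Matrix.of_apply]
  by_cases h : Fin.rev i = j
  · rw [if_pos h, if_pos (by rw [← h, Fin.rev_rev])]
    subst h
    rw [Fin.val_rev]
    obtain ⟨r, hr⟩ := hn
    have hi := i.2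
    have h1 : n - ((i : ℕ) + 1) + (i : ℕ) = 2 * r := by omega
    have h2 : (-1 : F) ^ (n - ((i : ℕ) + 1)) * (-1 : F) ^ (i : ℕ) = 1 := by
      rw [← pow_add, h1, pow_mul, neg_one_sq, one_pow]
    have h3 : (-1 : F) ^ (i : ℕ) * (-1 : F) ^ (i : ℕ) = 1 := by
      rw [← pow_add, ← two_mul, pow_mul, neg_one_sq, one_pow]
    calc (-1 : F) ^ (n - ((i : ℕ) + 1)) = (-1 : F) ^ (n - ((i : ℕ) + 1)) *
          ((-1 : F) ^ (i : ℕ) * (-1 : F) ^ (i : ℕ)) := by rw [h3, mul_one]
      _ = (-1 : F) ^ (i : ℕ) := by rw [← mul_assoc, h2, one_mul]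
  · rw [if_neg h, if_neg (by intro h'; apply h; rw [← h', Fin.rev_rev])]

theorem antiDiagMat_mul_self (hn : Odd n) : antiDiagMat n F * antiDiagMat n F = 1 := by
  ext i j
  rw [antiDiagMat_mul]
  simp only [antiDiagMat, Matrix.of_apply, Fin.rev_rev, Matrix.one_apply]
  by_cases h : i = j
  · rw [if_pos h, if_pos h, Fin.val_rev]
    obtain ⟨r, hr⟩ := hn
    have hi := i.2
    have h1 : (i : ℕ) + (n - ((i : ℕ) + 1)) = 2 * r := by omega
    rw [← pow_add, h1, pow_mul, neg_one_sq, one_pow]
  · rw [if_neg h, if_neg h, mul_zero]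

theorem shiftMat_transpose_mul_antiDiagMat :
    (shiftMat n F)ᵀ * antiDiagMat n F = -(antiDiagMat n F * shiftMat n F) := by
  ext i j
  rw [Matrix.neg_apply, antiDiagMat_mul, mul_antiDiagMat]
  simp only [shiftMat, Matrix.transpose_apply, Matrix.of_apply, Fin.val_rev]
  have hi := i.2
  have hj := j.2
  by_cases h : (i : ℕ) = n - ((j : ℕ) + 1) + 1
  · rw [if_pos h, if_pos (by omega), one_mul, mul_one]
    have h1 : (i : ℕ) = (n - ((j : ℕ) + 1)) + 1 := h
    rw [h1, pow_succ]
    ring
  · rw [if_neg h, if_neg (by omega), zero_mul, mul_zero, neg_zero]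

/-- in odd characteristic the Jordan block of odd size preserves a non-degenerate symmetric form -/
theorem exists_formInv_jordanBlock_odd (h2 : (2 : F) ≠ 0) (n : ℕ) (hn : Odd n) :
    ∃ ω : Matrix (Fin n) (Fin n) F, FormInv (1 : F) False ω (Cfsg.jordanBlock n F) := by
  classical
  have hpos : 1 ≤ n := hn.pos
  set G := antiDiagMat n F with hG
  let B : (Fin n → F) →ₗ[F] (Fin n → F) →ₗ[F] F := Matrix.toBilin' G
  have hB : ∀ x y, B x y = x ⬝ᵥ G *ᵥ y := fun x y => Matrix.toBilin'_apply' G x y
  let S : Module.End F (Fin n → F) := Matrix.toLin' (shiftMat n F)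
  have hS : ∀ x, S x = shiftMat n F *ᵥ x := fun x => Matrix.toLin'_apply _ x
  have hfin : finrank F (Fin n → F) = n := Module.finrank_fin_fun F
  have hskew : ∀ x y, B (S x) y = - B x (S y) := by
    intro x y
    rw [hB, hB, hS, hS, ← Matrix.vecMul_transpose, ← Matrix.dotProduct_mulVec,
      Matrix.mulVec_mulVec, shiftMat_transpose_mul_antiDiagMat, Matrix.neg_mulVec,
      dotProduct_neg, Matrix.mulVec_mulVec]
  obtain ⟨U, Ui, hU⟩ := exists_regUnipIso_of_skew h2 B S hskew
    (finrank_ker_mulVecLin_le_one (shiftMat n F) (rank_shiftMat hpos))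
    (by
      rw [hfin]
      show (Matrix.toLin' (shiftMat n F)) ^ n = 0
      rw [← Matrix.toLin'_pow, shiftMat_pow_eq_zero, map_zero])
  set Um : Matrix (Fin n) (Fin n) F := LinearMap.toMatrix' U with hUm
  have hUmlin : Matrix.toLin' Um = U := Matrix.toLin'_toMatrix' U
  have hUm1 : Matrix.toLin' (Um - 1) = U - 1 := by
    rw [map_sub, hUmlin, Matrix.toLin'_one]
    rfl
  have hreg : IsRegUnip Um := by
    have hnil : (Um - 1) ^ n = 0 := by
      apply Matrix.toLin'.injective
      rw [Matrix.toLin'_pow, hUm1, map_zero]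
      have h3 := hU.nil
      rw [hfin] at h3
      exact h3
    refine ⟨hnil, ?_⟩
    have := rank_eq_card_sub_one (Um - 1)
      (by
        have hker : LinearMap.ker (Matrix.mulVecLin (Um - 1)) = LinearMap.ker (U - 1) := by
          rw [← hUm1]; rfl
        rw [hker]
        exact hU.ker_le)
      (by rw [Fintype.card_fin]; exact hnil) (by rw [Fintype.card_fin]; exact hpos)
    rw [Fintype.card_fin] at this
    exact this
  have hform : FormInv (1 : F) False G Um := by
    refine ⟨⟨G, antiDiagMat_mul_self hn⟩, ?_, fun h => h.elim, ?_⟩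
    · rw [one_smul]; exact antiDiagMat_transpose hn
    · ext i j
      rw [transpose_mul_mul_apply]
      have h1 : ∀ k : Fin n, (fun l => Um l k) = U (Pi.single k 1) := by
        intro k
        rw [← hUmlin, Matrix.toLin'_apply, Matrix.mulVec_single_one]
        rfl
      rw [h1, h1, ← hB, hU.iso, hB, Matrix.mulVec_single_one, dotProduct_comm,
        dotProduct_single_one]
      rfl
  obtain ⟨P, hP⟩ := hreg.exists_conj hpos (isRegUnip_jordanBlock n)
  exact ⟨_, hform.conj (fun h => h.elim)
    (P : Matrix (Fin n) (Fin n) F)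
    ((P⁻¹ : GL (Fin n) F) : Matrix (Fin n) (Fin n) F)
    (by rw [← Units.val_mul, mul_inv_cancel, Units.val_one]) hP⟩

end Cfsg.Agent.Lib.Helper43
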