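/-
helper43: a unipotent matrix of Jordan type `d` similar to an isometry of a non-degenerate
symmetric form (odd characteristic) has an even number of blocks of each even size.
-/
import Cfsg.Agent.Lib.Helper43.JordanAltRank

set_option autoImplicit false

namespace Cfsg.Agent.Lib.Helper43

open Matrix Module

variable {F : Type*} [Field F] {ι : Type*} [Fintype ι] [DecidableEq ι]

/-- a unipotent isometry `A` of a non-degenerate symmetric form in odd characteristic:
`(A - 1)^k` has even rank for odd `k` -/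
theorem even_rank_sub_one_pow_symm (h2 : (2 : F) ≠ 0) (Ω A : Matrix ι ι F) (hΩ : IsUnit Ω.det)
    (hsymm : Ωᵀ = Ω) (hA : Aᵀ * Ω * A = Ω) (hnil : IsNilpotent (A - 1)) (l : ℕ) :
    Even ((A - 1) ^ (2 * l + 1)).rank := by
  have hAdet : IsUnit A.det := by
    have h := congrArg Matrix.det hA
    rw [Matrix.det_mul, Matrix.det_mul, Matrix.det_transpose] at h
    have h0 : Ω.det ≠ 0 := hΩ.ne_zero
    rw [isUnit_iff_ne_zero]
    intro hz
    rw [hz, zero_mul, zero_mul] at h
    exact h0 h.symm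
  have hAA : A * A⁻¹ = 1 := Matrix.mul_nonsing_inv A hAdet
  have hAA' : A⁻¹ * A = 1 := Matrix.nonsing_inv_mul A hAdet
  have h1 : Aᵀ * Ω = Ω * A⁻¹ := by
    calc Aᵀ * Ω = Aᵀ * Ω * (A * A⁻¹) := by rw [hAA, mul_one]
      _ = (Aᵀ * Ω * A) * A⁻¹ := by simp only [mul_assoc]
      _ = Ω * A⁻¹ := by rw [hA]
  have h1' : (A⁻¹)ᵀ * Ω = Ω * A := by
    calc (A⁻¹)ᵀ * Ω = (A⁻¹)ᵀ * (Aᵀ * Ω * A) := by rw [hA]
      _ = ((A⁻¹)ᵀ * Aᵀ) * Ω * A := by simp only [mul_assoc]
      _ = Ω * A := by rw [← Matrix.transpose_mul, hAA, Matrix.transpose_one, one_mul]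
  set M : Matrix ι ι F := A - A⁻¹ with hM
  have hMΩ : Mᵀ * Ω = Ω * (-M) := by
    rw [hM, Matrix.transpose_sub, sub_mul, h1, h1', mul_neg, mul_sub]
    abel
  have hMk : ∀ k : ℕ, (Mᵀ) ^ k * Ω = Ω * (-M) ^ k := by
    intro k
    induction k with
    | zero => simp
    | succ k ih =>
      rw [pow_succ, mul_assoc, hMΩ, ← mul_assoc, ih, mul_assoc, ← pow_succ]
  set k := 2 * l + 1 with hk
  have hodd : Odd k := ⟨l, rfl⟩
  -- the alternating matrix
  have hKT : (Ω * M ^ k)ᵀ = -(Ω * M ^ k) := by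
    rw [Matrix.transpose_mul, hsymm, Matrix.transpose_pow, hMk, hodd.neg_pow, mul_neg]
  have halt : ∀ x : ι → F, x ⬝ᵥ (Ω * M ^ k) *ᵥ x = 0 := by
    intro x
    have h3 : x ⬝ᵥ (Ω * M ^ k) *ᵥ x = x ⬝ᵥ (Ω * M ^ k)ᵀ *ᵥ x := by
      rw [Matrix.mulVec_transpose, dotProduct_comm x (x ᵥ* _), ← Matrix.dotProduct_mulVec]
    rw [hKT, Matrix.neg_mulVec, dotProduct_neg] at h3
    have h4 : (2 : F) * (x ⬝ᵥ (Ω * M ^ k) *ᵥ x) = 0 := by linear_combination h3
    exact (mul_eq_zero.mp h4).resolve_left h2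
  have heven := Cfsg.Agent.Lib.Helper36.even_rank_of_alt_matrix (Ω * M ^ k) halt
  -- the rank
  have hcommA : Commute A⁻¹ A := hAA'.trans hAA.symm
  have hMW : M = (A⁻¹ * (A + 1)) * (A - 1) := by
    rw [hM, mul_assoc, add_mul, mul_sub, mul_sub, one_mul, mul_one, mul_one]
    have : A⁻¹ * (A * A - A + (A - 1)) = A - A⁻¹ := by
      rw [sub_add_sub_cancel, mul_sub, ← mul_assoc, hAA', one_mul, mul_one]
    exact this.symm
  have hWcomm : Commute (A⁻¹ * (A + 1)) (A - 1) := by
    have h5 : Commute A⁻¹ (A - 1) := hcommA.sub_right (Commute.one_right _)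
    have h6 : Commute (A + 1) (A - 1) :=
      ((Commute.refl A).sub_right (Commute.one_right A)).add_left (Commute.one_left _)
    exact h5.mul_left h6
  have hW : IsUnit (A⁻¹ * (A + 1)).det := by
    rw [Matrix.det_mul]
    refine (Matrix.isUnit_nonsing_inv_det A hAdet).mul ?_
    rw [← Matrix.isUnit_iff_isUnit_det]
    have h7 : A + 1 = algebraMap F (Matrix ι ι F) 2 + (A - 1) := by
      rw [map_ofNat]
      have : (2 : Matrix ι ι F) = 1 + 1 := by norm_num
      rw [this]; abel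
    rw [h7]
    have h2unit : IsUnit (algebraMap F (Matrix ι ι F) 2) :=
      (isUnit_iff_ne_zero.mpr h2).map (algebraMap F (Matrix ι ι F))
    exact hnil.isUnit_add_left_of_commute h2unit (Algebra.commutes _ _).symm
  rw [hMW, hWcomm.mul_pow, ← mul_assoc, Matrix.rank_mul_eq_right_of_isUnit_det] at heven
  · exact heven
  · rw [Matrix.det_mul, Matrix.det_pow]
    exact hΩ.mul (hW.pow k)

/-- a unipotent matrix of Jordan type `d` similar to an isometry of a non-degenerate symmetric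
form in odd characteristic has an even number of blocks of each even size -/
theorem even_card_of_isConj_symm (h2 : (2 : F) ≠ 0) {t : ℕ} (d : Fin t → ℕ)
    (e : ((k : Fin t) × Fin (d k)) ≃ ι)
    (Ω A : Matrix ι ι F) (hΩ : IsUnit Ω.det) (hsymm : Ωᵀ = Ω) (hA : Aᵀ * Ω * A = Ω)
    (hconj : IsConj (Matrix.reindex e e (Cfsg.jordanTypeMatrix d F)) A) (j : ℕ) (hj : Even j)
    (hj0 : 0 < j) :
    Even (Finset.univ.filter (fun k : Fin t => d k = j)).card := by
  have hnil : IsNilpotent (A - 1) := by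
    refine ⟨∑ i, d i, ?_⟩
    have h0 : ((A - 1) ^ (∑ i, d i)).rank = 0 := by
      rw [rank_sub_one_pow_of_isConj d e A hconj]
      apply Finset.sum_eq_zero
      intro i _
      have := Finset.single_le_sum (f := d) (fun i _ => Nat.zero_le _) (Finset.mem_univ i)
      omega
    unfold Matrix.rank at h0
    rw [Submodule.finrank_eq_zero, LinearMap.range_eq_bot] at h0
    rw [← Matrix.toLin'_apply', LinearEquiv.map_eq_zero_iff] at h0
    exact h0
  obtain ⟨l, hl⟩ := hj
  have hl1 : 1 ≤ l := by omega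
  obtain ⟨l', rfl⟩ : ∃ l', l = l' + 1 := ⟨l - 1, by omega⟩
  have h1 := card_filter_add_two_mul d j (by omega)
  have h3 := even_rank_sub_one_pow_symm h2 Ω A hΩ hsymm hA hnil l'
  have h4 := even_rank_sub_one_pow_symm h2 Ω A hΩ hsymm hA hnil (l' + 1)
  rw [rank_sub_one_pow_of_isConj d e A hconj] at h3 h4
  have e1 : j - 1 = 2 * l' + 1 := by omega
  have e2 : j + 1 = 2 * (l' + 1) + 1 := by omega
  rw [e1, e2] at h1
  have h5 : Even ((Finset.univ.filter (fun k : Fin t => d k = j)).card +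
      2 * ∑ i, (d i - j)) := by
    rw [h1]; exact h3.add h4
  exact (Nat.even_add.mp h5).mpr (even_two_mul _)

end Cfsg.Agent.Lib.Helper43
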