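/-
helper43: invariant forms for unipotent matrices of a given Jordan type, assembled from forms on
single blocks and hyperbolic pairs of equal blocks.
-/
import Cfsg.Agent.Lib.Helper43.JordanBlockAlt

set_option autoImplicit false

namespace Cfsg.Agent.Lib.Helper43

open Matrix Module

variable {F : Type*} [Field F]

/-- the inverse transpose of a regular unipotent matrix is regular unipotent -/
theorem IsRegUnip.inv_transpose {n : ℕ} {J : Matrix (Fin n) (Fin n) F} (hJ : IsRegUnip J) :
    IsUnit J.det ∧ IsRegUnip (J⁻¹)ᵀ := by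
  have hnil : IsNilpotent (J - 1) := ⟨n, hJ.1⟩
  have hunit : IsUnit J := by
    have := hnil.isUnit_one_add
    rwa [add_sub_cancel] at this
  have hdet : IsUnit J.det := (Matrix.isUnit_iff_isUnit_det _).mp hunit
  refine ⟨hdet, ?_⟩
  have h1 : J⁻¹ * J = 1 := Matrix.nonsing_inv_mul J hdet
  have h1' : J * J⁻¹ = 1 := Matrix.mul_nonsing_inv J hdet
  have h2 : J⁻¹ - 1 = (-J⁻¹) * (J - 1) := by
    rw [mul_sub, neg_mul, h1, mul_one]; abel
  have hcomm : Commute (-J⁻¹) (J - 1) := by
    have : Commute J⁻¹ J := h1.trans h1'.symm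
    exact (this.sub_right (Commute.one_right _)).neg_left
  have h3 : (J⁻¹)ᵀ - 1 = (J⁻¹ - 1)ᵀ := by
    rw [Matrix.transpose_sub, Matrix.transpose_one]
  refine ⟨?_, ?_⟩
  · rw [h3, ← Matrix.transpose_pow, h2, hcomm.mul_pow, hJ.1, mul_zero, Matrix.transpose_zero]
  · rw [h3, Matrix.rank_transpose, h2, Matrix.rank_mul_eq_right_of_isUnit_det]
    · exact hJ.2
    · have h4 : (-J⁻¹) * (-J) = 1 := by rw [neg_mul_neg, h1]
      have h5 := congrArg Matrix.det h4
      rw [Matrix.det_mul, Matrix.det_one] at h5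
      exact IsUnit.of_mul_eq_one _ h5

/-- a non-degenerate pairing between two Jordan blocks of the same size -/
theorem exists_pair_form_jordanBlock (n n' : ℕ) (h : n = n') (hpos : 1 ≤ n) :
    ∃ (G : Matrix (Fin n) (Fin n') F) (G' : Matrix (Fin n') (Fin n) F), G * G' = 1 ∧ G' * G = 1 ∧
      (Cfsg.jordanBlock n F)ᵀ * G * Cfsg.jordanBlock n' F = G := by
  subst h
  have hJ := isRegUnip_jordanBlock (F := F) n
  obtain ⟨hdet, hJ'⟩ := hJ.inv_transpose
  obtain ⟨P, hP⟩ := hJ.exists_conj hpos hJ'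
  refine ⟨(P : Matrix (Fin n) (Fin n) F), ((P⁻¹ : GL (Fin n) F) : Matrix (Fin n) (Fin n) F), ?_, ?_, ?_⟩
  · rw [← Units.val_mul, mul_inv_cancel, Units.val_one]
  · rw [← Units.val_mul, inv_mul_cancel, Units.val_one]
  · rw [mul_assoc, hP, ← mul_assoc, ← Matrix.transpose_mul, Matrix.nonsing_inv_mul _ hdet,
      Matrix.transpose_one, one_mul]

section split

variable {κ κ₁ κ₂ : Type*} (β : κ → Type*) (g₁ : κ₁ → κ) (g₂ : κ₂ → κ)

/-- splitting a sigma type along a partition of the index -/
def sigmaSplitMap : ((Σ k : κ₁, β (g₁ k)) ⊕ (Σ k : κ₂, β (g₂ k))) → Σ k : κ, β k :=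
  Sum.elim (fun x => ⟨g₁ x.1, x.2⟩) (fun x => ⟨g₂ x.1, x.2⟩)

theorem sigmaSplitMap_bijective (hg : Function.Bijective (Sum.elim g₁ g₂)) :
    Function.Bijective (sigmaSplitMap β g₁ g₂) := by
  constructor
  · rintro (⟨k, i⟩ | ⟨k, i⟩) (⟨l, j⟩ | ⟨l, j⟩) h
    · simp only [sigmaSplitMap, Sum.elim_inl] at h
      have h1 : g₁ k = g₁ l := congrArg Sigma.fst h
      have h2 : k = l := Sum.inl_injective (hg.1 (by simpa using h1))
      subst h2
      have h3 : i = j := eq_of_heq (Sigma.mk.inj_iff.mp h).2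
      rw [h3]
    · simp only [sigmaSplitMap, Sum.elim_inl, Sum.elim_inr] at h
      have h1 : g₁ k = g₂ l := congrArg Sigma.fst h
      have h2 : (Sum.inl k : κ₁ ⊕ κ₂) = Sum.inr l := hg.1 (by simpa using h1)
      exact absurd h2 Sum.inl_ne_inr
    · simp only [sigmaSplitMap, Sum.elim_inl, Sum.elim_inr] at h
      have h1 : g₂ k = g₁ l := congrArg Sigma.fst h
      have h2 : (Sum.inr k : κ₁ ⊕ κ₂) = Sum.inl l := hg.1 (by simpa using h1)
      exact absurd h2 Sum.inr_ne_inl
    · simp only [sigmaSplitMap, Sum.elim_inr] at h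
      have h1 : g₂ k = g₂ l := congrArg Sigma.fst h
      have h2 : k = l := Sum.inr_injective (hg.1 (by simpa using h1))
      subst h2
      have h3 : i = j := eq_of_heq (Sigma.mk.inj_iff.mp h).2
      rw [h3]
  · rintro ⟨k, i⟩
    obtain ⟨x, hx⟩ := hg.2 k
    rcases x with x | x
    · simp only [Sum.elim_inl] at hx
      subst hx
      exact ⟨Sum.inl ⟨x, i⟩, rfl⟩
    · simp only [Sum.elim_inr] at hx
      subst hx
      exact ⟨Sum.inr ⟨x, i⟩, rfl⟩

variable [DecidableEq κ] [DecidableEq κ₁] [DecidableEq κ₂]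

theorem blockDiagonal'_submatrix_sigmaSplit (hg : Function.Injective (Sum.elim g₁ g₂))
    (M : ∀ k, Matrix (β k) (β k) F) :
    (Matrix.blockDiagonal' M).submatrix (sigmaSplitMap β g₁ g₂) (sigmaSplitMap β g₁ g₂) =
      Matrix.fromBlocks (Matrix.blockDiagonal' fun k => M (g₁ k)) 0 0
        (Matrix.blockDiagonal' fun k => M (g₂ k)) := by
  ext (⟨k, i⟩ | ⟨k, i⟩) (⟨l, j⟩ | ⟨l, j⟩)
  · simp only [Matrix.submatrix_apply, sigmaSplitMap, Sum.elim_inl, Matrix.fromBlocks_apply₁₁]
    by_cases h : k = l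
    · subst h
      rw [Matrix.blockDiagonal'_apply_eq, Matrix.blockDiagonal'_apply_eq]
    · have h' : g₁ k ≠ g₁ l := fun hh => h (Sum.inl_injective (hg (by simpa using hh)))
      rw [Matrix.blockDiagonal'_apply_ne _ _ _ h', Matrix.blockDiagonal'_apply_ne _ _ _ h]
  · simp only [Matrix.submatrix_apply, sigmaSplitMap, Sum.elim_inl, Sum.elim_inr,
      Matrix.fromBlocks_apply₁₂, Matrix.zero_apply]
    have h' : g₁ k ≠ g₂ l := fun hh =>
      Sum.inl_ne_inr (hg (by simpa using hh) : (Sum.inl k : κ₁ ⊕ κ₂) = Sum.inr l)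
    rw [Matrix.blockDiagonal'_apply_ne _ _ _ h']
  · simp only [Matrix.submatrix_apply, sigmaSplitMap, Sum.elim_inl, Sum.elim_inr,
      Matrix.fromBlocks_apply₂₁, Matrix.zero_apply]
    have h' : g₂ k ≠ g₁ l := fun hh =>
      Sum.inr_ne_inl (hg (by simpa using hh) : (Sum.inr k : κ₁ ⊕ κ₂) = Sum.inl l)
    rw [Matrix.blockDiagonal'_apply_ne _ _ _ h']
  · simp only [Matrix.submatrix_apply, sigmaSplitMap, Sum.elim_inr, Matrix.fromBlocks_apply₂₂]
    by_cases h : k = l
    · subst h
      rw [Matrix.blockDiagonal'_apply_eq, Matrix.blockDiagonal'_apply_eq]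
    · have h' : g₂ k ≠ g₂ l := fun hh => h (Sum.inr_injective (hg (by simpa using hh)))
      rw [Matrix.blockDiagonal'_apply_ne _ _ _ h', Matrix.blockDiagonal'_apply_ne _ _ _ h]

end split

/-- pairing up the elements of a finite type along the even fibres of a map -/
theorem exists_pairing {O Y : Type} [Fintype O] [DecidableEq O] [Fintype Y] [DecidableEq Y]
    (f : O → Y) (hf : ∀ y, Even (Fintype.card {x : O // f x = y})) :
    ∃ (P : Type) (_ : Fintype P) (_ : DecidableEq P) (a b : P → O),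
      (∀ p, f (a p) = f (b p)) ∧ Function.Bijective (Sum.elim a b) := by
  have hc : ∀ y, ∃ c : ℕ, Fintype.card {x : O // f x = y} = c + c := fun y => hf y
  choose c hc using hc
  let eqv : ∀ y, {x : O // f x = y} ≃ Fin (c y) ⊕ Fin (c y) := fun y =>
    (Fintype.equivFinOfCardEq (hc y)).trans finSumFinEquiv.symm
  refine ⟨Σ y : Y, Fin (c y), inferInstance, inferInstance,
    fun p => ((eqv p.1).symm (Sum.inl p.2)).1, fun p => ((eqv p.1).symm (Sum.inr p.2)).1, ?_, ?_, ?_⟩
  · rintro ⟨y, i⟩
    rw [((eqv y).symm (Sum.inl i)).2, ((eqv y).symm (Sum.inr i)).2]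
  · rintro (⟨y, i⟩ | ⟨y, i⟩) (⟨y', i'⟩ | ⟨y', i'⟩) h
    · simp only [Sum.elim_inl] at h
      have h1 : y = y' := by
        rw [← ((eqv y).symm (Sum.inl i)).2, ← ((eqv y').symm (Sum.inl i')).2, h]
      subst h1
      have h2 := (eqv y).symm.injective (Subtype.ext h)
      rw [Sum.inl.injEq] at h2
      rw [h2]
    · simp only [Sum.elim_inl, Sum.elim_inr] at h
      have h1 : y = y' := by
        rw [← ((eqv y).symm (Sum.inl i)).2, ← ((eqv y').symm (Sum.inr i')).2, h]
      subst h1
      have h2 := (eqv y).symm.injective (Subtype.ext h)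
      exact absurd h2 Sum.inl_ne_inr
    · simp only [Sum.elim_inl, Sum.elim_inr] at h
      have h1 : y = y' := by
        rw [← ((eqv y).symm (Sum.inr i)).2, ← ((eqv y').symm (Sum.inl i')).2, h]
      subst h1
      have h2 := (eqv y).symm.injective (Subtype.ext h)
      exact absurd h2 Sum.inr_ne_inl
    · simp only [Sum.elim_inr] at h
      have h1 : y = y' := by
        rw [← ((eqv y).symm (Sum.inr i)).2, ← ((eqv y').symm (Sum.inr i')).2, h]
      subst h1
      have h2 := (eqv y).symm.injective (Subtype.ext h)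
      rw [Sum.inr.injEq] at h2
      rw [h2]
  · intro x
    rcases hz : eqv (f x) ⟨x, rfl⟩ with i | i
    · refine ⟨Sum.inl ⟨f x, i⟩, ?_⟩
      simp only [Sum.elim_inl]
      rw [← hz, Equiv.symm_apply_apply]
    · refine ⟨Sum.inr ⟨f x, i⟩, ?_⟩
      simp only [Sum.elim_inr]
      rw [← hz, Equiv.symm_apply_apply]

/-- a unipotent matrix of Jordan type `d` preserves a form of the given symmetry, if the single
blocks of sizes outside `pr` do and the sizes in `pr` occur evenly often -/
theorem exists_formInv_jordanType {t : ℕ} (d : Fin t → ℕ) (hd : ∀ k, 1 ≤ d k) (s : F)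
    (hs : s * s = 1) (zd : Prop) (pr : ℕ → Prop) [DecidablePred pr]
    (hsingle : ∀ n, ¬ pr n → 1 ≤ n →
      ∃ ω : Matrix (Fin n) (Fin n) F, FormInv s zd ω (Cfsg.jordanBlock n F))
    (hpair : ∀ j, pr j → Even (Finset.univ.filter (fun k : Fin t => d k = j)).card) :
    ∃ Ω, FormInv s zd Ω (Cfsg.jordanTypeMatrix d F) := by
  classical
  let O := {k : Fin t // pr (d k)}
  let E := {k : Fin t // ¬ pr (d k)}
  let f : O → ((Finset.univ.image d : Finset ℕ) : Type) :=
    fun x => ⟨d x.1, Finset.mem_image_of_mem d (Finset.mem_univ _)⟩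
  have hf : ∀ y, Even (Fintype.card {x : O // f x = y}) := by
    intro y
    have h1 : Fintype.card {x : O // f x = y} =
        (Finset.univ.filter (fun k : Fin t => pr (d k) ∧ d k = y.1)).card := by
      rw [← Fintype.card_subtype]
      apply Fintype.card_congr
      refine
        { toFun := fun x => ⟨x.1.1, x.1.2, congrArg Subtype.val x.2⟩
          invFun := fun k => ⟨⟨k.1, k.2.1⟩, Subtype.ext k.2.2⟩
          left_inv := fun x => rfl
          right_inv := fun k => rfl }
    rw [h1]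
    by_cases hy : pr y.1
    · have h2 : (Finset.univ.filter (fun k : Fin t => pr (d k) ∧ d k = y.1)) =
          Finset.univ.filter (fun k : Fin t => d k = y.1) := by
        apply Finset.filter_congr
        intro k _
        constructor
        · exact fun h => h.2
        · intro h
          exact ⟨by rw [h]; exact hy, h⟩
      rw [h2]
      exact hpair _ hy
    · have h2 : (Finset.univ.filter (fun k : Fin t => pr (d k) ∧ d k = y.1)) = ∅ := by
        apply Finset.filter_eq_empty_iff.mpr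
        intro k _ h
        apply hy
        rw [← h.2]; exact h.1
      rw [h2, Finset.card_empty]
      exact Even.zero
  obtain ⟨P, instF, instD, a, b, hab, hbij⟩ := exists_pairing f hf
  have hab' : ∀ p, d (a p).1 = d (b p).1 := fun p => congrArg Subtype.val (hab p)
  -- the maps
  let g₁ : P ⊕ P → Fin t := Sum.elim (fun p => (a p).1) (fun p => (b p).1)
  let g₂ : E → Fin t := Subtype.val
  have hg : Function.Bijective (Sum.elim g₁ g₂) := by
    constructor
    · rintro (x | x) (y | y) h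
      · simp only [Sum.elim_inl] at h
        have h1 : Sum.elim a b x = Sum.elim a b y := by
          apply Subtype.ext
          rcases x with x | x <;> rcases y with y | y <;> exact h
        rw [hbij.1 h1]
      · simp only [Sum.elim_inl, Sum.elim_inr] at h
        exfalso
        apply y.2
        have h1 : g₁ x = (Sum.elim a b x).1 := by rcases x with x | x <;> rfl
        rw [show (y : Fin t) = g₂ y from rfl, ← h, h1]
        exact (Sum.elim a b x).2
      · simp only [Sum.elim_inl, Sum.elim_inr] at h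
        exfalso
        apply x.2
        have h1 : g₁ y = (Sum.elim a b y).1 := by rcases y with y | y <;> rfl
        rw [show (x : Fin t) = g₂ x from rfl, h, h1]
        exact (Sum.elim a b y).2
      · simp only [Sum.elim_inr] at h
        rw [Subtype.ext h]
    · intro k
      by_cases hk : pr (d k)
      · obtain ⟨x, hx⟩ := hbij.2 ⟨k, hk⟩
        refine ⟨Sum.inl x, ?_⟩
        simp only [Sum.elim_inl]
        have h1 : g₁ x = (Sum.elim a b x).1 := by rcases x with x | x <;> rfl
        rw [h1, hx]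
      · exact ⟨Sum.inr ⟨k, hk⟩, rfl⟩
  let β : Fin t → Type := fun k => Fin (d k)
  let M : ∀ k : Fin t, Matrix (β k) (β k) F := fun k => Cfsg.jordanBlock (d k) F
  -- the forms on the single blocks
  have hE : ∃ ΩE, FormInv s zd ΩE (Matrix.blockDiagonal' fun k : E => M (g₂ k)) := by
    have h1 : ∀ k : E, ∃ ω : Matrix (Fin (d k.1)) (Fin (d k.1)) F,
        FormInv s zd ω (Cfsg.jordanBlock (d k.1) F) := fun k => hsingle _ k.2 (hd _)
    choose ω hω using h1
    exact ⟨Matrix.blockDiagonal' ω, FormInv.blockDiagonal' hω⟩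
  -- the forms on the pairs
  have hP : ∃ ΩP, FormInv s zd ΩP (Matrix.blockDiagonal' fun x : P ⊕ P => M (g₁ x)) := by
    have h1 : ∀ p : P, ∃ (G : Matrix (β (g₁ (Sum.inl p))) (β (g₁ (Sum.inr p))) F)
        (G' : Matrix (β (g₁ (Sum.inr p))) (β (g₁ (Sum.inl p))) F), G * G' = 1 ∧ G' * G = 1 ∧
        (M (g₁ (Sum.inl p)))ᵀ * G * M (g₁ (Sum.inr p)) = G :=
      fun p => exists_pair_form_jordanBlock _ _ (hab' p) (hd _)
    choose G G' hGG' hG'G hG using h1
    have h2 := FormInv.pair (s := s) (zd := zd) hs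
      (T₁ := Matrix.blockDiagonal' fun p : P => M (g₁ (Sum.inl p)))
      (T₂ := Matrix.blockDiagonal' fun p : P => M (g₁ (Sum.inr p)))
      (Matrix.blockDiagonal' G) (Matrix.blockDiagonal' G')
      (by
        rw [← Matrix.blockDiagonal'_mul, ← Matrix.blockDiagonal'_one]
        congr 1
        funext p
        exact hGG' p)
      (by
        rw [← Matrix.blockDiagonal'_mul, ← Matrix.blockDiagonal'_one]
        congr 1
        funext p
        exact hG'G p)
      (by
        rw [Matrix.blockDiagonal'_transpose, ← Matrix.blockDiagonal'_mul,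
          ← Matrix.blockDiagonal'_mul]
        congr 1
        funext p
        exact hG p)
    have hinj : Function.Bijective (Sum.elim (Sum.inl : P → P ⊕ P) Sum.inr) := by
      have : Sum.elim (Sum.inl : P → P ⊕ P) Sum.inr = id := by
        funext x; rcases x with x | x <;> rfl
      rw [this]; exact Function.bijective_id
    have h3 := blockDiagonal'_submatrix_sigmaSplit (F := F) (fun x : P ⊕ P => β (g₁ x))
      (Sum.inl : P → P ⊕ P) Sum.inr hinj.1 (fun x => M (g₁ x))
    let ψ := Equiv.ofBijective _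
      (sigmaSplitMap_bijective (fun x : P ⊕ P => β (g₁ x)) (Sum.inl : P → P ⊕ P) Sum.inr hinj)
    have h2' : FormInv s zd (Matrix.fromBlocks 0 (Matrix.blockDiagonal' G)
        (s • (Matrix.blockDiagonal' G)ᵀ) 0)
        ((Matrix.blockDiagonal' fun x : P ⊕ P => M (g₁ x)).submatrix
          (sigmaSplitMap (fun x : P ⊕ P => β (g₁ x)) (Sum.inl : P → P ⊕ P) Sum.inr)
          (sigmaSplitMap (fun x : P ⊕ P => β (g₁ x)) (Sum.inl : P → P ⊕ P) Sum.inr)) := by
      rw [h3]
      exact h2
    exact ⟨_, FormInv.of_submatrix ψ h2'⟩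
  obtain ⟨ΩE, hΩE⟩ := hE
  obtain ⟨ΩP, hΩP⟩ := hP
  have h4 := blockDiagonal'_submatrix_sigmaSplit (F := F) β g₁ g₂ hg.1 M
  let ψ := Equiv.ofBijective _ (sigmaSplitMap_bijective β g₁ g₂ hg)
  have h5 : FormInv s zd (Matrix.fromBlocks ΩP 0 0 ΩE)
      ((Matrix.blockDiagonal' M).submatrix (sigmaSplitMap β g₁ g₂) (sigmaSplitMap β g₁ g₂)) := by
    rw [h4]
    exact hΩP.fromBlocks hΩE
  exact ⟨_, FormInv.of_submatrix ψ h5⟩

end Cfsg.Agent.Lib.Helper43
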