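import Cfsg.Agent.Lib.Helper99.KSL.Defs

/-!
# Project KSL (S2479, helper99's sheet): module KSL-[DETT], `_of` form (helper43)

The determinant from the invariant tuple, given the determinant from a primary decomposition ([DET-BLOCKS]) as a hypothesis.
-/

set_option autoImplicit false

universe u

namespace Cfsg.Agent.Lib.Helper99.KSL

open Polynomial Finset DirectSum
open Cfsg.Agent.Lib.Helper99.GLClass

variable {F : Type u} [Field F] {n : ℕ}

/-- `sc` is multiplicative on nonzero polynomials -/
theorem dett_sc_mul (f g : F[X]) (hf : f ≠ 0) (hg : g ≠ 0) : sc (f * g) = sc f * sc g := by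
  unfold sc
  rw [natDegree_mul hf hg, mul_coeff_zero, pow_add]
  ring

theorem dett_sc_one : sc (1 : F[X]) = 1 := by
  unfold sc
  simp

/-- `sc` of a product of monic polynomials -/
theorem dett_sc_prod {ι : Type*} (s : Finset ι) (f : ι → F[X]) (hf : ∀ i ∈ s, (f i).Monic) :
    sc (∏ i ∈ s, f i) = ∏ i ∈ s, sc (f i) := by
  classical
  induction s using Finset.induction_on with
  | empty => simp [dett_sc_one]
  | insert a s ha ih =>
    rw [Finset.prod_insert ha, Finset.prod_insert ha,
      dett_sc_mul _ _ (hf a (Finset.mem_insert_self a s)).ne_zero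
        (monic_prod_of_monic _ _ fun i hi => hf i (Finset.mem_insert_of_mem hi)).ne_zero,
      ih fun i hi => hf i (Finset.mem_insert_of_mem hi)]

/-- [DETT], regrouping step: the product over the blocks is the determinant of the tuple. -/
theorem dett_regroup {ι : Type*} [Fintype ι] [DecidableEq ι] (p : ι → F[X]) (e : ι → ℕ)
    (hp0 : ∀ i, p i ≠ 0) (hle : ∀ i, e i ≤ n) (H : Fin n → F[X])
    (hH : ∀ j : Fin n, H j = ∏ i ∈ Finset.univ.filter (fun i => e i = (j : ℕ) + 1), mon (p i)) :
    ∏ i, sc (mon (p i)) ^ e i = tdet H := by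
  unfold tdet
  have h1 : ∀ j : Fin n, sc (H j) ^ ((j : ℕ) + 1)
      = ∏ i, if e i = (j : ℕ) + 1 then sc (mon (p i)) ^ e i else 1 := by
    intro j
    rw [hH, dett_sc_prod _ _ (fun i _ => mon_monic _ (hp0 i)), ← Finset.prod_pow, Finset.prod_filter]
    apply Finset.prod_congr rfl
    intro i _
    split_ifs with h
    · rw [h]
    · rfl
  rw [Finset.prod_congr rfl (fun j _ => h1 j), Finset.prod_comm]
  apply Finset.prod_congr rfl
  intro i _
  rcases Nat.eq_zero_or_pos (e i) with h0 | h0
  · rw [h0, pow_zero]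
    symm
    apply Finset.prod_eq_one
    intro j _
    rw [if_neg]
    omega
  · have hj : e i - 1 < n := by have := hle i; omega
    have key := Fintype.prod_eq_single
      (f := fun x : Fin n => if e i = (x : ℕ) + 1 then sc (mon (p i)) ^ e i else 1)
      (⟨e i - 1, hj⟩ : Fin n) (by
        intro j hj'
        rw [if_neg]
        intro h
        apply hj'
        apply Fin.ext
        simp only
        omega)
    rw [key, if_pos]
    simp only
    omega

/-- [DETT] `_of` form: the determinant from the invariant tuple, given [DET-BLOCKS] for `a`. -/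
theorem isInv_det_eq_of {a : Matrix.GeneralLinearGroup (Fin n) F} {H : Fin n → F[X]}
    (hblocks : ∀ (ι : Type u) [Fintype ι] [DecidableEq ι] (p : ι → F[X]) (e : ι → ℕ),
      (∀ i, Irreducible (p i)) →
      (matMod (a : Matrix (Fin n) (Fin n) F) ≃ₗ[F[X]] ⨁ i, F[X] ⧸ (F[X] ∙ p i ^ e i)) →
      ((Matrix.GeneralLinearGroup.det a : Fˣ) : F) = ∏ i, sc (mon (p i)) ^ e i)
    (h : IsInv a H) : ((Matrix.GeneralLinearGroup.det a : Fˣ) : F) = tdet H := by
  obtain ⟨ι, hι, hdec, p, e, hp, ⟨eq⟩, hH⟩ := h
  have hp0 : ∀ i, p i ≠ 0 := fun i => (hp i).ne_zero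
  have hsum := sum_deg_eq (a : Matrix (Fin n) (Fin n) F) p e hp0 eq
  have hdeg : ∀ i, 1 ≤ (p i).natDegree := fun i => (hp i).natDegree_pos
  have hle : ∀ i, e i ≤ n := by
    intro i
    calc e i ≤ e i * (p i).natDegree := Nat.le_mul_of_pos_right _ (hdeg i)
      _ ≤ ∑ i, e i * (p i).natDegree :=
        Finset.single_le_sum (f := fun i => e i * (p i).natDegree) (fun _ _ => Nat.zero_le _) (Finset.mem_univ i)
      _ = n := hsum
  rw [hblocks ι p e hp eq]
  exact dett_regroup p e hp0 hle H hH

end Cfsg.Agent.Lib.Helper99.KSL
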