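import Cfsg.Agent.Lib.Helper43.KslDetBlocksOf
import Cfsg.Agent.Lib.Helper43.KslDettOf
import Cfsg.Agent.Lib.Helper96.KslDsumDet
import Cfsg.Agent.Lib.Helper78.KslQDetX

/-!
# Project KSL (S2479, helper99's sheet): modules KSL-[DET-BLOCKS] and KSL-[DETT], exact statements (helper43)
-/

set_option autoImplicit false

universe u

namespace Cfsg.Agent.Lib.Helper99.KSL

open Polynomial Finset DirectSum
open Cfsg.Agent.Lib.Helper99.GLClass

variable {F : Type u} [Field F] {n : ℕ}

/-- [DET-BLOCKS] the determinant from a primary decomposition. -/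
theorem det_eq_prod_blocks (a : Matrix.GeneralLinearGroup (Fin n) F)
    {ι : Type*} [Fintype ι] [DecidableEq ι] (p : ι → F[X]) (e : ι → ℕ)
    (hp : ∀ i, Irreducible (p i))
    (eq : matMod (a : Matrix (Fin n) (Fin n) F) ≃ₗ[F[X]] ⨁ i, F[X] ⧸ (F[X] ∙ p i ^ e i)) :
    ((Matrix.GeneralLinearGroup.det a : Fˣ) : F) = ∏ i, sc (mon (p i)) ^ e i := by
  have : ∀ i, Module.Finite F (F[X] ⧸ (F[X] ∙ p i ^ e i)) :=
    fun i => finite_quot_pow (p i) (hp i).ne_zero (e i)
  exact det_eq_prod_blocks_of a p e (fun f => det_lmap f)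
    (fun i => det_mulBy_X_pow (p i) (hp i).ne_zero (e i)) eq

/-- [DETT] the determinant from the invariant tuple. -/
theorem isInv_det_eq {a : Matrix.GeneralLinearGroup (Fin n) F} {H : Fin n → F[X]}
    (h : IsInv a H) : ((Matrix.GeneralLinearGroup.det a : Fˣ) : F) = tdet H :=
  isInv_det_eq_of (fun _ι _ _ p e hp eq => det_eq_prod_blocks a p e hp eq) h

end Cfsg.Agent.Lib.Helper99.KSL
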