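import Cfsg.Agent.Lib.Helper43.KslGlEnd

/-!
# Project KSL (S2479, helper99's sheet): module KSL-[DET-BLOCKS], `_of` form (helper43)

The determinant from a primary decomposition, given [DSUM-DET] (for the family of blocks) and [Q-DETX] as hypotheses.
-/

set_option autoImplicit false

universe u

namespace Cfsg.Agent.Lib.Helper99.KSL

open Polynomial Finset DirectSum
open Cfsg.Agent.Lib.Helper99.GLClass

variable {F : Type u} [Field F] {n : ℕ}

/-- multiplication by `r` on a direct sum is the diagonal map of the multiplications by `r` -/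
theorem detblocks_mulBy_directSum {ι : Type*} [DecidableEq ι] (N : ι → Type*)
    [∀ i, AddCommGroup (N i)] [∀ i, Module F (N i)] [∀ i, Module F[X] (N i)]
    [∀ i, IsScalarTower F F[X] (N i)] (r : F[X]) :
    mulBy (⨁ i, N i) r = DirectSum.lmap (fun i => mulBy (N i) r) := by
  apply DirectSum.linearMap_ext
  intro i
  apply LinearMap.ext
  intro x
  simp only [LinearMap.comp_apply, mulBy_apply, DirectSum.lmap_lof]
  rw [DirectSum.lof_eq_of, DirectSum.lof_eq_of, ← DirectSum.lof_eq_of F[X], ← DirectSum.lof_eq_of F[X], map_smul]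

/-- transport of `mulBy` along an `F[X]`-linear equivalence -/
theorem detblocks_det_mulBy_congr {M M' : Type*} [AddCommGroup M] [Module F M] [Module F[X] M]
    [IsScalarTower F F[X] M] [AddCommGroup M'] [Module F M'] [Module F[X] M'] [IsScalarTower F F[X] M']
    (eq : M ≃ₗ[F[X]] M') (r : F[X]) :
    LinearMap.det (mulBy M r) = LinearMap.det (mulBy M' r) := by
  have h : mulBy M' r = ((eq.restrictScalars F : M ≃ₗ[F] M') : M →ₗ[F] M') ∘ₗ mulBy M r ∘ₗ
      (((eq.restrictScalars F).symm : M' ≃ₗ[F] M) : M' →ₗ[F] M) := by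
    apply LinearMap.ext
    intro x
    show r • x = eq (r • eq.symm x)
    rw [map_smul, eq.apply_symm_apply]
  rw [h, LinearMap.det_conj]

/-- [DET-BLOCKS] `_of` form. -/
theorem det_eq_prod_blocks_of (a : Matrix.GeneralLinearGroup (Fin n) F)
    {ι : Type*} [Fintype ι] [DecidableEq ι] (p : ι → F[X]) (e : ι → ℕ)
    (hlmap : ∀ f : ∀ i, (F[X] ⧸ (F[X] ∙ p i ^ e i)) →ₗ[F] (F[X] ⧸ (F[X] ∙ p i ^ e i)),
      LinearMap.det (M := ⨁ i, F[X] ⧸ (F[X] ∙ p i ^ e i)) (DirectSum.lmap f) = ∏ i, LinearMap.det (f i))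
    (hX : ∀ i, LinearMap.det (mulBy (F[X] ⧸ (F[X] ∙ p i ^ e i)) X) = sc (mon (p i)) ^ e i)
    (eq : matMod (a : Matrix (Fin n) (Fin n) F) ≃ₗ[F[X]] ⨁ i, F[X] ⧸ (F[X] ∙ p i ^ e i)) :
    ((Matrix.GeneralLinearGroup.det a : Fˣ) : F) = ∏ i, sc (mon (p i)) ^ e i := by
  rw [det_eq_det_mulBy_X, detblocks_det_mulBy_congr (M' := ⨁ i, F[X] ⧸ (F[X] ∙ p i ^ e i)) eq X,
    detblocks_mulBy_directSum (fun i => F[X] ⧸ (F[X] ∙ p i ^ e i)) X, hlmap]
  exact Finset.prod_congr rfl fun i _ => hX i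

end Cfsg.Agent.Lib.Helper99.KSL
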