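import Cfsg.Agent.Lib.Helper99.KSL.Defs

/-!
# Project KSL (S2479, helper99's sheet): module KSL-[GL-END] (helper43)

`F[X]`-endomorphisms of the module of a matrix `a` give elements of the centraliser of `a` with the same determinant, and
`det a` is the determinant of multiplication by `X`.
-/

set_option autoImplicit false

universe u

namespace Cfsg.Agent.Lib.Helper99.KSL

open Polynomial Finset DirectSum
open Cfsg.Agent.Lib.Helper99.GLClass

variable {F : Type u} [Field F] {n : ℕ}

/-- [GL-END] matrix form: an `F[X]`-endomorphism of the module of `A` is a matrix commuting with `A`, of the same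
determinant. -/
theorem glend_exists_matrix (A : Matrix (Fin n) (Fin n) F) (θ : matMod A →ₗ[F[X]] matMod A) :
    ∃ P : Matrix (Fin n) (Fin n) F, P.det = LinearMap.det (θ.restrictScalars F) ∧ P * A = A * P := by
  classical
  let oA := Module.AEval'.of (Matrix.toLin' A)
  let L : (Fin n → F) →ₗ[F] (Fin n → F) :=
    (oA.symm : matMod A →ₗ[F] (Fin n → F)) ∘ₗ (θ.restrictScalars F) ∘ₗ (oA : (Fin n → F) →ₗ[F] matMod A)
  have hL : ∀ v, L (A.mulVec v) = A.mulVec (L v) := by
    intro v
    show oA.symm (θ (oA (A.mulVec v))) = A.mulVec (oA.symm (θ (oA v)))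
    have h1 : oA (A.mulVec v) = (X : F[X]) • oA v := by
      rw [Module.AEval'.X_smul_of, Matrix.toLin'_apply]
    rw [h1, map_smul, Module.AEval'.of_symm_X_smul, Matrix.toLin'_apply]
  refine ⟨LinearMap.toMatrix' L, ?_, ?_⟩
  · rw [LinearMap.det_toMatrix']
    have := LinearMap.det_conj (θ.restrictScalars F) oA.symm
    rw [LinearEquiv.symm_symm] at this
    exact this
  · have h1 : LinearMap.toMatrix' L * A = LinearMap.toMatrix' (L.comp (Matrix.toLin' A)) := by
      rw [LinearMap.toMatrix'_comp, LinearMap.toMatrix'_toLin']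
    have h2 : A * LinearMap.toMatrix' L = LinearMap.toMatrix' ((Matrix.toLin' A).comp L) := by
      rw [LinearMap.toMatrix'_comp, LinearMap.toMatrix'_toLin']
    rw [h1, h2]
    congr 1
    apply LinearMap.ext
    intro v
    show L (Matrix.toLin' A v) = Matrix.toLin' A (L v)
    rw [Matrix.toLin'_apply, Matrix.toLin'_apply]
    exact hL v

/-- [GL-END a] an `F[X]`-endomorphism of the module of `a` with unit determinant gives an element
of the centraliser of `a` with that determinant. -/
theorem exists_centralizer_of_end (a : Matrix.GeneralLinearGroup (Fin n) F)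
    (θ : matMod (a : Matrix (Fin n) (Fin n) F) →ₗ[F[X]] matMod (a : Matrix (Fin n) (Fin n) F))
    (c : Fˣ) (hdet : LinearMap.det (θ.restrictScalars F) = (c : F)) :
    ∃ h ∈ Subgroup.centralizer {a}, Matrix.GeneralLinearGroup.det h = c := by
  classical
  obtain ⟨P, hdetP, hPA⟩ := glend_exists_matrix (a : Matrix (Fin n) (Fin n) F) θ
  rw [hdet] at hdetP
  have hne : P.det ≠ 0 := by rw [hdetP]; exact c.ne_zero
  refine ⟨Matrix.GeneralLinearGroup.mkOfDetNeZero P hne, ?_, ?_⟩
  · rw [Subgroup.mem_centralizer_iff]
    intro b hb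
    rw [Set.mem_singleton_iff] at hb
    subst hb
    apply Units.ext
    rw [Units.val_mul, Units.val_mul]
    show (b : Matrix (Fin n) (Fin n) F) * P = P * (b : Matrix (Fin n) (Fin n) F)
    exact hPA.symm
  · apply Units.ext
    rw [Matrix.GeneralLinearGroup.val_det_apply]
    exact hdetP

/-- [GL-END b] matrix form -/
theorem glend_det_mulBy_X (A : Matrix (Fin n) (Fin n) F) :
    A.det = LinearMap.det (mulBy (matMod A) X) := by
  classical
  let oA := Module.AEval'.of (Matrix.toLin' A)
  have h1 : mulBy (matMod A) X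
      = (oA : (Fin n → F) →ₗ[F] matMod A) ∘ₗ (Matrix.toLin' A) ∘ₗ (oA.symm : matMod A →ₗ[F] (Fin n → F)) := by
    apply LinearMap.ext
    intro m
    show (X : F[X]) • m = oA (Matrix.toLin' A (oA.symm m))
    rw [← Module.AEval'.of_symm_X_smul]
    exact (oA.apply_symm_apply _).symm
  rw [h1, LinearMap.det_conj, LinearMap.det_toLin']

/-- [GL-END b] `det a` is the determinant of multiplication by `X`. -/
theorem det_eq_det_mulBy_X (a : Matrix.GeneralLinearGroup (Fin n) F) :
    ((Matrix.GeneralLinearGroup.det a : Fˣ) : F) =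
      LinearMap.det (mulBy (matMod (a : Matrix (Fin n) (Fin n) F)) X) := by
  rw [Matrix.GeneralLinearGroup.val_det_apply]
  exact glend_det_mulBy_X _

end Cfsg.Agent.Lib.Helper99.KSL
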