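/-
helper43: S5634 module [GLUE1]: the stabiliser of a decomposition of `F^n` into lines is a conjugate of
the monomial group; transport of maximality.
-/
import Mathlib
import Cfsg.Agent.Lib.Helper43.MonoStar
import Cfsg.Agent.Lib.Helper94.SympBridge

set_option autoImplicit false
set_option linter.unusedSectionVars false
set_option linter.unusedVariables false

namespace Cfsg.Agent.Lib.Helper43

open Matrix Cfsg.Geo Cfsg.Agent.Lib.Helper93 Module

variable {F : Type*} [Field F]

/-- each member of a decomposition into lines is spanned by a non-zero vector -/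
theorem exists_gen_of_one {n t : ℕ} {D : Fin t → Submodule F (Fin n → F)}
    (hD : IsMDecomposition 1 D) (i : Fin t) :
    ∃ b : Fin n → F, b ≠ 0 ∧ D i = Submodule.span F {b} := by
  have h1 := hD.finrank_eq i
  rw [finrank_eq_one_iff'] at h1
  obtain ⟨v, hv0, hv⟩ := h1
  refine ⟨v, fun h => hv0 (Subtype.ext h), ?_⟩
  apply le_antisymm
  · intro x hx
    obtain ⟨c, hc⟩ := hv ⟨x, hx⟩
    rw [Submodule.mem_span_singleton]
    exact ⟨c, congrArg Subtype.val hc⟩
  · rw [Submodule.span_singleton_le_iff_mem]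
    exact v.2

/-- column `j` of a monomial matrix along `σ` -/
theorem mulVec_single_of_mono {ι : Type} [Fintype ι] [DecidableEq ι] {A : Matrix ι ι F}
    {σ : Equiv.Perm ι} (hσ : ∀ i j, i ≠ σ j → A i j = 0) (j : ι) :
    A *ᵥ Pi.single j 1 = A (σ j) j • Pi.single (σ j) (1 : F) := by
  funext i
  rw [Matrix.mulVec_single_one, Pi.smul_apply, Pi.single_apply, smul_eq_mul]
  show A i j = _
  by_cases hi : i = σ j
  · rw [if_pos hi, mul_one, hi]
  · rw [if_neg hi, mul_zero, hσ i j hi]

/-- membership in the stabiliser of a frame of lines -/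
theorem mem_decompositionStabilizer_iff_conj_mem_Mono {t : ℕ}
    {D : Fin t → Submodule F (Fin t → F)} {b : Fin t → Fin t → F}
    (hbD : ∀ i, D i = Submodule.span F {b i}) (P : GL (Fin t) F)
    (hP : ∀ j, (P : Matrix (Fin t) (Fin t) F) *ᵥ Pi.single j 1 = b j) (g : GL (Fin t) F) :
    g ∈ decompositionStabilizer D ↔ P⁻¹ * g * P ∈ Mono (Fin t) F := by
  have hPinv : ∀ j, ((P⁻¹ : GL (Fin t) F) : Matrix (Fin t) (Fin t) F) *ᵥ b j = Pi.single j 1 := by
    intro j
    rw [← hP j, Matrix.mulVec_mulVec, ← Units.val_mul, inv_mul_cancel, Units.val_one,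
      Matrix.one_mulVec]
  constructor
  · rintro ⟨σ, hσ⟩
    have hc : ∀ i, ∃ c : F, (g : Matrix (Fin t) (Fin t) F) *ᵥ b i = c • b (σ i) := by
      intro i
      have hmem : (g : Matrix (Fin t) (Fin t) F) *ᵥ b i ∈ D (σ i) := by
        rw [← hσ i]
        refine ⟨b i, ?_, by rw [Matrix.toLin'_apply]⟩
        rw [hbD i]
        exact Submodule.mem_span_singleton_self _
      rw [hbD (σ i), Submodule.mem_span_singleton] at hmem
      obtain ⟨c, hc⟩ := hmem
      exact ⟨c, hc.symm⟩
    choose c hc using hc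
    refine ⟨σ, fun i j hij => ?_⟩
    have hcol : ((P⁻¹ * g * P : GL (Fin t) F) : Matrix (Fin t) (Fin t) F) *ᵥ Pi.single j 1 =
        c j • Pi.single (σ j) (1 : F) := by
      rw [Units.val_mul, Units.val_mul, ← Matrix.mulVec_mulVec, ← Matrix.mulVec_mulVec, hP j, hc j,
        Matrix.mulVec_smul, hPinv]
    have h2 := congrFun hcol i
    rw [Matrix.mulVec_single_one, Pi.smul_apply, Pi.single_apply, if_neg hij, smul_zero] at h2
    exact h2
  · rintro ⟨τ, hτ⟩
    set h : GL (Fin t) F := P⁻¹ * g * P with hh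
    have hg : g = P * h * P⁻¹ := by
      rw [hh]; group
    have hdet : IsUnit (h : Matrix (Fin t) (Fin t) F).det :=
      (Matrix.isUnit_iff_isUnit_det (h : Matrix (Fin t) (Fin t) F)).1 h.isUnit
    have hne := fun j => IsMono.ne_zero_of_isUnit hτ hdet j
    have hgb : ∀ j, (g : Matrix (Fin t) (Fin t) F) *ᵥ b j =
        (h : Matrix (Fin t) (Fin t) F) (τ j) j • b (τ j) := by
      intro j
      rw [hg, Units.val_mul, Units.val_mul, ← Matrix.mulVec_mulVec, ← Matrix.mulVec_mulVec, hPinv,
        mulVec_single_of_mono hτ j, Matrix.mulVec_smul, hP]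
    refine ⟨τ, fun i => ?_⟩
    rw [hbD i, hbD (τ i), Submodule.map_span, Set.image_singleton, Matrix.toLin'_apply, hgb i]
    exact Submodule.span_singleton_smul_eq (IsUnit.mk0 _ (hne i)) _

/-- **[GLUE1]** maximality of the monomial group gives maximality of the stabiliser of any decomposition
into lines. -/
theorem decomp_one_isMaximalIn {n t : ℕ} (D : Fin t → Submodule F (Fin n → F))
    (hD : IsMDecomposition 1 D)
    (hmax : IsMaximalIn (specialLinear (Fin n) F) (Mono (Fin n) F ⊓ specialLinear (Fin n) F)) :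
    IsMaximalIn (specialLinear (Fin n) F)
      (decompositionStabilizer D ⊓ specialLinear (Fin n) F) := by
  classical
  choose b hb0 hbD using exists_gen_of_one hD
  have hli : LinearIndependent F b :=
    iSupIndep.linearIndependent D hD.indep
      (fun i => by rw [hbD i]; exact Submodule.mem_span_singleton_self _) hb0
  have hspan : Submodule.span F (Set.range b) = ⊤ := by
    rw [← hD.iSup_eq_top, Submodule.span_range_eq_iSup]
    congr 1
    funext i
    rw [hbD i]
  let B : Basis (Fin t) F (Fin n → F) := Basis.mk hli (by rw [hspan])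
  have htn : t = n := by
    have := Module.finrank_eq_card_basis B
    rw [Module.finrank_fintype_fun_eq_card] at this
    simpa using this.symm
  subst htn
  have hBb : ∀ i, B i = b i := fun i => by
    show (Basis.mk hli _) i = b i
    rw [Basis.mk_apply]
  let B₀ : Basis (Fin t) F (Fin t → F) := Pi.basisFun F (Fin t)
  let P : GL (Fin t) F :=
    ⟨B₀.toMatrix B, B.toMatrix B₀, Basis.toMatrix_mul_toMatrix_flip B₀ B,
      Basis.toMatrix_mul_toMatrix_flip B B₀⟩
  have hP : ∀ j, (P : Matrix (Fin t) (Fin t) F) *ᵥ Pi.single j 1 = b j := by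
    intro j
    funext i
    rw [Matrix.mulVec_single_one]
    show (B₀.toMatrix B) i j = b j i
    rw [Basis.toMatrix_apply, hBb]
    show (Pi.basisFun F (Fin t)).repr (b j) i = b j i
    rw [Pi.basisFun_repr]
  have hmem := mem_decompositionStabilizer_iff_conj_mem_Mono hbD P hP
  set Φ : GL (Fin t) F ≃* GL (Fin t) F := MulAut.conj P⁻¹ with hΦ
  have hΦapp : ∀ g, Φ g = P⁻¹ * g * P := fun g => by
    rw [hΦ, MulAut.conj_apply, inv_inv]
  have hΦsymm : ∀ g, Φ.symm g = P * g * P⁻¹ := fun g => by
    rw [MulEquiv.symm_apply_eq, hΦapp]; group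
  apply Cfsg.Agent.Lib.Helper94.isMaximalIn_of_map Φ
  have h1 : (specialLinear (Fin t) F).map Φ.toMonoidHom = specialLinear (Fin t) F := by
    ext g
    rw [Subgroup.mem_map_equiv, hΦsymm, mem_specialLinear_iff, mem_specialLinear_iff,
      Units.val_mul, Units.val_mul, Matrix.det_mul, Matrix.det_mul, mul_right_comm,
      ← Matrix.det_mul, ← Units.val_mul, mul_inv_cancel, Units.val_one, Matrix.det_one, one_mul]
  have h2 : (decompositionStabilizer D).map Φ.toMonoidHom = Mono (Fin t) F := by
    ext g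
    rw [Subgroup.mem_map_equiv, hmem, hΦsymm]
    have : P⁻¹ * (P * g * P⁻¹) * P = g := by group
    rw [this]
  rw [Cfsg.Agent.Lib.Helper94.map_inf_equiv, h1, h2]
  exact hmax

end Cfsg.Agent.Lib.Helper43
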