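/-
helper43: S5634 module [GL-SECHYP]: the section `Y.comap (embSA i₀)` inherits `GLHyp`.
-/
import Mathlib
import Cfsg.Agent.Lib.Helper43.MonoStar

set_option autoImplicit false

namespace Cfsg.Agent.Lib.Helper43

open Matrix Cfsg.Geo Cfsg.Agent.Lib.Helper93

variable {F : Type*} [Field F]

theorem glHyp_comap_embSA {k : ℕ} {Y : Subgroup (GL (Fin (k + 1)) F)} (hY : GLHyp Y)
    (i₀ : Fin (k + 1)) : GLHyp (Y.comap (embSA i₀)) := by
  refine ⟨fun C hC => ?_, fun a b hab ξ h => ?_⟩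
  · rw [Subgroup.mem_comap]
    exact hY.mono_le ((embSA_mem_Mono_iff i₀ C).2 hC)
  · rw [Subgroup.mem_comap, embSA_elemTv] at h
    exact hY.net _ _ _ ξ h

end Cfsg.Agent.Lib.Helper43
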