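/-
helper43: S5634 assembly of part 1 (m = 1): the monomial group is maximal in SL_n(q), q ≥ 5, n ≥ 13.
Instantiates the hypothesis-form modules of helper9 (gl_main), helper54 (GL-P3), helper92 (sl_main),
helper49 (MAIN1) with the landed leaf modules.  The two leaves [GL-L5] (helper33) and [SL-CASEA]
(helper29) are parameters of `mono_isMaximalIn_of_leaves` and are discharged in `mono_isMaximalIn`.
-/
import Mathlib
import Cfsg.Agent.Lib.Helper9.MonoGLMain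
import Cfsg.Agent.Lib.Helper54.MonoGLP3
import Cfsg.Agent.Lib.Helper92.MonoSLTop
import Cfsg.Agent.Lib.Helper95.MonoSLSecHyp
import Cfsg.Agent.Lib.Helper36.MonoSLL1
import Cfsg.Agent.Lib.Helper49.MonoMain1
import Cfsg.Agent.Lib.Helper25.MonoGLP2
import Cfsg.Agent.Lib.Helper43.MonoGlue
import Cfsg.Agent.Lib.Helper33.MonoGLL5
import Cfsg.Agent.Lib.Helper29.MonoCaseA

set_option autoImplicit false

namespace Cfsg.Agent.Lib.Helper43

open Matrix Cfsg.Geo Cfsg.Agent.Lib.Helper93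

variable {F : Type*} [Field F] [Fintype F]

/-- the GL-theorem, modulo the leaf [GL-L5] -/
theorem gl_main_of_L5 (hL5 : Cfsg.Agent.Lib.Helper9.Mono.StGLL5 F) (hq : 5 ≤ Fintype.card F)
    (k : ℕ) (hk : 3 ≤ k) (Y : Subgroup (GL (Fin k) F)) (hY : GLHyp Y) : Y ≤ Mono (Fin k) F :=
  Cfsg.Agent.Lib.Helper9.Mono.gl_main
    (fun hμ _ hY i₀ hsec _ hh hcol => Cfsg.Agent.Lib.Helper1.Mono5634.gl_star_self hμ hY i₀ hsec hh hcol)
    (fun hm hs => Cfsg.Agent.Lib.Helper1.Mono5634.star_of_self hm hs)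
    (fun hq _ hD hst _ hg _ _ h0 => Cfsg.Agent.Lib.Helper25.gl_zero_entry_mono hq hD hst hg h0)
    hL5
    (fun hY => Cfsg.Agent.Lib.Helper25.gl_two_hadamard hY)
    (fun hq _ hY _ hmY hmv => Cfsg.Agent.Lib.Helper25.gl_two_no_hadamard hq hY hmY hmv)
    (fun hq _ hY => Cfsg.Agent.Lib.Helper54.Mono5634.gl_base_three_five_of_L5 hL5 hq hY)
    hq k hk Y hY

/-- the SL-theorem, modulo the leaf [SL-CASEA] -/
theorem sl_main_of_caseA (hA' : Cfsg.Agent.Lib.Helper92.Mono.StSLCaseA F)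
    (hq : 5 ≤ Fintype.card F) {k : ℕ} (hk : 7 ≤ k)
    (hA : ∀ Y : Subgroup (GL (Fin k) F), GLHyp Y → Y ≤ Mono (Fin k) F)
    {M : Subgroup (GL (Fin (k + 1)) F)} (hM : SLHyp M) : M ≤ Mono (Fin (k + 1)) F :=
  Cfsg.Agent.Lib.Helper92.Mono.sl_main
    (fun h4 _ h5 _ hM i₀ => Cfsg.Agent.Lib.Helper95.glHyp_secSL h4 h5 hM i₀)
    hA' hq hk hA hM

/-- **[MAIN1]** modulo the two leaves [GL-L5], [SL-CASEA] -/
theorem mono_isMaximalIn_of_leaves (hL5 : Cfsg.Agent.Lib.Helper9.Mono.StGLL5 F)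
    (hA' : Cfsg.Agent.Lib.Helper92.Mono.StSLCaseA F) (hq : 5 ≤ Fintype.card F) {n : ℕ}
    (hn : 13 ≤ n) :
    IsMaximalIn (specialLinear (Fin n) F) (Mono (Fin n) F ⊓ specialLinear (Fin n) F) :=
  Cfsg.Agent.Lib.Helper49.Mono.mono_isMaximalIn_of hq hn
    (fun k hk Y hY => gl_main_of_L5 hL5 hq k hk Y hY)
    (fun {k} hk hA {M} hM => sl_main_of_caseA hA' hq hk hA hM)
    (fun {M} hN {i j} hij {b} hb h => Cfsg.Agent.Lib.Helper36.sl_le_of_elemTv (by omega)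
      (by rw [Fintype.card_fin]; omega) hN hij hb h)

/-- **[MAIN1]**: for `q ≥ 5`, `n ≥ 13` the monomial group is maximal in `SL_n(q)`. -/
theorem mono_isMaximalIn (hq : 5 ≤ Fintype.card F) {n : ℕ} (hn : 13 ≤ n) :
    IsMaximalIn (specialLinear (Fin n) F) (Mono (Fin n) F ⊓ specialLinear (Fin n) F) :=
  mono_isMaximalIn_of_leaves
    (fun {_} hq hc {_} hD hz => Cfsg.Agent.Lib.Helper33.gl_finish hq hc hD hz)
    (fun {_} h5 hc {_} hT hfull => Cfsg.Agent.Lib.Helper29.sl_caseA h5 hc hT hfull)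
    hq hn

end Cfsg.Agent.Lib.Helper43
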