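/-
helper43: S2647 project (helper44) — module [MON]: a monomial isometry of `c·Σxᵢ²` on `F^7` lies in `Ω₇`
iff its sign vector has product one and its permutation is even (2 a non-square).
-/
import Cfsg.Agent.Lib.Helper44.O7.Defs

set_option autoImplicit false

namespace Cfsg.Agent.Lib.Helper43.O7
open Matrix Cfsg.Agent.Lib.Helper44 Cfsg.Agent.Lib.Helper44.O7

variable {F : Type*} [Field F]

theorem wss_polar_single_single (c : F) (i j : Fin 7) (hij : i ≠ j) :
    QuadraticMap.polar (⇑(wssF (cw c))) (Pi.single i (1 : F)) (Pi.single j (1 : F)) = 0 := by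
  rw [wssF_polar_single, Pi.single_eq_of_ne hij, mul_zero]

theorem wss_sub_single (c : F) (i j : Fin 7) (hij : i ≠ j) :
    wssF (cw c) (Pi.single i (1 : F) - Pi.single j (1 : F)) = 2 * c := by
  have h := Helper13.quadraticForm_sub_smul (wssF (cw c)) (Pi.single i (1 : F))
    (Pi.single j (1 : F)) 1
  rw [one_smul, wssF_single, wssF_single, wss_polar_single_single c j i hij.symm] at h
  rw [h]
  ring

theorem mon_swap_eq_refl (h2 : (2 : F) ≠ 0) (c : F) (hc : c ≠ 0) (i j : Fin 7) (hij : i ≠ j) :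
    mon c 1 (Equiv.swap i j) =
      reflElt (wssF (cw c)) (Pi.single i (1 : F) - Pi.single j (1 : F)) := by
  have hne : wssF (cw c) (Pi.single i (1 : F) - Pi.single j (1 : F)) ≠ 0 := by
    rw [wss_sub_single c i j hij]
    exact mul_ne_zero h2 hc
  apply ext_mulVec
  intro v
  rw [mon_mulVec, reflElt_mulVec _ _ hne, wss_sub_single c i j hij, QuadraticMap.polar_sub_left,
    wssF_polar_single, wssF_polar_single]
  have hcoef : (2 * c)⁻¹ * (2 * cw c i * v i - 2 * cw c j * v j) = v i - v j := by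
    show (2 * c)⁻¹ * (2 * c * v i - 2 * c * v j) = v i - v j
    field_simp
  rw [hcoef]
  funext k
  simp only [Pi.one_apply, Units.val_one, Int.cast_one, one_mul, Equiv.swap_inv, Pi.sub_apply,
    Pi.smul_apply, smul_eq_mul]
  by_cases hki : k = i
  · subst hki
    rw [Equiv.swap_apply_left, Pi.single_eq_same, Pi.single_eq_of_ne hij]
    ring
  · by_cases hkj : k = j
    · subst hkj
      rw [Equiv.swap_apply_right, Pi.single_eq_same, Pi.single_eq_of_ne hki]
      ring
    · rw [Equiv.swap_apply_of_ne_of_ne hki hkj, Pi.single_eq_of_ne hki, Pi.single_eq_of_ne hkj]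
      ring

theorem mon_one_mul (c : F) (σ τ : Equiv.Perm (Fin 7)) :
    mon c 1 (σ * τ) = mon c 1 σ * mon c 1 τ := by
  rw [mon_mul]
  congr 1

/-- a permutation monomial matrix is a product of reflections in vectors of value `2c`, their number
having the parity of the permutation. -/
theorem mon_perm_eq_prod_refl (h2 : (2 : F) ≠ 0) (c : F) (hc : c ≠ 0) (σ : Equiv.Perm (Fin 7)) :
    ∃ vs : List (Fin 7 → F), (∀ v ∈ vs, wssF (cw c) v = 2 * c) ∧
      mon c 1 σ = (vs.map (reflElt (wssF (cw c)))).prod ∧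
      Equiv.Perm.sign σ = (-1) ^ vs.length := by
  induction σ using Equiv.Perm.swap_induction_on with
  | one => exact ⟨[], by simp, by simpa using mon_one c, by simp⟩
  | swap_mul f x y hxy ih =>
    obtain ⟨vs, hvs, hprod, hsign⟩ := ih
    refine ⟨(Pi.single x (1 : F) - Pi.single y (1 : F)) :: vs, ?_, ?_, ?_⟩
    · intro v hv
      rcases List.mem_cons.1 hv with rfl | hv
      · exact wss_sub_single c x y hxy
      · exact hvs v hv
    · rw [mon_one_mul, List.map_cons, List.prod_cons, ← hprod, mon_swap_eq_refl h2 c hc x y hxy]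
    · rw [Equiv.Perm.sign_mul, Equiv.Perm.sign_swap hxy, hsign, List.length_cons, pow_succ']

theorem prod_eq_neg_one_pow_card_negSet (ε : Fin 7 → ℤˣ) :
    ∏ k, ε k = (-1) ^ (negSet ε).card := by
  have h1 : ∀ k, ε k = if k ∈ negSet ε then (-1 : ℤˣ) else 1 := by
    intro k
    by_cases hk : ε k = -1
    · rw [if_pos ((mem_negSet ε k).2 hk), hk]
    · rw [if_neg (fun h => hk ((mem_negSet ε k).1 h))]
      rcases Int.units_eq_one_or (ε k) with h | h
      · exact h
      · exact absurd h hk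
  rw [Finset.prod_congr rfl (fun k _ => h1 k), Finset.prod_ite, Finset.prod_const_one, mul_one,
    Finset.prod_const]
  congr 2
  ext k
  simp

theorem neg_one_pow_eq_one_iff_even (n : ℕ) : ((-1 : ℤˣ)) ^ n = 1 ↔ Even n := by
  constructor
  · intro h
    by_contra hodd
    rw [Nat.not_even_iff_odd] at hodd
    rw [hodd.neg_one_pow] at h
    revert h
    decide
  · intro h
    exact h.neg_one_pow

theorem isSquare_pow_mul_iff (hns : ¬ IsSquare (2 : F)) (c : F) (hc : c ≠ 0) (k t : ℕ)
    (hkt : Even (k + t)) : IsSquare (c ^ k * (2 * c) ^ t) ↔ Even t := by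
  have h2 : (2 : F) ≠ 0 := by
    intro h
    apply hns
    rw [h]
    exact ⟨0, by simp⟩
  have e1 : c ^ k * (2 * c) ^ t = c ^ (k + t) * 2 ^ t := by
    rw [mul_pow, pow_add]
    ring
  obtain ⟨m, hm⟩ := hkt
  have e2 : c ^ (k + t) = (c ^ m) * (c ^ m) := by rw [hm, pow_add]
  constructor
  · intro h
    by_contra hodd
    rw [Nat.not_even_iff_odd] at hodd
    obtain ⟨s, hs⟩ := hodd
    obtain ⟨r, hr⟩ := h
    apply hns
    refine ⟨r / (c ^ m * 2 ^ s), ?_⟩
    have hcm : c ^ m ≠ 0 := pow_ne_zero _ hc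
    have h2s : (2 : F) ^ s ≠ 0 := pow_ne_zero _ h2
    have e3 : (2 : F) ^ (2 * s + 1) = 2 * (2 ^ s * 2 ^ s) := by ring
    rw [e1, e2, hs, e3] at hr
    field_simp
    linear_combination hr
  · rintro ⟨s, hs⟩
    rw [e1, e2, hs]
    exact ⟨c ^ m * 2 ^ s, by rw [pow_add]; ring⟩

/-- a monomial isometry lies in `Ω₇` iff its sign vector has product one and its permutation is even
(2 is a non-square: `q ≡ ±3 mod 8`). -/
theorem mon_mem_OmG_iff [Fintype F] (h2 : (2 : F) ≠ 0) (hns : ¬ IsSquare (2 : F)) (c : F) (hc : c ≠ 0)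
    (ε : Fin 7 → ℤˣ) (σ : Equiv.Perm (Fin 7)) :
    mon c ε σ ∈ OmG c ↔ (∏ k, ε k = 1 ∧ Equiv.Perm.sign σ = 1) := by
  obtain ⟨vs, hvs, hprod, hsign⟩ := mon_perm_eq_prod_refl h2 c hc σ
  have hw : ∀ i : Fin 7, cw c i ≠ 0 := fun _ => hc
  set l1 : List (Fin 7 → F) := (negSet ε).toList.map (fun i => (Pi.single i (1 : F) : Fin 7 → F))
    with hl1
  have hd : mon c ε 1 = (l1.map (reflElt (wssF (cw c)))).prod := by
    rw [mon_eq_dsign, dsign_eq_prod_refl (cw c) hw, hl1, List.map_map]
    rfl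
  have hall : mon c ε σ = ((l1 ++ vs).map (reflElt (wssF (cw c)))).prod := by
    rw [mon_eq_mul, hd, hprod, List.map_append, List.prod_append]
  have hl1val : ∀ v ∈ l1, wssF (cw c) v = c := by
    intro v hv
    obtain ⟨i, -, rfl⟩ := List.mem_map.1 hv
    exact wssF_single (cw c) i
  have hne : ∀ v ∈ l1 ++ vs, wssF (cw c) v ≠ 0 := by
    intro v hv
    rcases List.mem_append.1 hv with hv | hv
    · rw [hl1val v hv]; exact hc
    · rw [hvs v hv]; exact mul_ne_zero h2 hc
  have hlen1 : l1.length = (negSet ε).card := by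
    rw [hl1, List.length_map, Finset.length_toList]
  have hprodval : ((l1 ++ vs).map (fun v => wssF (cw c) v)).prod = c ^ l1.length * (2 * c) ^ vs.length := by
    rw [List.map_append, List.prod_append]
    congr 1
    · rw [List.map_congr_left hl1val, List.map_const', List.prod_replicate]
    · rw [List.map_congr_left hvs, List.map_const', List.prod_replicate]
  show mon c ε σ ∈ Cfsg.Omega F (⇑(wssF (cw c))) ↔ _
  rw [hall, reflElt_list_prod_mem_Omega_iff (wssF (cw c)) h2 (by simp) (wssF_nondeg h2 (cw c) hw)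
    _ hne, hprodval, List.length_append, hlen1, prod_eq_neg_one_pow_card_negSet, hsign,
    neg_one_pow_eq_one_iff_even, neg_one_pow_eq_one_iff_even]
  constructor
  · rintro ⟨hev, hsq⟩
    have ht := (isSquare_pow_mul_iff hns c hc _ _ hev).1 hsq
    refine ⟨?_, ht⟩
    obtain ⟨a, ha⟩ := hev
    obtain ⟨b, hb⟩ := ht
    exact ⟨a - b, by omega⟩
  · rintro ⟨hk, ht⟩
    have hev : Even ((negSet ε).card + vs.length) := hk.add ht
    exact ⟨hev, (isSquare_pow_mul_iff hns c hc _ _ hev).2 ht⟩

end Cfsg.Agent.Lib.Helper43.O7
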