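/-
helper43: S2647 project (helper44) — module [SC] (assembly): a subgroup of `S0 c` closed under
`Ω₇`-fusion inside `S0 c` is trivial or all of `S0 c`.
-/
import Cfsg.Agent.Lib.Helper44.O7.Mon
import Cfsg.Agent.Lib.Helper44.O7.Irred
import Cfsg.Agent.Lib.Helper44.O7.Center
import Cfsg.Agent.Lib.Helper44.O7.Conj

set_option autoImplicit false

namespace Cfsg.Agent.Lib.Helper43.O7
open Matrix Cfsg.Agent.Lib.Helper44 Cfsg.Agent.Lib.Helper44.O7

variable {F : Type*} [Field F]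

/-- the even permutation `(1 2 4 3 5)`, conjugating `tP = (0 1)(2 3)` to `bP = (0 2)(4 5)` -/
def rhoP : Equiv.Perm (Fin 7) := mkP ![0,2,4,5,3,1,6] ![0,5,1,4,2,3,6] (by decide) (by decide)

set_option maxRecDepth 100000 in
theorem rhoP_conj : rhoP * tP * rhoP⁻¹ = bP := by decide

set_option maxRecDepth 100000 in
theorem rhoP_sign : Equiv.Perm.sign rhoP = 1 := by decide

set_option maxRecDepth 100000 in
theorem aP_eq : aP = bP * tP := by decide
set_option maxRecDepth 100000 in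
theorem a2P_eq : a2P = aP * aP := by decide
set_option maxRecDepth 100000 in
theorem a3P_eq : a3P = aP * aP * aP := by decide
set_option maxRecDepth 100000 in
theorem b2P_eq : b2P = a2P * bP := by decide
set_option maxRecDepth 100000 in
theorem t2P_eq : t2P = a2P * tP := by decide

theorem sc_mon_diag_mul (c : F) (ε ε' : Fin 7 → ℤˣ) :
    mon c ε 1 * mon c ε' 1 = mon c (ε * ε') 1 := by
  rw [mon_mul]
  congr 1

theorem sc_mon_diag_inv (c : F) (ε : Fin 7 → ℤˣ) : (mon c ε 1)⁻¹ = mon c ε 1 := by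
  rw [mon_inv]
  congr 1

theorem sc_mon_perm_mul (c : F) (σ τ : Equiv.Perm (Fin 7)) :
    mon c 1 σ * mon c 1 τ = mon c 1 (σ * τ) := by
  rw [mon_mul]
  congr 1

theorem sc_mon_perm_inv (c : F) (σ : Equiv.Perm (Fin 7)) : (mon c 1 σ)⁻¹ = mon c 1 σ⁻¹ := by
  rw [mon_inv]
  congr 1

theorem sc_S0_le_OmG [Fintype F] (h2 : (2 : F) ≠ 0) (hns : ¬ IsSquare (2 : F)) (c : F) (hc : c ≠ 0) :
    S0 c ≤ OmG c := by
  rintro _ ⟨ε, hε, σ, hσ, rfl⟩
  rw [mon_mem_OmG_iff h2 hns c hc]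
  exact ⟨mem_evenSign.1 hε, sign_of_mem_d8 hσ⟩

/-- **(SC)**: a subgroup of `S0` closed under `Ω₇`-fusion inside `S0` is trivial or all of `S0`. -/
theorem strongly_closed_S0 [Fintype F] (h2 : (2 : F) ≠ 0) (hns : ¬ IsSquare (2 : F)) (c : F) (hc : c ≠ 0)
    (T : Subgroup ↥(OG c)) (hT : T ≤ S0 c)
    (hsc : ∀ x ∈ T, ∀ g ∈ OmG c, g * x * g⁻¹ ∈ S0 c → g * x * g⁻¹ ∈ T) : T = ⊥ ∨ T = S0 c := by
  by_cases hne : T = ⊥
  · exact Or.inl hne
  right
  have hS0Ω := sc_S0_le_OmG h2 hns c hc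
  have hnorm : ∀ s ∈ S0 c, ∀ x ∈ T, s * x * s⁻¹ ∈ T := fun s hs x hx =>
    hsc x hx s (hS0Ω hs) ((S0 c).mul_mem ((S0 c).mul_mem hs (hT hx)) ((S0 c).inv_mem hs))
  obtain ⟨ε₀, hε₀, hε₀1, hε₀T⟩ := exists_diag_of_normal h2 c T hT hne hnorm
  -- the lattice of diagonal elements of `T`
  let L : Subgroup (Fin 7 → ℤˣ) :=
    { carrier := {ε | ε ∈ evenSign ∧ mon c ε 1 ∈ T}
      mul_mem' := by
        rintro ε ε' ⟨h1, h1'⟩ ⟨h3, h3'⟩
        refine ⟨evenSign.mul_mem h1 h3, ?_⟩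
        rw [← sc_mon_diag_mul]
        exact T.mul_mem h1' h3'
      one_mem' := ⟨evenSign.one_mem, by rw [mon_one]; exact T.one_mem⟩
      inv_mem' := by
        rintro ε ⟨h1, h1'⟩
        refine ⟨evenSign.inv_mem h1, ?_⟩
        have : ε⁻¹ = ε := by
          funext k
          rw [Pi.inv_apply]
          exact inv_eq_of_mul_eq_one_right (units_int_mul_self (ε k))
        rw [this]
        exact h1' }
  have hL_le : L ≤ evenSign := fun ε hε => hε.1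
  have hL_ne : L ≠ ⊥ := by
    intro h
    have : ε₀ ∈ L := ⟨hε₀, hε₀T⟩
    rw [h, Subgroup.mem_bot] at this
    exact hε₀1 this
  have hL_inv : ∀ σ : Equiv.Perm (Fin 7), Equiv.Perm.sign σ = 1 → ∀ ε ∈ L,
      (fun k => ε (σ⁻¹ k)) ∈ L := by
    rintro σ hσ ε ⟨hε, hεT⟩
    have hev : (fun k => ε (σ⁻¹ k)) ∈ evenSign := by
      rw [mem_evenSign] at hε ⊢
      rw [Equiv.prod_comp σ⁻¹ ε, hε]
    refine ⟨hev, ?_⟩
    have hσΩ : mon c 1 σ ∈ OmG c := by
      rw [mon_mem_OmG_iff h2 hns c hc]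
      exact ⟨by simp, hσ⟩
    have hconj := mon_conj_diag c 1 ε σ
    rw [← hconj]
    apply hsc _ hεT _ hσΩ
    rw [hconj]
    exact E0_le_S0 c ⟨_, hev, rfl⟩
  have hLtop : L = evenSign := evenSign_irreducible L hL_le hL_ne hL_inv
  have hE0T : ∀ ε ∈ evenSign, mon c ε 1 ∈ T := by
    intro ε hε
    have : ε ∈ L := by rw [hLtop]; exact hε
    exact this.2
  -- the permutation part
  have htP : mon c 1 tP ∈ T := by
    obtain ⟨g, hgΩ, hg⟩ := exists_conj_tP h2 c hc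
    rw [← hg]
    apply hsc _ (hE0T d01 d01_mem) g hgΩ
    rw [hg]
    exact ⟨1, evenSign.one_mem, tP, mem_d8.2 (by tauto), rfl⟩
  have hbP : mon c 1 bP ∈ T := by
    have hρΩ : mon c 1 rhoP ∈ OmG c := by
      rw [mon_mem_OmG_iff h2 hns c hc]
      exact ⟨by simp, rhoP_sign⟩
    obtain ⟨ε'', h3, h3'⟩ := mon_conj c 1 1 rhoP tP
    rw [rhoP_conj] at h3
    have hε'' : ε'' ∈ evenSign := by
      rw [mem_evenSign, h3']
      simp
    have h4 : mon c ε'' bP ∈ T := by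
      rw [← h3]
      apply hsc _ htP _ hρΩ
      rw [h3]
      exact ⟨ε'', hε'', bP, mem_d8.2 (by tauto), rfl⟩
    have h5 : mon c 1 bP = (mon c ε'' 1)⁻¹ * mon c ε'' bP := by
      rw [mon_eq_mul c ε'' bP, inv_mul_cancel_left]
    rw [h5]
    exact T.mul_mem (T.inv_mem (hE0T ε'' hε'')) h4
  have hmul : ∀ σ τ, mon c 1 σ ∈ T → mon c 1 τ ∈ T → mon c 1 (σ * τ) ∈ T := by
    intro σ τ h1 h3
    rw [← sc_mon_perm_mul]
    exact T.mul_mem h1 h3
  have haP : mon c 1 aP ∈ T := by rw [aP_eq]; exact hmul _ _ hbP htP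
  have ha2P : mon c 1 a2P ∈ T := by rw [a2P_eq]; exact hmul _ _ haP haP
  have hd8 : ∀ σ ∈ d8, mon c 1 σ ∈ T := by
    intro σ hσ
    rcases mem_d8.1 hσ with rfl | rfl | rfl | rfl | rfl | rfl | rfl | rfl
    · rw [mon_one]; exact T.one_mem
    · exact haP
    · exact ha2P
    · rw [a3P_eq]; exact hmul _ _ (hmul _ _ haP haP) haP
    · exact hbP
    · rw [b2P_eq]; exact hmul _ _ ha2P hbP
    · exact htP
    · rw [t2P_eq]; exact hmul _ _ ha2P htP
  apply le_antisymm hT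
  rintro _ ⟨ε, hε, σ, hσ, rfl⟩
  rw [mon_eq_mul]
  exact T.mul_mem (hE0T ε hε) (hd8 σ hσ)

end Cfsg.Agent.Lib.Helper43.O7
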