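/-
helper43: standard field automorphisms of `PΩ(Q)` for a form `Q` commuting with the field
automorphisms (coefficients in the prime field), and their relations with the automorphisms
`simAut Q g` (helper36) induced by similarities.
-/
import Mathlib
import Cfsg.Agent.Lib.Helper36.SemiPair

set_option autoImplicit false

namespace Cfsg.Agent.Lib.Helper43

open scoped MatrixGroups Matrix
open Matrix Cfsg.Agent.Lib.Helper36

variable {ι : Type} [Fintype ι] [DecidableEq ι] {F : Type*} [Field F]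

/-- the form commutes with the field automorphisms applied to the coordinates -/
def FieldCompat (Q : (ι → F) → F) : Prop :=
  ∀ (σ : F ≃+* F) (v : ι → F), Q (vmap σ v) = σ (Q v)

theorem glMap_mem_isometryGroup {Q : (ι → F) → F} (hQ : FieldCompat Q) (σ : F ≃+* F)
    (s : GL ι F) (hs : s ∈ Cfsg.isometryGroup F Q) :
    Cfsg.Agent.Lib.Helper36.glMap σ s ∈ Cfsg.isometryGroup F Q := by
  rw [mem_isometryGroup_iff'] at hs ⊢
  intro v
  have hv : v = vmap σ (vmap σ.symm v) := (vmap_symm_vmap σ v).symm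
  rw [hv, Cfsg.Agent.Lib.Helper36.glMap_coe, map_mulVec_vmap, hQ, hs, ← hQ]

theorem glMap_mem_quadSim {Q : (ι → F) → F} (hQ : FieldCompat Q) (σ : F ≃+* F)
    (g : GL ι F) (hg : g ∈ Cfsg.Geo.quadSimilarityGroup Q) :
    Cfsg.Agent.Lib.Helper36.glMap σ g ∈ Cfsg.Geo.quadSimilarityGroup Q := by
  obtain ⟨c, hc⟩ := hg
  refine ⟨Units.map (σ : F →* F) c, fun v => ?_⟩
  have hv : v = vmap σ (vmap σ.symm v) := (vmap_symm_vmap σ v).symm
  rw [hv, Cfsg.Agent.Lib.Helper36.glMap_coe, map_mulVec_vmap, hQ, hc, map_mul, ← hQ]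
  rfl

/-- `σ` entrywise as an endomorphism of the isometry group -/
noncomputable def isoFieldHom {Q : (ι → F) → F} (hQ : FieldCompat Q) (σ : RingAut F) :
    ↥(Cfsg.isometryGroup F Q) →* ↥(Cfsg.isometryGroup F Q) where
  toFun s := ⟨Cfsg.Agent.Lib.Helper36.glMap σ s.1, glMap_mem_isometryGroup hQ σ s.1 s.2⟩
  map_one' := by
    apply Subtype.ext
    show Cfsg.Agent.Lib.Helper36.glMap σ (1 : GL ι F) = 1
    rw [map_one]
  map_mul' s t := by
    apply Subtype.ext
    show Cfsg.Agent.Lib.Helper36.glMap σ (s.1 * t.1) = _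
    rw [map_mul]
    rfl

theorem isoFieldHom_coe {Q : (ι → F) → F} (hQ : FieldCompat Q) (σ : RingAut F)
    (s : ↥(Cfsg.isometryGroup F Q)) :
    (((isoFieldHom hQ σ s : ↥(Cfsg.isometryGroup F Q)) : GL ι F) : Matrix ι ι F) =
      ((s : GL ι F) : Matrix ι ι F).map σ := rfl

theorem iso_ext {Q : (ι → F) → F} {s t : ↥(Cfsg.isometryGroup F Q)}
    (h : ((s : GL ι F) : Matrix ι ι F) = ((t : GL ι F) : Matrix ι ι F)) : s = t :=
  Subtype.ext (Units.ext h)

/-- the automorphism of the isometry group induced by a field automorphism -/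
noncomputable def isoFieldAut {Q : (ι → F) → F} (hQ : FieldCompat Q) :
    RingAut F →* MulAut ↥(Cfsg.isometryGroup F Q) where
  toFun σ := MonoidHom.toMulEquiv (isoFieldHom hQ σ) (isoFieldHom hQ σ⁻¹)
    (by
      apply MonoidHom.ext
      intro s
      apply iso_ext
      show (((s : GL ι F) : Matrix ι ι F).map σ).map (σ⁻¹ : RingAut F) = _
      ext i j
      exact σ.symm_apply_apply _)
    (by
      apply MonoidHom.ext
      intro s
      apply iso_ext
      show (((s : GL ι F) : Matrix ι ι F).map (σ⁻¹ : RingAut F)).map σ = _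
      ext i j
      exact σ.apply_symm_apply _)
  map_one' := by
    apply MulEquiv.ext
    intro s
    apply iso_ext
    show ((s : GL ι F) : Matrix ι ι F).map (1 : RingAut F) = _
    ext i j
    rfl
  map_mul' σ τ := by
    apply MulEquiv.ext
    intro s
    apply iso_ext
    show ((s : GL ι F) : Matrix ι ι F).map (σ * τ : RingAut F) =
      (((s : GL ι F) : Matrix ι ι F).map τ).map σ
    ext i j
    rfl

theorem isoFieldAut_apply_coe {Q : (ι → F) → F} (hQ : FieldCompat Q) (σ : RingAut F)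
    (s : ↥(Cfsg.isometryGroup F Q)) :
    (((isoFieldAut hQ σ s : ↥(Cfsg.isometryGroup F Q)) : GL ι F) : Matrix ι ι F) =
      ((s : GL ι F) : Matrix ι ι F).map σ := rfl

/-- field automorphisms of `PΩ(Q)` -/
noncomputable def oField {Q : (ι → F) → F} (hQ : FieldCompat Q) :
    RingAut F →* MulAut (Cfsg.POmega F Q) :=
  (autQuotCenter.comp (MulAut.characteristic (commutator ↥(Cfsg.isometryGroup F Q)))).comp
    (isoFieldAut hQ)

/-- the image of an element of `Ω` under a field automorphism -/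
noncomputable def omegaField {Q : (ι → F) → F} (hQ : FieldCompat Q) (σ : RingAut F)
    (s : ↥(Cfsg.Omega F Q)) : ↥(Cfsg.Omega F Q) :=
  MulAut.characteristic (commutator ↥(Cfsg.isometryGroup F Q)) (isoFieldAut hQ σ) s

theorem omegaField_coe {Q : (ι → F) → F} (hQ : FieldCompat Q) (σ : RingAut F)
    (s : ↥(Cfsg.Omega F Q)) :
    ((((omegaField hQ σ s : ↥(Cfsg.Omega F Q)) : ↥(Cfsg.isometryGroup F Q)) : GL ι F) :
      Matrix ι ι F) = (((s : ↥(Cfsg.isometryGroup F Q)) : GL ι F) : Matrix ι ι F).map σ := rfl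

theorem oField_mk {Q : (ι → F) → F} (hQ : FieldCompat Q) (σ : RingAut F)
    (s : ↥(Cfsg.Omega F Q)) :
    oField hQ σ (QuotientGroup.mk s : Cfsg.POmega F Q) = QuotientGroup.mk (omegaField hQ σ s) :=
  rfl

theorem omega_ext {Q : (ι → F) → F} {s t : ↥(Cfsg.Omega F Q)}
    (h : (((s : ↥(Cfsg.isometryGroup F Q)) : GL ι F) : Matrix ι ι F) =
      (((t : ↥(Cfsg.isometryGroup F Q)) : GL ι F) : Matrix ι ι F)) : s = t :=
  Subtype.ext (iso_ext h)

/-- the Prelude predicate for standard field automorphisms -/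
theorem isFieldAutPOmegaOf_iff {Q : (ι → F) → F} (hQ : FieldCompat Q) (σ : F ≃+* F)
    (β : Cfsg.POmega F Q ≃* Cfsg.POmega F Q) :
    Cfsg.IsFieldAutPOmegaOf Q σ β ↔ β = oField hQ σ := by
  constructor
  · intro h
    apply MulEquiv.ext
    intro x
    obtain ⟨s, rfl⟩ := QuotientGroup.mk_surjective x
    rw [oField_mk]
    exact h s _ (omegaField_coe hQ σ s)
  · rintro rfl s s' hs'
    rw [oField_mk]
    congr 1
    apply omega_ext
    rw [hs', omegaField_coe]

/-- `σ` entrywise on the similarity group -/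
noncomputable def simMap {Q : (ι → F) → F} (hQ : FieldCompat Q) (σ : RingAut F) :
    ↥(Cfsg.Geo.quadSimilarityGroup Q) →* ↥(Cfsg.Geo.quadSimilarityGroup Q) where
  toFun g := ⟨Cfsg.Agent.Lib.Helper36.glMap σ g.1, glMap_mem_quadSim hQ σ g.1 g.2⟩
  map_one' := by
    apply Subtype.ext
    show Cfsg.Agent.Lib.Helper36.glMap σ (1 : GL ι F) = 1
    rw [map_one]
  map_mul' s t := by
    apply Subtype.ext
    show Cfsg.Agent.Lib.Helper36.glMap σ (s.1 * t.1) = _
    rw [map_mul]
    rfl

theorem simMap_coe {Q : (ι → F) → F} (hQ : FieldCompat Q) (σ : RingAut F)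
    (g : ↥(Cfsg.Geo.quadSimilarityGroup Q)) :
    (((simMap hQ σ g : ↥(Cfsg.Geo.quadSimilarityGroup Q)) : GL ι F) : Matrix ι ι F) =
      ((g : GL ι F) : Matrix ι ι F).map σ := rfl

/-- the commutation relation between field automorphisms and similarities -/
theorem oField_mul_simAut {Q : (ι → F) → F} (hQ : FieldCompat Q) (σ : RingAut F)
    (g : ↥(Cfsg.Geo.quadSimilarityGroup Q)) :
    oField hQ σ * simAut Q g = simAut Q (simMap hQ σ g) * oField hQ σ := by
  apply MulEquiv.ext
  intro x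
  obtain ⟨s, rfl⟩ := QuotientGroup.mk_surjective x
  obtain ⟨s₁, hs₁⟩ := exists_conj_Omega Q g s
  rw [MulAut.mul_apply, MulAut.mul_apply, simAut_mk Q g s s₁ hs₁, oField_mk, oField_mk]
  symm
  apply simAut_mk Q (simMap hQ σ g) (omegaField hQ σ s) (omegaField hQ σ s₁)
  apply Units.ext
  rw [omegaField_coe, Units.val_mul, Units.val_mul]
  have h1 : ((((omegaField hQ σ s : ↥(Cfsg.Omega F Q)) : ↥(Cfsg.isometryGroup F Q)) : GL ι F) :
      Matrix ι ι F) = (((s : ↥(Cfsg.isometryGroup F Q)) : GL ι F) : Matrix ι ι F).map σ :=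
    omegaField_coe hQ σ s
  have h2 : ((((simMap hQ σ g : ↥(Cfsg.Geo.quadSimilarityGroup Q)) : GL ι F)⁻¹ : GL ι F) :
      Matrix ι ι F) = (((g : GL ι F)⁻¹ : GL ι F) : Matrix ι ι F).map σ := by
    have : ((simMap hQ σ g : ↥(Cfsg.Geo.quadSimilarityGroup Q)) : GL ι F)⁻¹ =
        Cfsg.Agent.Lib.Helper36.glMap σ ((g : GL ι F)⁻¹) := by
      rw [map_inv]
      rfl
    rw [this]
    rfl
  rw [h1, h2, simMap_coe, hs₁, Units.val_mul, Units.val_mul, Matrix.map_mul, Matrix.map_mul]

end Cfsg.Agent.Lib.Helper43
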