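/-
helper43: standard form `simAut g * oField σ` of the automorphisms of `PΩ(Q)`: bridge to the
Prelude predicates, uniqueness of the field part, kernel, and the consequences of
`gammaPOmega F Q = ⊤`.
-/
import Mathlib
import Cfsg.Agent.Lib.Helper43.OFieldAut
import Cfsg.Agent.Lib.Helper36.SemiPair2
import Cfsg.Agent.Lib.Helper36.EichUnip

set_option autoImplicit false

namespace Cfsg.Agent.Lib.Helper43

open scoped MatrixGroups Matrix
open Matrix Cfsg.Agent.Lib.Helper36

variable {ι : Type} [Fintype ι] [DecidableEq ι] {F : Type*} [Field F]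

theorem isSemisimilarityPair_of_mem {Q : (ι → F) → F} (hQ : FieldCompat Q) (g : GL ι F)
    (hg : g ∈ Cfsg.Geo.quadSimilarityGroup Q) (σ : F ≃+* F) :
    Cfsg.IsSemisimilarityPair Q g σ := by
  obtain ⟨c, hc⟩ := hg
  refine ⟨c, fun v => ?_⟩
  have : (fun i => σ (v i)) = vmap σ v := rfl
  rw [this, hc, hQ]

theorem mem_quadSim_of_isSemisimilarityPair {Q : (ι → F) → F} (hQ : FieldCompat Q) (g : GL ι F)
    (σ : F ≃+* F) (h : Cfsg.IsSemisimilarityPair Q g σ) :
    g ∈ Cfsg.Geo.quadSimilarityGroup Q := by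
  obtain ⟨c, hc⟩ := h
  refine ⟨c, fun v => ?_⟩
  have h1 := hc (vmap σ.symm v)
  have : (fun i => σ (vmap σ.symm v i)) = v := vmap_symm_vmap σ v
  rw [this, ← hQ, vmap_symm_vmap] at h1
  exact h1

/-- an automorphism is induced by the semilinear map `(g, σ)` iff it is `simAut g * oField σ` -/
theorem isInducedBySemilinearPOmega_iff {Q : (ι → F) → F} (hQ : FieldCompat Q)
    (g : ↥(Cfsg.Geo.quadSimilarityGroup Q)) (σ : F ≃+* F)
    (β : Cfsg.POmega F Q ≃* Cfsg.POmega F Q) :
    Cfsg.IsInducedBySemilinearPOmega Q (g : GL ι F) σ β ↔ β = simAut Q g * oField hQ σ := by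
  constructor
  · intro h
    apply MulEquiv.ext
    intro x
    obtain ⟨s, rfl⟩ := QuotientGroup.mk_surjective x
    obtain ⟨s₁, hs₁⟩ := exists_conj_Omega Q g (omegaField hQ σ s)
    rw [MulAut.mul_apply, oField_mk, simAut_mk Q g _ s₁ hs₁]
    apply h s s₁
    rw [hs₁, Units.val_mul, Units.val_mul]
    rfl
  · rintro rfl s s' hs'
    rw [MulAut.mul_apply, oField_mk]
    apply simAut_mk Q g (omegaField hQ σ s) s'
    apply Units.ext
    rw [hs', Units.val_mul, Units.val_mul]
    rfl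

theorem oField_refl {Q : (ι → F) → F} (hQ : FieldCompat Q) :
    oField hQ (RingEquiv.refl F) = (1 : MulAut (Cfsg.POmega F Q)) :=
  map_one (oField hQ)

/-- the standard automorphisms form a subgroup -/
noncomputable def stdAutO {Q : (ι → F) → F} (hQ : FieldCompat Q) :
    Subgroup (MulAut (Cfsg.POmega F Q)) where
  carrier := {β | ∃ (g : ↥(Cfsg.Geo.quadSimilarityGroup Q)) (σ : RingAut F),
    β = simAut Q g * oField hQ σ}
  one_mem' := ⟨1, 1, by rw [map_one, map_one, mul_one]⟩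
  mul_mem' := by
    rintro _ _ ⟨g, σ, rfl⟩ ⟨g', σ', rfl⟩
    refine ⟨g * simMap hQ σ g', σ * σ', ?_⟩
    rw [mul_assoc, ← mul_assoc (oField hQ σ), oField_mul_simAut, map_mul, map_mul]
    simp only [mul_assoc]
  inv_mem' := by
    rintro _ ⟨g, σ, rfl⟩
    refine ⟨simMap hQ σ⁻¹ g⁻¹, σ⁻¹, ?_⟩
    rw [_root_.mul_inv_rev, ← map_inv, ← map_inv, oField_mul_simAut]

/-- if `gammaPOmega = ⊤` then every automorphism is standard -/
theorem exists_std_of_gammaPOmega_eq_top [Fintype F] {Q : (ι → F) → F} (hQ : FieldCompat Q)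
    (h : Cfsg.gammaPOmega F Q = ⊤) (β : MulAut (Cfsg.POmega F Q)) :
    ∃ (g : ↥(Cfsg.Geo.quadSimilarityGroup Q)) (σ : RingAut F),
      β = simAut Q g * oField hQ σ := by
  have hβ : β ∈ Cfsg.gammaPOmega F Q := by rw [h]; exact Subgroup.mem_top β
  obtain ⟨g, σ, hp, hi⟩ := (mem_gammaPOmega_iff Q β).mp hβ
  have hg := mem_quadSim_of_isSemisimilarityPair hQ g σ hp
  exact ⟨⟨g, hg⟩, σ, (isInducedBySemilinearPOmega_iff hQ ⟨g, hg⟩ σ β).mp hi⟩

/-- conjugating `simAut h` by a standard automorphism -/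
theorem std_conj_simAut {Q : (ι → F) → F} (hQ : FieldCompat Q)
    (g h : ↥(Cfsg.Geo.quadSimilarityGroup Q)) (σ : RingAut F) :
    (simAut Q g * oField hQ σ) * simAut Q h * (simAut Q g * oField hQ σ)⁻¹ =
      simAut Q (g * simMap hQ σ h * g⁻¹) := by
  rw [mul_assoc (simAut Q g), oField_mul_simAut, _root_.mul_inv_rev, map_mul, map_mul, map_inv]
  group

/-! ### kernel -/

section kernel

variable [Fintype F]

local notation "pol" => QuadraticMap.polar

theorem eichN_map {Q : (ι → F) → F} (hQ : FieldCompat Q) (p w : ι → F) (τ : F ≃+* F)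
    (hp : vmap τ p = p) (hw : vmap τ w = w) :
    (eichN Q p w).map τ = eichN Q p w := by
  have hgram : ∀ i j, τ (Cfsg.Agent.Lib.Helper44.gramStd Q i j) =
      Cfsg.Agent.Lib.Helper44.gramStd Q i j := by
    intro i j
    rw [Cfsg.Agent.Lib.Helper44.gramStd_apply]
    unfold QuadraticMap.polar
    have hs : ∀ k : ι, vmap τ (Pi.single k (1 : F)) = Pi.single k (1 : F) := by
      intro k
      funext l
      unfold vmap
      by_cases hkl : l = k
      · subst hkl; simp
      · simp [Pi.single_apply, hkl]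
    have hadd : vmap τ (Pi.single i (1 : F) + Pi.single j (1 : F)) =
        Pi.single i (1 : F) + Pi.single j (1 : F) := by
      funext l
      have h1 := congrFun (hs i) l
      have h2 := congrFun (hs j) l
      unfold vmap at h1 h2 ⊢
      rw [Pi.add_apply, map_add, h1, h2]
    rw [map_sub, map_sub, ← hQ, ← hQ, ← hQ, hadd, hs, hs]
  have hgv : ∀ (u : ι → F), vmap τ u = u →
      vmap τ (Cfsg.Agent.Lib.Helper44.gramStd Q *ᵥ u) =
        Cfsg.Agent.Lib.Helper44.gramStd Q *ᵥ u := by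
    intro u hu
    have h1 := map_mulVec_vmap τ (Cfsg.Agent.Lib.Helper44.gramStd Q) u
    have h2 : (Cfsg.Agent.Lib.Helper44.gramStd Q).map τ = Cfsg.Agent.Lib.Helper44.gramStd Q := by
      ext i j
      rw [Matrix.map_apply, hgram]
    rw [h2, hu] at h1
    exact h1.symm
  ext i j
  unfold eichN
  rw [Matrix.map_apply, Matrix.sub_apply, vecMulVec_apply, vecMulVec_apply, map_sub, map_mul,
    map_mul]
  have e1 := congrFun hp i
  have e2 := congrFun hw i
  have e3 := congrFun (hgv w hw) j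
  have e4 := congrFun (hgv p hp) j
  unfold vmap at e1 e2 e3 e4
  rw [e1, e2, e3, e4]

/-- the kernel of the standard parametrisation: the field part is trivial and the linear part
scalar -/
theorem eq_one_of_simAut_mul_oField_eq_one [DecidableEq F] (Q : QuadraticForm F (ι → F))
    (hQ : FieldCompat (⇑Q)) (hnd : (QuadraticMap.polarBilin Q).Nondegenerate)
    (h2 : (2 : F) ≠ 0) (h7 : 7 ≤ Fintype.card ι)
    (p w : ι → F) (hp : Q p = 0) (hw : Q w = 0) (hpw : pol (⇑Q) p w = 0)
    (hpτ : ∀ τ : F ≃+* F, vmap τ p = p) (hwτ : ∀ τ : F ≃+* F, vmap τ w = w)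
    (hN0 : eichN (⇑Q) p w ≠ 0)
    (g : ↥(Cfsg.Geo.quadSimilarityGroup (⇑Q))) (σ : RingAut F)
    (h : simAut (⇑Q) g * oField hQ σ = 1) :
    σ = 1 ∧ ∃ c : F, ∀ v : ι → F, ((g : GL ι F) : Matrix ι ι F) *ᵥ v = c • v := by
  have hi : Cfsg.IsInducedBySemilinearPOmega (⇑Q) (g : GL ι F) σ
      (1 : MulAut (Cfsg.POmega F (⇑Q))) :=
    (isInducedBySemilinearPOmega_iff hQ g σ 1).mpr h.symm
  have hpair := isSemisimilarityPair_of_mem hQ (g : GL ι F) g.2 σ
  have hσ : ∀ t : F, σ t = t :=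
    ringEquiv_apply_of_induced_one (⇑Q) (g : GL ι F) σ hpair hi h2 (eichN (⇑Q) p w)
      (eichN_mul_self Q p w hp hw hpw) hN0 (eichN_map hQ p w σ (hpτ σ) (hwτ σ))
      (fun t => exists_Omega_unipotent Q hnd h7 p w hp hw hpw t)
      (fun z hz => center_Omega_eq Q hnd h2 (by omega) z hz)
  have hσ1 : σ = 1 := by
    ext t
    exact hσ t
  refine ⟨hσ1, ?_⟩
  rw [hσ1, map_one, mul_one] at h
  exact scalar_of_normAut_eq_one Q hnd h2 (by omega)
    (Subgroup.inclusion (similarity_le_normalizer (⇑Q)) g) h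

end kernel

end Cfsg.Agent.Lib.Helper43
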