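/-
helper43: sub-leaf LEMMA A of ASCHOE-[E-O3O4P] (project ASCHOE, coordinator helper55; module owner helper38).
A non-degenerate symmetric form of plus type on `F^4` (`2 ≠ 0`) has a hyperbolic basis, and its Gram matrix is congruent to
`J ⊗ₖ J`, `J = !![0,1;-1,0]` (the polar form of `det` on `M₂(F)`).
-/
import Mathlib
import Cfsg.Prelude.Def_GeometricClasses
import Cfsg.Agent.Lib.Helper5.AschOBasic

set_option autoImplicit false

namespace Cfsg.Agent.Lib.Helper43.OeHyp4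

open Cfsg Cfsg.Geo
open scoped Matrix Kronecker MatrixGroups

variable {F : Type*} [Field F]

/-- the standard alternating `2 × 2` matrix -/
def J2 : Matrix (Fin 2) (Fin 2) F := !![0, 1; -1, 0]

theorem det_J2 : (J2 : Matrix (Fin 2) (Fin 2) F).det = 1 := by
  simp [J2, Matrix.det_fin_two_of]

section dual

variable {κ : Type} [Fintype κ] [DecidableEq κ]

/-- prescribing the values of a non-degenerate symmetric form against two independent vectors -/
theorem exists_dual_pair {f : (κ → F) → (κ → F) → F} (hf : IsSymmetricForm f) (t x : κ → F)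
    (ht : t ≠ 0) (hx : ∀ c : F, x ≠ c • t) (α β : F) : ∃ y, f t y = α ∧ f x y = β := by
  have hb := hf.bilinear
  obtain ⟨-, ⟨z0, hz0⟩⟩ := hf.nondegenerate t ht
  obtain ⟨z, hz⟩ : ∃ z, z = (f t z0)⁻¹ • z0 := ⟨_, rfl⟩
  have htz : f t z = 1 := by rw [hz, hb.smul_right, inv_mul_cancel₀ hz0]
  obtain ⟨s, hs⟩ : ∃ s, s = f x z := ⟨_, rfl⟩
  have hx' : x + (-s) • t ≠ 0 := by
    intro h
    apply hx s
    have : x = x + (-s) • t + s • t := by rw [neg_smul]; abel
    rw [this, h, zero_add]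
  obtain ⟨-, ⟨z0', hz0'⟩⟩ := hf.nondegenerate _ hx'
  obtain ⟨z', hz'⟩ : ∃ z', z' = (f (x + (-s) • t) z0')⁻¹ • z0' := ⟨_, rfl⟩
  have hx'z' : f (x + (-s) • t) z' = 1 := by rw [hz', hb.smul_right, inv_mul_cancel₀ hz0']
  obtain ⟨u, hu⟩ : ∃ u, u = f t z' := ⟨_, rfl⟩
  have hxz' : f x z' = 1 + s * u := by
    rw [hb.add_left, hb.smul_left, ← hu] at hx'z'
    linear_combination hx'z'
  refine ⟨(α - (β - α * s) * u) • z + (β - α * s) • z', ?_, ?_⟩
  · rw [hb.add_right, hb.smul_right, hb.smul_right, htz, ← hu]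
    ring
  · rw [hb.add_right, hb.smul_right, hb.smul_right, ← hs, hxz']
    ring

end dual

/-- a hyperbolic basis of a plus-type symmetric form on `F^4` -/
theorem exists_hyp_basis4 (h2 : (2 : F) ≠ 0) {f : (Fin 4 → F) → (Fin 4 → F) → F}
    (hf : IsSymmetricForm f) (hp : IsPlusTypeOn (fun v : Fin 4 → F => f v v) ⊤) :
    ∃ e1 f1 e2 f2 : Fin 4 → F,
      f e1 e1 = 0 ∧ f e1 f1 = 1 ∧ f e1 e2 = 0 ∧ f e1 f2 = 0 ∧ f f1 f1 = 0 ∧ f f1 e2 = 0 ∧ f f1 f2 = 0 ∧
      f e2 e2 = 0 ∧ f e2 f2 = 1 ∧ f f2 f2 = 0 := by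
  classical
  have hb := hf.bilinear
  let B : (Fin 4 → F) →ₗ[F] (Fin 4 → F) →ₗ[F] F :=
    LinearMap.mk₂ F f hb.add_left hb.smul_left hb.add_right hb.smul_right
  have hBf : ∀ u v, B u v = f u v := fun _ _ => rfl
  have hsymm : ∀ u v, B u v = B v u := fun u v => hf.symm u v
  obtain ⟨U, -, hUts, hUd⟩ := hp
  have hU2 : Module.finrank F U = 2 := by
    rw [finrank_top, Module.finrank_fintype_fun_eq_card, Fintype.card_fin] at hUd
    omega
  let b := Module.finBasisOfFinrankEq F U hU2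
  obtain ⟨e1, he1⟩ : ∃ e1 : Fin 4 → F, e1 = (b 0 : Fin 4 → F) := ⟨_, rfl⟩
  obtain ⟨e2, he2⟩ : ∃ e2 : Fin 4 → F, e2 = (b 1 : Fin 4 → F) := ⟨_, rfl⟩
  have he1U : e1 ∈ U := by rw [he1]; exact (b 0).2
  have he2U : e2 ∈ U := by rw [he2]; exact (b 1).2
  have he10 : e1 ≠ 0 := by
    rw [he1]
    intro h
    exact b.ne_zero 0 (Subtype.ext h)
  have he2ne : ∀ c : F, e2 ≠ c • e1 := by
    intro c h
    have h' : b 1 = c • b 0 := by
      apply Subtype.ext
      rw [Submodule.coe_smul, ← he1, ← he2]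
      exact h
    have h'' := congrArg (fun w => b.repr w 1) h'
    simp only [Module.Basis.repr_self, map_smul, Finsupp.smul_apply, Finsupp.single_apply] at h''
    simp at h''
  have h11 : B e1 e1 = 0 := hUts e1 he1U
  have h22 : B e2 e2 = 0 := hUts e2 he2U
  have h12 : B e1 e2 = 0 := by
    have h := hUts (e1 + e2) (U.add_mem he1U he2U)
    have h' : B (e1 + e2) (e1 + e2) = 0 := h
    simp only [map_add, LinearMap.add_apply, h11, h22, hsymm e2 e1] at h'
    have : (2 : F) * B e1 e2 = 0 := by linear_combination h'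
    rcases mul_eq_zero.1 this with h | h
    · exact absurd h h2
    · exact h
  have h21 : B e2 e1 = 0 := by rw [hsymm]; exact h12
  -- first partner
  obtain ⟨f1', hf1'a, hf1'b⟩ := exists_dual_pair hf e1 e2 he10 he2ne 1 0
  have hf1'a' : B e1 f1' = 1 := hf1'a
  have hf1'b' : B e2 f1' = 0 := hf1'b
  obtain ⟨f1, hf1⟩ : ∃ f1, f1 = f1' - (B f1' f1' / 2) • e1 := ⟨_, rfl⟩
  have g1 : B e1 f1 = 1 := by
    rw [hf1]
    simp only [map_sub, map_smul, smul_eq_mul, h11, hf1'a', mul_zero, sub_zero]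
  have g2 : B e2 f1 = 0 := by
    rw [hf1]
    simp only [map_sub, map_smul, smul_eq_mul, h21, hf1'b', mul_zero, sub_zero]
  have g3 : B f1 f1 = 0 := by
    rw [hf1]
    simp only [map_sub, map_smul, smul_eq_mul, LinearMap.sub_apply, LinearMap.smul_apply, h11,
      hf1'a', hsymm f1' e1]
    field_simp
    ring
  -- second partner
  obtain ⟨f2', hf2'a, hf2'b⟩ := exists_dual_pair hf e1 e2 he10 he2ne 0 1
  have hf2'a' : B e1 f2' = 0 := hf2'a
  have hf2'b' : B e2 f2' = 1 := hf2'b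
  obtain ⟨f2'', hf2''⟩ : ∃ f2'', f2'' = f2' - (B f1 f2') • e1 := ⟨_, rfl⟩
  have k1 : B e1 f2'' = 0 := by
    rw [hf2'']
    simp only [map_sub, map_smul, smul_eq_mul, h11, hf2'a', mul_zero, sub_zero]
  have k2 : B e2 f2'' = 1 := by
    rw [hf2'']
    simp only [map_sub, map_smul, smul_eq_mul, h21, hf2'b', mul_zero, sub_zero]
  have k3 : B f1 f2'' = 0 := by
    rw [hf2'']
    simp only [map_sub, map_smul, smul_eq_mul, hsymm f1 e1, g1, mul_one, sub_self]
  obtain ⟨f2, hf2⟩ : ∃ f2, f2 = f2'' - (B f2'' f2'' / 2) • e2 := ⟨_, rfl⟩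
  have m1 : B e1 f2 = 0 := by
    rw [hf2]
    simp only [map_sub, map_smul, smul_eq_mul, h12, k1, mul_zero, sub_zero]
  have m2 : B e2 f2 = 1 := by
    rw [hf2]
    simp only [map_sub, map_smul, smul_eq_mul, h22, k2, mul_zero, sub_zero]
  have m3 : B f1 f2 = 0 := by
    rw [hf2]
    simp only [map_sub, map_smul, smul_eq_mul, hsymm f1 e2, g2, k3, mul_zero, sub_zero]
  have m4 : B f2 f2 = 0 := by
    rw [hf2]
    simp only [map_sub, map_smul, smul_eq_mul, LinearMap.sub_apply, LinearMap.smul_apply, h22,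
      k2, hsymm f2'' e2]
    field_simp
    ring
  exact ⟨e1, f1, e2, f2, h11, g1, h12, m1, g3, by rw [← hBf, hsymm]; exact g2, m3, h22, m2, m4⟩

/-- the entries of `Tᵀ G T` are the values of the form on the columns of `T` -/
theorem transpose_gram_mul_apply {κ : Type} [Fintype κ] [DecidableEq κ]
    {f : (κ → F) → (κ → F) → F} (hf : IsBilinearForm f)
    (T : Matrix κ κ F) (i j : κ) :
    (Tᵀ * gramMatrix f * T) i j = f (fun r => T r i) (fun r => T r j) := by
  rw [Cfsg.Agent.Lib.Helper5.AschO.bilin_eq_dotProduct hf, Matrix.mul_assoc, Matrix.mul_apply]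
  simp only [Matrix.transpose_apply, dotProduct, Matrix.mulVec, Matrix.mul_apply]

/-- LEMMA A of ASCHOE-[E-O3O4P]: the Gram matrix of a plus-type symmetric form on `F^4` is congruent to `J ⊗ₖ J`. -/
theorem exists_hyp4_normal_form (h2 : (2 : F) ≠ 0) (f₂ : (Fin 4 → F) → (Fin 4 → F) → F)
    (h₂ : IsSymmetricForm f₂) (hp : IsPlusTypeOn (fun v : Fin 4 → F => f₂ v v) ⊤) :
    ∃ (T : GL (Fin 4) F) (s : Fin 4 ≃ Fin 2 × Fin 2),
      (T : Matrix (Fin 4) (Fin 4) F)ᵀ * gramMatrix f₂ * (T : Matrix (Fin 4) (Fin 4) F) =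
        Matrix.reindex s.symm s.symm ((J2 : Matrix (Fin 2) (Fin 2) F) ⊗ₖ J2) := by
  classical
  obtain ⟨e1, f1, e2, f2, h11, h1f1, h12, h1f2, hf1f1, hf1e2, hf1f2, h22, h2f2, hf2f2⟩ :=
    exists_hyp_basis4 h2 h₂ hp
  have hb := h₂.bilinear
  have hs := h₂.symm
  have hneg_r : ∀ u v, f₂ u (-v) = - f₂ u v := by
    intro u v
    have := hb.smul_right (-1) u v
    rw [neg_one_smul] at this
    rw [this]; ring
  have hneg_l : ∀ u v, f₂ (-u) v = - f₂ u v := by
    intro u v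
    have := hb.smul_left (-1) u v
    rw [neg_one_smul] at this
    rw [this]; ring
  let v : Fin 2 × Fin 2 → (Fin 4 → F) := fun a =>
    if a = (0, 0) then e1 else if a = (1, 1) then f1 else if a = (0, 1) then e2 else -f2
  have hv : ∀ a b : Fin 2 × Fin 2, f₂ (v a) (v b) = (J2 : Matrix (Fin 2) (Fin 2) F) a.1 b.1 * J2 a.2 b.2 := by
    rintro ⟨a1, a2⟩ ⟨b1, b2⟩
    fin_cases a1 <;> fin_cases a2 <;> fin_cases b1 <;> fin_cases b2 <;>
      simp [v, J2, h11, h1f1, h12, h1f2, hf1f1, hf1e2, hf1f2, h22, h2f2, hf2f2, hneg_r, hneg_l,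
        hs f1 e1, hs e2 e1, hs f2 e1, hs e2 f1, hs f2 f1, hs f2 e2]
  let s : Fin 4 ≃ Fin 2 × Fin 2 := (finProdFinEquiv (m := 2) (n := 2)).symm
  let T : Matrix (Fin 4) (Fin 4) F := Matrix.of fun r i => v (s i) r
  have hT : Tᵀ * gramMatrix f₂ * T = Matrix.reindex s.symm s.symm ((J2 : Matrix (Fin 2) (Fin 2) F) ⊗ₖ J2) := by
    ext i j
    rw [transpose_gram_mul_apply hb]
    have : ∀ k, (fun r => T r k) = v (s k) := fun k => rfl
    rw [this, this, hv]
    simp [Matrix.reindex_apply, Matrix.kroneckerMap_apply]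
  have hdet : T.det ≠ 0 := by
    intro h0
    have h1 := congrArg Matrix.det hT
    rw [Matrix.det_mul, Matrix.det_mul, Matrix.det_transpose, h0, zero_mul, zero_mul,
      Matrix.det_reindex_self, Matrix.det_kronecker, det_J2] at h1
    simp at h1
  exact ⟨Matrix.GeneralLinearGroup.mkOfDetNeZero T hdet, s, hT⟩

end Cfsg.Agent.Lib.Helper43.OeHyp4
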