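/-
helper43: ASCHOE-[P-FIELD] (hedge; project ASCHOE, coordinator helper55).
`Ω` does not normalise a field subalgebra of degree ≥ 2 (any characteristic, dimension ≥ 7).

Proof.  For singular `p ⊥ w` the Eichler element `E(p,w) = 1 + N ∈ Ω`, `N x = f(x,w) p − f(x,p) w`.  For `k ∈ K`,
`d := g k g⁻¹ − k ∈ K` and `d g = N k − k N` kills a non-zero vector (four linear conditions, dimension ≥ 7), so `d = 0`:
`N` commutes with `K`.  Take `p` singular, `w₁, w₂ ⊥ p` singular with `f(w₁,w₂) = 1`: `k p = k N₁ w₂ = N₁ (k w₂) ∈ ⟨p, w₁⟩` and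
`k p = N₂ (k w₁) ∈ ⟨p, w₂⟩`, so `k p ∈ F p`.  Then `k ↦ k p` embeds the field `K` into the line `F p`: `r ≤ 1`.
-/
import Mathlib
import Cfsg.Prelude.Def_GeometricClasses
import Cfsg.Agent.Lib.Helper99.AschDefs
import Cfsg.Agent.Lib.Helper55.Oe.Defs
import Cfsg.Agent.Lib.Helper44.Witt
import Cfsg.Agent.Lib.Helper94.OrthBridge
import Cfsg.Agent.Lib.Helper43.AschO2Eich
import Cfsg.Agent.Lib.Helper43.AschO2Plane

set_option autoImplicit false

namespace Cfsg.Agent.Lib.Helper43.AschO2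

open Cfsg Cfsg.Geo
open scoped MatrixGroups Matrix

variable {ι : Type} [Fintype ι] [DecidableEq ι] {F : Type*} [Field F] [Fintype F]

/-- the matrix of `rootLin` -/
noncomputable def rootMat {Q : (ι → F) → F} (hQ : IsNondegenerateQuadraticForm Q) (p w : ι → F) :
    Matrix ι ι F := LinearMap.toMatrix' (rootLin hQ p w)

theorem rootMat_mulVec {Q : (ι → F) → F} (hQ : IsNondegenerateQuadraticForm Q) (p w z : ι → F) :
    rootMat hQ p w *ᵥ z = QuadraticMap.polar Q z w • p - QuadraticMap.polar Q z p • w := by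
  rw [rootMat, ← Matrix.toLin'_apply, Matrix.toLin'_toMatrix', rootLin_apply]

/-- the Eichler element `E(p,w)` for singular `p ⊥ w` is `1 + rootMat` and lies in `Ω` -/
theorem exists_one_add_rootMat_mem {Q : (ι → F) → F} (hQ : IsNondegenerateQuadraticForm Q)
    (h7 : 7 ≤ Fintype.card ι) (p w : ι → F) (hQp : Q p = 0) (hQw : Q w = 0)
    (hpw : QuadraticMap.polar Q p w = 0) :
    ∃ g : GL ι F, g ∈ omegaGL Q ∧ (g : Matrix ι ι F) = 1 + rootMat hQ p w := by
  obtain ⟨g, hg, hgz⟩ := Cfsg.Agent.Lib.Helper5.AschO.exists_eichler_mem_omegaGL hQ h7 p w hQp hpw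
  refine ⟨g, hg, ?_⟩
  apply Matrix.toLin'.injective
  apply LinearMap.ext
  intro z
  rw [Matrix.toLin'_apply, Matrix.toLin'_apply, hgz, Matrix.add_mulVec, Matrix.one_mulVec,
    rootMat_mulVec, hQw, zero_mul, zero_smul, sub_zero]
  abel

/-- `rootMat` commutes with every field subalgebra normalised by `Ω` -/
theorem rootMat_commute {Q : (ι → F) → F} (hQ : IsNondegenerateQuadraticForm Q)
    (h7 : 7 ≤ Fintype.card ι) (p w : ι → F) (hQp : Q p = 0) (hQw : Q w = 0)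
    (hpw : QuadraticMap.polar Q p w = 0) (K : Subalgebra F (Matrix ι ι F))
    (hcomm : ∀ x ∈ K, ∀ y ∈ K, x * y = y * x) (hinv : ∀ x ∈ K, x ≠ 0 → ∃ y ∈ K, x * y = 1)
    (hle : omegaGL Q ≤ subalgebraNormalizer K) :
    ∀ k ∈ K, rootMat hQ p w * k = k * rootMat hQ p w := by
  classical
  obtain ⟨g, hgΩ, hg⟩ := exists_one_add_rootMat_mem hQ h7 p w hQp hQw hpw
  set N := rootMat hQ p w with hN
  have hNz : ∀ z, N *ᵥ z = QuadraticMap.polar Q z w • p - QuadraticMap.polar Q z p • w :=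
    fun z => rootMat_mulVec hQ p w z
  have hgn : ∀ k : Matrix ι ι F, k ∈ K ↔
      (g : Matrix ι ι F) * k * ((g⁻¹ : GL ι F) : Matrix ι ι F) ∈ K := hle hgΩ
  have hginv : ((g⁻¹ : GL ι F) : Matrix ι ι F) * (g : Matrix ι ι F) = 1 := by
    rw [← Units.val_mul, inv_mul_cancel, Units.val_one]
  have hfr : Module.finrank F (ι → F) = Fintype.card ι := Module.finrank_fintype_fun_eq_card F
  have hKinv : ∀ x ∈ K, x ≠ 0 → ∀ v : ι → F, x *ᵥ v = 0 → v = 0 := by
    intro x hx hx0 v hv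
    obtain ⟨y, hyK, hxy⟩ := hinv x hx hx0
    have hyx : y * x = 1 := by rw [← hcomm x hx y hyK]; exact hxy
    have : (y * x) *ᵥ v = 0 := by rw [← Matrix.mulVec_mulVec, hv, Matrix.mulVec_zero]
    rwa [hyx, Matrix.one_mulVec] at this
  intro k hk
  by_contra hne
  set d := (g : Matrix ι ι F) * k * ((g⁻¹ : GL ι F) : Matrix ι ι F) - k with hd
  have hdK : d ∈ K := K.sub_mem ((hgn k).1 hk) hk
  have hdg : d * (g : Matrix ι ι F) = N * k - k * N := by
    rw [hd, sub_mul, mul_assoc, hginv, mul_one, hg]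
    noncomm_ring
  have hd0 : d ≠ 0 := by
    intro h0
    rw [h0, zero_mul] at hdg
    exact hne (sub_eq_zero.1 hdg.symm)
  let B := Cfsg.Agent.Lib.Helper94.polarBilin hQ
  let φ : (ι → F) →ₗ[F] (Fin 4 → F) :=
    LinearMap.pi ![B.flip w, B.flip p, (B.flip w) ∘ₗ Matrix.toLin' k, (B.flip p) ∘ₗ Matrix.toLin' k]
  have hker : LinearMap.ker φ ≠ ⊥ := by
    apply LinearMap.ker_ne_bot_of_finrank_lt
    rw [hfr, Module.finrank_fintype_fun_eq_card, Fintype.card_fin]
    omega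
  obtain ⟨z, hzker, hz0⟩ := Submodule.exists_mem_ne_zero_of_ne_bot hker
  rw [LinearMap.mem_ker] at hzker
  have h0 : QuadraticMap.polar Q z w = 0 := congrFun hzker 0
  have h1 : QuadraticMap.polar Q z p = 0 := congrFun hzker 1
  have h2 : QuadraticMap.polar Q (k *ᵥ z) w = 0 := by
    have := congrFun hzker 2
    simpa [φ, B, Cfsg.Agent.Lib.Helper94.polarBilin_apply] using this
  have h3 : QuadraticMap.polar Q (k *ᵥ z) p = 0 := by
    have := congrFun hzker 3
    simpa [φ, B, Cfsg.Agent.Lib.Helper94.polarBilin_apply] using this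
  have hNz0 : N *ᵥ z = 0 := by rw [hNz, h0, h1]; simp
  have hNkz0 : N *ᵥ (k *ᵥ z) = 0 := by rw [hNz, h2, h3]; simp
  have hkill : (d * (g : Matrix ι ι F)) *ᵥ z = 0 := by
    rw [hdg, Matrix.sub_mulVec, ← Matrix.mulVec_mulVec, ← Matrix.mulVec_mulVec, hNz0, hNkz0,
      Matrix.mulVec_zero, sub_zero]
  rw [← Matrix.mulVec_mulVec] at hkill
  have hgz : (g : Matrix ι ι F) *ᵥ z = 0 := hKinv d hdK hd0 _ hkill
  have : (((g⁻¹ : GL ι F) : Matrix ι ι F) * (g : Matrix ι ι F)) *ᵥ z = 0 := by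
    rw [← Matrix.mulVec_mulVec, hgz, Matrix.mulVec_zero]
  rw [hginv, Matrix.one_mulVec] at this
  exact hz0 this

/-- a singular `p ≠ 0` and singular `w₁, w₂ ⊥ p` with `f(w₁,w₂) = 1` -/
theorem exists_singular_triple {Q : (ι → F) → F} (hQ : IsNondegenerateQuadraticForm Q)
    (h7 : 7 ≤ Fintype.card ι) :
    ∃ p w₁ w₂ : ι → F, p ≠ 0 ∧ Q p = 0 ∧ Q w₁ = 0 ∧ Q w₂ = 0 ∧ QuadraticMap.polar Q p w₁ = 0 ∧
      QuadraticMap.polar Q p w₂ = 0 ∧ QuadraticMap.polar Q w₁ w₂ = 1 := by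
  classical
  let Q' := qfOfNondeg hQ
  have hnd := qfOfNondeg_nondeg hQ
  have hfr : Module.finrank F (ι → F) = Fintype.card ι := finrank_pi_eq_card
  obtain ⟨p, hp0, hQp⟩ := Cfsg.Agent.Lib.Helper44.exists_isotropic Q' (by rw [hfr]; omega)
  obtain ⟨p', hQp', hpp'⟩ := Cfsg.Agent.Lib.Helper44.exists_hyp_partner Q' hnd p hp0 hQp
  obtain ⟨W, hWnd, hWd, hWperp⟩ := Cfsg.Agent.Lib.Helper44.hyp_split Q' hnd p p' hQp hQp' hpp'
  obtain ⟨w1, hw10, hQw1⟩ := Cfsg.Agent.Lib.Helper44.exists_isotropic (Q'.comp W.subtype)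
    (by rw [hfr] at hWd; omega)
  obtain ⟨w2, hQw2, hw12⟩ := Cfsg.Agent.Lib.Helper44.exists_hyp_partner (Q'.comp W.subtype) hWnd w1
    hw10 hQw1
  refine ⟨p, (w1 : ι → F), (w2 : ι → F), hp0, hQp, hQw1, hQw2, (hWperp _ w1.2).1, (hWperp _ w2.2).1, ?_⟩
  have : QuadraticMap.polar (⇑(Q'.comp W.subtype)) w1 w2 =
      QuadraticMap.polar Q (w1 : ι → F) (w2 : ι → F) := by
    simp only [QuadraticMap.polar, QuadraticMap.comp_apply, Submodule.subtype_apply,
      Submodule.coe_add]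
    rfl
  rw [← this]
  exact hw12

/-- `Ω` does not normalise a field subalgebra of degree `r ≥ 2` (any finite index type with `≥ 7` elements) -/
theorem not_omegaGL_le_subalgebraNormalizer_field {Q : (ι → F) → F}
    (hQ : IsNondegenerateQuadraticForm Q) (h7 : 7 ≤ Fintype.card ι) (r : ℕ) (hr : 2 ≤ r)
    (K : Subalgebra F (Matrix ι ι F)) (hK : IsFieldSubalgebra r K) :
    ¬ omegaGL Q ≤ subalgebraNormalizer K := by
  classical
  intro hle
  obtain ⟨p, w₁, w₂, hp0, hQp, hQw₁, hQw₂, hpw₁, hpw₂, hw₁w₂⟩ := exists_singular_triple hQ h7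
  have hB := hQ.polar_bilinear
  have hpp : QuadraticMap.polar Q p p = 0 := by
    have := (Cfsg.Agent.Lib.Helper94.quadData_polarBilin hQ).self p
    rw [Cfsg.Agent.Lib.Helper94.polarBilin_apply, hQp, mul_zero] at this
    exact this
  have hw₂w₂ : QuadraticMap.polar Q w₂ w₂ = 0 := by
    have := (Cfsg.Agent.Lib.Helper94.quadData_polarBilin hQ).self w₂
    rw [Cfsg.Agent.Lib.Helper94.polarBilin_apply, hQw₂, mul_zero] at this
    exact this
  have hw₂w₁ : QuadraticMap.polar Q w₂ w₁ = 1 := by rw [QuadraticMap.polar_comm]; exact hw₁w₂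
  have hw₁p : QuadraticMap.polar Q w₁ p = 0 := by rw [QuadraticMap.polar_comm]; exact hpw₁
  have hw₂p : QuadraticMap.polar Q w₂ p = 0 := by rw [QuadraticMap.polar_comm]; exact hpw₂
  have hc1 := rootMat_commute hQ h7 p w₁ hQp hQw₁ hpw₁ K hK.comm hK.inv hle
  have hc2 := rootMat_commute hQ h7 p w₂ hQp hQw₂ hpw₂ K hK.comm hK.inv hle
  -- `N₁ w₂ = p`, `N₂ w₁ = p`
  have hN1 : rootMat hQ p w₁ *ᵥ w₂ = p := by
    rw [rootMat_mulVec, hw₂w₁, hw₂p, one_smul, zero_smul, sub_zero]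
  have hN2 : rootMat hQ p w₂ *ᵥ w₁ = p := by
    rw [rootMat_mulVec, hw₁w₂, hw₁p, one_smul, zero_smul, sub_zero]
  -- every `k ∈ K` maps `p` into the line `F p`
  have hline : ∀ k ∈ K, ∃ a : F, k *ᵥ p = a • p := by
    intro k hk
    have e1 : k *ᵥ p = QuadraticMap.polar Q (k *ᵥ w₂) w₁ • p -
        QuadraticMap.polar Q (k *ᵥ w₂) p • w₁ := by
      rw [← rootMat_mulVec hQ p w₁ (k *ᵥ w₂), Matrix.mulVec_mulVec, hc1 k hk,
        ← Matrix.mulVec_mulVec, hN1]
    have e2 : k *ᵥ p = QuadraticMap.polar Q (k *ᵥ w₁) w₂ • p -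
        QuadraticMap.polar Q (k *ᵥ w₁) p • w₂ := by
      rw [← rootMat_mulVec hQ p w₂ (k *ᵥ w₁), Matrix.mulVec_mulVec, hc2 k hk,
        ← Matrix.mulVec_mulVec, hN2]
    -- pair with `w₂`
    have hsub : ∀ x y v, QuadraticMap.polar Q (x - y) v =
        QuadraticMap.polar Q x v - QuadraticMap.polar Q y v := by
      intro x y v
      have h := hB.add_left (x - y) y v
      rw [sub_add_cancel] at h
      rw [h]; ring
    have f1 : QuadraticMap.polar Q (k *ᵥ p) w₂ = - QuadraticMap.polar Q (k *ᵥ w₂) p := by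
      conv_lhs => rw [e1]
      rw [hsub, hB.smul_left, hB.smul_left, hpw₂, hw₁w₂]
      ring
    have f2 : QuadraticMap.polar Q (k *ᵥ p) w₂ = 0 := by
      conv_lhs => rw [e2]
      rw [hsub, hB.smul_left, hB.smul_left, hpw₂, hw₂w₂]
      ring
    have hb : QuadraticMap.polar Q (k *ᵥ w₂) p = 0 := by
      rw [f2] at f1
      exact neg_eq_zero.1 f1.symm
    refine ⟨QuadraticMap.polar Q (k *ᵥ w₂) w₁, ?_⟩
    rw [e1, hb, zero_smul, sub_zero]
  -- invertibility
  have hKinv : ∀ x ∈ K, x ≠ 0 → ∀ v : ι → F, x *ᵥ v = 0 → v = 0 := by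
    intro x hx hx0 v hv
    obtain ⟨y, hyK, hxy⟩ := hK.inv x hx hx0
    have hyx : y * x = 1 := by rw [← hK.comm x hx y hyK]; exact hxy
    have : (y * x) *ᵥ v = 0 := by rw [← Matrix.mulVec_mulVec, hv, Matrix.mulVec_zero]
    rwa [hyx, Matrix.one_mulVec] at this
  -- the embedding of `K` into the line
  set S : Submodule F (ι → F) := Submodule.span F {p} with hS
  have hSdim : Module.finrank F S = 1 := by rw [hS, finrank_span_singleton hp0]
  let ψ0 : K →ₗ[F] (ι → F) :=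
    { toFun := fun k => (k : Matrix ι ι F) *ᵥ p
      map_add' := by intro a b; simp [Matrix.add_mulVec]
      map_smul' := by intro c a; simp [Matrix.smul_mulVec] }
  let ψ : K →ₗ[F] S := LinearMap.codRestrict S ψ0 (fun k => by
    obtain ⟨a, ha⟩ := hline k k.2
    show (k : Matrix ι ι F) *ᵥ p ∈ S
    rw [ha]
    exact S.smul_mem a (Submodule.mem_span_singleton_self p))
  have hψinj : Function.Injective ψ := by
    rw [← LinearMap.ker_eq_bot, LinearMap.ker_eq_bot']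
    intro k hk
    have hk0 : (k : Matrix ι ι F) *ᵥ p = 0 := congrArg Subtype.val hk
    by_contra hkne
    have : (k : Matrix ι ι F) ≠ 0 := fun h => hkne (Subtype.ext h)
    exact hp0 (hKinv k k.2 this p hk0)
  have hle2 : Module.finrank F K ≤ Module.finrank F S :=
    LinearMap.finrank_le_finrank_of_injective hψinj
  rw [hK.finrank_eq, hSdim] at hle2
  omega

end Cfsg.Agent.Lib.Helper43.AschO2

namespace Cfsg.Agent.Lib.Helper55.Oe

open Cfsg Cfsg.Geo Cfsg.Agent.Lib.Helper99.Asch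
open scoped MatrixGroups Matrix Kronecker

variable {n : ℕ} {F : Type*} [Field F] [Fintype F]

/-- ASCHOE-[P-FIELD] -/
theorem not_omegaGL_le_subalgebraNormalizer {Q : (Fin n → F) → F} (hQ : IsNondegenerateQuadraticForm Q)
    (hn : 7 ≤ n) (r : ℕ) (hr : 2 ≤ r) (K : Subalgebra F (Matrix (Fin n) (Fin n) F))
    (hK : IsFieldSubalgebra r K) : ¬ omegaGL Q ≤ subalgebraNormalizer K :=
  Cfsg.Agent.Lib.Helper43.AschO2.not_omegaGL_le_subalgebraNormalizer_field hQ
    (by rw [Fintype.card_fin]; exact hn) r hr K hK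

end Cfsg.Agent.Lib.Helper55.Oe
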