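import Mathlib
import Cfsg.Agent.Lib.Helper40.SpNonex
import Cfsg.Agent.Lib.Helper40.OrthBlock

/-!
# Elements of order `r * s` among isometries of a non-degenerate form (helper43, for S2474 [ON1])

Port of `Cfsg.Agent.Lib.Helper40.eta_add_le_or_of_order_mul` from symplectic matrices to
isometries of a non-degenerate bilinear form given by a matrix, in dimension at most `2 n + 1`.
-/

set_option autoImplicit false
set_option linter.unusedSectionVars false

namespace Cfsg.Agent.Lib.Helper43

open Matrix Polynomial Module Cfsg.Agent.Lib.Helper40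

section nonexOrth
variable {F : Type*} [Field F] [Fintype F] {ι : Type*} [Fintype ι] [DecidableEq ι]

/-- an element of order `r * s` among the isometries of a non-degenerate form in dimension at most
`2 n + 1` forces `η(k) + η(l) ≤ n` or `l / k` odd -/
theorem orth_eta_add_le_or_of_order_mul (p : ℕ) [Fact p.Prime] [CharP F p] (r s : ℕ)
    (hr : r.Prime) (hs : s.Prime) (hr2 : r ≠ 2) (hs2 : s ≠ 2) (hrp : r ≠ p) (hsp : s ≠ p)
    (hrs : r ≠ s) {n : ℕ} (hι : Fintype.card ι ≤ 2 * n + 1)
    (B T : Matrix ι ι F) (hBdet : B.det ≠ 0) (hT : Tᵀ * B * T = B)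
    (hTrs : T ^ (r * s) = 1) (hTr : T ^ r ≠ 1) (hTs : T ^ s ≠ 1)
    (k l ηk ηl : ℕ) (hk : orderOf ((Fintype.card F : ℕ) : ZMod r) = k)
    (hl : orderOf ((Fintype.card F : ℕ) : ZMod s) = l)
    (hηk : (Odd k ∧ ηk = k) ∨ (Even k ∧ 2 * ηk = k))
    (hηl : (Odd l ∧ ηl = l) ∨ (Even l ∧ 2 * ηl = l)) (hkl : ηk ≤ ηl) :
    ηk + ηl ≤ n ∨ ∃ t : ℕ, Odd t ∧ l = k * t := by
  classical
  have hpp : p.Prime := Fact.out
  have : Fact r.Prime := ⟨hr⟩
  have : Fact s.Prime := ⟨hs⟩
  have : CharP (AlgebraicClosure F) p :=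
    charP_of_injective_algebraMap (algebraMap F (AlgebraicClosure F)).injective p
  have hrK : (r : AlgebraicClosure F) ≠ 0 := by
    intro h0
    have h1 := (CharP.cast_eq_zero_iff (AlgebraicClosure F) p r).mp h0
    exact hrp ((Nat.prime_dvd_prime_iff_eq hpp hr).mp h1).symm
  have hsK : (s : AlgebraicClosure F) ≠ 0 := by
    intro h0
    have h1 := (CharP.cast_eq_zero_iff (AlgebraicClosure F) p s).mp h0
    exact hsp ((Nat.prime_dvd_prime_iff_eq hpp hs).mp h1).symm
  have hrq : ¬ r ∣ Fintype.card F := by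
    intro h
    obtain ⟨e, he⟩ := FiniteField.card F p
    rw [he.2] at h
    exact hrp ((Nat.prime_dvd_prime_iff_eq hr hpp).mp (hr.dvd_of_dvd_pow h))
  have hsq : ¬ s ∣ Fintype.card F := by
    intro h
    obtain ⟨e, he⟩ := FiniteField.card F p
    rw [he.2] at h
    exact hsp ((Nat.prime_dvd_prime_iff_eq hs hpp).mp (hs.dvd_of_dvd_pow h))
  have hk0 : 0 < k := by
    rw [← hk]
    exact order_pos hrq
  have hl0 : 0 < l := by
    rw [← hl]
    exact order_pos hsq
  obtain ⟨ν, hνroot, hνrs, hνs⟩ := exists_root_charpoly_of_pow (K := AlgebraicClosure F) T r s hrK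
    (by rw [mul_comm]; exact hTrs) hTs
  obtain ⟨μ, hμroot, hμrs, hμr⟩ := exists_root_charpoly_of_pow (K := AlgebraicClosure F) T s r hsK
    hTrs hTr
  have hrs0 : r * s ≠ 0 := Nat.mul_ne_zero hr.ne_zero hs.ne_zero
  have hν0 : ν ≠ 0 := by
    rintro rfl
    rw [zero_pow (by rw [mul_comm]; exact hrs0)] at hνrs
    exact zero_ne_one hνrs
  have hμ0 : μ ≠ 0 := by
    rintro rfl
    rw [zero_pow hrs0] at hμrs
    exact zero_ne_one hμrs
  -- the closed set of roots
  obtain ⟨Sset, hSset⟩ : ∃ Sset : Set (AlgebraicClosure F)ˣ,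
      Sset = {x : (AlgebraicClosure F)ˣ | aeval (x : AlgebraicClosure F) T.charpoly = 0} := ⟨_, rfl⟩
  have hSq : ∀ x ∈ Sset, x ^ Fintype.card F ∈ Sset := by
    intro x hx
    rw [hSset] at hx ⊢
    show aeval ((x ^ Fintype.card F : (AlgebraicClosure F)ˣ) : AlgebraicClosure F) T.charpoly = 0
    rw [Units.val_pow_eq_pow_val]
    exact aeval_pow_card_eq_zero T.charpoly (x : AlgebraicClosure F) hx
  have hSinv : ∀ x ∈ Sset, x⁻¹ ∈ Sset := by
    intro x hx
    rw [hSset] at hx ⊢
    show aeval ((x⁻¹ : (AlgebraicClosure F)ˣ) : AlgebraicClosure F) T.charpoly = 0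
    rw [Units.val_inv_eq_inv_val]
    exact aeval_inv_charpoly_of_isometry B T hBdet hT (x : AlgebraicClosure F) hx
  have hνS : Units.mk0 ν hν0 ∈ Sset := by
    rw [hSset]
    show aeval ((Units.mk0 ν hν0 : (AlgebraicClosure F)ˣ) : AlgebraicClosure F) T.charpoly = 0
    rw [Units.val_mk0]
    exact hνroot
  have hμS : Units.mk0 μ hμ0 ∈ Sset := by
    rw [hSset]
    show aeval ((Units.mk0 μ hμ0 : (AlgebraicClosure F)ˣ) : AlgebraicClosure F) T.charpoly = 0
    rw [Units.val_mk0]
    exact hμroot
  have hcardS : ∀ t : Finset (AlgebraicClosure F)ˣ, (∀ x ∈ t, x ∈ Sset) →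
      t.card ≤ 2 * n + 1 := by
    intro t ht
    have h1 := card_le_of_roots_charpoly T (t.map ⟨Units.val, Units.val_injective⟩) (by
      intro z hz
      obtain ⟨x, hx, rfl⟩ := Finset.mem_map.mp hz
      have := ht x hx
      rw [hSset] at this
      exact this)
    rw [Finset.card_map] at h1
    omega
  -- orders
  have hordν : orderOf (Units.mk0 ν hν0) = r ∨ orderOf (Units.mk0 ν hν0) = r * s := by
    apply order_cases r s _ hr hs
    · apply orderOf_dvd_of_pow_eq_one
      apply Units.ext
      rw [Units.val_pow_eq_pow_val, Units.val_mk0, mul_comm, hνrs, Units.val_one]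
    · intro h
      apply hνs
      have h1 := orderOf_dvd_iff_pow_eq_one.mp h
      have := congrArg Units.val h1
      rw [Units.val_pow_eq_pow_val, Units.val_mk0, Units.val_one] at this
      exact this
  have hordμ : orderOf (Units.mk0 μ hμ0) = s ∨ orderOf (Units.mk0 μ hμ0) = r * s := by
    have := order_cases s r (orderOf (Units.mk0 μ hμ0)) hs hr (by
      apply orderOf_dvd_of_pow_eq_one
      apply Units.ext
      rw [Units.val_pow_eq_pow_val, Units.val_mk0, mul_comm, hμrs, Units.val_one]) (by
      intro h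
      apply hμr
      have h1 := orderOf_dvd_iff_pow_eq_one.mp h
      have := congrArg Units.val h1
      rw [Units.val_pow_eq_pow_val, Units.val_mk0, Units.val_one] at this
      exact this)
    rw [mul_comm s r] at this
    exact this
  -- the case of an eigenvalue of order `r * s`
  have hcase : ∀ ξ : (AlgebraicClosure F)ˣ, ξ ∈ Sset → orderOf ξ = r * s →
      ηk + ηl ≤ n ∨ ∃ t : ℕ, Odd t ∧ l = k * t := by
    intro ξ hξS hξo
    have : NeZero (r * s) := ⟨hrs0⟩
    have hcop : (Fintype.card F).Coprime (r * s) := by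
      apply Nat.Coprime.mul_right
      · exact ((Nat.Prime.coprime_iff_not_dvd hr).mpr hrq).symm
      · exact ((Nat.Prime.coprime_iff_not_dvd hs).mpr hsq).symm
    obtain ⟨e, he⟩ : ∃ e, orderOf ((Fintype.card F : ℕ) : ZMod (r * s)) = e := ⟨_, rfl⟩
    have he0 : 0 < e := by
      rw [← he, ← ZMod.coe_unitOfCoprime (Fintype.card F) hcop, orderOf_units]
      exact orderOf_pos _
    have hpow1 : ((Fintype.card F : ℕ) : ZMod (r * s)) ^ e = 1 := by
      rw [← he]
      exact pow_orderOf_eq_one _
    have hke : k ∣ e := by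
      rw [← hk]
      apply orderOf_dvd_of_pow_eq_one
      have := congrArg (ZMod.castHom (dvd_mul_right r s) (ZMod r)) hpow1
      rw [map_pow, map_natCast, map_one] at this
      exact this
    have hle : l ∣ e := by
      rw [← hl]
      apply orderOf_dvd_of_pow_eq_one
      have := congrArg (ZMod.castHom (dvd_mul_left s r) (ZMod s)) hpow1
      rw [map_pow, map_natCast, map_one] at this
      exact this
    obtain ⟨t, ht, h1, h2⟩ := exists_finset_of_closed Sset (Fintype.card F) hSq hSinv ξ hξS
      (r * s) e hξo he0 he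
    have htcard := hcardS t (fun x hx => (ht x hx).1)
    by_cases hneg : ∃ i : ℕ, ((Fintype.card F : ℕ) : ZMod (r * s)) ^ i = -1
    · obtain ⟨i, hi⟩ := hneg
      have hir : ((Fintype.card F : ℕ) : ZMod r) ^ i = -1 := by
        have := congrArg (ZMod.castHom (dvd_mul_right r s) (ZMod r)) hi
        rw [map_pow, map_natCast, map_neg, map_one] at this
        exact this
      have his : ((Fintype.card F : ℕ) : ZMod s) ^ i = -1 := by
        have := congrArg (ZMod.castHom (dvd_mul_left s r) (ZMod s)) hi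
        rw [map_pow, map_natCast, map_neg, map_one] at this
        exact this
      have h3 := order_dvd_of_pow_eq_neg_one r hr hr2 _ i hir
      have h4 := order_dvd_of_pow_eq_neg_one s hs hs2 _ i his
      rw [hk] at h3
      rw [hl] at h4
      -- `k` is even, hence so is `e`
      have hkeven : Even k := by
        rcases Nat.even_or_odd k with h | h
        · exact h
        · exact absurd (Nat.Coprime.dvd_of_dvd_mul_left (Nat.coprime_two_right.mpr h) h3.1) h3.2
      have heeven : Even e := by
        obtain ⟨c, hc⟩ := hke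
        rw [hc]
        exact hkeven.mul_right c
      have he2n : e ≤ 2 * n := by
        obtain ⟨c, hc⟩ := heeven
        omega
      exact arith_order_mul k l ηk ηl n e i hk0 hl0 hηk hηl hkl he0 hke hle
        (Or.inr ⟨he2n, h3, h4⟩)
    · push Not at hneg
      have h3 := h2 hneg
      exact arith_order_mul k l ηk ηl n e 0 hk0 hl0 hηk hηl hkl he0 hke hle (Or.inl (by omega))
  rcases hordν with hoν | hoν
  · rcases hordμ with hoμ | hoμ
    · left
      obtain ⟨s₁, hs₁, hc₁⟩ := exists_finset_two_eta Sset (Fintype.card F) hSq hSinv _ hνS r hr hr2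
        hoν k ηk hk0 hk hηk
      obtain ⟨s₂, hs₂, hc₂⟩ := exists_finset_two_eta Sset (Fintype.card F) hSq hSinv _ hμS s hs hs2
        hoμ l ηl hl0 hl hηl
      have hdisj : Disjoint s₁ s₂ := by
        rw [Finset.disjoint_left]
        intro x hx₁ hx₂
        exact hrs ((hs₁ x hx₁).2.symm.trans (hs₂ x hx₂).2)
      have h1 := hcardS (s₁ ∪ s₂) (by
        intro x hx
        rcases Finset.mem_union.mp hx with h | h
        · exact (hs₁ x h).1
        · exact (hs₂ x h).1)
      rw [Finset.card_union_of_disjoint hdisj] at h1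
      omega
    · exact hcase _ hμS hoμ
  · exact hcase _ hνS hoν

end nonexOrth

end Cfsg.Agent.Lib.Helper43
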