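/-
helper43: the order of `Aut(PSL_2(F))`, from the decomposition theorem of helper41.
-/
import Cfsg.Agent.Lib.Helper41.PSL2AutOut
import Cfsg.Agent.Lib.Helper43.PSLnAutCard

set_option autoImplicit false

namespace Cfsg.Agent.Lib.Helper43

open Matrix Cfsg.Agent.Lib.Helper41

section

variable {F : Type*} [Field F]

theorem descend_eq_pslDescend (α : MulAut (Matrix.SpecialLinearGroup (Fin 2) F)) :
    descend α = pslDescend α := rfl

theorem fieldAut_eq_slFieldAut (σ : RingAut F) :
    (fieldAut σ : MulAut (Matrix.SpecialLinearGroup (Fin 2) F)) = slFieldAut σ := rfl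

/-- `diag(c, 1)` in `GL_2(F)` -/
def diagGL2 (c : Fˣ) : GL (Fin 2) F :=
  ⟨!![(c : F), 0; 0, 1], !![((c⁻¹ : Fˣ) : F), 0; 0, 1], by
    ext i j
    fin_cases i <;> fin_cases j <;> simp [Matrix.mul_apply, Fin.sum_univ_two], by
    ext i j
    fin_cases i <;> fin_cases j <;> simp [Matrix.mul_apply, Fin.sum_univ_two]⟩

theorem slConj_diagGL2 (c : Fˣ) : slConj (diagGL2 c) = diagAut c := by
  apply MulEquiv.ext
  intro x
  apply Subtype.ext
  rw [slConj_apply_coe, diagAut_apply, coe_diagAutFun]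
  have h1 : ((diagGL2 c : GL (Fin 2) F) : Matrix (Fin 2) (Fin 2) F) = !![(c : F), 0; 0, 1] := rfl
  have h2 : (((diagGL2 c)⁻¹ : GL (Fin 2) F) : Matrix (Fin 2) (Fin 2) F) =
      !![((c⁻¹ : Fˣ) : F), 0; 0, 1] := rfl
  have hc : (c : F) * ((c⁻¹ : Fˣ) : F) = 1 := by
    rw [← Units.val_mul, mul_inv_cancel, Units.val_one]
  rw [h1, h2]
  ext i j
  fin_cases i <;> fin_cases j
  · simp only [Matrix.mul_apply, Fin.sum_univ_two, Fin.zero_eta, Fin.isValue, Matrix.of_apply,
      Matrix.cons_val', Matrix.cons_val_zero, Matrix.cons_val_fin_one, Matrix.cons_val_one,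
      zero_mul, add_zero, mul_zero]
    rw [mul_comm, ← mul_assoc, mul_comm _ (c : F), hc, one_mul]
  · simp only [Matrix.mul_apply, Fin.sum_univ_two, Fin.zero_eta, Fin.mk_one, Fin.isValue,
      Matrix.of_apply, Matrix.cons_val', Matrix.cons_val_zero, Matrix.cons_val_fin_one,
      Matrix.cons_val_one, zero_mul, add_zero, mul_zero, mul_one, zero_add]
  · simp only [Matrix.mul_apply, Fin.sum_univ_two, Fin.zero_eta, Fin.mk_one, Fin.isValue,
      Matrix.of_apply, Matrix.cons_val', Matrix.cons_val_zero, Matrix.cons_val_fin_one,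
      Matrix.cons_val_one, zero_mul, add_zero, mul_zero, one_mul, zero_add]
    rw [mul_comm]
  · simp only [Matrix.mul_apply, Fin.sum_univ_two, Fin.mk_one, Fin.isValue,
      Matrix.of_apply, Matrix.cons_val', Matrix.cons_val_zero, Matrix.cons_val_fin_one,
      Matrix.cons_val_one, zero_mul, add_zero, mul_zero, one_mul, zero_add, mul_one]

theorem pslDiag_diagGL2 (c : Fˣ) : pslDiag (diagGL2 c) = descend (diagAut c) := by
  unfold pslDiag
  rw [MonoidHom.comp_apply, slConj_diagGL2]
  rfl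

theorem det_diagGL2 (c : Fˣ) : Matrix.GeneralLinearGroup.det (diagGL2 c) = c := by
  apply Units.ext
  show (!![(c : F), 0; 0, 1] : Matrix (Fin 2) (Fin 2) F).det = c
  rw [Matrix.det_fin_two_of]
  simp

variable [Fintype F]

theorem ker_fieldPart (p : ℕ) [Fact p.Prime] [CharP F p] :
    (fieldPart (F := F) p).ker = (pslDiag : GL (Fin 2) F →* _).range := by
  ext α
  rw [MonoidHom.mem_ker, MonoidHom.mem_range]
  constructor
  · intro h
    obtain ⟨g, c, hα⟩ := isStd_fieldPart p α
    rw [h, descend_stdAut, fieldAut_one, descend_one, mul_one, ← pslDiag_toGL, ← pslDiag_diagGL2,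
      ← map_mul] at hα
    exact ⟨_, hα.symm⟩
  · rintro ⟨h, rfl⟩
    apply fieldPart_eq
    set c : Fˣ := Matrix.GeneralLinearGroup.det h with hc
    set g' : GL (Fin 2) F := h * (diagGL2 c)⁻¹ with hg'
    have hdet : (g' : Matrix (Fin 2) (Fin 2) F).det = 1 := by
      have h3 : Matrix.GeneralLinearGroup.det g' = 1 := by
        rw [hg', map_mul, map_inv, det_diagGL2, ← hc, mul_inv_cancel]
      exact congrArg Units.val h3
    let s' : Matrix.SpecialLinearGroup (Fin 2) F := ⟨(g' : Matrix (Fin 2) (Fin 2) F), hdet⟩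
    have h4 : h = Matrix.SpecialLinearGroup.toGL s' * diagGL2 c := by
      have : Matrix.SpecialLinearGroup.toGL s' = g' := by
        apply Units.ext
        rfl
      rw [this, hg', inv_mul_cancel_right]
    refine ⟨s', c, ?_⟩
    rw [descend_stdAut, fieldAut_one, descend_one, mul_one, ← pslDiag_toGL, ← pslDiag_diagGL2,
      ← map_mul, ← h4]

/-- `|Aut(PSL_2(F))| = f |PGL_2(F)|` -/
theorem card_mulAut_psl_two {p f : ℕ} [Fact p.Prime] (hf : 1 ≤ f)
    (hF : Fintype.card F = p ^ f) :
    Nat.card (MulAut (Matrix.ProjectiveSpecialLinearGroup (Fin 2) F)) =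
      f * Nat.card (Matrix.ProjGenLinGroup (Fin 2) F) := by
  have hchar : CharP F p := charP_of_card' hf hF
  rw [card_mulAut_psl_of_ker_eq (le_refl 2) (fieldPart (F := F) p) (fieldPart_surjective p)
    (ker_fieldPart p), card_ringAut hf hF]

end

end Cfsg.Agent.Lib.Helper43
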