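/-
helper43: the special unitary group inside the centraliser of the standard graph-field
involution `pslTwist σ` of `PSL_n(F)` (module for the local-balance criterion S2686).
-/
import Mathlib
import Cfsg.Agent.Lib.Helper43.PSLnGraphField

set_option autoImplicit false

namespace Cfsg.Agent.Lib.Helper43

open scoped MatrixGroups Matrix
open Matrix

variable {n : ℕ} {F : Type*} [Field F]

/-- the inclusion `SU_n → GL_n` -/
noncomputable def suToGL (n : ℕ) (F : Type*) [Field F] (q₀ : ℕ) :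
    ↥(Cfsg.SU n F q₀) →* GL (Fin n) F :=
  Matrix.SpecialLinearGroup.toGL.comp (Cfsg.SU n F q₀).subtype

theorem suToGL_injective (q₀ : ℕ) : Function.Injective (suToGL n F q₀) := by
  intro a b hab
  apply Subtype.ext
  exact Matrix.SpecialLinearGroup.toGL_injective hab

theorem suToGL_det (q₀ : ℕ) (g : ↥(Cfsg.SU n F q₀)) :
    Matrix.GeneralLinearGroup.det (suToGL n F q₀ g) = 1 := by
  apply Units.ext
  rw [Matrix.GeneralLinearGroup.val_det_apply]
  exact g.1.2

theorem suToGL_mem_GU (q₀ : ℕ) (g : ↥(Cfsg.SU n F q₀)) : suToGL n F q₀ g ∈ Cfsg.GU n F q₀ :=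
  g.2

/-- a unitary matrix of determinant one comes from `SU_n` -/
theorem exists_suToGL_eq (q₀ : ℕ) (k : GL (Fin n) F) (hk : k ∈ Cfsg.GU n F q₀)
    (hdet : (k : Matrix (Fin n) (Fin n) F).det = 1) :
    ∃ g : ↥(Cfsg.SU n F q₀), suToGL n F q₀ g = k := by
  set s : Matrix.SpecialLinearGroup (Fin n) F := ⟨(k : Matrix (Fin n) (Fin n) F), hdet⟩ with hs
  have h1 : Matrix.SpecialLinearGroup.toGL s = k := by
    apply Units.ext
    rfl
  have hsU : s ∈ Cfsg.SU n F q₀ := by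
    intro u v
    have := hk u v
    exact this
  exact ⟨⟨s, hsU⟩, h1⟩

theorem suToGL_star (σ : RingAut F) {q₀ : ℕ} (hσq : ∀ a : F, σ a = a ^ q₀)
    (g : ↥(Cfsg.SU n F q₀)) : glStar σ (suToGL n F q₀ g) * suToGL n F q₀ g = 1 :=
  (mem_GU_iff_glStar σ hσq _).mp (suToGL_mem_GU q₀ g)

/-- `d2`: the image of `SU_n` centralises `pslTwist σ` -/
theorem suToGL_mem_centralizer (hn : 2 ≤ n) (σ : RingAut F) {q₀ : ℕ}
    (hσq : ∀ a : F, σ a = a ^ q₀) (g : ↥(Cfsg.SU n F q₀)) :
    (pslDiag (suToGL n F q₀ g) : MulAut (Matrix.ProjectiveSpecialLinearGroup (Fin n) F)) ∈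
      Subgroup.centralizer {pslTwist (n := n) σ} := by
  rw [pslDiag_mem_centralizer_pslTwist_iff hn]
  refine ⟨1, ?_⟩
  rw [map_one]
  exact mul_eq_one_comm.mp (suToGL_star σ hσq g)

/-- `d3`: the fixed points of `pslTwist σ` normalise the image of `SU_n` -/
theorem suToGL_conj (hn : 2 ≤ n) (σ : RingAut F) {q₀ : ℕ}
    (hσq : ∀ a : F, σ a = a ^ q₀) (k : GL (Fin n) F)
    (hk : (pslDiag k : MulAut (Matrix.ProjectiveSpecialLinearGroup (Fin n) F)) ∈
      Subgroup.centralizer {pslTwist (n := n) σ}) (g : ↥(Cfsg.SU n F q₀)) :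
    ∃ (g' : ↥(Cfsg.SU n F q₀)) (c : Fˣ),
      k * suToGL n F q₀ g * k⁻¹ = Matrix.GeneralLinearGroup.scalar (Fin n) c * suToGL n F q₀ g' := by
  obtain ⟨c, hc⟩ := (pslDiag_mem_centralizer_pslTwist_iff hn σ k).mp hk
  set a : GL (Fin n) F := suToGL n F q₀ g with ha
  have ha1 : glStar σ a * a = 1 := suToGL_star σ hσq g
  have hcen : ∀ y : GL (Fin n) F, Matrix.GeneralLinearGroup.scalar (Fin n) c * y =
      y * Matrix.GeneralLinearGroup.scalar (Fin n) c := by
    intro y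
    have hcen' : Matrix.GeneralLinearGroup.scalar (Fin n) c ∈ Subgroup.center (GL (Fin n) F) := by
      rw [Matrix.GeneralLinearGroup.center_eq_range_scalar]
      exact ⟨c, rfl⟩
    exact (Subgroup.mem_center_iff.mp hcen' y).symm
  -- `glStar k = k⁻¹ * scalar c`
  have hks : glStar σ k = k⁻¹ * Matrix.GeneralLinearGroup.scalar (Fin n) c := by
    rw [← hc, inv_mul_cancel_left]
  have hmem : k * a * k⁻¹ ∈ Cfsg.GU n F q₀ := by
    rw [mem_GU_iff_glStar σ hσq, glStar_mul, glStar_mul, glStar_inv, hks]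
    have h1 : glStar σ a = a⁻¹ := eq_inv_of_mul_eq_one_left ha1
    rw [h1]
    calc (k⁻¹ * Matrix.GeneralLinearGroup.scalar (Fin n) c)⁻¹ *
          (a⁻¹ * (k⁻¹ * Matrix.GeneralLinearGroup.scalar (Fin n) c)) * (k * a * k⁻¹)
        = (Matrix.GeneralLinearGroup.scalar (Fin n) c)⁻¹ * k * a⁻¹ * k⁻¹ *
            (Matrix.GeneralLinearGroup.scalar (Fin n) c * (k * a * k⁻¹)) := by group
      _ = (Matrix.GeneralLinearGroup.scalar (Fin n) c)⁻¹ * k * a⁻¹ * k⁻¹ *
            ((k * a * k⁻¹) * Matrix.GeneralLinearGroup.scalar (Fin n) c) := by rw [hcen]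
      _ = (Matrix.GeneralLinearGroup.scalar (Fin n) c)⁻¹ *
            Matrix.GeneralLinearGroup.scalar (Fin n) c := by group
      _ = 1 := inv_mul_cancel _
  have hdet : ((k * a * k⁻¹ : GL (Fin n) F) : Matrix (Fin n) (Fin n) F).det = 1 := by
    have h1 : Matrix.GeneralLinearGroup.det (k * a * k⁻¹) = 1 := by
      rw [map_mul, map_mul, map_inv, suToGL_det, mul_one, mul_inv_cancel]
    have := congrArg Units.val h1
    rwa [Matrix.GeneralLinearGroup.val_det_apply] at this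
  obtain ⟨g', hg'⟩ := exists_suToGL_eq q₀ _ hmem hdet
  refine ⟨g', 1, ?_⟩
  rw [map_one, one_mul, hg']

end Cfsg.Agent.Lib.Helper43
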