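/-
helper43: the semilinear commutant of `SU_n` inside `GL_n(F)` is trivial (module for the
local-balance criterion S2686, graph-field case).
-/
import Mathlib
import Cfsg.Agent.Lib.Helper43.PSLGFLB1
import Cfsg.Agent.Lib.Helper43.SumSqPlus
import Cfsg.Agent.Lib.Helper44.LBOrth3
import Cfsg.Agent.Lib.Helper44.DiagOrth
import Cfsg.Agent.Lib.Helper36.LocalBalance.Galois
import Cfsg.Agent.Lib.Helper36.PgoInn

set_option autoImplicit false

namespace Cfsg.Agent.Lib.Helper43

open scoped MatrixGroups Matrix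
open Matrix Cfsg.Agent.Lib.Helper45.PSLField Cfsg.Agent.Lib.Helper36 Cfsg.Agent.Lib.Helper44

variable {n : ℕ} {F : Type*} [Field F]

/-- the sum of squares as a quadratic form -/
noncomputable abbrev sqQF (n : ℕ) (K : Type*) [Field K] : QuadraticForm K (Fin n → K) :=
  wssF (fun _ : Fin n => (1 : K))

theorem sqQF_apply {K : Type*} [Field K] (v : Fin n → K) : sqQF n K v = v ⬝ᵥ v := by
  show wssF (fun _ : Fin n => (1 : K)) v = _
  rw [wssF_apply]
  simp only [one_mul, dotProduct]

/-- isometries of the sum of squares are orthogonal matrices -/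
theorem transpose_mul_self_of_isometry {K : Type*} [Field K] (h2 : (2 : K) ≠ 0)
    (A : GL (Fin n) K) (hA : A ∈ Cfsg.isometryGroup K (⇑(sqQF n K))) :
    (A : Matrix (Fin n) (Fin n) K)ᵀ * (A : Matrix (Fin n) (Fin n) K) = 1 := by
  set G : Matrix (Fin n) (Fin n) K := (A : Matrix (Fin n) (Fin n) K) with hG
  have h0 : Gᵀ * G - 1 = 0 := by
    apply eq_zero_of_quad_zero h2
    · rw [Matrix.transpose_sub, Matrix.transpose_mul, Matrix.transpose_transpose,
        Matrix.transpose_one]
    · intro w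
      have h1 : sqQF n K (G *ᵥ w) = sqQF n K w := hA w w
      rw [sqQF_apply, sqQF_apply] at h1
      have h3 : w ⬝ᵥ ((Gᵀ * G) *ᵥ w) = (G *ᵥ w) ⬝ᵥ (G *ᵥ w) := by
        rw [← Matrix.mulVec_mulVec, Matrix.dotProduct_mulVec, Matrix.vecMul_transpose]
      rw [Matrix.sub_mulVec, dotProduct_sub, h3, h1, Matrix.one_mulVec, sub_self]
  exact sub_eq_zero.mp h0

/-- orthogonal matrices of determinant one over the fixed field are special unitary -/
theorem exists_su_of_orth (σ : RingAut F) {q₀ : ℕ} (hσq : ∀ a : F, σ a = a ^ q₀)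
    {F₀ : Type*} [Field F₀] (j : F₀ →+* F) (hj : ∀ b, σ (j b) = j b)
    (A : GL (Fin n) F₀)
    (hA : (A : Matrix (Fin n) (Fin n) F₀)ᵀ * (A : Matrix (Fin n) (Fin n) F₀) = 1)
    (hdet : (A : Matrix (Fin n) (Fin n) F₀).det = 1) :
    ∃ g : ↥(Cfsg.SU n F q₀), ((suToGL n F q₀ g : GL (Fin n) F) : Matrix (Fin n) (Fin n) F) =
      (A : Matrix (Fin n) (Fin n) F₀).map j := by
  set k : GL (Fin n) F := Matrix.GeneralLinearGroup.map j A with hk
  have hkc : (k : Matrix (Fin n) (Fin n) F) = (A : Matrix (Fin n) (Fin n) F₀).map j := rfl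
  have hkσ : (k : Matrix (Fin n) (Fin n) F).map σ = (k : Matrix (Fin n) (Fin n) F) := by
    rw [hkc]
    ext a b
    rw [Matrix.map_apply, Matrix.map_apply]
    exact hj _
  have hkU : k ∈ Cfsg.GU n F q₀ := by
    rw [mem_GU_iff_glStar σ hσq]
    apply Units.ext
    rw [Units.val_mul, glStar_coe, hkσ, hkc, Units.val_one, ← Matrix.transpose_map]
    have h1 : ((A : Matrix (Fin n) (Fin n) F₀)ᵀ).map j * (A : Matrix (Fin n) (Fin n) F₀).map j =
        ((A : Matrix (Fin n) (Fin n) F₀)ᵀ * (A : Matrix (Fin n) (Fin n) F₀)).map j :=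
      (Matrix.map_mul (f := j)).symm
    rw [h1, hA, Matrix.map_one j (map_zero j) (map_one j)]
  have hkdet : (k : Matrix (Fin n) (Fin n) F).det = 1 := by
    rw [hkc, ← RingHom.mapMatrix_apply, ← RingHom.map_det, hdet, map_one]
  obtain ⟨g, hg⟩ := exists_suToGL_eq q₀ k hkU hkdet
  exact ⟨g, by rw [hg, hkc]⟩

/-- a norm-one element which is not a sign -/
theorem exists_norm_one_not_sign (h2 : (2 : F) ≠ 0) (σ : RingAut F) (hσ : σ ≠ 1)
    (hσ2 : σ * σ = 1) : ∃ a : F, a * σ a = 1 ∧ σ a ≠ a := by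
  have hσσ : ∀ a, σ (σ a) = a := ringAut_apply_apply_of_mul_self σ hσ2
  obtain ⟨b, hb⟩ : ∃ b : F, σ b ≠ b := by
    by_contra hcon
    apply hσ
    ext a
    by_contra hne
    exact hcon ⟨a, hne⟩
  set t : F := b - σ b with ht
  have ht0 : t ≠ 0 := sub_ne_zero.mpr (Ne.symm hb)
  have hσt : σ t = -t := by
    rw [ht, map_sub, hσσ]; ring
  clear_value t
  have h1 : 1 - t ≠ 0 := by
    intro h0
    have h3 : t = 1 := (sub_eq_zero.mp h0).symm
    rw [h3, map_one] at hσt
    have : (2 : F) = 0 := by linear_combination hσt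
    exact h2 this
  have h1' : 1 + t ≠ 0 := by
    intro h0
    have h3 : t = -1 := by linear_combination h0
    rw [h3, map_neg, map_one] at hσt
    have : (2 : F) = 0 := by linear_combination -hσt
    exact h2 this
  refine ⟨(1 + t) / (1 - t), ?_, ?_⟩
  · rw [map_div₀, map_add, map_sub, map_one, hσt]
    have e1 : (1 : F) + -t = 1 - t := by ring
    have e2 : (1 : F) - -t = 1 + t := by ring
    rw [e1, e2]
    field_simp
  · rw [map_div₀, map_add, map_sub, map_one, hσt]
    have e1 : (1 : F) + -t = 1 - t := by ring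
    have e2 : (1 : F) - -t = 1 + t := by ring
    rw [e1, e2]
    intro heq
    rw [div_eq_div_iff h1' h1] at heq
    have h4 : (4 : F) * t = 0 := by linear_combination -heq
    have h5 : (4 : F) ≠ 0 := by
      have : (4 : F) = 2 * 2 := by norm_num
      rw [this]
      exact mul_ne_zero h2 h2
    exact ht0 ((mul_eq_zero.mp h4).resolve_left h5)

/-- the diagonal element `diag(a, σ a, 1, …, 1)` of `SU_n` for `a` of norm one -/
theorem exists_su_diag (hn : 3 ≤ n) (σ : RingAut F) {q₀ : ℕ} (hσq : ∀ a : F, σ a = a ^ q₀)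
    (a : F) (ha : a * σ a = 1) :
    ∃ g : ↥(Cfsg.SU n F q₀), ((suToGL n F q₀ g : GL (Fin n) F) : Matrix (Fin n) (Fin n) F) =
      Matrix.diagonal (fun i : Fin n => if i = ⟨0, by omega⟩ then a
        else if i = ⟨1, by omega⟩ then σ a else 1) := by
  set i0 : Fin n := ⟨0, by omega⟩ with hi0
  set i1 : Fin n := ⟨1, by omega⟩ with hi1
  have h01 : i0 ≠ i1 := by
    intro h
    have := congrArg Fin.val h
    simp [hi0, hi1] at this
  set d : Fin n → F := fun i => if i = i0 then a else if i = i1 then σ a else 1 with hd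
  have hdet : (Matrix.diagonal d).det = 1 := by
    rw [Matrix.det_diagonal, Finset.prod_eq_mul i0 i1 h01]
    · simp only [hd, if_pos rfl, if_neg h01.symm]
      exact ha
    · intro c _ hc
      simp only [hd, if_neg hc.1, if_neg hc.2]
    · intro h; exact absurd (Finset.mem_univ _) h
    · intro h; exact absurd (Finset.mem_univ _) h
  have hdσ : ∀ i, d i * σ (d i) = 1 := by
    intro i
    simp only [hd]
    by_cases h0 : i = i0
    · rw [if_pos h0]; exact ha
    · rw [if_neg h0]
      by_cases h1 : i = i1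
      · rw [if_pos h1, ← map_mul, ha, map_one]
      · rw [if_neg h1, map_one, mul_one]
  set s : Matrix.SpecialLinearGroup (Fin n) F := ⟨Matrix.diagonal d, hdet⟩ with hs
  have hsU : s ∈ Cfsg.SU n F q₀ := by
    intro u v
    show Cfsg.hermForm n F q₀ ((Matrix.diagonal d) *ᵥ u) ((Matrix.diagonal d) *ᵥ v) =
      Cfsg.hermForm n F q₀ u v
    unfold Cfsg.hermForm
    apply Finset.sum_congr rfl
    intro i _
    rw [Matrix.mulVec_diagonal, Matrix.mulVec_diagonal, mul_pow, ← hσq]
    calc d i * u i * (σ (d i) * v i ^ q₀) = (d i * σ (d i)) * (u i * v i ^ q₀) := by ring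
      _ = u i * v i ^ q₀ := by rw [hdσ, one_mul]
  exact ⟨⟨s, hsU⟩, rfl⟩

/-- **`d5`: the semilinear commutant of `SU_n`** -/
theorem su_commutant [Fintype F] (hn : 3 ≤ n) (h2 : (2 : F) ≠ 0) (σ : RingAut F) (hσ : σ ≠ 1)
    (hσ2 : σ * σ = 1) {q₀ : ℕ} (hσq : ∀ a : F, σ a = a ^ q₀) (h : GL (Fin n) F) (τ : RingAut F)
    (H : ∀ g : ↥(Cfsg.SU n F q₀), ∃ c : Fˣ,
      h * Matrix.GeneralLinearGroup.map (τ : F →+* F) (suToGL n F q₀ g) =
        Matrix.GeneralLinearGroup.scalar (Fin n) c * (suToGL n F q₀ g * h)) :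
    τ = 1 ∧ ∃ c : Fˣ, h = Matrix.GeneralLinearGroup.scalar (Fin n) c := by
  classical
  have hσσ : ∀ a, σ (σ a) = a := ringAut_apply_apply_of_mul_self σ hσ2
  have HM : ∀ g : ↥(Cfsg.SU n F q₀), ∃ c : F,
      (h : Matrix (Fin n) (Fin n) F) *
        ((suToGL n F q₀ g : GL (Fin n) F) : Matrix (Fin n) (Fin n) F).map τ =
      c • (((suToGL n F q₀ g : GL (Fin n) F) : Matrix (Fin n) (Fin n) F) *
        (h : Matrix (Fin n) (Fin n) F)) := by
    intro g
    obtain ⟨c, hc⟩ := H g
    refine ⟨(c : F), ?_⟩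
    have h1 := congrArg (fun x : GL (Fin n) F => (x : Matrix (Fin n) (Fin n) F)) hc
    simp only [Units.val_mul, scalar_coe] at h1
    rw [Matrix.smul_mul, Matrix.one_mul] at h1
    exact h1
  set j : fixF σ →+* F := (fixF σ).subtype with hj
  have hjfix : ∀ b : fixF σ, σ (j b) = j b := fun b => (mem_fixF σ _).mp b.2
  have : Fintype (fixF σ) := Fintype.ofFinite _
  have h2₀ : (2 : fixF σ) ≠ 0 := by
    intro h0
    apply h2
    have := congrArg j h0
    rwa [map_ofNat, map_zero] at this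
  obtain ⟨hτfix, c, hc⟩ := Cfsg.Agent.Lib.Helper44.LB.cent_orth (sqQF n (fixF σ))
    (wssF_nondeg h2₀ _ (fun _ => one_ne_zero)) h2₀
    (by rw [Fintype.card_fin]; exact hn) j τ h (by
      intro A hA
      have hiso := OmegaGL_le_isometryGroup _ hA
      have hsp := (OmegaGL_le_special _ hA).2
      have hdet : (A : Matrix (Fin n) (Fin n) (fixF σ)).det = 1 := by
        have h3 : Matrix.GeneralLinearGroup.det A = 1 := hsp
        have := congrArg Units.val h3
        rwa [Matrix.GeneralLinearGroup.val_det_apply, Units.val_one] at this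
      obtain ⟨g, hg⟩ := exists_su_of_orth σ hσq j hjfix A
        (transpose_mul_self_of_isometry h2₀ A hiso) hdet
      obtain ⟨c, hc⟩ := HM g
      rw [hg] at hc
      exact ⟨c, hc⟩)
  have hc0 : c ≠ 0 := by
    rintro rfl
    rw [zero_smul] at hc
    exact gl_coe_ne_zero (by omega) h hc
  -- `τ` is a power of `σ`
  have hτz : τ ∈ Subgroup.zpowers σ := by
    apply LocalBalance.mem_zpowers_of_fixes
    intro a ha
    exact hτfix ⟨a, (mem_fixF σ a).mpr ha⟩
  have hτ : τ = 1 ∨ τ = σ := by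
    obtain ⟨k, hk⟩ := hτz
    have hk' : σ ^ k = τ := hk
    rw [← hk']
    have hσsq : σ ^ (2 : ℤ) = 1 := by
      rw [zpow_ofNat, pow_two, hσ2]
    rcases Int.even_or_odd' k with ⟨m, hm | hm⟩
    · left
      rw [hm, _root_.zpow_mul, hσsq, _root_.one_zpow]
    · right
      rw [hm, _root_.zpow_add, _root_.zpow_mul, hσsq, _root_.one_zpow, one_mul, zpow_one]
  have hscal : ∃ c : Fˣ, h = Matrix.GeneralLinearGroup.scalar (Fin n) c := by
    refine ⟨Units.mk0 c hc0, ?_⟩
    apply Units.ext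
    rw [scalar_coe, Units.val_mk0]
    exact hc
  rcases hτ with hτ1 | hτσ
  · exact ⟨hτ1, hscal⟩
  · exfalso
    subst hτσ
    obtain ⟨a, ha1, ha2⟩ := exists_norm_one_not_sign h2 τ hσ hσ2
    obtain ⟨g, hg⟩ := exists_su_diag hn τ hσq a ha1
    obtain ⟨cg, hcg⟩ := HM g
    rw [hg, hc, Matrix.smul_mul, Matrix.one_mul, Matrix.mul_smul, Matrix.mul_one,
      Matrix.diagonal_map (map_zero _), smul_smul] at hcg
    set i0 : Fin n := ⟨0, by omega⟩ with hi0
    set i2 : Fin n := ⟨2, by omega⟩ with hi2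
    have h20 : i2 ≠ i0 := by
      intro h
      have := congrArg Fin.val h
      simp [hi0, hi2] at this
    have h21 : i2 ≠ ⟨1, by omega⟩ := by
      intro h
      have := congrArg Fin.val h
      simp [hi2] at this
    have e2 := congrFun (congrFun hcg i2) i2
    have e0 := congrFun (congrFun hcg i0) i0
    simp only [Matrix.smul_apply, Matrix.diagonal_apply_eq, smul_eq_mul,
      if_neg h20, if_neg h21, if_pos, map_one, mul_one] at e2 e0
    have hcg1 : cg = 1 := by
      have : c * 1 = cg * c * 1 := by simpa using e2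
      have h3 : c = cg * c := by simpa using this
      have h4 : (cg - 1) * c = 0 := by linear_combination -h3
      exact sub_eq_zero.mp ((mul_eq_zero.mp h4).resolve_right hc0)
    rw [hcg1, one_mul] at e0
    exact ha2 (mul_left_cancel₀ hc0 e0)

end Cfsg.Agent.Lib.Helper43
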