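/-
helper43: local balance for the involutory graph-field automorphisms of `PSL_n(F)`, `n ≥ 3`,
odd characteristic: `O_{2'}(C_A(x)) = 1` (module for S2686).
-/
import Mathlib
import Cfsg.Agent.Lib.Helper43.PSLGFLB2
import Cfsg.Agent.Lib.Helper43.PSLnHerm
import Cfsg.Agent.Lib.Helper43.FrobInvol
import Cfsg.Agent.Lib.Helper44.LBGen
import Cfsg.Agent.S0283

set_option autoImplicit false

namespace Cfsg.Agent.Lib.Helper43

open scoped MatrixGroups Matrix
open Matrix Cfsg.Agent.Lib.Helper45.PSLField Cfsg.Agent.Lib.Helper36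
  Cfsg.Agent.Lib.Helper36.LocalBalance Cfsg.Agent.Lib.Helper44

variable {n : ℕ} {F : Type*} [Field F]

/-- the element `diag(-1, -1, 1, …, 1)` of `SU_n`, which is not scalar -/
theorem exists_su_nonscalar (hn : 3 ≤ n) (h2 : (2 : F) ≠ 0) (σ : RingAut F) {q₀ : ℕ}
    (hσq : ∀ a : F, σ a = a ^ q₀) :
    ∃ g : ↥(Cfsg.SU n F q₀), g * g = 1 ∧
      ∀ c : Fˣ, suToGL n F q₀ g ≠ Matrix.GeneralLinearGroup.scalar (Fin n) c := by
  have ha : (-1 : F) * σ (-1) = 1 := by
    rw [map_neg, map_one]; ring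
  obtain ⟨g, hg⟩ := exists_su_diag hn σ hσq (-1) ha
  refine ⟨g, ?_, ?_⟩
  · apply suToGL_injective q₀
    apply Units.ext
    rw [map_mul, Units.val_mul, hg, map_one, Units.val_one, Matrix.diagonal_mul_diagonal,
      ← Matrix.diagonal_one]
    congr 1
    funext i
    by_cases h0 : i = ⟨0, by omega⟩
    · rw [if_pos h0]; ring
    · rw [if_neg h0]
      by_cases h1 : i = ⟨1, by omega⟩
      · rw [if_pos h1, map_neg, map_one]; ring
      · rw [if_neg h1, one_mul]
  · intro c hc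
    have h1 := congrArg (fun x : GL (Fin n) F => (x : Matrix (Fin n) (Fin n) F)) hc
    simp only [scalar_coe] at h1
    rw [hg] at h1
    set i0 : Fin n := ⟨0, by omega⟩ with hi0
    set i2 : Fin n := ⟨2, by omega⟩ with hi2
    have h20 : i2 ≠ i0 := by
      intro h
      have := congrArg Fin.val h
      simp [hi0, hi2] at this
    have h21 : i2 ≠ ⟨1, by omega⟩ := by
      intro h
      have := congrArg Fin.val h
      simp [hi2] at this
    have e2 := congrFun (congrFun h1 i2) i2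
    have e0 := congrFun (congrFun h1 i0) i0
    simp only [Matrix.smul_apply, Matrix.diagonal_apply_eq, smul_eq_mul, Matrix.one_apply_eq,
      if_neg h20, if_neg h21, if_pos, mul_one] at e2 e0
    rw [← e2] at e0
    apply h2
    linear_combination -e0

/-- `d4`: `PSU_n(q₀)` has no non-trivial normal subgroup of odd order -/
theorem psu_noNormal [Fintype F] (hn : 3 ≤ n) (h2 : (2 : F) ≠ 0) (σ : RingAut F) (hσ : σ ≠ 1)
    (hσ2 : σ * σ = 1) {q₀ : ℕ} (hσq : ∀ a : F, σ a = a ^ q₀)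
    (hcard : Fintype.card F = q₀ ^ 2)
    (M : Subgroup (↥(Cfsg.SU n F q₀) ⧸ Subgroup.center ↥(Cfsg.SU n F q₀))) (hM : M.Normal)
    (hc : (Nat.card ↥M).Coprime 2) : M = ⊥ := by
  have : Fact (Nat.Prime 2) := ⟨Nat.prime_two⟩
  have hq₀ : ¬ (n = 3 ∧ q₀ = 2) := by
    rintro ⟨-, rfl⟩
    have hch : ringChar F = 2 := by
      apply (FiniteField.even_card_iff_char_two).mpr
      rw [hcard]
      decide
    apply h2
    have := ringChar.spec F (2 : ℕ)
    rw [hch] at this
    exact_mod_cast this.mpr dvd_rfl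
  have hs : IsSimpleGroup (Cfsg.PSU n F q₀) := Cfsg.Agent.S0283.result hcard n hn hq₀
  refine noNormal_of_simple (E := Cfsg.PSU n F q₀) 2 ?_ M hM hc
  obtain ⟨g, hg2, hgns⟩ := exists_su_nonscalar hn h2 σ hσq
  set gb : Cfsg.PSU n F q₀ := QuotientGroup.mk g with hgb
  have hgb2 : gb ^ 2 = 1 := by
    rw [hgb, ← QuotientGroup.mk_pow, pow_two, hg2, QuotientGroup.mk_one]
  have hgb1 : gb ≠ 1 := by
    intro h1
    rw [hgb, QuotientGroup.eq_one_iff] at h1
    obtain ⟨-, c, hc⟩ := su_commutant hn h2 σ hσ hσ2 hσq (suToGL n F q₀ g) 1 (by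
      intro g'
      refine ⟨1, ?_⟩
      rw [map_one, one_mul]
      have e1 : Matrix.GeneralLinearGroup.map ((1 : RingAut F) : F →+* F) (suToGL n F q₀ g') =
          suToGL n F q₀ g' := by
        apply Units.ext
        ext a b
        rfl
      rw [e1, ← map_mul, ← map_mul, Subgroup.mem_center_iff.mp h1 g'])
    exact hgns c hc
  have hord : orderOf gb = 2 := orderOf_eq_prime hgb2 hgb1
  rw [← hord]
  exact orderOf_dvd_natCard gb

/-- **the standard graph-field involution** -/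
theorem pslTwist_core_eq_bot [Fintype F] (hn : 3 ≤ n) (h2 : (2 : F) ≠ 0) (hstd : AllStdAut n F)
    (hK : IsSimpleGroup (Matrix.ProjectiveSpecialLinearGroup (Fin n) F))
    (σ : RingAut F) (hσ : σ ≠ 1) (hσ2 : σ * σ = 1)
    (A : Subgroup (MulAut (Matrix.ProjectiveSpecialLinearGroup (Fin n) F)))
    (hinn : Cfsg.Inn (Matrix.ProjectiveSpecialLinearGroup (Fin n) F) ≤ A) :
    Cfsg.pPrimeCore 2 ↥(A ⊓ Subgroup.centralizer {pslTwist (n := n) σ}) = ⊥ := by
  classical
  obtain ⟨p, hpc⟩ := CharP.exists F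
  have hpp : p.Prime := CharP.char_is_prime F p
  have : Fact p.Prime := ⟨hpp⟩
  obtain ⟨f, -, hcardF⟩ := FiniteField.card F p
  have hf : 1 ≤ (f : ℕ) := f.pos
  obtain ⟨hev, hσq⟩ := frob_involution hf hcardF σ hσ hσ2
  set q₀ : ℕ := p ^ ((f : ℕ) / 2) with hq₀
  have hcard : Fintype.card F = q₀ ^ 2 := by
    rw [hcardF, hq₀, ← pow_mul]
    congr 1
    obtain ⟨t, ht⟩ := hev
    omega
  -- `Inn ≠ ⊥`
  obtain ⟨g, -, hgns⟩ := exists_su_nonscalar hn h2 σ hσq
  have hInn_ne : Cfsg.Inn (Matrix.ProjectiveSpecialLinearGroup (Fin n) F) ≠ ⊥ := by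
    intro h0
    have h1 : (pslDiag (suToGL n F q₀ g) :
        MulAut (Matrix.ProjectiveSpecialLinearGroup (Fin n) F)) ∈
        Cfsg.Inn (Matrix.ProjectiveSpecialLinearGroup (Fin n) F) := by
      rw [mem_inn_iff]
      exact ⟨g.1, rfl⟩
    rw [h0, Subgroup.mem_bot, ← MonoidHom.mem_ker, ker_pslDiag (by omega),
      Matrix.GeneralLinearGroup.center_eq_range_scalar] at h1
    obtain ⟨c, hc⟩ := h1
    exact hgns c hc.symm
  have hZ : Subgroup.center (Matrix.ProjectiveSpecialLinearGroup (Fin n) F) = ⊥ :=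
    center_eq_bot_of_inn_ne_bot hInn_ne
  have hxx : (pslTwist (n := n) σ : MulAut (Matrix.ProjectiveSpecialLinearGroup (Fin n) F)) ^ 2
      = 1 := by
    have h1 := twisted_mul_self (n := n) σ 1
    rw [map_one, one_mul] at h1
    rw [pow_two, h1, hσ2, map_one, mul_one]
    have h3 : (1 : GL (Fin n) F) * (glStar σ 1)⁻¹ = 1 := by
      rw [one_mul, inv_eq_one]
      apply Units.ext
      rw [glStar_coe, Units.val_one, Matrix.map_one σ (map_zero σ) (map_one σ),
        Matrix.transpose_one]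
    rw [h3, map_one]
  have hx : (stdPart hn hstd (pslTwist (n := n) σ)).2 = Multiplicative.ofAdd (1 : ZMod 2) := by
    have h1 : stdPart hn hstd (pslTwist (n := n) σ) = (σ, Multiplicative.ofAdd (1 : ZMod 2)) := by
      apply stdPart_eq
      refine ⟨1, ?_⟩
      rw [map_one, one_mul, pslGraph_one_add]
      rfl
    rw [h1]
  exact LB.lb_graph_generic hn hstd hZ _ hxx hx (suToGL n F q₀) (suToGL_injective q₀)
    (suToGL_det q₀) (suToGL_mem_centralizer (by omega) σ hσq)
    (fun k hk g => suToGL_conj (by omega) σ hσq k hk g)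
    (fun M hM hc => psu_noNormal hn h2 σ hσ hσ2 hσq hcard M hM hc)
    (fun h τ H => su_commutant hn h2 σ hσ hσ2 hσq h τ H) A hinn

/-- **graph-field type**: an involutory automorphism with field part `σ ≠ 1` and non-trivial
graph part has trivial `2'`-core in its centraliser (in any `A ≥ Inn`) -/
theorem psl_graphfield_main [Fintype F] (hn : 3 ≤ n) (h2 : (2 : F) ≠ 0) (hstd : AllStdAut n F)
    (hK : IsSimpleGroup (Matrix.ProjectiveSpecialLinearGroup (Fin n) F))
    (x : MulAut (Matrix.ProjectiveSpecialLinearGroup (Fin n) F)) (hxx : x ^ 2 = 1)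
    (σ : RingAut F) (hσ : σ ≠ 1)
    (hx : IsStdAut x (σ, Multiplicative.ofAdd (1 : ZMod 2)))
    (A : Subgroup (MulAut (Matrix.ProjectiveSpecialLinearGroup (Fin n) F)))
    (hinn : ∀ k : Matrix.ProjectiveSpecialLinearGroup (Fin n) F, MulAut.conj k ∈ A) :
    Cfsg.pPrimeCore 2 ↥(A ⊓ Subgroup.centralizer {x}) = ⊥ := by
  have hinn' : Cfsg.Inn (Matrix.ProjectiveSpecialLinearGroup (Fin n) F) ≤ A := by
    rintro _ ⟨k, rfl⟩
    exact hinn k
  obtain ⟨g, hg⟩ := hx
  have hxg : x = pslDiag g * pslTwist σ := by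
    rw [hg, pslGraph_one_add, mul_assoc]
    rfl
  have hxx' : (pslDiag g * pslTwist σ :
      MulAut (Matrix.ProjectiveSpecialLinearGroup (Fin n) F)) * (pslDiag g * pslTwist σ) = 1 := by
    rw [← hxg, ← pow_two, hxx]
  obtain ⟨hσ2, h, hh⟩ := twisted_involution_conj (by omega) σ hσ g hxx'
  set β : MulAut (Matrix.ProjectiveSpecialLinearGroup (Fin n) F) := (pslDiag h)⁻¹ with hβ
  have hβx : β * x * β⁻¹ = pslTwist σ := by
    rw [hxg, hh, hβ]
    group
  by_contra hne
  have h1 := (core_conj_iff A x β 2).mp hne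
  rw [hβx] at h1
  exact h1 (pslTwist_core_eq_bot hn h2 hstd hK σ hσ hσ2 _ (inn_le_map_conj A β hinn'))

end Cfsg.Agent.Lib.Helper43
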