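/-
helper43: small facts on `PSL_2(F)` for the local-balance criterion S2686:
the graph automorphism is inner-diagonal for `n = 2`; `PSL_2(F)` simple forces `4 ≤ |F|`.
-/
import Mathlib
import Cfsg.Agent.Lib.Helper36.LocalBalance.PSLStd
import Cfsg.Agent.Lib.Helper36.LocalBalance.PSLCent
import Cfsg.Agent.S0250
import Cfsg.Agent.S0251

set_option autoImplicit false

namespace Cfsg.Agent.Lib.Helper43

open scoped MatrixGroups Matrix
open Matrix Cfsg.Agent.Lib.Helper36.LocalBalance

/-- (a) for `n = 2` the inverse transpose is inner-diagonal (re-export of helper36's lemma) -/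
theorem pslInvT_eq_pslDiag_two {F : Type*} [Field F] : ∃ w : GL (Fin 2) F,
    (pslInvT : MulAut (Matrix.ProjectiveSpecialLinearGroup (Fin 2) F)) = pslDiag w :=
  pslInvT_two

/-- (a') for `n = 2` every standard automorphism has no graph part -/
theorem exists_diag_field_two {F : Type*} [Field F] (hstd : AllStdAut 2 F)
    (β : MulAut (Matrix.ProjectiveSpecialLinearGroup (Fin 2) F)) :
    ∃ (g : GL (Fin 2) F) (σ : RingAut F), β = pslDiag g * pslField σ := by
  obtain ⟨⟨σ, ε⟩, g, hg⟩ := hstd β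
  rcases zmod2_mul_cases ε with h | h
  · refine ⟨g, σ, ?_⟩
    rw [hg, h, map_one, mul_one]
  · obtain ⟨w, hw⟩ := pslInvT_eq_pslDiag_two (F := F)
    refine ⟨g * Matrix.GeneralLinearGroup.map (σ : F →+* F) w, σ, ?_⟩
    rw [hg, h, pslGraph_one_add, hw, mul_assoc, pslField_mul_pslDiag, ← mul_assoc, ← map_mul]

set_option maxRecDepth 100000 in
theorem perm_three_cube_mul : ∀ a b : Equiv.Perm (Fin 3), a ^ 3 = 1 → b ^ 3 = 1 →
    (a * b) ^ 3 = 1 := by
  decide

set_option maxRecDepth 100000 in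
theorem perm_three_exists : (∃ g : Equiv.Perm (Fin 3), g ≠ 1 ∧ g ^ 3 = 1) ∧
    ∃ g : Equiv.Perm (Fin 3), g ^ 3 ≠ 1 := by
  decide

set_option maxRecDepth 100000 in
theorem alt_four_sq_mul : ∀ a b : alternatingGroup (Fin 4), a ^ 2 = 1 → b ^ 2 = 1 →
    (a * b) ^ 2 = 1 := by
  decide

set_option maxRecDepth 100000 in
theorem alt_four_exists : (∃ g : alternatingGroup (Fin 4), g ≠ 1 ∧ g ^ 2 = 1) ∧
    ∃ g : alternatingGroup (Fin 4), g ^ 2 ≠ 1 := by
  decide

/-- a group in which the elements of exponent `k` form a proper non-trivial subgroup is not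
simple -/
theorem not_isSimpleGroup_of_pow_closed {G : Type*} [Group G] (k : ℕ)
    (hmul : ∀ a b : G, a ^ k = 1 → b ^ k = 1 → (a * b) ^ k = 1)
    (h1 : ∃ g : G, g ≠ 1 ∧ g ^ k = 1) (h2 : ∃ g : G, g ^ k ≠ 1) : ¬ IsSimpleGroup G := by
  intro hs
  set N : Subgroup G :=
    { carrier := {g | g ^ k = 1}
      mul_mem' := fun {a b} ha hb => hmul a b ha hb
      one_mem' := one_pow k
      inv_mem' := fun {a} ha => by
        show a⁻¹ ^ k = 1
        rw [inv_pow, ha, inv_one] } with hN
  have hNn : N.Normal := by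
    constructor
    intro n hn g
    show (g * n * g⁻¹) ^ k = 1
    rw [conj_pow, hn, mul_one, mul_inv_cancel]
  rcases hNn.eq_bot_or_eq_top with h | h
  · obtain ⟨g, hg1, hgk⟩ := h1
    have : g ∈ N := hgk
    rw [h, Subgroup.mem_bot] at this
    exact hg1 this
  · obtain ⟨g, hgk⟩ := h2
    have : g ∈ N := by rw [h]; exact Subgroup.mem_top g
    exact hgk this

theorem not_isSimpleGroup_perm_three : ¬ IsSimpleGroup (Equiv.Perm (Fin 3)) :=
  not_isSimpleGroup_of_pow_closed 3 perm_three_cube_mul perm_three_exists.1 perm_three_exists.2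

theorem not_isSimpleGroup_alt_four : ¬ IsSimpleGroup (alternatingGroup (Fin 4)) :=
  not_isSimpleGroup_of_pow_closed 2 alt_four_sq_mul alt_four_exists.1 alt_four_exists.2

/-- (b) if `PSL_2(F)` is simple then `F` has at least four elements -/
theorem four_le_card_of_simple_psl2 {F : Type*} [Field F] [Fintype F]
    (hK : IsSimpleGroup (Matrix.ProjectiveSpecialLinearGroup (Fin 2) F)) :
    4 ≤ Fintype.card F := by
  by_contra hlt
  have h1 : 1 < Fintype.card F := Fintype.one_lt_card
  have hq : Fintype.card F = 2 ∨ Fintype.card F = 3 := by omega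
  rcases hq with hq | hq
  · obtain ⟨e₂⟩ := Cfsg.Agent.S0250.result (F := F) hq
    have hZ : Subgroup.center (Matrix.SpecialLinearGroup (Fin 2) F) = ⊥ :=
      center_eq_bot_of_equiv e₂ center_perm_three
    let e₁ : Matrix.ProjectiveSpecialLinearGroup (Fin 2) F ≃*
        Matrix.SpecialLinearGroup (Fin 2) F :=
      (QuotientGroup.quotientMulEquivOfEq hZ).trans QuotientGroup.quotientBot
    exact not_isSimpleGroup_perm_three ((e₁.trans e₂).symm.isSimpleGroup)
  · obtain ⟨e₂⟩ := Cfsg.Agent.S0251.result (F := F) hq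
    exact not_isSimpleGroup_alt_four (e₂.symm.isSimpleGroup)

end Cfsg.Agent.Lib.Helper43
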