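/-
helper43: an automorphism of `PSL_n(F)`, `n ≥ 3`, preserving every root subgroup `X_ij` is the product
of a diagonal and a field automorphism (Steinberg relations).
-/
import Cfsg.Agent.Lib.Helper5.SLGen
import Cfsg.Agent.Lib.Helper43.PSLnAutKer

set_option autoImplicit false

namespace Cfsg.Agent.Lib.Helper43

open Matrix
open scoped commutatorElement

section

variable {n : ℕ} {F : Type*} [Field F]


theorem transSL_eq (i j : Fin n) (hij : i ≠ j) (a : F) :
    transSL i j hij a = Matrix.SpecialLinearGroup.transvection hij a := rfl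

theorem mk_transSL_injective (i j : Fin n) (hij : i ≠ j) {a b : F}
    (h : (QuotientGroup.mk (transSL i j hij a) : Matrix.ProjectiveSpecialLinearGroup (Fin n) F) =
      QuotientGroup.mk (transSL i j hij b)) : a = b := by
  obtain ⟨r, hr⟩ := exists_smul_of_mk_eq _ _ h
  have h1 := congrFun (congrFun hr i) i
  have h2 := congrFun (congrFun hr i) j
  simp only [transSL, Matrix.transvection, Matrix.smul_apply, Matrix.add_apply, Matrix.one_apply_eq,
    Matrix.single_apply_of_col_ne i i hij.symm, add_zero, smul_eq_mul, mul_one] at h1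
  simp only [transSL, Matrix.transvection, Matrix.smul_apply, Matrix.add_apply,
    Matrix.one_apply_ne hij, Matrix.single_apply_same, zero_add, smul_eq_mul] at h2
  rw [← h1, one_mul] at h2
  exact h2.symm

theorem mk_transSL_eq_one_iff (i j : Fin n) (hij : i ≠ j) (a : F) :
    (QuotientGroup.mk (transSL i j hij a) : Matrix.ProjectiveSpecialLinearGroup (Fin n) F) = 1 ↔
      a = 0 := by
  rw [QuotientGroup.eq_one_iff, transSL_eq, Matrix.SpecialLinearGroup.transvection_mem_center_iff]

/-- the diagonal matrix with invertible entries `d` -/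
def diagGL (d : Fin n → Fˣ) : GL (Fin n) F :=
  ⟨Matrix.diagonal (fun i => (d i : F)), Matrix.diagonal (fun i => ((d i)⁻¹ : Fˣ)), by
    rw [Matrix.diagonal_mul_diagonal]
    simp, by
    rw [Matrix.diagonal_mul_diagonal]
    simp⟩

theorem slConj_diagGL_transSL (d : Fin n → Fˣ) (i j : Fin n) (hij : i ≠ j) (a : F) :
    slConj (diagGL d) (transSL i j hij a) =
      transSL i j hij ((d i : F) * a * ((d j)⁻¹ : Fˣ)) := by
  apply Subtype.ext
  rw [slConj_apply_coe]
  show Matrix.diagonal (fun i => (d i : F)) * Matrix.transvection i j a *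
    Matrix.diagonal (fun i => (((d i)⁻¹ : Fˣ) : F)) = Matrix.transvection i j _
  unfold Matrix.transvection
  rw [Matrix.mul_add, Matrix.add_mul, Matrix.mul_one, Matrix.diagonal_mul_diagonal]
  congr 1
  · simp
  · ext k l
    rw [Matrix.mul_diagonal, Matrix.diagonal_mul, Matrix.single_apply, Matrix.single_apply]
    split_ifs with h
    · obtain ⟨rfl, rfl⟩ := h
      rfl
    · simp



theorem exists_ne_ne_fin (hn : 3 ≤ n) (i j : Fin n) : ∃ k : Fin n, k ≠ i ∧ k ≠ j := by
  by_cases h0 : (⟨0, by omega⟩ : Fin n) ≠ i ∧ (⟨0, by omega⟩ : Fin n) ≠ j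
  · exact ⟨_, h0.1, h0.2⟩
  by_cases h1 : (⟨1, by omega⟩ : Fin n) ≠ i ∧ (⟨1, by omega⟩ : Fin n) ≠ j
  · exact ⟨_, h1.1, h1.2⟩
  refine ⟨⟨2, by omega⟩, ?_, ?_⟩
  · intro h
    rw [← h] at h0 h1
    simp only [ne_eq, Fin.mk.injEq, not_and_or, not_not] at h0 h1
    rcases h0 with h0 | h0 <;> rcases h1 with h1 | h1 <;> simp_all [Fin.ext_iff] <;> omega
  · intro h
    rw [← h] at h0 h1
    simp only [ne_eq, Fin.mk.injEq, not_and_or, not_not] at h0 h1
    rcases h0 with h0 | h0 <;> rcases h1 with h1 | h1 <;> simp_all [Fin.ext_iff] <;> omega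

/-- the Steinberg relations force a family of additive maps on the root subgroups to be
`a ↦ d_i σ(a) d_j⁻¹` for a ring endomorphism `σ` -/
theorem exists_diag_field_of_steinberg (hn : 3 ≤ n) (m : Fin n → Fin n → F → F)
    (hadd : ∀ i j, i ≠ j → ∀ a b, m i j (a + b) = m i j a + m i j b)
    (hzero : ∀ i j, i ≠ j → ∀ a, m i j a = 0 → a = 0)
    (hmul : ∀ i j k, i ≠ j → j ≠ k → i ≠ k → ∀ a b, m i k (a * b) = m i j a * m j k b) :
    ∃ (d : Fin n → Fˣ) (σ : F →+* F), ∀ i j, i ≠ j → ∀ a,
      m i j a = (d i : F) * σ a * ((d j)⁻¹ : Fˣ) := by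
  set c : Fin n → Fin n → F := fun i j => m i j 1 with hcdef
  have hc0 : ∀ i j, i ≠ j → c i j ≠ 0 := fun i j hij h => one_ne_zero (hzero i j hij 1 h)
  have hc : ∀ i j k, i ≠ j → j ≠ k → i ≠ k → c i k = c i j * c j k := by
    intro i j k hij hjk hik
    have := hmul i j k hij hjk hik 1 1
    rwa [mul_one] at this
  have h1 : ∀ i j k, i ≠ j → j ≠ k → i ≠ k → ∀ a, m i k a = m i j a * c j k := by
    intro i j k hij hjk hik a
    have := hmul i j k hij hjk hik a 1
    rwa [mul_one] at this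
  have h2 : ∀ i j k, i ≠ j → j ≠ k → i ≠ k → ∀ b, m i k b = c i j * m j k b := by
    intro i j k hij hjk hik b
    have := hmul i j k hij hjk hik 1 b
    rwa [one_mul] at this
  set ρ : Fin n → Fin n → F → F := fun i j a => m i j a / c i j with hρdef
  have L1 : ∀ i j k, i ≠ j → j ≠ k → i ≠ k → ∀ a, ρ i k a = ρ i j a := by
    intro i j k hij hjk hik a
    simp only [hρdef]
    rw [h1 i j k hij hjk hik, hc i j k hij hjk hik]
    have := hc0 i j hij
    have := hc0 j k hjk
    field_simp
  have L2 : ∀ i j k, i ≠ j → j ≠ k → i ≠ k → ∀ a, ρ i k a = ρ j k a := by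
    intro i j k hij hjk hik a
    simp only [hρdef]
    rw [h2 i j k hij hjk hik, hc i j k hij hjk hik]
    have := hc0 i j hij
    have := hc0 j k hjk
    field_simp
  have A : ∀ i i' j, i ≠ j → i' ≠ j → ∀ a, ρ i j a = ρ i' j a := by
    intro i i' j hij hi'j a
    by_cases h : i = i'
    · rw [h]
    · exact L2 i i' j h hi'j hij a
  have B : ∀ i j j', i ≠ j → i ≠ j' → ∀ a, ρ i j a = ρ i j' a := by
    intro i j j' hij hij' a
    by_cases h : j = j'
    · rw [h]
    · exact (L1 i j' j hij' (Ne.symm h) hij a)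
  have L : ∀ i j k l, i ≠ j → k ≠ l → ∀ a, ρ i j a = ρ k l a := by
    intro i j k l hij hkl a
    by_cases hjk : j = k
    · obtain ⟨t, hti, htj⟩ := exists_ne_ne_fin hn i j
      rw [B i j t hij (Ne.symm hti) a, A i j t (Ne.symm hti) (Ne.symm htj) a, hjk,
        B k t l (by rw [← hjk]; exact Ne.symm htj) hkl a]
    · rw [A i k j hij (Ne.symm hjk) a, B k j l (Ne.symm hjk) hkl a]
  have h01 : (⟨0, by omega⟩ : Fin n) ≠ ⟨1, by omega⟩ := by simp [Fin.ext_iff]
  have h12 : (⟨1, by omega⟩ : Fin n) ≠ ⟨2, by omega⟩ := by simp [Fin.ext_iff]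
  have h02 : (⟨0, by omega⟩ : Fin n) ≠ ⟨2, by omega⟩ := by simp [Fin.ext_iff]
  set i0 : Fin n := ⟨0, by omega⟩
  set i1 : Fin n := ⟨1, by omega⟩
  set i2 : Fin n := ⟨2, by omega⟩
  have hm : ∀ i j, i ≠ j → ∀ a, m i j a = c i j * ρ i0 i1 a := by
    intro i j hij a
    rw [← L i j i0 i1 hij h01 a]
    simp only [hρdef]
    rw [mul_div_cancel₀ _ (hc0 i j hij)]
  have hσ1 : ρ i0 i1 1 = 1 := by
    simp only [hρdef]
    exact div_self (hc0 i0 i1 h01)
  have hσadd : ∀ a b, ρ i0 i1 (a + b) = ρ i0 i1 a + ρ i0 i1 b := by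
    intro a b
    simp only [hρdef]
    rw [hadd i0 i1 h01, add_div]
  have hσmul : ∀ a b, ρ i0 i1 (a * b) = ρ i0 i1 a * ρ i0 i1 b := by
    intro a b
    have e := hmul i0 i1 i2 h01 h12 h02 a b
    rw [hm i0 i2 h02, hm i0 i1 h01, hm i1 i2 h12, hc i0 i1 i2 h01 h12 h02] at e
    have := hc0 i0 i1 h01
    have := hc0 i1 i2 h12
    have e2 : c i0 i1 * c i1 i2 * ρ i0 i1 (a * b) =
        c i0 i1 * c i1 i2 * (ρ i0 i1 a * ρ i0 i1 b) := by rw [e]; ring
    exact mul_left_cancel₀ (mul_ne_zero (hc0 i0 i1 h01) (hc0 i1 i2 h12)) e2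
  have hσ0 : ρ i0 i1 0 = 0 := by
    have := hσadd 0 0
    rw [add_zero] at this
    exact left_eq_add.mp this
  let σ : F →+* F :=
    { toFun := ρ i0 i1
      map_one' := hσ1
      map_mul' := hσmul
      map_zero' := hσ0
      map_add' := hσadd }
  have hinv : ∀ j, j ≠ i0 → c i0 j * c j i0 = 1 := by
    intro j hj
    obtain ⟨t, ht0, htj⟩ := exists_ne_ne_fin hn i0 j
    have e1 := hc i0 j t (Ne.symm hj) (Ne.symm htj) (Ne.symm ht0)
    have e2 := hc j i0 t hj (Ne.symm ht0) (Ne.symm htj)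
    rw [e2, ← mul_assoc] at e1
    have h3 := hc0 i0 t (Ne.symm ht0)
    have : c i0 j * c j i0 * c i0 t = 1 * c i0 t := by rw [one_mul]; exact e1.symm
    exact mul_right_cancel₀ h3 this
  let d : Fin n → Fˣ := fun i => if h : i = i0 then 1 else Units.mk0 (c i i0) (hc0 i i0 h)
  have hd0 : d i0 = 1 := dif_pos rfl
  have hdi : ∀ i (h : i ≠ i0), (d i : F) = c i i0 := by
    intro i h
    simp only [d, dif_neg h, Units.val_mk0]
  have hcd : ∀ i j, i ≠ j → c i j = (d i : F) * ((d j)⁻¹ : Fˣ) := by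
    intro i j hij
    by_cases hi : i = i0
    · have hj : j ≠ i0 := fun h => hij (hi.trans h.symm)
      rw [hi, hd0, Units.val_one, one_mul, Units.val_inv_eq_inv_val, hdi j hj]
      exact eq_inv_of_mul_eq_one_left (hinv j hj)
    · by_cases hj : j = i0
      · rw [hj, hd0, inv_one, Units.val_one, mul_one, hdi i hi]
      · rw [Units.val_inv_eq_inv_val, hdi i hi, hdi j hj, hc i j i0 hij hj hi,
          mul_assoc, mul_inv_cancel₀ (hc0 j i0 hj), mul_one]
  refine ⟨d, σ, ?_⟩
  intro i j hij a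
  rw [hm i j hij a, hcd i j hij]
  show _ = (d i : F) * ρ i0 i1 a * _
  ring



/-- an automorphism of `PSL_n(F)`, `n ≥ 3`, mapping every root subgroup `X_ij` into itself is
the product of a diagonal and a field automorphism -/
theorem exists_pslDiag_pslField_of_frame [Finite F] (hn : 3 ≤ n)
    (β : MulAut (Matrix.ProjectiveSpecialLinearGroup (Fin n) F))
    (hβ : ∀ (i j : Fin n) (hij : i ≠ j) (a : F), ∃ b : F,
      β (QuotientGroup.mk (transSL i j hij a)) = QuotientGroup.mk (transSL i j hij b)) :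
    ∃ (d : Fin n → Fˣ) (σ : RingAut F), β = pslDiag (diagGL d) * pslField σ := by
  choose μ hμ using hβ
  set m : Fin n → Fin n → F → F := fun i j a => if h : i ≠ j then μ i j h a else 0 with hmdef
  have hm_eq : ∀ i j (hij : i ≠ j) a, m i j a = μ i j hij a := by
    intro i j hij a
    simp only [hmdef, dif_pos hij]
  have hadd : ∀ i j, i ≠ j → ∀ a b, m i j (a + b) = m i j a + m i j b := by
    intro i j hij a b
    rw [hm_eq i j hij, hm_eq i j hij, hm_eq i j hij]
    apply mk_transSL_injective i j hij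
    rw [← hμ, transSL_eq, Matrix.SpecialLinearGroup.transvection_add, QuotientGroup.mk_mul,
      map_mul, ← transSL_eq, ← transSL_eq, hμ, hμ, ← QuotientGroup.mk_mul, transSL_eq, transSL_eq,
      transSL_eq, Matrix.SpecialLinearGroup.transvection_add]
  have hzero : ∀ i j, i ≠ j → ∀ a, m i j a = 0 → a = 0 := by
    intro i j hij a h0
    rw [hm_eq i j hij] at h0
    have h1 := hμ i j hij a
    rw [h0, (mk_transSL_eq_one_iff i j hij 0).mpr rfl] at h1
    have h2 : (QuotientGroup.mk (transSL i j hij a) :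
        Matrix.ProjectiveSpecialLinearGroup (Fin n) F) = 1 := by
      apply β.injective
      rw [h1, map_one]
    exact (mk_transSL_eq_one_iff i j hij a).mp h2
  have hmul : ∀ i j k, i ≠ j → j ≠ k → i ≠ k → ∀ a b, m i k (a * b) = m i j a * m j k b := by
    intro i j k hij hjk hik a b
    rw [hm_eq i k hik, hm_eq i j hij, hm_eq j k hjk]
    apply mk_transSL_injective i k hik
    rw [← hμ]
    have e1 := Cfsg.Agent.Lib.Helper5.commutator_transvection_transvection (F := F) hik hij hjk a b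
    have e2 := Cfsg.Agent.Lib.Helper5.commutator_transvection_transvection (F := F) hik hij hjk
      (μ i j hij a) (μ j k hjk b)
    rw [transSL_eq, ← e1, transSL_eq, ← e2]
    have e3 : ∀ x y : Matrix.SpecialLinearGroup (Fin n) F,
        (QuotientGroup.mk ⁅x, y⁆ : Matrix.ProjectiveSpecialLinearGroup (Fin n) F) =
          ⁅(QuotientGroup.mk x : Matrix.ProjectiveSpecialLinearGroup (Fin n) F),
            QuotientGroup.mk y⁆ := by
      intro x y
      exact map_commutatorElement (QuotientGroup.mk' _) x y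
    rw [e3, e3, map_commutatorElement, ← transSL_eq, ← transSL_eq, hμ, hμ]
    rfl
  obtain ⟨d, σ₀, hdσ⟩ := exists_diag_field_of_steinberg hn m hadd hzero hmul
  have hbij : Function.Bijective σ₀ :=
    Finite.injective_iff_bijective.mp σ₀.injective
  let σ : RingAut F := RingEquiv.ofBijective σ₀ hbij
  refine ⟨d, σ, ?_⟩
  set γ : MulAut (Matrix.ProjectiveSpecialLinearGroup (Fin n) F) :=
    pslDiag (diagGL d) * pslField σ with hγ
  have key : ∀ (i j : Fin n) (hij : i ≠ j) (a : F),
      β (QuotientGroup.mk (transSL i j hij a)) = γ (QuotientGroup.mk (transSL i j hij a)) := by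
    intro i j hij a
    rw [hμ, ← hm_eq i j hij, hdσ i j hij a]
    have : γ (QuotientGroup.mk (transSL i j hij a) :
        Matrix.ProjectiveSpecialLinearGroup (Fin n) F) =
        QuotientGroup.mk (slConj (diagGL d) (slFieldAut σ (transSL i j hij a))) := rfl
    rw [this, slFieldAut_transSL, slConj_diagGL_transSL]
    rfl
  apply MulEquiv.ext
  intro x
  obtain ⟨s, rfl⟩ := QuotientGroup.mk_surjective x
  refine Cfsg.Agent.Lib.Helper5.transvection_induction
    (fun s => β (QuotientGroup.mk s) = γ (QuotientGroup.mk s)) ?_ ?_ ?_ s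
  · rw [QuotientGroup.mk_one, map_one, map_one]
  · intro i j hij c
    exact key i j hij c
  · intro A B hA hB
    show β (QuotientGroup.mk (A * B)) = γ (QuotientGroup.mk (A * B))
    rw [QuotientGroup.mk_mul, map_mul, map_mul, hA, hB]

end

end Cfsg.Agent.Lib.Helper43
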