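/-
helper43: field automorphisms of odd prime order of `PSU_n(F, q)`: centraliser in `Inndiag` and the number of
`Inn`-classes in the `Inndiag`-class (S2705 from normality of `Inndiag`).
-/
import Mathlib
import Cfsg.Agent.Lib.Helper43.PSUSplit
import Cfsg.Agent.Lib.Helper45.PSLField.SplitAbs
import Cfsg.Agent.Lib.Helper45.PSLField.Cyclic

set_option autoImplicit false

namespace Cfsg.Agent.Lib.Helper43

open scoped MatrixGroups Matrix
open Matrix Cfsg.Agent.Lib.Helper45.PSLField Cfsg.Agent.Lib.Helper13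

/-- **S2705 from normality of `Inndiag`** -/
theorem psu_field_centralizer_main {n : ℕ} {F : Type*} [Field F] [Fintype F] {p f q : ℕ}
    [Fact p.Prime] (hq : q = p ^ f) (hF : Fintype.card F = q ^ 2) (hn : 3 ≤ n)
    (hN : InndiagNormalPSU n F q) (x : MulAut (Cfsg.PSU n F q)) (hx : Cfsg.IsFieldAutClassPSU x)
    {r : ℕ} (hxr : orderOf x = r) (F₀ : Type*) [Field F₀] [Fintype F₀]
    (hF₀ : Fintype.card F₀ = p ^ (2 * (f / r))) :
    r ∣ f ∧ Nonempty (↥(Cfsg.inndiagPSU n F q ⊓ Subgroup.centralizer {x}) ≃*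
        Cfsg.PGU n F₀ (p ^ (f / r))) ∧
      Cfsg.splitClassCount (Cfsg.inndiagPSU n F q) (Cfsg.Inn (Cfsg.PSU n F q)) x =
        Nat.gcd n ((q + 1) / (p ^ (f / r) + 1)) := by
  obtain ⟨hodd, hrf, hq'⟩ := field_class_arith hF hn hq x hx hxr
  obtain ⟨α, σ, -, -, hα⟩ := exists_conj_eq_psuField hx
  have hσr : orderOf σ = r := by
    rw [← orderOf_psuField hF hn σ, ← hα, orderOf_conj', hxr]
  have hr0 : 0 < r := hodd.pos
  set q₀ : ℕ := p ^ (f / r) with hq₀
  have hF₀' : Fintype.card F₀ = q₀ ^ 2 := by rw [hF₀, hq₀, ← pow_mul, mul_comm]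
  have hFp : Fintype.card F = p ^ (2 * f) := by rw [hF, hq, ← pow_mul, mul_comm]
  have hF₀p : Fintype.card F₀ = p ^ (2 * f / r) := by
    rw [hF₀, Nat.mul_div_assoc 2 hrf]
  obtain ⟨j, hj⟩ := exists_embedding_fixF hFp σ hr0 hσr F₀ hF₀p
  have hj' : ∀ a, σ (j a) = j a := fun a => (hj (j a)).mpr ⟨a, rfl⟩
  have hjq : ∀ a : F₀, j a ^ q = j (a ^ q₀) := pow_q_of_embedding hF σ hodd hσr hq' j hj'
  refine ⟨hrf, ?_, ?_⟩
  · obtain ⟨e1⟩ := nonempty_centralizer_conj_equiv_psu hN α x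
    rw [hα] at e1
    obtain ⟨e2⟩ := nonempty_centralizer_equiv_psu hF hF₀' hn σ hodd hσr hq' j hj
    exact ⟨e1.trans e2⟩
  · have hH : ∀ h, h ∈ Cfsg.inndiagPSU n F q ↔ α * h * α⁻¹ ∈ Cfsg.inndiagPSU n F q := by
      intro h
      constructor
      · exact conj_mem_inndiagPSU hN α
      · intro hh
        have := conj_mem_inndiagPSU hN α⁻¹ hh
        have h2 : α⁻¹ * (α * h * α⁻¹) * α⁻¹⁻¹ = h := by group
        rwa [h2] at this
    have hK : ∀ k, k ∈ Cfsg.Inn (Cfsg.PSU n F q) ↔ α * k * α⁻¹ ∈ Cfsg.Inn (Cfsg.PSU n F q) := by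
      have hnorm : (Cfsg.Inn (Cfsg.PSU n F q)).Normal := Cfsg.innNormal _
      intro k
      constructor
      · intro hk
        exact hnorm.conj_mem k hk α
      · intro hk
        have := hnorm.conj_mem _ hk α⁻¹
        have h2 : α⁻¹ * (α * k * α⁻¹) * α⁻¹⁻¹ = k := by group
        rwa [h2] at this
    rw [splitClassCount_conj _ _ α x hH hK, hα,
      splitClassCount_psuField hF hF₀' hn σ hodd hσr hq' j hj hjq, index_sup_range_pow,
      card_range_u1Map hF₀' j hjq, card_U1 hF]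

end Cfsg.Agent.Lib.Helper43
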