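/-
helper43: the centraliser in `Inndiag(PSU_n(F, q))` of the standard field automorphism of the
`q`-th power map (a graph automorphism) is the projective similarity group of the sum-of-squares
form over the fixed field (`q` odd).
-/
import Mathlib
import Cfsg.Agent.Lib.Helper43.PSUCentralizer
import Cfsg.Agent.Lib.Helper43.SumSqPlus
import Cfsg.Agent.Lib.Helper45.FiniteFieldEmbed
import Cfsg.Agent.Lib.Helper44.UnitaryRestrict

set_option autoImplicit false

namespace Cfsg.Agent.Lib.Helper43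

open scoped MatrixGroups Matrix
open Matrix Cfsg.Agent.Lib.Helper5 Cfsg.Agent.Lib.Helper45.PSLField

variable {n : ℕ} {F : Type*} [Field F] [Fintype F] {q : ℕ} {F₀ : Type*} [Field F₀]

theorem mstar_map_fixed (hF : Fintype.card F = q ^ 2) (j : F₀ →+* F)
    (hjq : ∀ a : F₀, j a ^ q = j a) (A : Matrix (Fin n) (Fin n) F₀) :
    mstar (qAut hF) (A.map j) = (Aᵀ).map j := by
  ext k l
  rw [mstar_apply, Matrix.map_apply, Matrix.map_apply, Matrix.transpose_apply, qAut_apply, hjq]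

/-- a similarity of the sum of squares over the fixed field has a unitary scalar multiple -/
theorem exists_gu_of_sumSqSim (hF : Fintype.card F = q ^ 2) (j : F₀ →+* F)
    (hjq : ∀ a : F₀, j a ^ q = j a) (h2 : (2 : F₀) ≠ 0) (g₀ : GL (Fin n) F₀)
    (hg₀ : g₀ ∈ Cfsg.Geo.quadSimilarityGroup (sumSq n F₀)) :
    ∃ (u : ↥(Cfsg.GU n F q)) (μ : F), μ ≠ 0 ∧
      ((u : GL (Fin n) F) : Matrix (Fin n) (Fin n) F) =
        μ • ((g₀ : Matrix (Fin n) (Fin n) F₀)).map j := by
  obtain ⟨c, hc⟩ := (mem_sumSqSim_iff h2 g₀).mp hg₀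
  have hd : (j ((c : F₀)⁻¹)) ^ q = j ((c : F₀)⁻¹) := hjq _
  obtain ⟨μ, hμ⟩ := exists_norm_eq hF hd
  have hc0 : j (c : F₀) ≠ 0 := (map_ne_zero j).mpr c.ne_zero
  have hμ0 : μ ≠ 0 := by
    rintro rfl
    rw [zero_mul] at hμ
    exact (map_ne_zero j).mpr (inv_ne_zero c.ne_zero) hμ.symm
  have hM : mstar (qAut hF) (μ • ((g₀ : Matrix (Fin n) (Fin n) F₀)).map j) *
      (μ • ((g₀ : Matrix (Fin n) (Fin n) F₀)).map j) = 1 := by
    rw [mstar_smul, mstar_map_fixed hF j hjq, Matrix.smul_mul, Matrix.mul_smul, smul_smul,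
      qAut_apply, ← Matrix.map_mul, hc, mul_comm, hμ]
    ext k l
    rw [Matrix.smul_apply, Matrix.map_apply, Matrix.smul_apply, smul_eq_mul, smul_eq_mul, map_mul,
      ← mul_assoc, ← map_mul, inv_mul_cancel₀ c.ne_zero, map_one, one_mul]
    by_cases hkl : k = l
    · subst hkl; simp
    · simp [Matrix.one_apply_ne hkl]
  obtain ⟨u, hu⟩ := exists_gu_of_matrix hF _ hM
  exact ⟨u, μ, hμ0, hu⟩

/-- the inner-diagonal automorphism attached to a similarity of the sum of squares -/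
noncomputable def sqDiagFun (hF : Fintype.card F = q ^ 2) (j : F₀ →+* F)
    (hjq : ∀ a : F₀, j a ^ q = j a) (h2 : (2 : F₀) ≠ 0)
    (g₀ : ↥(Cfsg.Geo.quadSimilarityGroup (sumSq n F₀))) : MulAut (Cfsg.PSU n F q) :=
  psuDiag (Classical.choose (exists_gu_of_sumSqSim hF j hjq h2 g₀.1 g₀.2))

theorem sqDiagFun_eq (hF : Fintype.card F = q ^ 2) (j : F₀ →+* F)
    (hjq : ∀ a : F₀, j a ^ q = j a) (h2 : (2 : F₀) ≠ 0)
    (g₀ : ↥(Cfsg.Geo.quadSimilarityGroup (sumSq n F₀))) (u : ↥(Cfsg.GU n F q)) (μ : F)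
    (hμ : μ ≠ 0)
    (hu : ((u : GL (Fin n) F) : Matrix (Fin n) (Fin n) F) =
      μ • ((g₀.1 : Matrix (Fin n) (Fin n) F₀)).map j) :
    sqDiagFun hF j hjq h2 g₀ = psuDiag u := by
  obtain ⟨μ₀, hμ₀, hu₀⟩ := Classical.choose_spec (exists_gu_of_sumSqSim hF j hjq h2 g₀.1 g₀.2)
  unfold sqDiagFun
  apply psuDiag_eq_of_smul _ _ (μ₀ * μ⁻¹)
  rw [hu₀, hu, smul_smul, mul_assoc, inv_mul_cancel₀ hμ, mul_one]

/-- similarities of the sum of squares over the fixed field act on `PSU_n` -/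
noncomputable def sqDiagPSU (hF : Fintype.card F = q ^ 2) (j : F₀ →+* F)
    (hjq : ∀ a : F₀, j a ^ q = j a) (h2 : (2 : F₀) ≠ 0) :
    ↥(Cfsg.Geo.quadSimilarityGroup (sumSq n F₀)) →* MulAut (Cfsg.PSU n F q) where
  toFun := sqDiagFun hF j hjq h2
  map_one' := by
    rw [sqDiagFun_eq hF j hjq h2 1 1 1 one_ne_zero, map_one]
    rw [one_smul]
    show (1 : Matrix (Fin n) (Fin n) F) = (1 : Matrix (Fin n) (Fin n) F₀).map j
    rw [Matrix.map_one _ (map_zero _) (map_one _)]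
  map_mul' g₀ h₀ := by
    obtain ⟨μg, hμg, hug⟩ := Classical.choose_spec (exists_gu_of_sumSqSim hF j hjq h2 g₀.1 g₀.2)
    obtain ⟨μh, hμh, huh⟩ := Classical.choose_spec (exists_gu_of_sumSqSim hF j hjq h2 h₀.1 h₀.2)
    set ug := Classical.choose (exists_gu_of_sumSqSim hF j hjq h2 g₀.1 g₀.2) with hugdef
    set uh := Classical.choose (exists_gu_of_sumSqSim hF j hjq h2 h₀.1 h₀.2) with huhdef
    have h1 : sqDiagFun hF j hjq h2 g₀ = psuDiag ug := rfl
    have h2' : sqDiagFun hF j hjq h2 h₀ = psuDiag uh := rfl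
    rw [h1, h2', ← map_mul]
    apply sqDiagFun_eq hF j hjq h2 (g₀ * h₀) (ug * uh) (μg * μh) (mul_ne_zero hμg hμh)
    show ((ug : GL (Fin n) F) : Matrix (Fin n) (Fin n) F) *
      ((uh : GL (Fin n) F) : Matrix (Fin n) (Fin n) F) =
      (μg * μh) • ((g₀.1 : Matrix (Fin n) (Fin n) F₀) * (h₀.1 : Matrix (Fin n) (Fin n) F₀)).map j
    rw [hug, huh, Matrix.smul_mul, Matrix.mul_smul, smul_smul, Matrix.map_mul]

theorem sqDiagPSU_apply (hF : Fintype.card F = q ^ 2) (j : F₀ →+* F)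
    (hjq : ∀ a : F₀, j a ^ q = j a) (h2 : (2 : F₀) ≠ 0)
    (g₀ : ↥(Cfsg.Geo.quadSimilarityGroup (sumSq n F₀))) :
    sqDiagPSU hF j hjq h2 g₀ = sqDiagFun hF j hjq h2 g₀ := rfl

theorem sqDiagPSU_comm (hF : Fintype.card F = q ^ 2) (j : F₀ →+* F)
    (hjq : ∀ a : F₀, j a ^ q = j a) (h2 : (2 : F₀) ≠ 0) (σ : RingAut F)
    (hσj : ∀ a, σ (j a) = j a) (g₀ : ↥(Cfsg.Geo.quadSimilarityGroup (sumSq n F₀))) :
    (psuField σ : MulAut (Cfsg.PSU n F q)) * sqDiagPSU hF j hjq h2 g₀ =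
      sqDiagPSU hF j hjq h2 g₀ * psuField σ := by
  obtain ⟨μ, hμ, hu⟩ := Classical.choose_spec (exists_gu_of_sumSqSim hF j hjq h2 g₀.1 g₀.2)
  set u := Classical.choose (exists_gu_of_sumSqSim hF j hjq h2 g₀.1 g₀.2) with hudef
  have h1 : sqDiagPSU hF j hjq h2 g₀ = psuDiag u := rfl
  rw [h1, psuField_mul_psuDiag]
  congr 1
  symm
  rw [← h1, sqDiagPSU_apply]
  apply sqDiagFun_eq hF j hjq h2 g₀ (guMap σ u) (σ μ) ((map_ne_zero σ).mpr hμ)
  rw [guMap_coe, hu]
  ext k l
  simp only [Matrix.map_apply, Matrix.smul_apply, smul_eq_mul, map_mul, hσj]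

theorem orderOf_qAut (hF : Fintype.card F = q ^ 2) : orderOf (qAut hF) = 2 := by
  have hq2 : 2 ≤ q := by
    by_contra h
    have hq : q = 0 ∨ q = 1 := by omega
    have h1 : 1 < Fintype.card F := Fintype.one_lt_card
    rcases hq with rfl | rfl <;> omega
  apply orderOf_eq_prime
  · ext a
    show (qAut hF ^ 2) a = a
    rw [pow_two, RingAut.mul_apply, qAut_qAut]
  · intro h1
    -- every element satisfies `a ^ q = a`, impossible as `q < |F|`
    have h2 : ∀ a : F, a ^ q = a := fun a => by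
      have := congrArg (fun τ : RingAut F => τ a) h1
      simpa [qAut_apply] using this
    classical
    have hne : (Polynomial.X ^ q - Polynomial.X : Polynomial F) ≠ 0 :=
      FiniteField.X_pow_card_sub_X_ne_zero F (by omega)
    have hdeg := FiniteField.X_pow_card_sub_X_natDegree_eq F (p := q) (by omega)
    have hZ : (Finset.univ : Finset F).val ⊆
        (Polynomial.X ^ q - Polynomial.X : Polynomial F).roots := by
      intro y _
      rw [Polynomial.mem_roots hne, Polynomial.IsRoot, Polynomial.eval_sub, Polynomial.eval_pow,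
        Polynomial.eval_X, h2, sub_self]
    have := Polynomial.card_le_degree_of_subset_roots hZ
    rw [hdeg, Finset.card_univ, hF] at this
    nlinarith

/-- the centraliser of `φ_q` in `Inndiag(PSU)` is the image of the similarities of the sum of
squares over the fixed field -/
theorem mem_inndiag_centralizer_qAut_iff (hF : Fintype.card F = q ^ 2) (hn : 3 ≤ n)
    (j : F₀ →+* F) (hj : ∀ a : F, a ^ q = a ↔ ∃ b, j b = a) (hjq : ∀ a : F₀, j a ^ q = j a)
    (h2 : (2 : F₀) ≠ 0) (β : MulAut (Cfsg.PSU n F q)) :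
    β ∈ Cfsg.inndiagPSU n F q ⊓ Subgroup.centralizer {psuField (qAut hF)} ↔
      ∃ g₀ : ↥(Cfsg.Geo.quadSimilarityGroup (sumSq n F₀)), sqDiagPSU hF j hjq h2 g₀ = β := by
  have h1n : 1 ≤ n := by omega
  rw [Subgroup.mem_inf]
  constructor
  · rintro ⟨hβ1, hβ2⟩
    rw [inndiagPSU_eq_range] at hβ1
    obtain ⟨g, rfl⟩ := hβ1
    have hc : (psuField (qAut hF) : MulAut (Cfsg.PSU n F q)) * psuDiag g =
        psuDiag g * psuField (qAut hF) :=
      (Subgroup.mem_centralizer_iff.mp hβ2) _ rfl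
    rw [psuField_mul_psuDiag] at hc
    have hc2 := mul_right_cancel hc
    obtain ⟨c, hc3⟩ := (psuDiag_eq_iff hF hn _ _).mp hc2
    set G : Matrix (Fin n) (Fin n) F := ((g : GL (Fin n) F) : Matrix (Fin n) (Fin n) F) with hG
    have hsemi : G.map (qAut hF) = c • G := by
      rw [guMap_coe] at hc3
      exact hc3
    obtain ⟨b, hb0, hb⟩ := exists_fixed_multiple (qAut hF) (by norm_num : 0 < 2)
      (orderOf_qAut hF) G (gu_coe_ne_zero h1n (g : GL (Fin n) F)) _ hsemi
    set N : F := b * b ^ q with hN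
    have hN0 : N ≠ 0 := mul_ne_zero hb0 (pow_ne_zero _ hb0)
    have hbG : mstar (qAut hF) (b • G) * (b • G) = N • (1 : Matrix (Fin n) (Fin n) F) := by
      rw [mstar_smul, Matrix.smul_mul, Matrix.mul_smul, gu_mstar hF g, smul_smul, qAut_apply, hN,
        mul_comm]
    have hNq : N ^ q = N := norm_pow_q hF b
    obtain ⟨c₀, hc₀⟩ := (hj N).mp hNq
    have hc₀0 : c₀ ≠ 0 := by
      rintro rfl
      rw [map_zero] at hc₀
      exact hN0 hc₀.symm
    have hent : ∀ k l, ∃ a : F₀, j a = b * G k l := by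
      intro k l
      apply (hj _).mp
      have := congrFun (congrFun hb k) l
      simpa [qAut_apply] using this
    choose a ha using hent
    have hmap : (Matrix.of a).map j = b • G := by
      ext k l
      rw [Matrix.map_apply, Matrix.of_apply, ha, Matrix.smul_apply, smul_eq_mul]
    have hX : (Matrix.of a)ᵀ * Matrix.of a = c₀ • (1 : Matrix (Fin n) (Fin n) F₀) := by
      have hinj : Function.Injective (fun M : Matrix (Fin n) (Fin n) F₀ => M.map j) := by
        intro M N' hMN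
        ext k l
        apply j.injective
        exact congrFun (congrFun hMN k) l
      apply hinj
      show ((Matrix.of a)ᵀ * Matrix.of a).map j = (c₀ • (1 : Matrix (Fin n) (Fin n) F₀)).map j
      rw [Matrix.map_mul, ← mstar_map_fixed hF j hjq, hmap, hbG, ← hc₀]
      ext k l
      by_cases hkl : k = l
      · subst hkl; simp
      · simp [Matrix.one_apply_ne hkl]
    have hdet : (Matrix.of a : Matrix (Fin n) (Fin n) F₀).det ≠ 0 := by
      intro h0
      have := congrArg Matrix.det hX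
      rw [Matrix.det_mul, Matrix.det_transpose, h0, mul_zero, Matrix.det_smul, Matrix.det_one,
        mul_one] at this
      exact pow_ne_zero _ hc₀0 this.symm
    set g₀ : GL (Fin n) F₀ := Matrix.GeneralLinearGroup.mkOfDetNeZero (Matrix.of a) hdet with hg₀
    have hg₀c : (g₀ : Matrix (Fin n) (Fin n) F₀) = Matrix.of a := rfl
    have hg₀m : g₀ ∈ Cfsg.Geo.quadSimilarityGroup (sumSq n F₀) := by
      rw [mem_sumSqSim_iff h2]
      exact ⟨Units.mk0 c₀ hc₀0, by rw [hg₀c, hX, Units.val_mk0]⟩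
    refine ⟨⟨g₀, hg₀m⟩, ?_⟩
    rw [sqDiagPSU_apply]
    apply sqDiagFun_eq hF j hjq h2 ⟨g₀, hg₀m⟩ g b⁻¹ (inv_ne_zero hb0)
    show G = b⁻¹ • ((g₀ : Matrix (Fin n) (Fin n) F₀)).map j
    rw [hg₀c, hmap, smul_smul, inv_mul_cancel₀ hb0, one_smul]
  · rintro ⟨g₀, rfl⟩
    refine ⟨?_, ?_⟩
    · rw [sqDiagPSU_apply]
      unfold sqDiagFun
      exact psuDiag_mem_inndiagPSU _
    · rw [Subgroup.mem_centralizer_iff]
      intro h hh
      rw [Set.mem_singleton_iff] at hh
      subst hh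
      exact sqDiagPSU_comm hF j hjq h2 (qAut hF) (fun a => by rw [qAut_apply, hjq]) g₀

theorem ker_sqDiagPSU (hF : Fintype.card F = q ^ 2) (hn : 3 ≤ n)
    (j : F₀ →+* F) (hjq : ∀ a : F₀, j a ^ q = j a) (h2 : (2 : F₀) ≠ 0) :
    (sqDiagPSU hF j hjq h2 :
      ↥(Cfsg.Geo.quadSimilarityGroup (sumSq n F₀)) →* MulAut (Cfsg.PSU n F q)).ker =
      (Cfsg.Geo.scalars (Fin n) F₀).subgroupOf (Cfsg.Geo.quadSimilarityGroup (sumSq n F₀)) := by
  ext A
  obtain ⟨μ, hμ, hu⟩ := Classical.choose_spec (exists_gu_of_sumSqSim hF j hjq h2 A.1 A.2)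
  set u := Classical.choose (exists_gu_of_sumSqSim hF j hjq h2 A.1 A.2) with hudef
  have h1 : sqDiagPSU hF j hjq h2 A = psuDiag u := rfl
  rw [MonoidHom.mem_ker, h1, psuDiag_eq_one_iff hF hn, Subgroup.mem_subgroupOf,
    Cfsg.Geo.mem_scalars_iff, hu]
  set A' : Matrix (Fin n) (Fin n) F₀ := ((A : GL (Fin n) F₀) : Matrix (Fin n) (Fin n) F₀) with hA'
  have h0n : 0 < n := by omega
  constructor
  · rintro ⟨c', hc'⟩
    have hc : A'.map j = (μ⁻¹ * c') • (1 : Matrix (Fin n) (Fin n) F) := by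
      rw [← smul_smul, ← hc', smul_smul, inv_mul_cancel₀ hμ, one_smul]
    set c := μ⁻¹ * c' with hcdef
    have hdiag : ∀ k, j (A' k k) = c := by
      intro k
      have := congrFun (congrFun hc k) k
      simpa using this
    have hoff : ∀ k l, k ≠ l → A' k l = 0 := by
      intro k l hkl
      have := congrFun (congrFun hc k) l
      rw [Matrix.map_apply, Matrix.smul_apply, Matrix.one_apply_ne hkl, smul_zero] at this
      exact (map_eq_zero j).mp this
    set k₀ : Fin n := ⟨0, h0n⟩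
    have hc0 : A' k₀ k₀ ≠ 0 := by
      intro h0
      have h1 := hdiag k₀
      rw [h0, map_zero] at h1
      have h2 : A'.map j = 0 := by rw [hc, ← h1, zero_smul]
      have h3 : A' = 0 := by
        ext k l
        have := congrFun (congrFun h2 k) l
        rw [Matrix.map_apply, Matrix.zero_apply] at this
        exact (map_eq_zero j).mp this
      exact gu_coe_ne_zero (by omega) (A : GL (Fin n) F₀) h3
    refine ⟨Units.mk0 (A' k₀ k₀) hc0, ?_⟩
    rw [Units.val_mk0]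
    ext k l
    by_cases hkl : k = l
    · subst hkl
      rw [Matrix.smul_apply, Matrix.one_apply_eq, smul_eq_mul, mul_one]
      apply j.injective
      rw [hdiag, hdiag]
    · rw [Matrix.smul_apply, Matrix.one_apply_ne hkl, smul_zero]
      exact hoff k l hkl
  · rintro ⟨c, hc⟩
    refine ⟨μ * j (c : F₀), ?_⟩
    rw [hc, ← smul_smul]
    congr 1
    ext k l
    by_cases hkl : k = l
    · subst hkl
      simp
    · simp [Matrix.one_apply_ne hkl]

/-- `C_{Inndiag}(φ_q) ≅ PGO(sum of squares over F₀)` -/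
theorem nonempty_centralizer_equiv_sumSq (hF : Fintype.card F = q ^ 2) (hn : 3 ≤ n)
    (j : F₀ →+* F) (hj : ∀ a : F, a ^ q = a ↔ ∃ b, j b = a) (h2 : (2 : F₀) ≠ 0) :
    Nonempty (↥(Cfsg.inndiagPSU n F q ⊓ Subgroup.centralizer {psuField (qAut hF)}) ≃*
      Cfsg.projQuot (Cfsg.Geo.quadSimilarityGroup (sumSq n F₀))) := by
  have hjq : ∀ a : F₀, j a ^ q = j a := fun a => (hj (j a)).mpr ⟨a, rfl⟩
  have h1 : Cfsg.inndiagPSU n F q ⊓ Subgroup.centralizer {psuField (qAut hF)} =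
      (sqDiagPSU hF j hjq h2 :
        ↥(Cfsg.Geo.quadSimilarityGroup (sumSq n F₀)) →* MulAut (Cfsg.PSU n F q)).range := by
    ext β
    rw [mem_inndiag_centralizer_qAut_iff hF hn j hj hjq h2]
    rfl
  exact ⟨(MulEquiv.subgroupCongr h1).trans
    ((QuotientGroup.quotientKerEquivRange (sqDiagPSU hF j hjq h2)).symm.trans
      (QuotientGroup.quotientMulEquivOfEq (ker_sqDiagPSU hF hn j hjq h2)))⟩

theorem two_ne_zero_of_odd_card {K : Type*} [Field K] [Fintype K]
    (hodd : Fintype.card K % 2 = 1) : (2 : K) ≠ 0 := by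
  intro h
  have hchar : ringChar K = 2 := by
    have hdvd : ringChar K ∣ 2 := (ringChar.spec K 2).mp (by exact_mod_cast h)
    rcases (Nat.dvd_prime Nat.prime_two).mp hdvd with h1 | h1
    · exact absurd h1 (CharP.ringChar_ne_one)
    · exact h1
  have := FiniteField.even_card_of_char_two hchar
  omega

/-- the fixed field of the `q`-power map, as an abstract field with `q` elements -/
theorem exists_embedding_qfixed [Fintype F₀] (hF : Fintype.card F = q ^ 2)
    (hF₀ : Fintype.card F₀ = q) :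
    ∃ j : F₀ →+* F, ∀ a : F, a ^ q = a ↔ ∃ b, j b = a := by
  obtain ⟨alg, -⟩ := Cfsg.Agent.Lib.Helper45.exists_algebra_finrank_two hF hF₀
  refine ⟨algebraMap F₀ F, fun a => ⟨fun h => ?_, ?_⟩⟩
  · exact Cfsg.Agent.Lib.Helper44.mem_range_of_pow_card_eq a (by rw [hF₀]; exact h)
  · rintro ⟨b, rfl⟩
    rw [← map_pow, ← hF₀, FiniteField.pow_card]

/-- S2710 body: the centraliser of the standard `q`-power field (graph) automorphism, `4 ∣ n`,
`q` odd -/
theorem psu_qpower_centralizer_plus [Fintype F₀] (hodd : Odd q) (hF : Fintype.card F = q ^ 2)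
    {m : ℕ} (hm : 2 ≤ m) (hnm : n = 2 * m) (h4 : 4 ∣ n) (hF₀ : Fintype.card F₀ = q)
    (σ : F ≃+* F) (hσ : ∀ a : F, σ a = a ^ q) (φ : MulAut (Cfsg.PSU n F q))
    (hφ : Cfsg.IsFieldAutPSUOf σ φ) :
    Nonempty (↥(Cfsg.inndiagPSU n F q ⊓ Subgroup.centralizer {φ}) ≃*
      Cfsg.PGO F₀ (Cfsg.quadFormPlus m F₀)) := by
  have hn : 3 ≤ n := by omega
  have hφ' : φ = psuField (qAut hF) := by
    rw [(isFieldAutPSUOf_iff σ φ).mp hφ]
    congr 1
    ext a
    rw [hσ, qAut_apply]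
  subst hφ'
  have hodd₀ : Fintype.card F₀ % 2 = 1 := by
    rw [hF₀]
    exact Nat.odd_iff.mp hodd
  have h2 : (2 : F₀) ≠ 0 := two_ne_zero_of_odd_card hodd₀
  obtain ⟨j, hj⟩ := exists_embedding_qfixed (F₀ := F₀) hF hF₀
  obtain ⟨e₁⟩ := nonempty_centralizer_equiv_sumSq hF hn j hj h2
  obtain ⟨e₂⟩ := pgo_plus_equiv_sumSq (K := F₀) hodd₀ hnm h4
  exact ⟨e₁.trans e₂.symm⟩

end Cfsg.Agent.Lib.Helper43
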