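/-
helper43: recognition of standard automorphisms of `PSp_{2m}(F)`: an automorphism mapping the transvection group with
centre `⟨v⟩` into the transvection group with centre `⟨f v⟩`, `f` an injective `σ`-semilinear map, is
`pspDiag g * pspField σ` for a conformal symplectic `g`.  Part 1: transvections in `PSp`.
-/
import Mathlib
import Cfsg.Agent.Lib.Helper43.PSpSplit
import Cfsg.Agent.Lib.Helper13.SympGen

set_option autoImplicit false

namespace Cfsg.Agent.Lib.Helper43

open scoped MatrixGroups Matrix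
open Matrix Cfsg.Agent.Lib.Helper5

variable {m : ℕ} {F : Type*} [Field F]

/-- the transvection `x ↦ x + c ω(x, a) a` -/
theorem tv_mulVec (a : Fin m ⊕ Fin m → F) (c : F) (x : Fin m ⊕ Fin m → F) :
    (sympTransvec a c : Matrix (Fin m ⊕ Fin m) (Fin m ⊕ Fin m) F) *ᵥ x =
      x + (c * Cfsg.sympForm m F x a) • a :=
  sympTransvec_mulVec a c x

theorem sp_ext_mulVec {s t : ↥(Matrix.symplecticGroup (Fin m) F)}
    (h : ∀ x : Fin m ⊕ Fin m → F, s.1 *ᵥ x = t.1 *ᵥ x) : s = t := by
  apply Subtype.ext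
  rw [Matrix.ext_iff_mulVec]
  exact h

theorem sF_swap (u v : Fin m ⊕ Fin m → F) : Cfsg.sympForm m F v u = - Cfsg.sympForm m F u v :=
  sympForm_swap (l := Fin m) u v

theorem sF_self (u : Fin m ⊕ Fin m → F) : Cfsg.sympForm m F u u = 0 :=
  sympForm_self (l := Fin m) u

theorem sF_add_left (u v w : Fin m ⊕ Fin m → F) :
    Cfsg.sympForm m F (u + v) w = Cfsg.sympForm m F u w + Cfsg.sympForm m F v w :=
  sympForm_add_left (l := Fin m) u v w

theorem sF_add_right (u v w : Fin m ⊕ Fin m → F) :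
    Cfsg.sympForm m F u (v + w) = Cfsg.sympForm m F u v + Cfsg.sympForm m F u w :=
  sympForm_add_right (l := Fin m) u v w

theorem sF_smul_left (c : F) (u v : Fin m ⊕ Fin m → F) :
    Cfsg.sympForm m F (c • u) v = c * Cfsg.sympForm m F u v :=
  sympForm_smul_left (l := Fin m) c u v

theorem sF_smul_right (c : F) (u v : Fin m ⊕ Fin m → F) :
    Cfsg.sympForm m F u (c • v) = c * Cfsg.sympForm m F u v :=
  sympForm_smul_right (l := Fin m) c u v

theorem sF_zero_right (u : Fin m ⊕ Fin m → F) : Cfsg.sympForm m F u 0 = 0 := by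
  have := sF_smul_right (0 : F) u 0
  rwa [zero_smul, zero_mul] at this

theorem sF_zero_left (u : Fin m ⊕ Fin m → F) : Cfsg.sympForm m F 0 u = 0 := by
  have := sF_smul_left (0 : F) 0 u
  rwa [zero_smul, zero_mul] at this

theorem exists_sF_ne_zero {v : Fin m ⊕ Fin m → F} (hv : v ≠ 0) :
    ∃ u, Cfsg.sympForm m F u v ≠ 0 := by
  obtain ⟨u, hu⟩ := exists_sympForm_ne_zero (l := Fin m) hv
  refine ⟨u, ?_⟩
  rw [sF_swap]
  exact neg_ne_zero.mpr hu

/-- a nontrivial transvection is not central -/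
theorem tv_not_mem_center (hm : 1 ≤ m) {a : Fin m ⊕ Fin m → F} {c : F} (ha : a ≠ 0) (hc : c ≠ 0) :
    sympTransvec a c ∉ Subgroup.center ↥(Matrix.symplecticGroup (Fin m) F) := by
  have : Nonempty (Fin m) := ⟨⟨0, hm⟩⟩
  intro hcen
  obtain ⟨x, hx⟩ := exists_sF_ne_zero ha
  have hxa : (sympTransvec a c : Matrix (Fin m ⊕ Fin m) (Fin m ⊕ Fin m) F) *ᵥ x =
      x + (c * Cfsg.sympForm m F x a) • a := tv_mulVec a c x
  rcases symplecticGroup_center_eq_one_or_neg_one _ hcen with h1 | h1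
  · rw [h1, Matrix.one_mulVec] at hxa
    have h2 : (c * Cfsg.sympForm m F x a) • a = 0 := by
      have := hxa
      rwa [left_eq_add] at this
    rcases smul_eq_zero.mp h2 with h3 | h3
    · exact (mul_ne_zero hc hx) h3
    · exact ha h3
  · -- `t = -1`: apply to `a`
    have haa : (sympTransvec a c : Matrix (Fin m ⊕ Fin m) (Fin m ⊕ Fin m) F) *ᵥ a = a := by
      rw [tv_mulVec, sF_self, mul_zero, zero_smul, add_zero]
    rw [h1, Matrix.neg_mulVec, Matrix.one_mulVec] at haa hxa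
    -- `-a = a` so `2 a = 0`
    have h2a : (2 : F) • a = 0 := by
      rw [two_smul]
      nth_rewrite 1 [← haa]
      exact neg_add_cancel a
    rcases smul_eq_zero.mp h2a with h2 | h2
    · -- characteristic two: then `-x = x`
      have hneg : -x = x := by
        have : (2 : F) • x = 0 := by rw [h2, zero_smul]
        rw [two_smul] at this
        exact neg_eq_of_add_eq_zero_left this
      rw [hneg] at hxa
      have h3 : (c * Cfsg.sympForm m F x a) • a = 0 := by
        have := hxa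
        rwa [left_eq_add] at this
      rcases smul_eq_zero.mp h3 with h4 | h4
      · exact (mul_ne_zero hc hx) h4
      · exact ha h4
    · exact ha h2

theorem mk_tv_ne_one (hm : 1 ≤ m) {a : Fin m ⊕ Fin m → F} {c : F} (ha : a ≠ 0) (hc : c ≠ 0) :
    (QuotientGroup.mk (sympTransvec a c) : Cfsg.PSp m F) ≠ 1 := by
  intro h
  rw [QuotientGroup.eq_one_iff] at h
  exact tv_not_mem_center hm ha hc h

theorem tv_zero_right (a : Fin m ⊕ Fin m → F) : sympTransvec a (0 : F) = 1 := by
  apply sp_ext_mulVec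
  intro x
  rw [tv_mulVec, zero_mul, zero_smul, add_zero]
  show x = (1 : Matrix (Fin m ⊕ Fin m) (Fin m ⊕ Fin m) F) *ᵥ x
  rw [Matrix.one_mulVec]

/-- equality of transvections in `PSp` forces proportional centres -/
theorem parallel_of_mk_tv_eq (hm : 1 ≤ m) {a b : Fin m ⊕ Fin m → F} {c d : F} (ha : a ≠ 0)
    (hc : c ≠ 0)
    (h : (QuotientGroup.mk (sympTransvec a c) : Cfsg.PSp m F) = QuotientGroup.mk (sympTransvec b d)) :
    ∃ k : F, k ≠ 0 ∧ b = k • a := by
  have : Nonempty (Fin m) := ⟨⟨0, hm⟩⟩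
  rw [QuotientGroup.eq] at h
  set z := (sympTransvec a c)⁻¹ * sympTransvec b d with hz
  have hbz : sympTransvec b d = sympTransvec a c * z := by rw [hz, mul_inv_cancel_left]
  obtain ⟨x, hx⟩ := exists_sF_ne_zero ha
  -- the case of equal matrices
  have key : (∀ y : Fin m ⊕ Fin m → F,
      (sympTransvec b d : Matrix (Fin m ⊕ Fin m) (Fin m ⊕ Fin m) F) *ᵥ y =
        (sympTransvec a c : Matrix (Fin m ⊕ Fin m) (Fin m ⊕ Fin m) F) *ᵥ y) →
      ∃ k : F, k ≠ 0 ∧ b = k • a := by
    intro heq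
    have h1 := heq x
    rw [tv_mulVec, tv_mulVec] at h1
    have h2 : (d * Cfsg.sympForm m F x b) • b = (c * Cfsg.sympForm m F x a) • a :=
      add_left_cancel h1
    have h3 : d * Cfsg.sympForm m F x b ≠ 0 := by
      intro h0
      rw [h0, zero_smul] at h2
      rcases smul_eq_zero.mp h2.symm with h4 | h4
      · exact (mul_ne_zero hc hx) h4
      · exact ha h4
    refine ⟨(d * Cfsg.sympForm m F x b)⁻¹ * (c * Cfsg.sympForm m F x a),
      mul_ne_zero (inv_ne_zero h3) (mul_ne_zero hc hx), ?_⟩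
    rw [mul_smul, ← h2, smul_smul, inv_mul_cancel₀ h3, one_smul]
  rcases symplecticGroup_center_eq_one_or_neg_one _ h with h1 | h1
  · apply key
    intro y
    rw [hbz, Submonoid.coe_mul, h1, Matrix.mul_one]
  · -- `t_b = - t_a`
    have hneg : ∀ y : Fin m ⊕ Fin m → F,
        (sympTransvec b d : Matrix (Fin m ⊕ Fin m) (Fin m ⊕ Fin m) F) *ᵥ y =
          -((sympTransvec a c : Matrix (Fin m ⊕ Fin m) (Fin m ⊕ Fin m) F) *ᵥ y) := by
      intro y
      rw [hbz, Submonoid.coe_mul, h1, Matrix.mul_neg, Matrix.mul_one, Matrix.neg_mulVec]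
    by_cases h2 : (2 : F) = 0
    · apply key
      intro y
      rw [hneg y]
      have : (2 : F) • ((sympTransvec a c : Matrix (Fin m ⊕ Fin m) (Fin m ⊕ Fin m) F) *ᵥ y) = 0 := by
        rw [h2, zero_smul]
      rw [two_smul] at this
      exact neg_eq_of_add_eq_zero_left this
    · exfalso
      -- squares agree
      have hsq : ∀ y : Fin m ⊕ Fin m → F,
          (sympTransvec b (d + d) : Matrix (Fin m ⊕ Fin m) (Fin m ⊕ Fin m) F) *ᵥ y =
            (sympTransvec a (c + c) : Matrix (Fin m ⊕ Fin m) (Fin m ⊕ Fin m) F) *ᵥ y := by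
        intro y
        rw [← sympTransvec_mul_sympTransvec, ← sympTransvec_mul_sympTransvec, Submonoid.coe_mul,
          Submonoid.coe_mul, ← Matrix.mulVec_mulVec, ← Matrix.mulVec_mulVec, hneg, hneg,
          Matrix.mulVec_neg, neg_neg]
      -- hence `t_b = t_a`, so `t_a y = - t_a y`
      have h3 : ∀ y : Fin m ⊕ Fin m → F,
          (d * Cfsg.sympForm m F y b) • b = (c * Cfsg.sympForm m F y a) • a := by
        intro y
        have h4 := hsq y
        rw [tv_mulVec, tv_mulVec] at h4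
        have h5 := add_left_cancel h4
        rw [add_mul, add_mul, add_smul, add_smul, ← two_smul F, ← two_smul F] at h5
        exact smul_right_injective _ h2 h5
      have h4 := hneg a
      rw [tv_mulVec, tv_mulVec, h3 a, sF_self, mul_zero, zero_smul, add_zero] at h4
      have h5 : (2 : F) • a = 0 := by
        rw [two_smul]
        nth_rewrite 1 [h4]
        exact neg_add_cancel a
      rcases smul_eq_zero.mp h5 with h6 | h6
      · exact h2 h6
      · exact ha h6

/-- conjugating a transvection by a similitude, as matrices -/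
theorem matrix_conj_tv (G Ginv : Matrix (Fin m ⊕ Fin m) (Fin m ⊕ Fin m) F) (hG1 : G * Ginv = 1)
    (μ : F) (hμ : μ ≠ 0)
    (hG : ∀ u v : Fin m ⊕ Fin m → F,
      Cfsg.sympForm m F (G *ᵥ u) (G *ᵥ v) = μ * Cfsg.sympForm m F u v)
    (v : Fin m ⊕ Fin m → F) (c : F) :
    G * (sympTransvec v c : Matrix (Fin m ⊕ Fin m) (Fin m ⊕ Fin m) F) * Ginv =
      (sympTransvec (G *ᵥ v) (c / μ) : Matrix (Fin m ⊕ Fin m) (Fin m ⊕ Fin m) F) := by
  rw [Matrix.ext_iff_mulVec]
  intro x
  have hGG : G *ᵥ (Ginv *ᵥ x) = x := by rw [Matrix.mulVec_mulVec, hG1, Matrix.one_mulVec]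
  have hform : Cfsg.sympForm m F (Ginv *ᵥ x) v = μ⁻¹ * Cfsg.sympForm m F x (G *ᵥ v) := by
    have := hG (Ginv *ᵥ x) v
    rw [hGG] at this
    rw [this, ← mul_assoc, inv_mul_cancel₀ hμ, one_mul]
  rw [← Matrix.mulVec_mulVec, ← Matrix.mulVec_mulVec, tv_mulVec, tv_mulVec, Matrix.mulVec_add, hGG,
    Matrix.mulVec_smul, hform]
  congr 2
  field_simp

theorem sp_conj_tv (g : ↥(Matrix.symplecticGroup (Fin m) F)) (v : Fin m ⊕ Fin m → F) (c : F) :
    g * sympTransvec v c * g⁻¹ = sympTransvec (g.1 *ᵥ v) c := by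
  apply Subtype.ext
  have h1 : g.1 * (g⁻¹).1 = 1 := congrArg Subtype.val (mul_inv_cancel g)
  have h2 := matrix_conj_tv g.1 (g⁻¹).1 h1 1 one_ne_zero
    (by intro u w; rw [one_mul]; exact (mem_sp_iff_form g.1).mp g.2 u w) v c
  rw [div_one] at h2
  exact h2

/-- the standard automorphism `pspDiag g * pspField σ` on a transvection -/
theorem std_apply_mk_tv (g : ↥(Cfsg.GSp m F)) (σ : RingAut F) (μ : F) (hμ : μ ≠ 0)
    (hg : ∀ u v : Fin m ⊕ Fin m → F,
      Cfsg.sympForm m F (((g : GL (Fin m ⊕ Fin m) F) : Matrix _ _ F) *ᵥ u)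
        (((g : GL (Fin m ⊕ Fin m) F) : Matrix _ _ F) *ᵥ v) = μ * Cfsg.sympForm m F u v)
    (v : Fin m ⊕ Fin m → F) (c : F) :
    (pspDiag g : MulAut (Cfsg.PSp m F))
        ((pspField σ : MulAut (Cfsg.PSp m F)) (QuotientGroup.mk (sympTransvec v c))) =
      QuotientGroup.mk (sympTransvec
        (((g : GL (Fin m ⊕ Fin m) F) : Matrix (Fin m ⊕ Fin m) (Fin m ⊕ Fin m) F) *ᵥ
          (fun i => σ (v i))) (σ c / μ)) := by
  rw [pspField_mk, pspDiag_mk]
  congr 1
  apply Subtype.ext
  rw [spConj_apply_coe, spFieldAut_apply_coe]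
  have h1 : (sympTransvec v c : Matrix (Fin m ⊕ Fin m) (Fin m ⊕ Fin m) F).map σ =
      (sympTransvec (fun i => σ (v i)) (σ c) : Matrix (Fin m ⊕ Fin m) (Fin m ⊕ Fin m) F) :=
    sympTransvecMat_map ((σ : F ≃+* F) : F →+* F) v c
  rw [h1]
  exact matrix_conj_tv _ _ (gl_mul_inv_coe (g : GL (Fin m ⊕ Fin m) F)) μ hμ hg _ _

/-- commuting nontrivial transvections of `PSp` have perpendicular centres -/
theorem perp_of_commute_mk_tv (hm : 1 ≤ m) {a b : Fin m ⊕ Fin m → F} {c d : F} (hb : b ≠ 0)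
    (hd : d ≠ 0)
    (h : (QuotientGroup.mk (sympTransvec a c) : Cfsg.PSp m F) * QuotientGroup.mk (sympTransvec b d) =
      QuotientGroup.mk (sympTransvec b d) * QuotientGroup.mk (sympTransvec a c)) :
    Cfsg.sympForm m F b a = 0 ∨ c = 0 := by
  by_cases hc : c = 0
  · exact Or.inr hc
  left
  have h1 : (QuotientGroup.mk (sympTransvec b d) : Cfsg.PSp m F) =
      QuotientGroup.mk (sympTransvec ((sympTransvec a c).1 *ᵥ b) d) := by
    rw [← sp_conj_tv, QuotientGroup.mk_mul, QuotientGroup.mk_mul, QuotientGroup.mk_inv, h,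
      mul_inv_cancel_right]
  obtain ⟨k, hk0, hk⟩ := parallel_of_mk_tv_eq hm hb hd h1
  have h2 : (sympTransvec a c).1 *ᵥ b = b + (c * Cfsg.sympForm m F b a) • a := tv_mulVec a c b
  rw [h2] at hk
  by_contra hne
  -- `a` is a multiple of `b`
  have h3 : (c * Cfsg.sympForm m F b a) • a = (k - 1) • b := by
    rw [sub_smul, one_smul, ← hk, add_sub_cancel_left]
  have h4 : a = ((c * Cfsg.sympForm m F b a)⁻¹ * (k - 1)) • b := by
    rw [mul_smul, ← h3, smul_smul, inv_mul_cancel₀ (mul_ne_zero hc hne), one_smul]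
  apply hne
  rw [h4, sF_smul_right, sF_self, mul_zero]

end Cfsg.Agent.Lib.Helper43
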