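/-
helper43: recognition of standard automorphisms of `PSp_{2m}(F)`, part 2: the main theorem.
-/
import Mathlib
import Cfsg.Agent.Lib.Helper43.PSpRecog

set_option autoImplicit false

namespace Cfsg.Agent.Lib.Helper43

open scoped MatrixGroups Matrix
open Matrix Cfsg.Agent.Lib.Helper5

variable {m : ℕ} {F : Type*} [Field F]

/-- a `σ`-semilinear map is given by a matrix applied to the `σ`-twisted vector -/
theorem semilinear_eq_mulVec (σ : RingAut F) (f : (Fin m ⊕ Fin m → F) → (Fin m ⊕ Fin m → F))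
    (hadd : ∀ u v, f (u + v) = f u + f v) (hsmul : ∀ (c : F) v, f (c • v) = σ c • f v)
    (v : Fin m ⊕ Fin m → F) :
    f v = (Matrix.of (fun i j => f (Pi.single j 1) i) : Matrix (Fin m ⊕ Fin m) (Fin m ⊕ Fin m) F) *ᵥ
      (fun i => σ (v i)) := by
  let fA : (Fin m ⊕ Fin m → F) →+ (Fin m ⊕ Fin m → F) := AddMonoidHom.mk' f hadd
  have hv : v = ∑ j, v j • (Pi.single j (1 : F) : Fin m ⊕ Fin m → F) := by
    funext i
    rw [Finset.sum_apply]
    simp [Pi.single_apply]
  have h1 : f v = ∑ j, σ (v j) • f (Pi.single j 1) := by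
    conv_lhs => rw [hv]
    have : f (∑ j, v j • (Pi.single j (1 : F) : Fin m ⊕ Fin m → F)) =
        fA (∑ j, v j • (Pi.single j (1 : F) : Fin m ⊕ Fin m → F)) := rfl
    rw [this, map_sum]
    apply Finset.sum_congr rfl
    intro j _
    exact hsmul _ _
  rw [h1]
  funext i
  rw [Finset.sum_apply, Matrix.mulVec, dotProduct]
  apply Finset.sum_congr rfl
  intro j _
  rw [Pi.smul_apply, smul_eq_mul, Matrix.of_apply, mul_comm]

theorem semilinear_zero (σ : RingAut F) (f : (Fin m ⊕ Fin m → F) → (Fin m ⊕ Fin m → F))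
    (hsmul : ∀ (c : F) v, f (c • v) = σ c • f v) : f 0 = 0 := by
  have := hsmul 0 0
  rwa [zero_smul, map_zero, zero_smul] at this

theorem semilinear_sub (σ : RingAut F) (f : (Fin m ⊕ Fin m → F) → (Fin m ⊕ Fin m → F))
    (hadd : ∀ u v, f (u + v) = f u + f v) (hsmul : ∀ (c : F) v, f (c • v) = σ c • f v)
    (u v : Fin m ⊕ Fin m → F) (t : F) : f (u - t • v) = f u - σ t • f v := by
  have h1 : u - t • v = u + (-t) • v := by rw [neg_smul, sub_eq_add_neg]
  rw [h1, hadd, hsmul, map_neg, neg_smul, sub_eq_add_neg]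

/-- a semilinear injective map preserving orthogonality multiplies the form by a scalar -/
theorem exists_multiplier_of_perp (hm : 1 ≤ m) (σ : RingAut F)
    (f : (Fin m ⊕ Fin m → F) → (Fin m ⊕ Fin m → F))
    (hadd : ∀ u v, f (u + v) = f u + f v) (hsmul : ∀ (c : F) v, f (c • v) = σ c • f v)
    (hperp : ∀ u v : Fin m ⊕ Fin m → F, Cfsg.sympForm m F u v = 0 →
      Cfsg.sympForm m F (f u) (f v) = 0) :
    ∃ κ : F, ∀ u v : Fin m ⊕ Fin m → F,
      Cfsg.sympForm m F (f u) (f v) = κ * σ (Cfsg.sympForm m F u v) := by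
  have hf0 : f 0 = 0 := semilinear_zero σ f hsmul
  -- pointwise multipliers
  have hpt : ∀ u : Fin m ⊕ Fin m → F, u ≠ 0 → ∃ κ : F, ∀ v : Fin m ⊕ Fin m → F,
      Cfsg.sympForm m F (f u) (f v) = κ * σ (Cfsg.sympForm m F u v) := by
    intro u hu
    obtain ⟨w, hw⟩ := exists_sympForm_ne_zero (l := Fin m) hu
    have hw' : Cfsg.sympForm m F u w ≠ 0 := hw
    refine ⟨Cfsg.sympForm m F (f u) (f w) / σ (Cfsg.sympForm m F u w), ?_⟩
    intro v
    set t := Cfsg.sympForm m F u v / Cfsg.sympForm m F u w with ht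
    have h1 : Cfsg.sympForm m F u (v - t • w) = 0 := by
      have : v - t • w = v + (-t) • w := by rw [neg_smul, sub_eq_add_neg]
      rw [this, sF_add_right, sF_smul_right, ht]
      field_simp
      ring
    have h2 := hperp u (v - t • w) h1
    rw [semilinear_sub σ f hadd hsmul] at h2
    have h3 : f v - σ t • f w = f v + (-(σ t)) • f w := by rw [neg_smul, sub_eq_add_neg]
    rw [h3, sF_add_right, sF_smul_right] at h2
    have h4 : Cfsg.sympForm m F (f u) (f v) = σ t * Cfsg.sympForm m F (f u) (f w) := by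
      have := eq_neg_of_add_eq_zero_left h2
      rw [this]; ring
    have hσw : σ (Cfsg.sympForm m F u w) ≠ 0 := (map_ne_zero σ).mpr hw'
    rw [h4, ht, map_div₀]
    field_simp
  choose κ hκ using hpt
  -- the multiplier is constant
  have hconst : ∀ (u v : Fin m ⊕ Fin m → F) (hu : u ≠ 0) (hv : v ≠ 0),
      Cfsg.sympForm m F u v ≠ 0 → κ u hu = κ v hv := by
    intro u v hu hv huv
    have h1 := hκ u hu v
    have h2 := hκ v hv u
    have h3 : Cfsg.sympForm m F (f u) (f v) = - Cfsg.sympForm m F (f v) (f u) :=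
      sF_swap (f v) (f u)
    have h4 : Cfsg.sympForm m F u v = - Cfsg.sympForm m F v u := sF_swap v u
    have hσ : σ (Cfsg.sympForm m F v u) ≠ 0 := by
      rw [Ne, map_eq_zero]
      intro h0
      apply huv
      rw [h4, h0, neg_zero]
    rw [h3, h2, h4, map_neg, mul_neg, neg_inj] at h1
    exact (mul_right_cancel₀ hσ h1).symm
  have hconst2 : ∀ (u v : Fin m ⊕ Fin m → F) (hu : u ≠ 0) (hv : v ≠ 0), κ u hu = κ v hv := by
    intro u v hu hv
    obtain ⟨w, h1, h2⟩ := exists_sympForm_ne_zero_both (l := Fin m) hu hv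
    have hw : w ≠ 0 := by
      intro h0
      rw [h0] at h1
      exact h1 (sF_zero_right u)
    rw [hconst u w hu hw h1, hconst w v hw hv h2]
  set e₀ : Fin m ⊕ Fin m → F := Pi.single (Sum.inl ⟨0, hm⟩) 1 with he₀
  have he₀0 : e₀ ≠ 0 := by
    intro h0
    have := congrFun h0 (Sum.inl ⟨0, hm⟩)
    simp [he₀] at this
  refine ⟨κ e₀ he₀0, ?_⟩
  intro u v
  by_cases hu : u = 0
  · rw [hu, hf0, sF_zero_left, sF_zero_left, map_zero, mul_zero]
  · rw [hκ u hu v, hconst2 u e₀ hu he₀0]

theorem tv_zero_left (c : F) : sympTransvec (0 : Fin m ⊕ Fin m → F) c = 1 := by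
  apply sp_ext_mulVec
  intro x
  rw [tv_mulVec, smul_zero, add_zero]
  show x = (1 : Matrix (Fin m ⊕ Fin m) (Fin m ⊕ Fin m) F) *ᵥ x
  rw [Matrix.one_mulVec]

/-- transvections with perpendicular centres commute -/
theorem tv_commute_of_perp {u v : Fin m ⊕ Fin m → F} (h : Cfsg.sympForm m F u v = 0) (c d : F) :
    sympTransvec u c * sympTransvec v d = sympTransvec v d * sympTransvec u c := by
  have h1 := sp_conj_tv (sympTransvec u c) v d
  have h2 : (sympTransvec u c).1 *ᵥ v = v := by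
    have : (sympTransvec u c).1 *ᵥ v = v + (c * Cfsg.sympForm m F v u) • u := tv_mulVec u c v
    rw [this, sF_swap u v, h, neg_zero, mul_zero, zero_smul, add_zero]
  rw [h2] at h1
  calc sympTransvec u c * sympTransvec v d
      = (sympTransvec u c * sympTransvec v d * (sympTransvec u c)⁻¹) * sympTransvec u c := by group
    _ = sympTransvec v d * sympTransvec u c := by rw [h1]

/-- an automorphism of `PSp` fixing the class of every transvection is trivial -/
theorem eq_one_of_fix_tv (β : MulAut (Cfsg.PSp m F))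
    (h : ∀ (u : Fin m ⊕ Fin m → F) (a : F),
      β (QuotientGroup.mk (sympTransvec u a)) = QuotientGroup.mk (sympTransvec u a)) : β = 1 := by
  apply MulEquiv.ext
  intro x
  obtain ⟨s, rfl⟩ := QuotientGroup.mk_surjective x
  rw [MulAut.one_apply]
  have hs : s ∈ Cfsg.Agent.Lib.Helper13.tvGroup m F := by
    rw [Cfsg.Agent.Lib.Helper13.tvGroup_eq_top]
    exact Subgroup.mem_top s
  unfold Cfsg.Agent.Lib.Helper13.tvGroup at hs
  induction hs using Subgroup.closure_induction with
  | mem A hA =>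
    obtain ⟨w, c, hwc⟩ := hA
    have : A = sympTransvec w c := Subtype.ext hwc
    rw [this]
    exact h w c
  | one => exact map_one β
  | mul a b _ _ iha ihb =>
    rw [QuotientGroup.mk_mul, map_mul, iha, ihb]
  | inv a _ iha =>
    rw [QuotientGroup.mk_inv, map_inv, iha]

/-- **recognition**: an automorphism of `PSp_{2m}(F)` carrying the transvection group with centre `⟨v⟩` into the one
with centre `⟨f v⟩`, for an injective `σ`-semilinear `f`, is standard. -/
theorem exists_std_of_transvection_semilinear (hm : 1 ≤ m) (β : MulAut (Cfsg.PSp m F))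
    (σ : RingAut F) (f : (Fin m ⊕ Fin m → F) → (Fin m ⊕ Fin m → F))
    (hadd : ∀ u v, f (u + v) = f u + f v) (hsmul : ∀ (c : F) v, f (c • v) = σ c • f v)
    (hinj : ∀ v, f v = 0 → v = 0)
    (hβ : ∀ v : Fin m ⊕ Fin m → F, v ≠ 0 → ∀ c : F, ∃ c' : F,
      β (QuotientGroup.mk (sympTransvec v c)) = QuotientGroup.mk (sympTransvec (f v) c')) :
    ∃ g : ↥(Cfsg.GSp m F), β = pspDiag g * pspField σ := by
  have hf0 : f 0 = 0 := semilinear_zero σ f hsmul
  -- nonzero parameters go to nonzero parameters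
  have hne : ∀ (v : Fin m ⊕ Fin m → F) (c c' : F), v ≠ 0 → c ≠ 0 →
      β (QuotientGroup.mk (sympTransvec v c)) = QuotientGroup.mk (sympTransvec (f v) c') →
      c' ≠ 0 := by
    intro v c c' hv hc h h0
    rw [h0, tv_zero_right, QuotientGroup.mk_one] at h
    have h1 : (QuotientGroup.mk (sympTransvec v c) : Cfsg.PSp m F) = 1 := by
      have := congrArg β.symm h
      rwa [MulEquiv.symm_apply_apply, map_one] at this
    exact mk_tv_ne_one hm hv hc h1
  -- orthogonality is preserved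
  have hperp : ∀ u v : Fin m ⊕ Fin m → F, Cfsg.sympForm m F u v = 0 →
      Cfsg.sympForm m F (f u) (f v) = 0 := by
    intro u v huv
    by_cases hu : u = 0
    · rw [hu, hf0, sF_zero_left]
    by_cases hv : v = 0
    · rw [hv, hf0, sF_zero_right]
    obtain ⟨c', hc'⟩ := hβ u hu 1
    obtain ⟨c'', hc''⟩ := hβ v hv 1
    have hc'0 := hne u 1 c' hu one_ne_zero hc'
    have hc''0 := hne v 1 c'' hv one_ne_zero hc''
    have hcomm := tv_commute_of_perp huv (1 : F) (1 : F)
    have h1 : β (QuotientGroup.mk (sympTransvec u 1)) * β (QuotientGroup.mk (sympTransvec v 1)) =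
        β (QuotientGroup.mk (sympTransvec v 1)) * β (QuotientGroup.mk (sympTransvec u 1)) := by
      rw [← map_mul, ← map_mul, ← QuotientGroup.mk_mul, ← QuotientGroup.mk_mul, hcomm]
    rw [hc', hc''] at h1
    have hfv : f v ≠ 0 := fun h0 => hv (hinj v h0)
    rcases perp_of_commute_mk_tv hm hfv hc''0 h1 with h2 | h2
    · rw [sF_swap, h2, neg_zero]
    · exact absurd h2 hc'0
  obtain ⟨κ, hκ⟩ := exists_multiplier_of_perp hm σ f hadd hsmul hperp
  set G : Matrix (Fin m ⊕ Fin m) (Fin m ⊕ Fin m) F :=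
    Matrix.of (fun i j => f (Pi.single j 1) i) with hGdef
  have hfG : ∀ v : Fin m ⊕ Fin m → F, f v = G *ᵥ (fun i => σ (v i)) :=
    semilinear_eq_mulVec σ f hadd hsmul
  have hσinv : ∀ x : Fin m ⊕ Fin m → F, (fun i => σ (σ.symm (x i))) = x := by
    intro x
    funext i
    exact σ.apply_symm_apply (x i)
  have hGf : ∀ x : Fin m ⊕ Fin m → F, G *ᵥ x = f (fun i => σ.symm (x i)) := by
    intro x
    rw [hfG, hσinv]
  have hGform : ∀ x y : Fin m ⊕ Fin m → F,
      Cfsg.sympForm m F (G *ᵥ x) (G *ᵥ y) = κ * Cfsg.sympForm m F x y := by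
    intro x y
    rw [hGf, hGf, hκ]
    have := sympForm_map ((σ : F ≃+* F) : F →+* F) (fun i => σ.symm (x i)) (fun i => σ.symm (y i))
    have h2 : Cfsg.sympForm m F (fun i => σ (σ.symm (x i))) (fun i => σ (σ.symm (y i))) =
        σ (Cfsg.sympForm m F (fun i => σ.symm (x i)) (fun i => σ.symm (y i))) := this
    rw [← h2, hσinv, hσinv]
  have hGinj : ∀ w : Fin m ⊕ Fin m → F, G *ᵥ w = 0 → w = 0 := by
    intro w hw
    rw [hGf] at hw
    have := hinj _ hw
    funext i
    have h1 := congrFun this i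
    simp only [Pi.zero_apply] at h1
    have h2 := congrArg σ h1
    rwa [σ.apply_symm_apply, map_zero] at h2
  have hGdet : G.det ≠ 0 := by
    intro h0
    obtain ⟨v, hv0, hv⟩ := Matrix.exists_mulVec_eq_zero_iff.mpr h0
    exact hv0 (hGinj v hv)
  have hκ0 : κ ≠ 0 := by
    intro h0
    set e₀ : Fin m ⊕ Fin m → F := Pi.single (Sum.inl ⟨0, hm⟩) 1 with he₀
    have he₀0 : e₀ ≠ 0 := by
      intro h1
      have := congrFun h1 (Sum.inl ⟨0, hm⟩)
      simp [he₀] at this
    obtain ⟨b, hb⟩ := exists_sympForm_ne_zero (l := Fin m) he₀0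
    have hGG : ∀ x : Fin m ⊕ Fin m → F, G *ᵥ (G⁻¹ *ᵥ x) = x := by
      intro x
      rw [Matrix.mulVec_mulVec, Matrix.mul_nonsing_inv _ (Ne.isUnit hGdet), Matrix.one_mulVec]
    have := hGform (G⁻¹ *ᵥ e₀) (G⁻¹ *ᵥ b)
    rw [hGG, hGG, h0, zero_mul] at this
    exact hb this
  obtain ⟨g, hg⟩ := exists_gsp_of_matrix G κ hκ0 ((transpose_J_mul_eq_iff G κ).mpr hGform)
  refine ⟨g, ?_⟩
  have hgform : ∀ u v : Fin m ⊕ Fin m → F,
      Cfsg.sympForm m F (((g : GL (Fin m ⊕ Fin m) F) : Matrix _ _ F) *ᵥ u)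
        (((g : GL (Fin m ⊕ Fin m) F) : Matrix _ _ F) *ᵥ v) = κ * Cfsg.sympForm m F u v := by
    rw [hg]; exact hGform
  -- the standard automorphism on transvections
  have hγ : ∀ (v : Fin m ⊕ Fin m → F) (c : F),
      (pspDiag g : MulAut (Cfsg.PSp m F))
        ((pspField σ : MulAut (Cfsg.PSp m F)) (QuotientGroup.mk (sympTransvec v c))) =
      QuotientGroup.mk (sympTransvec (f v) (σ c / κ)) := by
    intro v c
    rw [std_apply_mk_tv g σ κ hκ0 hgform, hg, ← hfG]
  set γ : MulAut (Cfsg.PSp m F) := pspDiag g * pspField σ with hγdef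
  have hγ' : ∀ (v : Fin m ⊕ Fin m → F) (c : F),
      γ (QuotientGroup.mk (sympTransvec v c)) = QuotientGroup.mk (sympTransvec (f v) (σ c / κ)) := by
    intro v c
    rw [hγdef, MulAut.mul_apply]
    exact hγ v c
  set β' : MulAut (Cfsg.PSp m F) := γ⁻¹ * β with hβ'def
  have hβ' : ∀ v : Fin m ⊕ Fin m → F, v ≠ 0 → ∀ c : F, ∃ c₁ : F,
      β' (QuotientGroup.mk (sympTransvec v c)) = QuotientGroup.mk (sympTransvec v c₁) := by
    intro v hv c
    obtain ⟨c', hc'⟩ := hβ v hv c
    refine ⟨σ.symm (c' * κ), ?_⟩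
    rw [hβ'def, MulAut.mul_apply, hc', MulAut.inv_apply, MulEquiv.symm_apply_eq, hγ',
      σ.apply_symm_apply, mul_div_assoc, div_self hκ0, mul_one]
  have hβ'ne : ∀ (v : Fin m ⊕ Fin m → F) (c c₁ : F), v ≠ 0 → c ≠ 0 →
      β' (QuotientGroup.mk (sympTransvec v c)) = QuotientGroup.mk (sympTransvec v c₁) → c₁ ≠ 0 := by
    intro v c c₁ hv hc h h0
    rw [h0, tv_zero_right, QuotientGroup.mk_one] at h
    have h1 : (QuotientGroup.mk (sympTransvec v c) : Cfsg.PSp m F) = 1 := by
      have := congrArg β'.symm h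
      rwa [MulEquiv.symm_apply_apply, map_one] at this
    exact mk_tv_ne_one hm hv hc h1
  -- `β'` fixes every transvection
  have hfix : ∀ (u : Fin m ⊕ Fin m → F) (a : F),
      β' (QuotientGroup.mk (sympTransvec u a)) = QuotientGroup.mk (sympTransvec u a) := by
    intro u a
    by_cases hu : u = 0
    · rw [hu, tv_zero_left, QuotientGroup.mk_one, map_one]
    obtain ⟨v, hvu⟩ := exists_sF_ne_zero hu
    have hv : v ≠ 0 := by
      intro h0
      rw [h0] at hvu
      exact hvu (sF_zero_left u)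
    set w : Fin m ⊕ Fin m → F := (sympTransvec u a).1 *ᵥ v with hw
    have hwv : w = v + (a * Cfsg.sympForm m F v u) • u := tv_mulVec u a v
    have hw0 : w ≠ 0 := by
      intro h0
      have h1 : Cfsg.sympForm m F w u = Cfsg.sympForm m F v u := by
        rw [hwv, sF_add_left, sF_smul_left, sF_self, mul_zero, add_zero]
      rw [h0, sF_zero_left] at h1
      exact hvu h1.symm
    obtain ⟨a₁, ha₁⟩ := hβ' u hu a
    obtain ⟨c₁, hc₁⟩ := hβ' v hv 1
    obtain ⟨c₂, hc₂⟩ := hβ' w hw0 1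
    have hc₁0 := hβ'ne v 1 c₁ hv one_ne_zero hc₁
    have hrel := sp_conj_tv (sympTransvec u a) v (1 : F)
    rw [← hw] at hrel
    have h1 : β' (QuotientGroup.mk (sympTransvec u a)) * β' (QuotientGroup.mk (sympTransvec v 1)) *
        (β' (QuotientGroup.mk (sympTransvec u a)))⁻¹ = β' (QuotientGroup.mk (sympTransvec w 1)) := by
      rw [← map_inv, ← map_mul, ← map_mul, ← QuotientGroup.mk_inv, ← QuotientGroup.mk_mul,
        ← QuotientGroup.mk_mul, hrel]
    rw [ha₁, hc₁, hc₂, ← QuotientGroup.mk_inv, ← QuotientGroup.mk_mul, ← QuotientGroup.mk_mul,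
      sp_conj_tv] at h1
    set w' : Fin m ⊕ Fin m → F := (sympTransvec u a₁).1 *ᵥ v with hw'
    have hw'v : w' = v + (a₁ * Cfsg.sympForm m F v u) • u := tv_mulVec u a₁ v
    have hw'0 : w' ≠ 0 := by
      intro h0
      have h2 : Cfsg.sympForm m F w' u = Cfsg.sympForm m F v u := by
        rw [hw'v, sF_add_left, sF_smul_left, sF_self, mul_zero, add_zero]
      rw [h0, sF_zero_left] at h2
      exact hvu h2.symm
    obtain ⟨k, hk0, hk⟩ := parallel_of_mk_tv_eq hm hw'0 hc₁0 h1
    -- compare: `w = k • w'`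
    have h3 : Cfsg.sympForm m F w u = k * Cfsg.sympForm m F w' u := by
      rw [hk, sF_smul_left]
    have h4 : Cfsg.sympForm m F w u = Cfsg.sympForm m F v u := by
      rw [hwv, sF_add_left, sF_smul_left, sF_self, mul_zero, add_zero]
    have h5 : Cfsg.sympForm m F w' u = Cfsg.sympForm m F v u := by
      rw [hw'v, sF_add_left, sF_smul_left, sF_self, mul_zero, add_zero]
    rw [h4, h5] at h3
    have hk1 : k = 1 := by
      have : (k - 1) * Cfsg.sympForm m F v u = 0 := by rw [sub_mul, one_mul, ← h3, sub_self]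
      rcases mul_eq_zero.mp this with h6 | h6
      · exact sub_eq_zero.mp h6
      · exact absurd h6 hvu
    rw [hk1, one_smul, hwv, hw'v] at hk
    have h6 : (a * Cfsg.sympForm m F v u) • u = (a₁ * Cfsg.sympForm m F v u) • u :=
      add_left_cancel hk
    have h7 : a * Cfsg.sympForm m F v u = a₁ * Cfsg.sympForm m F v u := by
      by_contra hne'
      have : (a * Cfsg.sympForm m F v u - a₁ * Cfsg.sympForm m F v u) • u = 0 := by
        rw [sub_smul, h6, sub_self]
      rcases smul_eq_zero.mp this with h8 | h8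
      · exact hne' (sub_eq_zero.mp h8)
      · exact hu h8
    have h8 : a = a₁ := mul_right_cancel₀ hvu h7
    rw [ha₁, h8]
  have hβ'1 : β' = 1 := eq_one_of_fix_tv β' hfix
  rw [hβ'def, inv_mul_eq_one] at hβ'1
  exact hβ'1.symm

theorem tv_smul (k : F) (w : Fin m ⊕ Fin m → F) (c : F) :
    sympTransvec (k • w) c = sympTransvec w (k * k * c) := by
  apply sp_ext_mulVec
  intro x
  rw [tv_mulVec, tv_mulVec, sF_smul_right, smul_smul]
  congr 2
  ring

/-- variant: the image transvection has centre proportional to `f v` -/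
theorem exists_std_of_transvection_semilinear' (hm : 1 ≤ m) (β : MulAut (Cfsg.PSp m F))
    (σ : RingAut F) (f : (Fin m ⊕ Fin m → F) → (Fin m ⊕ Fin m → F))
    (hadd : ∀ u v, f (u + v) = f u + f v) (hsmul : ∀ (c : F) v, f (c • v) = σ c • f v)
    (hinj : ∀ v, f v = 0 → v = 0)
    (hβ : ∀ v : Fin m ⊕ Fin m → F, v ≠ 0 → ∀ c : F, ∃ (k c' : F),
      β (QuotientGroup.mk (sympTransvec v c)) = QuotientGroup.mk (sympTransvec (k • f v) c')) :
    ∃ g : ↥(Cfsg.GSp m F), β = pspDiag g * pspField σ := by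
  apply exists_std_of_transvection_semilinear hm β σ f hadd hsmul hinj
  intro v hv c
  obtain ⟨k, c', h⟩ := hβ v hv c
  exact ⟨k * k * c', by rw [h, tv_smul]⟩

/-- `gammaPSp = ⊤` from the recognition hypothesis for every automorphism -/
theorem gammaPSp_eq_top_of_std
    (h : ∀ β : MulAut (Cfsg.PSp m F), ∃ (g : ↥(Cfsg.GSp m F)) (σ : RingAut F),
      β = pspDiag g * pspField σ) : Cfsg.gammaPSp m F = ⊤ := by
  rw [eq_top_iff]
  intro β _
  obtain ⟨g, σ, hβ⟩ := h β
  unfold Cfsg.gammaPSp Cfsg.autSubgroupOf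
  apply Subgroup.subset_closure
  exact ⟨g.1, σ, g.2, (isInducedBySemilinearPSp_iff g.1 g.2 σ β).mpr hβ⟩

end Cfsg.Agent.Lib.Helper43
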