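/-
helper43: a map on the non-zero vectors of the standard symplectic space that preserves orthogonality in both
directions and is onto the points is a collineation (hypothesis of helper45's fundamental theorem of projective
geometry): `span{x, y} = {x, y}^⊥⊥`.
-/
import Mathlib
import Cfsg.Agent.Lib.Helper43.PSpRecog2
import Cfsg.Agent.Lib.Helper45.FTPG.Main

set_option autoImplicit false

namespace Cfsg.Agent.Lib.Helper43

open scoped MatrixGroups Matrix
open Matrix Cfsg.Agent.Lib.Helper45.FTPG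

variable {m : ℕ} {F : Type*} [Field F]

/-- double perp of a pair: `z ∈ span{x, y}` iff everything orthogonal to `x` and `y` is orthogonal to `z` -/
theorem sp2_iff_perp (x y z : Fin m ⊕ Fin m → F) :
    Sp2 (K := F) x y z ↔ ∀ w : Fin m ⊕ Fin m → F, Cfsg.sympForm m F w x = 0 →
      Cfsg.sympForm m F w y = 0 → Cfsg.sympForm m F w z = 0 := by
  constructor
  · rintro ⟨a, b, rfl⟩ w hx hy
    rw [sF_add_right, sF_smul_right, sF_smul_right, hx, hy, mul_zero, mul_zero, add_zero]
  · intro h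
    by_contra hz
    have hz' : z ∉ Submodule.span F ({x, y} : Set (Fin m ⊕ Fin m → F)) := by
      intro hmem
      rw [Submodule.mem_span_pair] at hmem
      obtain ⟨a, b, hab⟩ := hmem
      exact hz ⟨a, b, hab.symm⟩
    obtain ⟨φ, hφz, hφ⟩ := Submodule.exists_dual_map_eq_bot_of_notMem hz' inferInstance
    have hφx : φ x = 0 := by
      have : φ x ∈ Submodule.map φ (Submodule.span F ({x, y} : Set (Fin m ⊕ Fin m → F))) :=
        Submodule.mem_map_of_mem (Submodule.subset_span (by simp))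
      rw [hφ] at this
      exact (Submodule.mem_bot F).mp this
    have hφy : φ y = 0 := by
      have : φ y ∈ Submodule.map φ (Submodule.span F ({x, y} : Set (Fin m ⊕ Fin m → F))) :=
        Submodule.mem_map_of_mem (Submodule.subset_span (by simp))
      rw [hφ] at this
      exact (Submodule.mem_bot F).mp this
    set B := Cfsg.Agent.Lib.Helper13.sympBilin m F with hB
    have hnd : B.Nondegenerate := Cfsg.Agent.Lib.Helper13.sympBilin_nondegenerate m F
    set w := (B.toDual hnd).symm φ with hw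
    have hwv : ∀ v, Cfsg.sympForm m F w v = φ v := by
      intro v
      exact LinearMap.BilinForm.apply_toDual_symm_apply (hB := hnd) φ v
    apply hφz
    rw [← hwv z]
    apply h w
    · rw [hwv, hφx]
    · rw [hwv, hφy]

/-- a perp-preserving map onto the points is a collineation -/
theorem isColl_of_perp (P : (Fin m ⊕ Fin m → F) → (Fin m ⊕ Fin m → F))
    (hne : ∀ x, x ≠ 0 → P x ≠ 0)
    (hperp : ∀ x y : Fin m ⊕ Fin m → F, x ≠ 0 → y ≠ 0 →
      (Cfsg.sympForm m F x y = 0 ↔ Cfsg.sympForm m F (P x) (P y) = 0))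
    (hsurj : ∀ w' : Fin m ⊕ Fin m → F, w' ≠ 0 → ∃ w : Fin m ⊕ Fin m → F, w ≠ 0 ∧
      Par (K := F) (P w) w') :
    IsColl (K := F) P := by
  refine ⟨hne, ?_⟩
  intro x y z hx hy hz
  rw [sp2_iff_perp, sp2_iff_perp]
  constructor
  · intro h w' hw'x hw'y
    by_cases hw'0 : w' = 0
    · rw [hw'0, sF_zero_left]
    obtain ⟨w, hw0, k, hk0, hk⟩ := hsurj w' hw'0
    have hw' : w' = k⁻¹ • P w := by rw [hk, smul_smul, inv_mul_cancel₀ hk0, one_smul]
    rw [hw', sF_smul_left] at hw'x hw'y ⊢
    have h1 : Cfsg.sympForm m F (P w) (P x) = 0 := by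
      rcases mul_eq_zero.mp hw'x with h0 | h0
      · exact absurd h0 (inv_ne_zero hk0)
      · exact h0
    have h2 : Cfsg.sympForm m F (P w) (P y) = 0 := by
      rcases mul_eq_zero.mp hw'y with h0 | h0
      · exact absurd h0 (inv_ne_zero hk0)
      · exact h0
    have h3 := h w ((hperp w x hw0 hx).mpr h1) ((hperp w y hw0 hy).mpr h2)
    rw [(hperp w z hw0 hz).mp h3, mul_zero]
  · intro h w hwx hwy
    by_cases hw0 : w = 0
    · rw [hw0, sF_zero_left]
    exact (hperp w z hw0 hz).mpr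
      (h (P w) ((hperp w x hw0 hx).mp hwx) ((hperp w y hw0 hy).mp hwy))

/-- the dimension hypothesis of the fundamental theorem, for `m ≥ 2` -/
theorem exists_not_sp2 (hm : 2 ≤ m) (u v : Fin m ⊕ Fin m → F) :
    ∃ w : Fin m ⊕ Fin m → F, ¬ Sp2 (K := F) u v w := by
  by_contra hall
  push Not at hall
  -- then the whole space is spanned by `u, v`
  have hspan : (⊤ : Submodule F (Fin m ⊕ Fin m → F)) ≤
      Submodule.span F ({u, v} : Set (Fin m ⊕ Fin m → F)) := by
    intro w _
    obtain ⟨a, b, hab⟩ := hall w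
    rw [Submodule.mem_span_pair]
    exact ⟨a, b, hab.symm⟩
  have h1 : Module.finrank F (Fin m ⊕ Fin m → F) ≤ 2 := by
    have h2 := Submodule.finrank_mono hspan
    rw [finrank_top] at h2
    have h3 : Module.finrank F (Submodule.span F ({u, v} : Set (Fin m ⊕ Fin m → F))) ≤ 2 := by
      have hr : Set.range ![u, v] = ({u, v} : Set (Fin m ⊕ Fin m → F)) := by
        ext a
        simp only [Set.mem_range, Set.mem_insert_iff, Set.mem_singleton_iff]
        constructor
        · rintro ⟨i, rfl⟩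
          fin_cases i
          · left; rfl
          · right; rfl
        · rintro (rfl | rfl)
          · exact ⟨0, rfl⟩
          · exact ⟨1, rfl⟩
      rw [← hr]
      exact (finrank_range_le_card (R := F) ![u, v]).trans (by simp)
    exact h2.trans h3
  rw [Module.finrank_fintype_fun_eq_card, Fintype.card_sum, Fintype.card_fin] at h1
  omega

/-- **from a permutation of the transvection groups to a standard automorphism**: if `β` maps the transvection group
with centre `⟨v⟩` into the one with centre `⟨P v⟩`, and `P` is onto the points, then `β = pspDiag g * pspField σ`. -/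
theorem exists_std_of_transvection_perm [Finite F] (hm : 2 ≤ m) (β : MulAut (Cfsg.PSp m F))
    (P : (Fin m ⊕ Fin m → F) → (Fin m ⊕ Fin m → F)) (hne : ∀ x, x ≠ 0 → P x ≠ 0)
    (hβ : ∀ v : Fin m ⊕ Fin m → F, v ≠ 0 → ∀ c : F, ∃ c' : F,
      β (QuotientGroup.mk (Cfsg.Agent.Lib.Helper5.sympTransvec v c)) =
        QuotientGroup.mk (Cfsg.Agent.Lib.Helper5.sympTransvec (P v) c'))
    (hsurj : ∀ w' : Fin m ⊕ Fin m → F, w' ≠ 0 → ∃ w : Fin m ⊕ Fin m → F, w ≠ 0 ∧
      Par (K := F) (P w) w') :
    ∃ (g : ↥(Cfsg.GSp m F)) (σ : RingAut F), β = pspDiag g * pspField σ := by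
  have hm1 : 1 ≤ m := by omega
  have hne' : ∀ (v : Fin m ⊕ Fin m → F) (c c' : F), v ≠ 0 → c ≠ 0 →
      β (QuotientGroup.mk (Cfsg.Agent.Lib.Helper5.sympTransvec v c)) =
        QuotientGroup.mk (Cfsg.Agent.Lib.Helper5.sympTransvec (P v) c') → c' ≠ 0 := by
    intro v c c' hv hc h h0
    rw [h0, tv_zero_right, QuotientGroup.mk_one] at h
    have h1 : (QuotientGroup.mk (Cfsg.Agent.Lib.Helper5.sympTransvec v c) : Cfsg.PSp m F) = 1 := by
      have := congrArg β.symm h
      rwa [MulEquiv.symm_apply_apply, map_one] at this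
    exact mk_tv_ne_one hm1 hv hc h1
  have hperp : ∀ x y : Fin m ⊕ Fin m → F, x ≠ 0 → y ≠ 0 →
      (Cfsg.sympForm m F x y = 0 ↔ Cfsg.sympForm m F (P x) (P y) = 0) := by
    intro x y hx hy
    obtain ⟨c', hc'⟩ := hβ x hx 1
    obtain ⟨c'', hc''⟩ := hβ y hy 1
    have hc'0 := hne' x 1 c' hx one_ne_zero hc'
    have hc''0 := hne' y 1 c'' hy one_ne_zero hc''
    constructor
    · intro hxy
      have hcomm := tv_commute_of_perp hxy (1 : F) (1 : F)
      have h1 : β (QuotientGroup.mk (Cfsg.Agent.Lib.Helper5.sympTransvec x 1)) *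
          β (QuotientGroup.mk (Cfsg.Agent.Lib.Helper5.sympTransvec y 1)) =
          β (QuotientGroup.mk (Cfsg.Agent.Lib.Helper5.sympTransvec y 1)) *
          β (QuotientGroup.mk (Cfsg.Agent.Lib.Helper5.sympTransvec x 1)) := by
        rw [← map_mul, ← map_mul, ← QuotientGroup.mk_mul, ← QuotientGroup.mk_mul, hcomm]
      rw [hc', hc''] at h1
      rcases perp_of_commute_mk_tv hm1 (hne y hy) hc''0 h1 with h2 | h2
      · rw [sF_swap, h2, neg_zero]
      · exact absurd h2 hc'0
    · intro hxy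
      have hcomm := tv_commute_of_perp hxy c' c''
      have h1 : β (QuotientGroup.mk (Cfsg.Agent.Lib.Helper5.sympTransvec x 1) *
          QuotientGroup.mk (Cfsg.Agent.Lib.Helper5.sympTransvec y 1)) =
          β (QuotientGroup.mk (Cfsg.Agent.Lib.Helper5.sympTransvec y 1) *
          QuotientGroup.mk (Cfsg.Agent.Lib.Helper5.sympTransvec x 1)) := by
        rw [map_mul, map_mul, hc', hc'', ← QuotientGroup.mk_mul, ← QuotientGroup.mk_mul, hcomm]
      have h2 := β.injective h1
      rcases perp_of_commute_mk_tv hm1 hy one_ne_zero h2 with h3 | h3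
      · rw [sF_swap, h3, neg_zero]
      · exact absurd h3 one_ne_zero
  have hcoll : IsColl (K := F) P := isColl_of_perp P hne hperp hsurj
  obtain ⟨σ₀, f, hadd, hsmul, hpar⟩ := exists_semilinear hcoll (exists_not_sp2 hm)
  have hσbij : Function.Bijective σ₀ :=
    ⟨σ₀.injective, Finite.surjective_of_injective σ₀.injective⟩
  set σ : RingAut F := RingEquiv.ofBijective σ₀ hσbij with hσ
  have hsmul' : ∀ (c : F) v, f (c • v) = σ c • f v := by
    intro c v
    rw [hsmul]
    rfl
  have hinj : ∀ v, f v = 0 → v = 0 := by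
    intro v hv
    by_contra hv0
    obtain ⟨k, _, hk⟩ := hpar v hv0
    rw [hv, smul_zero] at hk
    exact hne v hv0 hk
  obtain ⟨g, hg⟩ := exists_std_of_transvection_semilinear' hm1 β σ f hadd hsmul' hinj (by
    intro v hv c
    obtain ⟨c', hc'⟩ := hβ v hv c
    obtain ⟨k, _, hk⟩ := hpar v hv
    exact ⟨k, c', by rw [hc', hk]⟩)
  exact ⟨g, σ, hg⟩

/-- variant: surjectivity on points expressed through `β` hitting every transvection group -/
theorem exists_std_of_transvection_perm' [Finite F] (hm : 2 ≤ m) (β : MulAut (Cfsg.PSp m F))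
    (P : (Fin m ⊕ Fin m → F) → (Fin m ⊕ Fin m → F)) (hne : ∀ x, x ≠ 0 → P x ≠ 0)
    (hβ : ∀ v : Fin m ⊕ Fin m → F, v ≠ 0 → ∀ c : F, ∃ c' : F,
      β (QuotientGroup.mk (Cfsg.Agent.Lib.Helper5.sympTransvec v c)) =
        QuotientGroup.mk (Cfsg.Agent.Lib.Helper5.sympTransvec (P v) c'))
    (hβinv : ∀ w' : Fin m ⊕ Fin m → F, w' ≠ 0 → ∃ (w : Fin m ⊕ Fin m → F) (c c' : F), w ≠ 0 ∧
      c' ≠ 0 ∧ β (QuotientGroup.mk (Cfsg.Agent.Lib.Helper5.sympTransvec w c)) =
        QuotientGroup.mk (Cfsg.Agent.Lib.Helper5.sympTransvec w' c')) :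
    ∃ (g : ↥(Cfsg.GSp m F)) (σ : RingAut F), β = pspDiag g * pspField σ := by
  apply exists_std_of_transvection_perm hm β P hne hβ
  intro w' hw'
  obtain ⟨w, c, c', hw, hc', h⟩ := hβinv w' hw'
  refine ⟨w, hw, ?_⟩
  obtain ⟨c₁, hc₁⟩ := hβ w hw c
  rw [h] at hc₁
  obtain ⟨k, hk0, hk⟩ := parallel_of_mk_tv_eq (by omega) hw' hc' hc₁
  exact ⟨k, hk0, hk⟩

end Cfsg.Agent.Lib.Helper43
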