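/-
helper43: field automorphisms of prime order of `PSp_{2m}(F)`: the centraliser in `Inndiag` and the number of
`Inn`-classes in the `Inndiag`-class (S2712), given normality of `Inndiag(PSp)` in `Aut(PSp)`.
-/
import Mathlib
import Cfsg.Agent.Lib.Helper43.PSpSplit
import Cfsg.Agent.Lib.Helper45.PSLField.Cyclic

set_option autoImplicit false

namespace Cfsg.Agent.Lib.Helper43

open scoped MatrixGroups Matrix
open Matrix Cfsg.Agent.Lib.Helper45.PSLField

theorem geom_mod_two_of_even (q r : ℕ) (hq : Even q) (hr : 0 < r) :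
    (∑ i ∈ Finset.range r, q ^ i) % 2 = 1 := by
  obtain ⟨r', rfl⟩ := Nat.exists_eq_succ_of_ne_zero hr.ne'
  rw [Finset.sum_range_succ', pow_zero]
  have h1 : Even (∑ i ∈ Finset.range r', q ^ (i + 1)) := by
    apply Finset.even_sum
    intro i _
    exact hq.pow_of_ne_zero (Nat.succ_ne_zero i)
  obtain ⟨k, hk⟩ := h1
  omega

theorem geom_mod_two_of_odd (q r : ℕ) (hq : Odd q) :
    (∑ i ∈ Finset.range r, q ^ i) % 2 = r % 2 := by
  induction r with
  | zero => simp
  | succ r ih =>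
    rw [Finset.sum_range_succ]
    have h1 : (q ^ r) % 2 = 1 := Nat.odd_iff.mp (hq.pow)
    omega

theorem gcd_two_geom (p f r : ℕ) (hp : p.Prime) (hr : r.Prime) (hrf : r ∣ f) (hf : 1 ≤ f) :
    Nat.gcd 2 ((p ^ f - 1) / (p ^ (f / r) - 1)) = Nat.gcd (Nat.gcd 2 (p ^ f - 1)) r := by
  obtain ⟨k, rfl⟩ := hrf
  have hk : 1 ≤ k := by
    rcases Nat.eq_zero_or_pos k with h | h
    · subst h; omega
    · exact h
  rw [Nat.mul_div_cancel_left _ hr.pos, pow_mul']
  have hq2 : 2 ≤ p ^ k := by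
    calc 2 ≤ p := hp.two_le
      _ = p ^ 1 := (pow_one p).symm
      _ ≤ p ^ k := Nat.pow_le_pow_right hp.pos hk
  rw [← Nat.geomSum_eq hq2 r]
  set q := p ^ k with hq
  set S := ∑ i ∈ Finset.range r, q ^ i with hS
  have hgS : Nat.gcd 2 S = Nat.gcd (S % 2) 2 := Nat.gcd_rec 2 S
  rcases hp.eq_two_or_odd' with rfl | hodd
  · have hqe : Even q := (even_two).pow_of_ne_zero (by omega)
    have h1 := geom_mod_two_of_even q r hqe hr.pos
    have h2 : (q ^ r - 1) % 2 = 1 := by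
      have : Even (q ^ r) := hqe.pow_of_ne_zero hr.pos.ne'
      obtain ⟨t, ht⟩ := this
      have : 1 ≤ q ^ r := Nat.one_le_pow _ _ (by omega)
      omega
    have h3 : Nat.gcd 2 (q ^ r - 1) = 1 := by
      rw [Nat.gcd_rec, h2]
      rfl
    rw [hgS, h1, h3]
    simp
  · have hqo : Odd q := hodd.pow
    have h1 := geom_mod_two_of_odd q r hqo
    have h2 : (q ^ r - 1) % 2 = 0 := by
      have : Odd (q ^ r) := hqo.pow
      obtain ⟨t, ht⟩ := this
      omega
    have h3 : Nat.gcd 2 (q ^ r - 1) = 2 := by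
      rw [Nat.gcd_rec, h2]
      rfl
    rw [hgS, h1, h3]
    exact (Nat.gcd_rec 2 r).symm

theorem card_range_unitsMap' {F F₀ : Type*} [Field F] [Field F₀] (j : F₀ →+* F) :
    Nat.card (Units.map (j : F₀ →* F)).range = Nat.card F₀ - 1 := by
  have hinj : Function.Injective (Units.map (j : F₀ →* F)) := by
    intro a b hab
    apply Units.ext
    apply j.injective
    exact congrArg Units.val hab
  rw [← Nat.card_units]
  exact Nat.card_congr (MonoidHom.ofInjective hinj).symm.toEquiv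

/-- **S2712 from normality of `Inndiag`** -/
theorem psp_field_centralizer_main {m : ℕ} {F : Type*} [Field F] [Fintype F] {p f : ℕ}
    [Fact p.Prime] (hF : Fintype.card F = p ^ f) (hf : 1 ≤ f) (hm : 1 ≤ m)
    (hN : InndiagNormalPSp m F) (x : MulAut (Cfsg.PSp m F)) (hx : Cfsg.IsFieldAutClassPSp x)
    {r : ℕ} (hr : r.Prime) (hxr : orderOf x = r) (F₀ : Type*) [Field F₀] [Fintype F₀]
    (hF₀ : Fintype.card F₀ = p ^ (f / r)) :
    r ∣ f ∧ Nonempty (↥(Cfsg.inndiagPSp m F ⊓ Subgroup.centralizer {x}) ≃* Cfsg.PGSp m F₀) ∧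
      Cfsg.splitClassCount (Cfsg.inndiagPSp m F) (Cfsg.Inn (Cfsg.PSp m F)) x =
        Nat.gcd (Nat.gcd 2 (p ^ f - 1)) r := by
  obtain ⟨α, σ, -, hα⟩ := exists_conj_eq_pspField hx
  have hσr : orderOf σ = r := by
    rw [← orderOf_pspField hm σ, ← hα, orderOf_conj', hxr]
  obtain ⟨hrf, -⟩ := card_fixF hF σ hr.pos hσr
  obtain ⟨j, hj⟩ := exists_embedding_fixF hF σ hr.pos hσr F₀ hF₀
  refine ⟨hrf, ?_, ?_⟩
  · obtain ⟨e1⟩ := nonempty_centralizer_conj_equiv_psp hN α x
    rw [hα] at e1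
    obtain ⟨e2⟩ := nonempty_centralizer_equiv_psp hm σ hr.pos hσr j hj
    exact ⟨e1.trans e2⟩
  · have hH : ∀ h, h ∈ Cfsg.inndiagPSp m F ↔ α * h * α⁻¹ ∈ Cfsg.inndiagPSp m F := by
      intro h
      constructor
      · exact conj_mem_inndiagPSp hN α
      · intro hh
        have := conj_mem_inndiagPSp hN α⁻¹ hh
        have h2 : α⁻¹ * (α * h * α⁻¹) * α⁻¹⁻¹ = h := by group
        rwa [h2] at this
    have hK : ∀ k, k ∈ Cfsg.Inn (Cfsg.PSp m F) ↔ α * k * α⁻¹ ∈ Cfsg.Inn (Cfsg.PSp m F) := by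
      have hnorm : (Cfsg.Inn (Cfsg.PSp m F)).Normal := Cfsg.innNormal _
      intro k
      constructor
      · intro hk
        exact hnorm.conj_mem k hk α
      · intro hk
        have := hnorm.conj_mem _ hk α⁻¹
        have h2 : α⁻¹ * (α * k * α⁻¹) * α⁻¹⁻¹ = k := by group
        rwa [h2] at this
    rw [splitClassCount_conj _ _ α x hH hK, hα, splitClassCount_pspField hm σ hr.pos hσr j hj,
      index_sup_range_pow, card_range_unitsMap', Nat.card_units, Nat.card_eq_fintype_card,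
      Nat.card_eq_fintype_card, hF, hF₀]
    exact gcd_two_geom p f r Fact.out hr hrf hf

end Cfsg.Agent.Lib.Helper43
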