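/-
helper43: the centraliser of an involutory graph-field automorphism of `PΩ⁺_{2m}(F)` in the
inner-diagonal group is isomorphic to `Inndiag(PΩ⁻_{2m}(F₀))` (all characteristics).
-/
import Mathlib
import Cfsg.Agent.Lib.Helper43.PlusGFCent
import Cfsg.Agent.Lib.Helper43.OSplit

set_option autoImplicit false

namespace Cfsg.Agent.Lib.Helper43

open scoped MatrixGroups Matrix
open Module Matrix Cfsg.Agent.Lib.Helper45.PSLField Cfsg.Agent.Lib.Helper36 Cfsg.Agent.Lib.Helper44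
  Cfsg.Agent.S2168

variable {m : ℕ} {F : Type*} [Field F] {F₀ : Type*} [Field F₀]

theorem nonempty_equiv_inndiagMinusOf_of_eq {k : ℕ} (ζ₀ : F₀)
    (f₀ : (MI k → F₀) → F₀) (hf₀ : ⇑(minusQF k F₀ 1 ζ₀) = f₀) (X : Type*) [Group X]
    (h : Nonempty (X ≃* ↥(inndiagMinusOf k (1 : F₀) ζ₀ (⇑(minusQF k F₀ 1 ζ₀))))) :
    Nonempty (X ≃* ↥(inndiagMinusOf k (1 : F₀) ζ₀ f₀)) := by
  subst hf₀
  exact h

theorem card_sq_of_even [Fintype F] [Fintype F₀] {p f : ℕ} (hF : Fintype.card F = p ^ f)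
    (hF₀ : Fintype.card F₀ = p ^ (f / 2)) (hev : Even f) :
    Nat.card F = Nat.card F₀ ^ 2 := by
  rw [Nat.card_eq_fintype_card, Nat.card_eq_fintype_card, hF, hF₀, ← pow_mul]
  congr 1
  obtain ⟨t, ht⟩ := hev
  omega

/-- **the centraliser of an involutory graph-field automorphism** -/
theorem graphField_centralizer [Fintype F] [Fintype F₀] {p f : ℕ} [Fact p.Prime]
    (hF : Fintype.card F = p ^ f) (hf : 1 ≤ f) (hm : 5 ≤ m)
    (x : MulAut (Cfsg.POmega F (⇑(plusQF m F))))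
    (σ : RingAut F) (hσ1 : σ ≠ 1) (hσ2 : σ * σ = 1)
    (g : ↥(Cfsg.Geo.quadSimilarityGroup (⇑(plusQF m F))))
    (hg : plusEven (g : GL (Fin m ⊕ Fin m) F))
    (hx : x = simAut (⇑(plusQF m F)) g * stdGF (by omega) σ * (simAut (⇑(plusQF m F)) g)⁻¹)
    (hF₀ : Fintype.card F₀ = p ^ (f / 2)) :
    ∃ ζ₀ : F₀, (∀ z₁ z₂ : F₀, z₁ ^ 2 + 1 * z₁ * z₂ + ζ₀ * z₂ ^ 2 = 0 → z₁ = 0 ∧ z₂ = 0) ∧
      Nonempty (↥(inndiagPlusQ m F ⊓ Subgroup.centralizer {x}) ≃*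
        ↥(Cfsg.inndiagPOmegaMinus (m - 1) F₀ 1 ζ₀)) := by
  classical
  have hm1 : 1 ≤ m := by omega
  have hev := (frob_involution hf hF σ hσ1 hσ2).1
  have hord : orderOf σ = 2 := by
    apply orderOf_eq_prime
    · rw [pow_two, hσ2]
    · exact hσ1
  obtain ⟨j, hj⟩ := exists_embedding_fixF hF σ two_pos hord F₀ hF₀
  obtain ⟨P₀, P₁, c, ζ₀, hD⟩ := exists_gfData hm1 σ hσ1 hσ2 j hj
  have hcard := card_sq_of_even hF hF₀ hev
  have hk : 7 ≤ Fintype.card (MI (m - 1)) := by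
    rw [card_MI_eq hm1]
    simp only [PI, Fintype.card_sum, Fintype.card_fin]
    omega
  have h1 := nonempty_centralizer_stdGF_equiv (by omega) hm1 hord hD hcard hk
  have h2 := nonempty_equiv_inndiagMinusOf_of_eq ζ₀ (Cfsg.quadFormMinus (m - 1) F₀ 1 ζ₀)
    (minusQF_coe _ _ _ _) _ h1
  rw [inndiagMinusOf_eq] at h2
  refine ⟨ζ₀, hD.aniso, ?_⟩
  obtain ⟨e1⟩ := h2
  have hα : simAut (⇑(plusQF m F)) g ∈ inndiagPlusQ m F :=
    (mem_inndiagPlusQ_iff _).mpr ⟨g, hg, rfl⟩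
  obtain ⟨e2⟩ := nonempty_centralizer_conj_equiv_abs (inndiagPlusQ m F)
    (simAut (⇑(plusQF m F)) g) (stdGF hm1 σ) (fun h => by
      constructor
      · intro hh
        exact Subgroup.mul_mem _ (Subgroup.mul_mem _ hα hh) (Subgroup.inv_mem _ hα)
      · intro hh
        have := Subgroup.mul_mem _ (Subgroup.mul_mem _ (Subgroup.inv_mem _ hα) hh) hα
        simpa [mul_assoc] using this)
  rw [← hx] at e2
  exact ⟨e2.symm.trans e1⟩

end Cfsg.Agent.Lib.Helper43
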