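/-
helper43: involutory graph-field automorphisms of `PΩ⁺_{2m}(F)`, `m ≥ 5`: assembly.
-/
import Mathlib
import Cfsg.Agent.Lib.Helper43.PlusGFCount
import Cfsg.Agent.Lib.Helper43.PlusGFFinal
import Cfsg.Agent.Lib.Helper43.PlusGFChar2
import Cfsg.Agent.Lib.Helper43.PlusGF2

set_option autoImplicit false

namespace Cfsg.Agent.Lib.Helper43

open scoped MatrixGroups Matrix
open Module Matrix Cfsg.Agent.Lib.Helper45.PSLField Cfsg.Agent.Lib.Helper36 Cfsg.Agent.Lib.Helper44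
  Cfsg.Agent.S2168

/-- **involutory graph-field automorphisms of `PΩ⁺_{2m}(F)`** -/
theorem plus_graphField_main {F : Type*} [Field F] [Fintype F] {p f : ℕ} [Fact p.Prime]
    (hF : Fintype.card F = p ^ f) (hf : 1 ≤ f) {m : ℕ} (hm : 5 ≤ m)
    (x : MulAut (Cfsg.POmega F (Cfsg.quadFormPlus m F)))
    (hx : Cfsg.IsGraphFieldAutClassPOmegaPlus m x) (hx2 : orderOf x = 2)
    (F₀ : Type*) [Field F₀] [Fintype F₀] (hF₀ : Fintype.card F₀ = p ^ (f / 2)) :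
    Even f ∧
    (∀ y : MulAut (Cfsg.POmega F (Cfsg.quadFormPlus m F)),
      Cfsg.IsGraphFieldAutClassPOmegaPlus m y → orderOf y = 2 →
        Cfsg.IsConjUnder (Cfsg.inndiagPOmegaPlus m F) x y) ∧
    (∃ a₀ b₀ : F₀, (∀ z₁ z₂ : F₀, z₁ ^ 2 + a₀ * z₁ * z₂ + b₀ * z₂ ^ 2 = 0 → z₁ = 0 ∧ z₂ = 0) ∧
      Nonempty (↥(Cfsg.inndiagPOmegaPlus m F ⊓ Subgroup.centralizer {x}) ≃*
        ↥(Cfsg.inndiagPOmegaMinus (m - 1) F₀ a₀ b₀))) ∧
    (p = 2 → Cfsg.splitClassCount (Cfsg.inndiagPOmegaPlus m F)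
      (Cfsg.Inn (Cfsg.POmega F (Cfsg.quadFormPlus m F))) x = 1) ∧
    ((p ≠ 2 ∧ Odd m ∧ p ^ (f / 2) % 4 = 1) →
      Cfsg.splitClassCount (Cfsg.inndiagPOmegaPlus m F)
        (Cfsg.Inn (Cfsg.POmega F (Cfsg.quadFormPlus m F))) x = 4) ∧
    ((p ≠ 2 ∧ ¬ (Odd m ∧ p ^ (f / 2) % 4 = 1)) →
      Cfsg.splitClassCount (Cfsg.inndiagPOmegaPlus m F)
        (Cfsg.Inn (Cfsg.POmega F (Cfsg.quadFormPlus m F))) x = 2) := by
  classical
  have hm1 : 1 ≤ m := by omega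
  obtain ⟨σ, hσ1, hσ2, g, hgE, hxeq⟩ := graphField_normal_form hm x hx hx2
  obtain ⟨hev, hσpow⟩ := frob_involution hf hF σ hσ1 hσ2
  have hord : orderOf σ = 2 := by
    apply orderOf_eq_prime
    · rw [pow_two, hσ2]
    · exact hσ1
  have hα : simAut (⇑(plusQF m F)) g ∈ inndiagPlusQ m F :=
    (mem_inndiagPlusQ_iff _).mpr ⟨g, hgE, rfl⟩
  have hconj : Cfsg.IsConjUnder (inndiagPlusQ m F) (stdGF hm1 σ) x :=
    ⟨simAut (⇑(plusQF m F)) g, hα, hxeq⟩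
  have hcount : Cfsg.splitClassCount (inndiagPlusQ m F)
      (Cfsg.Inn (Cfsg.POmega F (⇑(plusQF m F)))) x =
      Cfsg.splitClassCount (inndiagPlusQ m F)
        (Cfsg.Inn (Cfsg.POmega F (⇑(plusQF m F)))) (stdGF hm1 σ) :=
    (splitClassCount_congr hconj).symm
  have hodd : p ≠ 2 → ∃ j : F₀ →+* F, (∀ a : F, σ a = a ↔ ∃ b, j b = a) ∧ (2 : F) ≠ 0 ∧
      Fintype.card F = Fintype.card F₀ ^ 2 ∧ ∀ a : F, σ a = a ^ Fintype.card F₀ := by
    intro hp2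
    obtain ⟨j, hj⟩ := exists_embedding_fixF hF σ two_pos hord F₀ hF₀
    refine ⟨j, hj, ?_, ?_, ?_⟩
    · haveI : CharP F p := charP_of_card' hf hF
      intro h0
      have h1 : ((2 : ℕ) : F) = 0 := by exact_mod_cast h0
      rw [CharP.cast_eq_zero_iff F p] at h1
      exact hp2 ((Nat.prime_dvd_prime_iff_eq Fact.out Nat.prime_two).mp h1)
    · have := card_sq_of_even hF hF₀ hev
      rwa [Nat.card_eq_fintype_card, Nat.card_eq_fintype_card] at this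
    · rw [hF₀]
      exact hσpow
  refine ⟨hev, fun y hy hy2 => graphField_conj hm x y hx hx2 hy hy2, ?_, ?_, ?_, ?_⟩
  · obtain ⟨ζ₀, han, he⟩ := graphField_centralizer hF hf hm x σ hσ1 hσ2 g hgE hxeq hF₀
    exact ⟨1, ζ₀, han, he⟩
  · intro hp2
    subst hp2
    haveI : CharP F 2 := charP_of_card' hf hF
    apply splitClassCount_eq_one_of_cover
    intro a ha
    refine ⟨1, Subgroup.one_mem _, ?_⟩
    rw [mul_one]
    exact inndiagPlusQ_le_Inn_char_two (by omega) ha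
  · rintro ⟨hp2, hmo, hq⟩
    obtain ⟨j, hj, h2, hcard, hσpow'⟩ := hodd hp2
    show Cfsg.splitClassCount (inndiagPlusQ m F)
      (Cfsg.Inn (Cfsg.POmega F (⇑(plusQF m F)))) x = 4
    rw [hcount]
    exact (stdGF_count hm σ hσ1 hσ2 j hj h2 hcard hσpow').1 ⟨hmo, by rw [hF₀]; exact hq⟩
  · rintro ⟨hp2, hcond⟩
    obtain ⟨j, hj, h2, hcard, hσpow'⟩ := hodd hp2
    show Cfsg.splitClassCount (inndiagPlusQ m F)
      (Cfsg.Inn (Cfsg.POmega F (⇑(plusQF m F)))) x = 2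
    rw [hcount]
    apply (stdGF_count hm σ hσ1 hσ2 j hj h2 hcard hσpow').2
    rw [hF₀]
    exact hcond

end Cfsg.Agent.Lib.Helper43
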