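/-
helper43: quadratic forms over the field of two elements, abstractly: functions `q : V → ZMod 2` on a
finite elementary abelian 2-group with `q (u + v) = q u + q v + f u v` for a non-degenerate biadditive `f`.
Character sums, zero counts, transvections.
-/
import Mathlib

set_option autoImplicit false
set_option linter.unusedSectionVars false

namespace Cfsg.Agent.Lib.Helper43

/-- the sign character of `ZMod 2` -/
def chi2 (x : ZMod 2) : ℤ := if x = 0 then 1 else -1

theorem chi2_add (x y : ZMod 2) : chi2 (x + y) = chi2 x * chi2 y := by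
  revert x y; decide

theorem chi2_zero : chi2 0 = 1 := rfl

theorem chi2_one : chi2 1 = -1 := rfl

theorem zmod2_add_self (x : ZMod 2) : x + x = 0 := by revert x; decide

theorem zmod2_eq_zero_or_one (x : ZMod 2) : x = 0 ∨ x = 1 := by revert x; decide

theorem zmod2_mul_self (x : ZMod 2) : x * x = x := by revert x; decide

section

variable {V : Type*} [AddCommGroup V] [Module (ZMod 2) V] [Fintype V]

/-- the character sum `Σ_v (-1)^(q v)` -/
def charSum (q : V → ZMod 2) : ℤ := ∑ v, chi2 (q v)

/-- the number of zeros of `q` -/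
def zeroCount (q : V → ZMod 2) : ℕ := (Finset.univ.filter (fun v => q v = 0)).card

theorem charSum_eq (q : V → ZMod 2) :
    charSum q = 2 * (zeroCount q : ℤ) - (Fintype.card V : ℤ) := by
  classical
  unfold charSum zeroCount chi2
  rw [Finset.sum_ite, Finset.sum_const, Finset.sum_const]
  have h := Finset.card_filter_add_card_filter_not (s := (Finset.univ : Finset V)) (fun v => q v = 0)
  rw [Finset.card_univ] at h
  have h' : ((Finset.univ.filter (fun v => q v = 0)).card : ℤ)
      + ((Finset.univ.filter (fun v => ¬ q v = 0)).card : ℤ) = (Fintype.card V : ℤ) := by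
    exact_mod_cast h
  simp only [nsmul_eq_mul, mul_one, mul_neg]
  linarith

theorem zeroCount_le (q : V → ZMod 2) : zeroCount q ≤ Fintype.card V := by
  unfold zeroCount
  exact Finset.card_le_univ _

variable (f : V → V → ZMod 2) (q : V → ZMod 2)

theorem polar_zero_left (hf : ∀ u u' t, f (u + u') t = f u t + f u' t) (t : V) : f 0 t = 0 := by
  have := hf 0 0 t
  rw [add_zero] at this
  have h2 := zmod2_add_self (f 0 t)
  rw [← this] at h2
  exact h2

theorem quad_zero (hq : ∀ u v, q (u + v) = q u + q v + f u v)
    (hf : ∀ u u' t, f (u + u') t = f u t + f u' t) : q 0 = 0 := by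
  have := hq 0 0
  rw [add_zero, polar_zero_left f hf, add_zero] at this
  have h2 := zmod2_add_self (q 0)
  rw [← this] at h2
  exact h2

/-- the sum of a nontrivial character vanishes -/
theorem sum_chi2_polar_eq_zero (hf : ∀ u u' t, f (u + u') t = f u t + f u' t) (t : V)
    (ht : ∃ u, f u t = 1) : ∑ u, chi2 (f u t) = 0 := by
  obtain ⟨u0, hu0⟩ := ht
  have h1 : ∑ u, chi2 (f u t) = ∑ u, chi2 (f (u + u0) t) :=
    (Fintype.sum_equiv (Equiv.addRight u0) _ _ (fun u => rfl)).symm
  have h2 : ∑ u, chi2 (f (u + u0) t) = - ∑ u, chi2 (f u t) := by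
    rw [← Finset.sum_neg_distrib]
    apply Finset.sum_congr rfl
    intro u _
    rw [hf, hu0, chi2_add, chi2_one]; ring
  linarith

/-- `S(q)^2 = |V|` -/
theorem charSum_sq (hq : ∀ u v, q (u + v) = q u + q v + f u v)
    (hf : ∀ u u' t, f (u + u') t = f u t + f u' t)
    (hnd : ∀ t, t ≠ 0 → ∃ u, f u t = 1) : charSum q ^ 2 = (Fintype.card V : ℤ) := by
  classical
  have hq0 : q 0 = 0 := quad_zero f q hq hf
  have hf0 : ∀ u, f u 0 = 0 := by
    intro u
    have := hq u 0
    rw [add_zero, hq0, add_zero] at this
    have h3 : q u + f u 0 + q u = q u + q u := by rw [← this]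
    have h4 : q u + f u 0 + q u = f u 0 + (q u + q u) := by ring
    rw [h4, zmod2_add_self, add_zero] at h3
    exact h3
  unfold charSum
  rw [pow_two, Finset.sum_mul_sum]
  have h1 : ∀ u, ∑ v, chi2 (q u) * chi2 (q v) = ∑ t, chi2 (q t) * chi2 (f u t) := by
    intro u
    rw [← Fintype.sum_equiv (Equiv.addLeft u) (fun t => chi2 (q u) * chi2 (q (u + t)))
      (fun v => chi2 (q u) * chi2 (q v)) (fun t => rfl)]
    apply Finset.sum_congr rfl
    intro t _
    rw [hq, ← chi2_add, ← chi2_add]
    congr 1
    have : q u + (q u + q t + f u t) = (q u + q u) + (q t + f u t) := by ring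
    rw [this, zmod2_add_self, zero_add]
  rw [Finset.sum_congr rfl (fun u _ => h1 u), Finset.sum_comm]
  have h2 : ∀ t, ∑ u, chi2 (q t) * chi2 (f u t) = if t = 0 then (Fintype.card V : ℤ) else 0 := by
    intro t
    rw [← Finset.mul_sum]
    split_ifs with ht
    · subst ht
      simp only [hf0, hq0, chi2_zero, one_mul, Finset.sum_const, Finset.card_univ, nsmul_eq_mul,
        mul_one]
    · rw [sum_chi2_polar_eq_zero f hf t (hnd t ht), mul_zero]
  rw [Finset.sum_congr rfl (fun t _ => h2 t), Finset.sum_ite_eq' Finset.univ (0 : V)]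
  simp

/-- the number of zeros is never exactly half -/
theorem two_mul_zeroCount_ne (hq : ∀ u v, q (u + v) = q u + q v + f u v)
    (hf : ∀ u u' t, f (u + u') t = f u t + f u' t)
    (hnd : ∀ t, t ≠ 0 → ∃ u, f u t = 1) : 2 * zeroCount q ≠ Fintype.card V := by
  intro h
  have h1 := charSum_sq f q hq hf hnd
  have h2 := charSum_eq q
  have h3 : (2 * (zeroCount q : ℤ)) = (Fintype.card V : ℤ) := by exact_mod_cast h
  rw [h3, sub_self] at h2
  rw [h2] at h1
  have hpos : 0 < Fintype.card V := Fintype.card_pos_iff.mpr ⟨0⟩
  have : (Fintype.card V : ℤ) = 0 := by rw [← h1]; ring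
  omega

/-- zero count is invariant under bijections -/
theorem zeroCount_comp_equiv (g : V ≃ V) : zeroCount (fun v => q (g v)) = zeroCount q := by
  classical
  unfold zeroCount
  apply Finset.card_equiv g
  intro v
  simp

/-- translating by a non-singular vector complements the zero set -/
theorem zeroCount_translate (hq : ∀ u v, q (u + v) = q u + q v + f u v) (w : V) (hw : q w = 1) :
    zeroCount (fun v => q v + f v w) = Fintype.card V - zeroCount q := by
  classical
  have h1 : ∀ v, q v + f v w = q (v + w) + 1 := by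
    intro v
    rw [hq, hw]
    have : q v + 1 + f v w + 1 = q v + f v w + (1 + 1) := by ring
    rw [this, zmod2_add_self, add_zero]
  have h2 : zeroCount (fun v => q v + f v w) = (Finset.univ.filter (fun v => ¬ q v = 0)).card := by
    unfold zeroCount
    apply Finset.card_equiv (Equiv.addRight w)
    intro v
    simp only [Finset.mem_filter, Finset.mem_univ, true_and, Equiv.coe_addRight]
    rw [h1]
    rcases zmod2_eq_zero_or_one (q (v + w)) with h | h <;> rw [h] <;> decide
  have h3 := Finset.card_filter_add_card_filter_not (s := (Finset.univ : Finset V)) (fun v => q v = 0)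
  rw [Finset.card_univ] at h3
  rw [h2]
  unfold zeroCount
  omega

/-- the transvection in a singular vector `w` carries `q` to `q + f(·, w)` -/
theorem exists_transvection (hq : ∀ u v, q (u + v) = q u + q v + f u v)
    (hf : ∀ u u' t, f (u + u') t = f u t + f u' t) (w : V) (hww : f w w = 0) (hw : q w = 0) :
    ∃ g : V ≃ₗ[ZMod 2] V, ∀ v, q v + f v w = q (g v) := by
  let g0 : V →+ V :=
    { toFun := fun v => v + f v w • w
      map_zero' := by rw [polar_zero_left f hf, zero_smul, add_zero]
      map_add' := by
        intro u v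
        rw [hf, add_smul]; abel }
  have hg0 : ∀ v, g0 v = v + f v w • w := fun v => rfl
  have hinv : ∀ v, g0 (g0 v) = v := by
    intro v
    rw [hg0 (g0 v), hg0 v, hf]
    rcases zmod2_eq_zero_or_one (f v w) with h | h
    · simp only [h, zero_smul, add_zero, polar_zero_left f hf]
    · simp only [h, one_smul, hww, add_zero]
      rw [add_assoc, ZModModule.add_self, add_zero]
  let g : V ≃ₗ[ZMod 2] V :=
    { (AddMonoidHom.toZModLinearMap 2 g0) with
      invFun := g0
      left_inv := hinv
      right_inv := hinv }
  refine ⟨g, fun v => ?_⟩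
  show q v + f v w = q (g0 v)
  rw [hg0]
  rcases zmod2_eq_zero_or_one (f v w) with h | h
  · rw [h, zero_smul, add_zero, add_zero]
  · rw [h, one_smul, hq, hw, h, add_zero]

end

end Cfsg.Agent.Lib.Helper43
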