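/-
helper43: the polar form of the plus-type quadratic form `Σ x_i y_i` over `ZMod 2`.
-/
import Cfsg.Prelude.Def_Classical
import Cfsg.Agent.Lib.Helper43.QuadF2

set_option autoImplicit false

namespace Cfsg.Agent.Lib.Helper43

/-- the polar form of the plus-type form over `ZMod 2` -/
def polarPlus (m : ℕ) (u v : Fin m ⊕ Fin m → ZMod 2) : ZMod 2 :=
  Cfsg.quadFormPlus m (ZMod 2) (u + v) - Cfsg.quadFormPlus m (ZMod 2) u
    - Cfsg.quadFormPlus m (ZMod 2) v

theorem polarPlus_eq (m : ℕ) (u v : Fin m ⊕ Fin m → ZMod 2) :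
    polarPlus m u v = ∑ i : Fin m, (u (.inl i) * v (.inr i) + v (.inl i) * u (.inr i)) := by
  unfold polarPlus Cfsg.quadFormPlus
  rw [← Finset.sum_sub_distrib, ← Finset.sum_sub_distrib]
  apply Finset.sum_congr rfl
  intro i _
  simp only [Pi.add_apply]
  ring

theorem polarPlus_add_left (m : ℕ) (u u' t : Fin m ⊕ Fin m → ZMod 2) :
    polarPlus m (u + u') t = polarPlus m u t + polarPlus m u' t := by
  rw [polarPlus_eq, polarPlus_eq, polarPlus_eq, ← Finset.sum_add_distrib]
  apply Finset.sum_congr rfl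
  intro i _
  simp only [Pi.add_apply]
  ring

theorem polarPlus_comm (m : ℕ) (u v : Fin m ⊕ Fin m → ZMod 2) :
    polarPlus m u v = polarPlus m v u := by
  rw [polarPlus_eq, polarPlus_eq]
  apply Finset.sum_congr rfl
  intro i _
  ring

theorem polarPlus_add_right (m : ℕ) (u t t' : Fin m ⊕ Fin m → ZMod 2) :
    polarPlus m u (t + t') = polarPlus m u t + polarPlus m u t' := by
  rw [polarPlus_comm, polarPlus_add_left, polarPlus_comm m t, polarPlus_comm m t']

theorem polarPlus_self (m : ℕ) (w : Fin m ⊕ Fin m → ZMod 2) : polarPlus m w w = 0 := by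
  rw [polarPlus_eq]
  apply Finset.sum_eq_zero
  intro i _
  exact zmod2_add_self _

theorem polarPlus_nondeg (m : ℕ) (t : Fin m ⊕ Fin m → ZMod 2) (ht : t ≠ 0) :
    ∃ u, polarPlus m u t = 1 := by
  classical
  obtain ⟨j, hj⟩ : ∃ j, t j ≠ 0 := by
    by_contra hcon
    push Not at hcon
    exact ht (funext hcon)
  have hj1 : t j = 1 := (zmod2_eq_zero_or_one (t j)).resolve_left hj
  rcases j with i | i
  · refine ⟨Pi.single (Sum.inr i) 1, ?_⟩
    rw [polarPlus_eq, Finset.sum_eq_single i]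
    · simp [hj1]
    · intro k _ hk
      simp [hk]
    · intro h; exact absurd (Finset.mem_univ i) h
  · refine ⟨Pi.single (Sum.inl i) 1, ?_⟩
    rw [polarPlus_eq, Finset.sum_eq_single i]
    · simp [hj1]
    · intro k _ hk
      simp [hk]
    · intro h; exact absurd (Finset.mem_univ i) h

theorem card_space (m : ℕ) : Fintype.card (Fin m ⊕ Fin m → ZMod 2) = 2 ^ (2 * m) := by
  rw [Fintype.card_fun, ZMod.card, Fintype.card_sum, Fintype.card_fin, two_mul]

/-- the plus-type form polarizes to `polarPlus` -/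
theorem quadFormPlus_polar (m : ℕ) (u v : Fin m ⊕ Fin m → ZMod 2) :
    Cfsg.quadFormPlus m (ZMod 2) (u + v)
      = Cfsg.quadFormPlus m (ZMod 2) u + Cfsg.quadFormPlus m (ZMod 2) v + polarPlus m u v := by
  unfold polarPlus; ring

end Cfsg.Agent.Lib.Helper43
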