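/-
helper43: quadratic forms over the field of two elements, part 2: totally singular subspaces.
-/
import Cfsg.Agent.Lib.Helper43.QuadF2

set_option autoImplicit false
set_option linter.unusedSectionVars false

namespace Cfsg.Agent.Lib.Helper43

section

variable {V : Type*} [AddCommGroup V] [Module (ZMod 2) V] [Fintype V]
variable (f : V → V → ZMod 2) (q : V → ZMod 2)

theorem polar_eq (hq : ∀ u v, q (u + v) = q u + q v + f u v) (u v : V) :
    f u v = q (u + v) + q u + q v := by
  rw [hq]
  have : q u + q v + f u v + q u + q v = f u v + (q u + q u) + (q v + q v) := by ring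
  rw [this, zmod2_add_self, zmod2_add_self, add_zero, add_zero]

theorem polar_symm (hq : ∀ u v, q (u + v) = q u + q v + f u v) (u v : V) : f u v = f v u := by
  rw [polar_eq f q hq u v, polar_eq f q hq v u, add_comm u v]; ring

theorem polar_add_right (hq : ∀ u v, q (u + v) = q u + q v + f u v)
    (hf : ∀ u u' t, f (u + u') t = f u t + f u' t) (v u u' : V) :
    f v (u + u') = f v u + f v u' := by
  rw [polar_symm f q hq v (u + u'), hf, polar_symm f q hq u v, polar_symm f q hq u' v]

theorem polar_zero_right (hq : ∀ u v, q (u + v) = q u + q v + f u v)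
    (hf : ∀ u u' t, f (u + u') t = f u t + f u' t) (v : V) : f v 0 = 0 := by
  rw [polar_symm f q hq v 0, polar_zero_left f hf]

open Classical in
/-- the character sum of `f v ·` over a subspace `U` -/
theorem sum_chi2_subspace (hq : ∀ u v, q (u + v) = q u + q v + f u v)
    (hf : ∀ u u' t, f (u + u') t = f u t + f u' t) (U : Submodule (ZMod 2) V) (v : V) :
    ∑ u ∈ Finset.univ.filter (· ∈ U), chi2 (f v u)
      = if (∀ u ∈ U, f v u = 0) then ((Finset.univ.filter (· ∈ U)).card : ℤ) else 0 := by
  split_ifs with h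
  · rw [Finset.sum_congr rfl (g := fun _ => (1 : ℤ))]
    · simp
    · intro u hu
      rw [h u (Finset.mem_filter.mp hu).2, chi2_zero]
  · push Not at h
    obtain ⟨u0, hu0U, hu0⟩ := h
    have hu01 : f v u0 = 1 := (zmod2_eq_zero_or_one _).resolve_left hu0
    have h1 : ∑ u ∈ Finset.univ.filter (· ∈ U), chi2 (f v u)
        = ∑ u ∈ Finset.univ.filter (· ∈ U), chi2 (f v (u + u0)) := by
      symm
      apply Finset.sum_equiv (Equiv.addRight u0)
      · intro u
        simp only [Finset.mem_filter, Finset.mem_univ, true_and, Equiv.coe_addRight]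
        exact (U.add_mem_iff_left hu0U).symm
      · intro u _; rfl
    have h2 : ∑ u ∈ Finset.univ.filter (· ∈ U), chi2 (f v (u + u0))
        = - ∑ u ∈ Finset.univ.filter (· ∈ U), chi2 (f v u) := by
      rw [← Finset.sum_neg_distrib]
      apply Finset.sum_congr rfl
      intro u _
      rw [polar_add_right f q hq hf, hu01, chi2_add, chi2_one]; ring
    linarith

open Classical in
/-- `|U^⊥| * |U| = |V|` -/
theorem card_perp_mul_card (hq : ∀ u v, q (u + v) = q u + q v + f u v)
    (hf : ∀ u u' t, f (u + u') t = f u t + f u' t)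
    (hnd : ∀ t, t ≠ 0 → ∃ u, f u t = 1) (U : Submodule (ZMod 2) V) :
    (Finset.univ.filter (fun v => ∀ u ∈ U, f v u = 0)).card * (Finset.univ.filter (· ∈ U)).card
      = Fintype.card V := by
  have h1 : ∑ v : V, ∑ u ∈ Finset.univ.filter (· ∈ U), chi2 (f v u) = (Fintype.card V : ℤ) := by
    rw [Finset.sum_comm]
    have h2 : ∀ u : V, ∑ v : V, chi2 (f v u) = if u = 0 then (Fintype.card V : ℤ) else 0 := by
      intro u
      split_ifs with hu
      · subst hu
        simp only [polar_zero_right f q hq hf, chi2_zero, Finset.sum_const, Finset.card_univ,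
          nsmul_eq_mul, mul_one]
      · exact sum_chi2_polar_eq_zero f hf u (hnd u hu)
    rw [Finset.sum_congr rfl (fun u _ => h2 u), Finset.sum_ite_eq' _ (0 : V)]
    simp
  rw [Finset.sum_congr rfl (fun v _ => sum_chi2_subspace f q hq hf U v), ← Finset.sum_filter,
    Finset.sum_const, nsmul_eq_mul] at h1
  exact_mod_cast h1

open Classical in
/-- a totally singular subspace has at most `√|V|` elements -/
theorem card_sq_le_of_totally_singular (hq : ∀ u v, q (u + v) = q u + q v + f u v)
    (hf : ∀ u u' t, f (u + u') t = f u t + f u' t)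
    (hnd : ∀ t, t ≠ 0 → ∃ u, f u t = 1) (U : Submodule (ZMod 2) V) (hU : ∀ u ∈ U, q u = 0) :
    (Finset.univ.filter (· ∈ U)).card ^ 2 ≤ Fintype.card V := by
  have hsub : Finset.univ.filter (· ∈ U) ⊆ Finset.univ.filter (fun v => ∀ u ∈ U, f v u = 0) := by
    intro v hv
    have hvU : v ∈ U := (Finset.mem_filter.mp hv).2
    simp only [Finset.mem_filter, Finset.mem_univ, true_and]
    intro u hu
    rw [polar_eq f q hq, hU _ (U.add_mem hvU hu), hU v hvU, hU u hu]; rfl
  have h1 := card_perp_mul_card f q hq hf hnd U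
  have h2 := Finset.card_le_card hsub
  rw [← h1, pow_two]
  exact Nat.mul_le_mul_right _ h2

open Classical in
/-- if a totally singular subspace has `√|V|` elements then the character sum equals its size -/
theorem charSum_eq_of_totally_singular (hq : ∀ u v, q (u + v) = q u + q v + f u v)
    (hf : ∀ u u' t, f (u + u') t = f u t + f u' t)
    (hnd : ∀ t, t ≠ 0 → ∃ u, f u t = 1) (U : Submodule (ZMod 2) V) (hU : ∀ u ∈ U, q u = 0)
    (hcard : (Finset.univ.filter (· ∈ U)).card ^ 2 = Fintype.card V) :
    charSum q = ((Finset.univ.filter (· ∈ U)).card : ℤ) := by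
  set Uf := Finset.univ.filter (· ∈ U) with hUf
  set Up := Finset.univ.filter (fun v => ∀ u ∈ U, f v u = 0) with hUp
  have hsub : Uf ⊆ Up := by
    intro v hv
    have hvU : v ∈ U := (Finset.mem_filter.mp hv).2
    simp only [hUp, Finset.mem_filter, Finset.mem_univ, true_and]
    intro u hu
    rw [polar_eq f q hq, hU _ (U.add_mem hvU hu), hU v hvU, hU u hu]; rfl
  have h1 : Up.card * Uf.card = Fintype.card V := card_perp_mul_card f q hq hf hnd U
  have hpos : 0 < Uf.card := Finset.card_pos.mpr ⟨0, Finset.mem_filter.mpr ⟨Finset.mem_univ _, U.zero_mem⟩⟩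
  have h2 : Up.card = Uf.card := by
    rw [← hcard, pow_two] at h1
    exact Nat.eq_of_mul_eq_mul_right hpos h1
  have hUpUf : Up = Uf := (Finset.eq_of_subset_of_card_le hsub (le_of_eq h2)).symm
  -- |U| * S(q) = Σ_{v ∈ U^⊥} χ(q v) * |U|
  have h3 : (Uf.card : ℤ) * charSum q = ∑ v ∈ Up, chi2 (q v) * (Uf.card : ℤ) := by
    have h4 : (Uf.card : ℤ) * charSum q = ∑ u ∈ Uf, ∑ v : V, chi2 (q (v + u)) := by
      rw [← nsmul_eq_mul, ← Finset.sum_const]
      apply Finset.sum_congr rfl
      intro u _
      unfold charSum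
      exact (Fintype.sum_equiv (Equiv.addRight u) _ _ (fun v => rfl)).symm
    rw [h4, Finset.sum_comm]
    have h5 : ∀ v : V, ∑ u ∈ Uf, chi2 (q (v + u))
        = chi2 (q v) * ∑ u ∈ Uf, chi2 (f v u) := by
      intro v
      rw [Finset.mul_sum]
      apply Finset.sum_congr rfl
      intro u hu
      rw [hq, hU u (Finset.mem_filter.mp hu).2, add_zero, chi2_add]
    rw [Finset.sum_congr rfl (fun v _ => h5 v)]
    rw [Finset.sum_congr rfl (fun v _ => by rw [sum_chi2_subspace f q hq hf U v])]
    simp only [mul_ite, mul_zero]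
    rw [← Finset.sum_filter]
  rw [hUpUf] at h3
  have h6 : ∑ v ∈ Uf, chi2 (q v) * (Uf.card : ℤ) = (Uf.card : ℤ) * (Uf.card : ℤ) := by
    rw [Finset.sum_congr rfl (g := fun _ => (Uf.card : ℤ))]
    · rw [Finset.sum_const, nsmul_eq_mul]
    · intro v hv
      rw [hU v (Finset.mem_filter.mp hv).2, chi2_zero, one_mul]
  rw [h6] at h3
  have hne : (Uf.card : ℤ) ≠ 0 := by exact_mod_cast hpos.ne'
  exact mul_left_cancel₀ hne h3

open Classical in
theorem card_filter_mem_submodule (U : Submodule (ZMod 2) V) :
    (Finset.univ.filter (· ∈ U)).card = 2 ^ Module.finrank (ZMod 2) U := by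
  have h1 : Nat.card U = 2 ^ Module.finrank (ZMod 2) U := by
    rw [Module.natCard_eq_pow_finrank (K := ZMod 2), Nat.card_zmod]
  rw [← h1, Nat.card_eq_fintype_card, Fintype.card_subtype]

end

end Cfsg.Agent.Lib.Helper43
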