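/-
helper43: the plus- and minus-type quadratic forms over `ZMod 2`: character sums, zero counts,
the forms polarizing to the standard alternating form, and their types.
-/
import Cfsg.Agent.Lib.Helper43.QuadF2Plus
import Cfsg.Agent.Lib.Helper43.QuadF2b

set_option autoImplicit false

namespace Cfsg.Agent.Lib.Helper43

/-! ### The character sum of the plus-type form -/

theorem charSum_quadFormPlus (m : ℕ) : charSum (Cfsg.quadFormPlus m (ZMod 2)) = 2 ^ m := by
  classical
  unfold charSum
  rw [← Fintype.sum_equiv (Equiv.sumArrowEquivProdArrow (Fin m) (Fin m) (ZMod 2)).symm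
    (fun p : (Fin m → ZMod 2) × (Fin m → ZMod 2) => chi2 (∑ i, p.1 i * p.2 i))
    (fun v => chi2 (Cfsg.quadFormPlus m (ZMod 2) v)) (fun p => by
      unfold Cfsg.quadFormPlus
      simp [Equiv.sumArrowEquivProdArrow])]
  rw [Fintype.sum_prod_type]
  have h : ∀ x : Fin m → ZMod 2, ∑ y : Fin m → ZMod 2, chi2 (∑ i, x i * y i)
      = if x = 0 then (2 : ℤ) ^ m else 0 := by
    intro x
    split_ifs with hx
    · subst hx
      simp [chi2_zero]
    · apply sum_chi2_polar_eq_zero (fun y x : Fin m → ZMod 2 => ∑ i, x i * y i)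
      · intro u u' t
        simp only [Pi.add_apply, mul_add, Finset.sum_add_distrib]
      · obtain ⟨j, hj⟩ : ∃ j, x j ≠ 0 := by
          by_contra hcon
          push Not at hcon
          exact hx (funext hcon)
        have hj1 : x j = 1 := (zmod2_eq_zero_or_one (x j)).resolve_left hj
        refine ⟨Pi.single j 1, ?_⟩
        simp [Pi.single_apply, hj1]
  rw [Finset.sum_congr rfl (fun x _ => h x), Finset.sum_ite_eq' _ (0 : Fin m → ZMod 2)]
  simp

theorem zeroCount_quadFormPlus (m : ℕ) (hm : 1 ≤ m) :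
    zeroCount (Cfsg.quadFormPlus m (ZMod 2)) = 2 ^ (2 * m - 1) + 2 ^ (m - 1) := by
  have h1 := charSum_eq (Cfsg.quadFormPlus m (ZMod 2))
  rw [charSum_quadFormPlus, card_space] at h1
  obtain ⟨k, rfl⟩ : ∃ k, m = k + 1 := ⟨m - 1, by omega⟩
  have h2 : 2 * (k + 1) - 1 = 2 * k + 1 := by omega
  have h3 : k + 1 - 1 = k := by omega
  rw [h2, h3]
  have h4 : (2 : ℤ) ^ (2 * (k + 1)) = 2 * 2 ^ (2 * k + 1) := by
    rw [show 2 * (k + 1) = (2 * k + 1) + 1 by ring, pow_succ]; ring
  have h5 : (2 : ℤ) ^ (k + 1) = 2 * 2 ^ k := by rw [pow_succ]; ring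
  push_cast at h1
  rw [h4, h5] at h1
  have h6 : (zeroCount (Cfsg.quadFormPlus (k + 1) (ZMod 2)) : ℤ) = 2 ^ (2 * k + 1) + 2 ^ k := by
    linarith
  exact_mod_cast h6

/-! ### The forms polarizing to the standard alternating form -/

/-- the form `Q⁺ + f(·, w)` -/
def plusShift (m : ℕ) (w : Fin m ⊕ Fin m → ZMod 2) (v : Fin m ⊕ Fin m → ZMod 2) : ZMod 2 :=
  Cfsg.quadFormPlus m (ZMod 2) v + polarPlus m v w

theorem plusShift_polar (m : ℕ) (w u v : Fin m ⊕ Fin m → ZMod 2) :
    plusShift m w (u + v) = plusShift m w u + plusShift m w v + polarPlus m u v := by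
  unfold plusShift
  rw [quadFormPlus_polar, polarPlus_add_left]; ring

theorem plusShift_injective (m : ℕ) : Function.Injective (plusShift m) := by
  intro w w' h
  by_contra hne
  have hne' : w + w' ≠ 0 := by
    intro h0
    apply hne
    have : w = -w' := eq_neg_of_add_eq_zero_left h0
    rw [this, ZModModule.neg_eq_self]
  obtain ⟨u, hu⟩ := polarPlus_nondeg m (w + w') hne'
  have h1 : plusShift m w u = plusShift m w' u := congrFun h u
  unfold plusShift at h1
  have h2 : polarPlus m u w = polarPlus m u w' := add_left_cancel h1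
  rw [polarPlus_add_right, h2, zmod2_add_self] at hu
  exact zero_ne_one hu

/-- every function polarizing to the standard form is a `plusShift` -/
theorem exists_plusShift_eq (m : ℕ) (q : (Fin m ⊕ Fin m → ZMod 2) → ZMod 2)
    (hq : ∀ u v, q (u + v) = q u + q v + polarPlus m u v) : ∃ w, plusShift m w = q := by
  classical
  -- the difference is additive
  let lam0 : (Fin m ⊕ Fin m → ZMod 2) →+ ZMod 2 :=
    { toFun := fun v => q v + Cfsg.quadFormPlus m (ZMod 2) v
      map_zero' := by
        have h1 := quad_zero (polarPlus m) q hq (polarPlus_add_left m)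
        have h2 : Cfsg.quadFormPlus m (ZMod 2) 0 = 0 := by
          unfold Cfsg.quadFormPlus; simp
        rw [h1, h2, add_zero]
      map_add' := by
        intro u v
        rw [hq, quadFormPlus_polar]
        have : q u + q v + polarPlus m u v
            + (Cfsg.quadFormPlus m (ZMod 2) u + Cfsg.quadFormPlus m (ZMod 2) v + polarPlus m u v)
            = q u + Cfsg.quadFormPlus m (ZMod 2) u + (q v + Cfsg.quadFormPlus m (ZMod 2) v)
              + (polarPlus m u v + polarPlus m u v) := by ring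
        rw [this, zmod2_add_self, add_zero] }
  let lam : (Fin m ⊕ Fin m → ZMod 2) →ₗ[ZMod 2] ZMod 2 := AddMonoidHom.toZModLinearMap 2 lam0
  have hlam : ∀ v, lam v = q v + Cfsg.quadFormPlus m (ZMod 2) v := fun v => rfl
  let w : Fin m ⊕ Fin m → ZMod 2 := fun j =>
    match j with
    | Sum.inl i => lam (Pi.single (Sum.inr i) 1)
    | Sum.inr i => lam (Pi.single (Sum.inl i) 1)
  refine ⟨w, ?_⟩
  funext v
  have h1 : polarPlus m v w = lam v := by
    rw [polarPlus_eq, LinearMap.pi_apply_eq_sum_univ lam v, Fintype.sum_sum_type,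
      Finset.sum_add_distrib]
    congr 1
    · apply Finset.sum_congr rfl
      intro i _
      have hs : (fun j => if (Sum.inl i : Fin m ⊕ Fin m) = j then (1 : ZMod 2) else 0)
          = Pi.single (Sum.inl i) 1 := by
        funext j; simp [Pi.single_apply, eq_comm]
      rw [smul_eq_mul, hs]
    · apply Finset.sum_congr rfl
      intro i _
      have hs : (fun j => if (Sum.inr i : Fin m ⊕ Fin m) = j then (1 : ZMod 2) else 0)
          = Pi.single (Sum.inr i) 1 := by
        funext j; simp [Pi.single_apply, eq_comm]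
      rw [smul_eq_mul, mul_comm, hs]
  unfold plusShift
  rw [h1, hlam]
  have : Cfsg.quadFormPlus m (ZMod 2) v + (q v + Cfsg.quadFormPlus m (ZMod 2) v)
      = q v + (Cfsg.quadFormPlus m (ZMod 2) v + Cfsg.quadFormPlus m (ZMod 2) v) := by ring
  rw [this, zmod2_add_self, add_zero]

/-- the forms polarizing to the standard alternating form are parametrized by vectors -/
noncomputable def plusShiftEquiv (m : ℕ) : (Fin m ⊕ Fin m → ZMod 2) ≃
    {q : (Fin m ⊕ Fin m → ZMod 2) → ZMod 2 // ∀ u v, q (u + v) = q u + q v + polarPlus m u v} :=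
  Equiv.ofBijective (fun w => ⟨plusShift m w, plusShift_polar m w⟩)
    ⟨fun w w' h => plusShift_injective m (congrArg Subtype.val h),
     fun q => by
      obtain ⟨w, hw⟩ := exists_plusShift_eq m q.1 q.2
      exact ⟨w, Subtype.ext hw⟩⟩

theorem plusShiftEquiv_apply (m : ℕ) (w : Fin m ⊕ Fin m → ZMod 2) :
    ((plusShiftEquiv m w) : (Fin m ⊕ Fin m → ZMod 2) → ZMod 2) = plusShift m w := rfl

/-! ### Types -/

theorem plusShift_plus_type (m : ℕ) (w : Fin m ⊕ Fin m → ZMod 2)
    (hw : Cfsg.quadFormPlus m (ZMod 2) w = 0) :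
    ∃ g : (Fin m ⊕ Fin m → ZMod 2) ≃ₗ[ZMod 2] (Fin m ⊕ Fin m → ZMod 2),
      ∀ v, plusShift m w v = Cfsg.quadFormPlus m (ZMod 2) (g v) :=
  exists_transvection (polarPlus m) (Cfsg.quadFormPlus m (ZMod 2)) (quadFormPlus_polar m)
    (polarPlus_add_left m) w (polarPlus_self m w) hw

theorem zeroCount_plusShift_of_singular (m : ℕ) (w : Fin m ⊕ Fin m → ZMod 2)
    (hw : Cfsg.quadFormPlus m (ZMod 2) w = 0) :
    zeroCount (plusShift m w) = zeroCount (Cfsg.quadFormPlus m (ZMod 2)) := by
  obtain ⟨g, hg⟩ := plusShift_plus_type m w hw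
  have : plusShift m w = fun v => Cfsg.quadFormPlus m (ZMod 2) (g.toEquiv v) := funext hg
  rw [this]
  exact zeroCount_comp_equiv _ g.toEquiv

theorem zeroCount_plusShift_of_nonsingular (m : ℕ) (w : Fin m ⊕ Fin m → ZMod 2)
    (hw : Cfsg.quadFormPlus m (ZMod 2) w = 1) :
    zeroCount (plusShift m w) = 2 ^ (2 * m) - zeroCount (Cfsg.quadFormPlus m (ZMod 2)) := by
  rw [← card_space m]
  exact zeroCount_translate (polarPlus m) (Cfsg.quadFormPlus m (ZMod 2)) (quadFormPlus_polar m) w hw

theorem zeroCount_plus_ne (m : ℕ) :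
    2 * zeroCount (Cfsg.quadFormPlus m (ZMod 2)) ≠ 2 ^ (2 * m) := by
  rw [← card_space m]
  exact two_mul_zeroCount_ne (polarPlus m) (Cfsg.quadFormPlus m (ZMod 2)) (quadFormPlus_polar m)
    (polarPlus_add_left m) (polarPlus_nondeg m)

theorem zeroCount_plus_le (m : ℕ) : zeroCount (Cfsg.quadFormPlus m (ZMod 2)) ≤ 2 ^ (2 * m) := by
  rw [← card_space m]
  exact zeroCount_le _

/-- two forms related by a linear equivalence have the same zero count -/
theorem zeroCount_eq_of_equiv {V W : Type*} [AddCommGroup V] [Module (ZMod 2) V] [Fintype V]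
    [AddCommGroup W] [Module (ZMod 2) W] [Fintype W] (q : V → ZMod 2) (q' : W → ZMod 2)
    (g : V ≃ₗ[ZMod 2] W) (h : ∀ v, q v = q' (g v)) : zeroCount q = zeroCount q' := by
  classical
  unfold zeroCount
  apply Finset.card_equiv g.toEquiv
  intro v
  simp [h]

theorem plusShift_not_plus_type (m : ℕ) (w : Fin m ⊕ Fin m → ZMod 2)
    (hw : Cfsg.quadFormPlus m (ZMod 2) w = 1) :
    ¬ ∃ g : (Fin m ⊕ Fin m → ZMod 2) ≃ₗ[ZMod 2] (Fin m ⊕ Fin m → ZMod 2),
      ∀ v, plusShift m w v = Cfsg.quadFormPlus m (ZMod 2) (g v) := by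
  rintro ⟨g, hg⟩
  have h1 := zeroCount_eq_of_equiv (plusShift m w) (Cfsg.quadFormPlus m (ZMod 2)) g hg
  have h2 := zeroCount_plusShift_of_nonsingular m w hw
  have h3 := zeroCount_plus_ne m
  have h4 := zeroCount_plus_le m
  omega

end Cfsg.Agent.Lib.Helper43
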