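/-
helper43: the minus-type quadratic form over `ZMod 2` as a shift of the plus-type form.
-/
import Cfsg.Agent.Lib.Helper43.QuadF2Plus2

set_option autoImplicit false

namespace Cfsg.Agent.Lib.Helper43

/-- index map from the coordinates of the minus-type form to those of the plus-type form -/
def sigmaFun (k : ℕ) : (Fin k ⊕ Fin k) ⊕ Fin 2 → Fin (k + 1) ⊕ Fin (k + 1) :=
  Sum.elim (Sum.elim (fun i => Sum.inl i.castSucc) (fun i => Sum.inr i.castSucc))
    (fun x => if x = 0 then Sum.inl (Fin.last k) else Sum.inr (Fin.last k))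

/-- the inverse index map -/
def tauFun (k : ℕ) : Fin (k + 1) ⊕ Fin (k + 1) → (Fin k ⊕ Fin k) ⊕ Fin 2 :=
  Sum.elim (fun j => Fin.lastCases (Sum.inr 0) (fun i => Sum.inl (Sum.inl i)) j)
    (fun j => Fin.lastCases (Sum.inr 1) (fun i => Sum.inl (Sum.inr i)) j)

theorem tau_sigma (k : ℕ) (j : (Fin k ⊕ Fin k) ⊕ Fin 2) : tauFun k (sigmaFun k j) = j := by
  rcases j with (i | i) | x
  · simp [sigmaFun, tauFun]
  · simp [sigmaFun, tauFun]
  · fin_cases x <;> simp [sigmaFun, tauFun]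

theorem sigma_tau (k : ℕ) (j : Fin (k + 1) ⊕ Fin (k + 1)) : sigmaFun k (tauFun k j) = j := by
  rcases j with j | j
  · induction j using Fin.lastCases with
    | last => simp [sigmaFun, tauFun]
    | cast i => simp [sigmaFun, tauFun]
  · induction j using Fin.lastCases with
    | last => simp [sigmaFun, tauFun]
    | cast i => simp [sigmaFun, tauFun]

/-- the index equivalence -/
def sigmaEquiv (k : ℕ) : (Fin k ⊕ Fin k) ⊕ Fin 2 ≃ Fin (k + 1) ⊕ Fin (k + 1) where
  toFun := sigmaFun k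
  invFun := tauFun k
  left_inv := tau_sigma k
  right_inv := sigma_tau k

/-- the coordinate change from the plus-type space to the minus-type space -/
def minusCoord (k : ℕ) :
    (Fin (k + 1) ⊕ Fin (k + 1) → ZMod 2) ≃ₗ[ZMod 2] ((Fin k ⊕ Fin k) ⊕ Fin 2 → ZMod 2) :=
  LinearEquiv.funCongrLeft (ZMod 2) (ZMod 2) (sigmaEquiv k)

theorem minusCoord_apply (k : ℕ) (v : Fin (k + 1) ⊕ Fin (k + 1) → ZMod 2)
    (j : (Fin k ⊕ Fin k) ⊕ Fin 2) : minusCoord k v j = v (sigmaFun k j) := rfl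

/-- the vector `e_m + f_m` -/
def w0 (k : ℕ) : Fin (k + 1) ⊕ Fin (k + 1) → ZMod 2 :=
  Sum.elim (fun i => if i = Fin.last k then 1 else 0) (fun i => if i = Fin.last k then 1 else 0)

theorem quadFormPlus_w0 (k : ℕ) : Cfsg.quadFormPlus (k + 1) (ZMod 2) (w0 k) = 1 := by
  unfold Cfsg.quadFormPlus w0
  simp

theorem polarPlus_w0 (k : ℕ) (v : Fin (k + 1) ⊕ Fin (k + 1) → ZMod 2) :
    polarPlus (k + 1) v (w0 k) = v (Sum.inl (Fin.last k)) + v (Sum.inr (Fin.last k)) := by
  rw [polarPlus_eq]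
  unfold w0
  simp [Finset.sum_add_distrib]

/-- the minus-type form is the plus-type form shifted by `w0`, in other coordinates -/
theorem plusShift_w0 (k : ℕ) (v : Fin (k + 1) ⊕ Fin (k + 1) → ZMod 2) :
    plusShift (k + 1) (w0 k) v = Cfsg.quadFormMinus k (ZMod 2) 1 1 (minusCoord k v) := by
  unfold plusShift
  rw [polarPlus_w0]
  unfold Cfsg.quadFormPlus Cfsg.quadFormMinus
  rw [Fin.sum_univ_castSucc]
  simp only [minusCoord_apply]
  have h1 : ∀ i : Fin k, sigmaFun k (Sum.inl (Sum.inl i)) = Sum.inl i.castSucc := fun i => rfl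
  have h2 : ∀ i : Fin k, sigmaFun k (Sum.inl (Sum.inr i)) = Sum.inr i.castSucc := fun i => rfl
  have h3 : sigmaFun k (Sum.inr 0) = Sum.inl (Fin.last k) := by simp [sigmaFun]
  have h4 : sigmaFun k (Sum.inr 1) = Sum.inr (Fin.last k) := by simp [sigmaFun]
  simp only [h1, h2, h3, h4]
  generalize v (Sum.inl (Fin.last k)) = a
  generalize v (Sum.inr (Fin.last k)) = b
  generalize ∑ i : Fin k, v (Sum.inl i.castSucc) * v (Sum.inr i.castSucc) = c
  revert a b c
  decide

end Cfsg.Agent.Lib.Helper43
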