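/-
helper43: types of quadratic forms over `ZMod 2` polarizing to the standard alternating form; Witt index
of the minus-type form.
-/
import Cfsg.Agent.Lib.Helper43.QuadF2Minus

set_option autoImplicit false

namespace Cfsg.Agent.Lib.Helper43

/-- every shift of the plus-type form by a non-singular vector is of minus type -/
theorem plusShift_minus_type (k : ℕ) (w : Fin (k + 1) ⊕ Fin (k + 1) → ZMod 2)
    (hw : Cfsg.quadFormPlus (k + 1) (ZMod 2) w = 1) :
    ∃ g : (Fin (k + 1) ⊕ Fin (k + 1) → ZMod 2) ≃ₗ[ZMod 2] ((Fin k ⊕ Fin k) ⊕ Fin 2 → ZMod 2),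
      ∀ v, plusShift (k + 1) w v = Cfsg.quadFormMinus k (ZMod 2) 1 1 (g v) := by
  set t := w + w0 k with ht
  have hqt : plusShift (k + 1) w t = 0 := by
    unfold plusShift
    rw [ht, quadFormPlus_polar, hw, quadFormPlus_w0, polarPlus_add_left, polarPlus_self,
      polarPlus_comm (k + 1) (w0 k) w]
    generalize polarPlus (k + 1) w (w0 k) = a
    revert a; decide
  obtain ⟨g, hg⟩ := exists_transvection (polarPlus (k + 1)) (plusShift (k + 1) w)
    (plusShift_polar (k + 1) w) (polarPlus_add_left (k + 1)) t (polarPlus_self (k + 1) t) hqt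
  have hg' : ∀ v, plusShift (k + 1) (w0 k) v = plusShift (k + 1) w (g v) := by
    intro v
    rw [← hg v]
    unfold plusShift
    rw [ht, polarPlus_add_right]
    have : Cfsg.quadFormPlus (k + 1) (ZMod 2) v + polarPlus (k + 1) v w
        + (polarPlus (k + 1) v w + polarPlus (k + 1) v (w0 k))
        = Cfsg.quadFormPlus (k + 1) (ZMod 2) v + polarPlus (k + 1) v (w0 k)
          + (polarPlus (k + 1) v w + polarPlus (k + 1) v w) := by ring
    rw [this, zmod2_add_self, add_zero]
  refine ⟨g.symm.trans (minusCoord k), fun v => ?_⟩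
  rw [LinearEquiv.trans_apply, ← plusShift_w0, hg', LinearEquiv.apply_symm_apply]

theorem zeroCount_minus (k : ℕ) :
    zeroCount (Cfsg.quadFormMinus k (ZMod 2) 1 1)
      = 2 ^ (2 * (k + 1)) - zeroCount (Cfsg.quadFormPlus (k + 1) (ZMod 2)) := by
  rw [← zeroCount_plusShift_of_nonsingular (k + 1) (w0 k) (quadFormPlus_w0 k)]
  exact (zeroCount_eq_of_equiv _ _ (minusCoord k) (plusShift_w0 k)).symm

/-- a shift of the plus-type form by a singular vector is not of minus type -/
theorem plusShift_not_minus_type (k : ℕ) (w : Fin (k + 1) ⊕ Fin (k + 1) → ZMod 2)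
    (hw : Cfsg.quadFormPlus (k + 1) (ZMod 2) w = 0) :
    ¬ ∃ g : (Fin (k + 1) ⊕ Fin (k + 1) → ZMod 2) ≃ₗ[ZMod 2] ((Fin k ⊕ Fin k) ⊕ Fin 2 → ZMod 2),
      ∀ v, plusShift (k + 1) w v = Cfsg.quadFormMinus k (ZMod 2) 1 1 (g v) := by
  rintro ⟨g, hg⟩
  have h1 := zeroCount_eq_of_equiv _ _ g hg
  rw [zeroCount_minus, zeroCount_plusShift_of_singular (k + 1) w hw] at h1
  have h3 := zeroCount_plus_ne (k + 1)
  have h4 := zeroCount_plus_le (k + 1)
  omega

/-- the character sum of the shifted form is negative -/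
theorem charSum_plusShift_w0 (k : ℕ) : charSum (plusShift (k + 1) (w0 k)) = -(2 : ℤ) ^ (k + 1) := by
  have h1 := charSum_eq (plusShift (k + 1) (w0 k))
  have h2 := charSum_eq (Cfsg.quadFormPlus (k + 1) (ZMod 2))
  rw [charSum_quadFormPlus] at h2
  rw [zeroCount_plusShift_of_nonsingular (k + 1) (w0 k) (quadFormPlus_w0 k), card_space] at h1
  rw [card_space] at h2
  have h4 := zeroCount_plus_le (k + 1)
  rw [h1]
  push_cast [Nat.cast_sub h4] at h2 ⊢
  linarith

/-- Witt index of the plus-type form: totally singular subspaces have dimension at most `m` -/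
theorem finrank_le_of_totally_singular_plus (m : ℕ)
    (U : Submodule (ZMod 2) (Fin m ⊕ Fin m → ZMod 2))
    (hU : ∀ u ∈ U, Cfsg.quadFormPlus m (ZMod 2) u = 0) : Module.finrank (ZMod 2) U ≤ m := by
  classical
  have h1 := card_sq_le_of_totally_singular (polarPlus m) (Cfsg.quadFormPlus m (ZMod 2))
    (quadFormPlus_polar m) (polarPlus_add_left m) (polarPlus_nondeg m) U hU
  rw [card_filter_mem_submodule, card_space, ← pow_mul] at h1
  have h2 := (Nat.pow_le_pow_iff_right (by norm_num : 1 < 2)).mp h1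
  omega

/-- Witt index of the minus-type form: totally singular subspaces have dimension at most `m - 1` -/
theorem finrank_le_of_totally_singular_minus (k : ℕ)
    (U : Submodule (ZMod 2) ((Fin k ⊕ Fin k) ⊕ Fin 2 → ZMod 2))
    (hU : ∀ u ∈ U, Cfsg.quadFormMinus k (ZMod 2) 1 1 u = 0) : Module.finrank (ZMod 2) U ≤ k := by
  classical
  set U' : Submodule (ZMod 2) (Fin (k + 1) ⊕ Fin (k + 1) → ZMod 2) :=
    U.map ((minusCoord k).symm : _ →ₗ[ZMod 2] _) with hU'
  have hfin : Module.finrank (ZMod 2) U' = Module.finrank (ZMod 2) U :=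
    LinearEquiv.finrank_map_eq (minusCoord k).symm U
  have hsing : ∀ u ∈ U', plusShift (k + 1) (w0 k) u = 0 := by
    rintro _ ⟨x, hx, rfl⟩
    rw [plusShift_w0]
    simp only [LinearEquiv.coe_coe, LinearEquiv.apply_symm_apply]
    exact hU x hx
  have h1 := card_sq_le_of_totally_singular (polarPlus (k + 1)) (plusShift (k + 1) (w0 k))
    (plusShift_polar (k + 1) (w0 k)) (polarPlus_add_left (k + 1)) (polarPlus_nondeg (k + 1)) U' hsing
  rw [card_filter_mem_submodule, card_space, ← pow_mul] at h1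
  have h2 := (Nat.pow_le_pow_iff_right (by norm_num : 1 < 2)).mp h1
  rw [← hfin]
  by_contra hcon
  have hd : Module.finrank (ZMod 2) U' = k + 1 := by omega
  have h3 := charSum_eq_of_totally_singular (polarPlus (k + 1)) (plusShift (k + 1) (w0 k))
    (plusShift_polar (k + 1) (w0 k)) (polarPlus_add_left (k + 1)) (polarPlus_nondeg (k + 1)) U' hsing
    (by rw [card_filter_mem_submodule, card_space, hd, ← pow_mul]; congr 1; ring)
  rw [charSum_plusShift_w0, card_filter_mem_submodule, hd] at h3
  have h5 : (0 : ℤ) < 2 ^ (k + 1) := by positivity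
  push_cast at h3
  linarith

end Cfsg.Agent.Lib.Helper43
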