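import Mathlib
import Cfsg.Agent.Lib.Helper5.QuadCount

set_option autoImplicit false

/-!
# Counting the singular vectors of a quadratic form with a self-orthogonal totally singular subspace
-/

namespace Cfsg.Agent.Lib.Helper43

open Module

variable {F V : Type*} [Field F] [Fintype F] [AddCommGroup V] [Module F V]

/-- If `U` is a totally singular subspace which contains its own orthogonal (for the polar form), then
the number `Z` of singular vectors satisfies `Z |U| q + |U|² = |U|² q + |V| |U|`. -/
theorem card_zeros_of_self_orthogonal_singular [Finite V] (Q : QuadraticForm F V) (U : Submodule F V)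
    (hU : ∀ u ∈ U, Q u = 0)
    (hperp : ∀ v, (∀ u ∈ U, QuadraticMap.polar (⇑Q) v u = 0) → v ∈ U) :
    Nat.card {v : V // Q v = 0} * Nat.card U * Fintype.card F + Nat.card U * Nat.card U =
      Nat.card U * Nat.card U * Fintype.card F + Nat.card V * Nat.card U := by
  classical
  have : Fintype V := Fintype.ofFinite V
  -- the set of pairs
  let P := {p : V × U // Q (p.1 + (p.2 : V)) = 0}
  have h1 : Nat.card P = Nat.card {v : V // Q v = 0} * Nat.card U := by
    let e : P ≃ {v : V // Q v = 0} × U :=
      { toFun := fun p => (⟨p.1.1 + (p.1.2 : V), p.2⟩, p.1.2)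
        invFun := fun z => ⟨(z.1.1 - (z.2 : V), z.2), by
          show Q (z.1.1 - (z.2 : V) + (z.2 : V)) = 0
          rw [sub_add_cancel]; exact z.1.2⟩
        left_inv := fun p => by
          apply Subtype.ext
          apply Prod.ext
          · show p.1.1 + (p.1.2 : V) - (p.1.2 : V) = p.1.1
            rw [add_sub_cancel_right]
          · rfl
        right_inv := fun z => by
          apply Prod.ext
          · apply Subtype.ext
            show z.1.1 - (z.2 : V) + (z.2 : V) = z.1.1
            rw [sub_add_cancel]
          · rfl }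
    rw [Nat.card_congr e, Nat.card_prod]
  have h2 : Nat.card P = ∑ v : V, Nat.card {u : U // Q (v + (u : V)) = 0} := by
    let e : P ≃ Σ v : V, {u : U // Q (v + (u : V)) = 0} :=
      { toFun := fun p => ⟨p.1.1, ⟨p.1.2, p.2⟩⟩
        invFun := fun s => ⟨(s.1, s.2.1), s.2.2⟩
        left_inv := fun p => rfl
        right_inv := fun s => rfl }
    rw [Nat.card_congr e, Nat.card_sigma]
  have h3 : ∀ v : V, Nat.card {u : U // Q (v + (u : V)) = 0} * Fintype.card F =
      if v ∈ U then Nat.card U * Fintype.card F else Nat.card U := by
    intro v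
    by_cases hv : v ∈ U
    · rw [if_pos hv]
      congr 1
      have : ∀ u : U, Q (v + (u : V)) = 0 := fun u => hU _ (U.add_mem hv u.2)
      exact Nat.card_congr (Equiv.subtypeUnivEquiv this)
    · rw [if_neg hv]
      have hex : ∃ u0 ∈ U, QuadraticMap.polar (⇑Q) v u0 ≠ 0 := by
        by_contra hcon
        push Not at hcon
        exact hv (hperp v hcon)
      obtain ⟨u0, hu0, hne⟩ := hex
      let φ : U →+ F :=
        { toFun := fun u => QuadraticMap.polar (⇑Q) v (u : V)
          map_zero' := by
            show QuadraticMap.polar (⇑Q) v ((0 : U) : V) = 0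
            rw [Submodule.coe_zero, QuadraticMap.polar_zero_right]
          map_add' := fun x y => by
            show QuadraticMap.polar (⇑Q) v ((x + y : U) : V) = _
            rw [Submodule.coe_add, QuadraticMap.polar_add_right] }
      have hφ : Function.Surjective φ := by
        intro c
        refine ⟨(c / QuadraticMap.polar (⇑Q) v u0) • (⟨u0, hu0⟩ : U), ?_⟩
        show QuadraticMap.polar (⇑Q) v (((c / QuadraticMap.polar (⇑Q) v u0) • (⟨u0, hu0⟩ : U) : U) : V) = c
        rw [Submodule.coe_smul, QuadraticMap.polar_smul_right, smul_eq_mul]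
        show c / QuadraticMap.polar (⇑Q) v u0 * QuadraticMap.polar (⇑Q) v u0 = c
        field_simp
      have hcard := Cfsg.Agent.Lib.Helper5.card_fiber_mul_card φ hφ (- Q v)
      rw [Nat.card_eq_fintype_card (α := F)] at hcard
      rw [← hcard]
      congr 1
      apply Nat.card_congr
      apply Equiv.subtypeEquivRight
      intro u
      show Q (v + (u : V)) = 0 ↔ QuadraticMap.polar (⇑Q) v (u : V) = - Q v
      rw [QuadraticMap.map_add Q v (u : V), hU _ u.2, add_zero]
      constructor
      · intro h; exact eq_neg_of_add_eq_zero_right h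
      · intro h; rw [h, add_neg_cancel]
  have h4 : Nat.card {v : V // Q v = 0} * Nat.card U * Fintype.card F =
      ∑ v : V, (if v ∈ U then Nat.card U * Fintype.card F else Nat.card U) := by
    rw [← h1, h2, Finset.sum_mul]
    exact Finset.sum_congr rfl (fun v _ => h3 v)
  rw [h4, Finset.sum_ite, Finset.sum_const, Finset.sum_const, smul_eq_mul, smul_eq_mul]
  have h5 : (Finset.univ.filter (fun v : V => v ∈ U)).card = Nat.card U := by
    rw [Nat.card_eq_fintype_card, Fintype.card_subtype]
  have h6 : (Finset.univ.filter (fun v : V => v ∈ U)).card +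
      (Finset.univ.filter (fun v : V => ¬ v ∈ U)).card = Nat.card V := by
    rw [Finset.card_filter_add_card_filter_not, Finset.card_univ, Nat.card_eq_fintype_card]
  rw [h5]
  rw [h5] at h6
  rw [← h6]
  ring

end Cfsg.Agent.Lib.Helper43
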