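/-
helper43: the half-weight quadratic form on the symplectic space of S0826 (even-weight vectors of
`F_2^(2m+2)` modulo the all-ones vector, in the coordinates of helper14's symplectic basis) and its
invariance under the symmetric group.
-/
import Cfsg.Agent.S0826
import Cfsg.Agent.Lib.Helper43.HalfWeight
import Cfsg.Agent.Lib.Helper43.QuadF2Types

set_option autoImplicit false

namespace Cfsg.Agent.Lib.Helper43

open Matrix Cfsg.Agent.S0826 Cfsg.Agent.Lib.Helper5

variable {m : ℕ}

/-- the half-weight form in the coordinates of the symplectic basis -/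
def halfForm (m : ℕ) (t : I m → ZMod 2) : ZMod 2 := halfWt (comb t)

theorem comb_add (t t' : I m → ZMod 2) : comb (t + t') = comb t + comb t' := by
  funext x
  simp only [comb, Pi.add_apply, add_mul, Finset.sum_add_distrib]

theorem sympForm_eq_polarPlus (t t' : I m → ZMod 2) :
    sympForm (Fin m) (ZMod 2) t t' = polarPlus m t t' := by
  rw [sympForm_eq_sum, polarPlus_eq]
  apply Finset.sum_congr rfl
  intro i _
  have : ∀ a b c d : ZMod 2, a * b - c * d = c * d + b * a := by decide
  exact this _ _ _ _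

theorem halfForm_polar (t t' : I m → ZMod 2) :
    halfForm m (t + t') = halfForm m t + halfForm m t' + polarPlus m t t' := by
  unfold halfForm
  rw [comb_add, halfWt_add (sum_comb t) (sum_comb t'), comb_dot_comb, sympForm_eq_polarPlus]

theorem card_X (m : ℕ) : Fintype.card (X m) = 2 * m + 2 := by
  simp only [Fintype.card_sum, Fintype.card_fin]
  ring

/-- invariance under the symmetric group (when `4 ∣ 2m + 2`) -/
theorem halfForm_M_mulVec (hm : 4 ∣ 2 * m + 2) (σ : Equiv.Perm (X m)) (t : I m → ZMod 2) :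
    halfForm m (M σ *ᵥ t) = halfForm m t := by
  unfold halfForm
  rw [M_mulVec]
  have hsum : ∑ x, act σ (comb t) x = 0 := by rw [sum_act, sum_comb]
  obtain ⟨ε, hε⟩ := expansion (act σ (comb t)) hsum
  have h1 : comb (coords (act σ (comb t))) = fun x => act σ (comb t) x + ε := by
    funext x
    rw [hε x, add_assoc, add_self2, add_zero]
  rw [h1]
  have h2 : halfWt (fun x => act σ (comb t) x + ε) = halfWt (act σ (comb t)) := by
    have hε' : ε = 0 ∨ ε = 1 := (by decide : ∀ z : ZMod 2, z = 0 ∨ z = 1) ε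
    rcases hε' with rfl | rfl
    · simp only [add_zero]
    · exact halfWt_add_one hsum (by rw [card_X]; exact hm)
  rw [h2]
  exact halfWt_comp_equiv σ.symm (comb t)

/-! ### The type of the half-weight form -/

theorem comb_single (c : I m) : comb (Pi.single c 1) = b m c := by
  classical
  funext x
  simp only [comb, Pi.single_apply, ite_mul, one_mul, zero_mul, Finset.sum_ite_eq',
    Finset.mem_univ, if_true]

theorem wt_sumX (f : X m → ZMod 2) :
    wt f = ∑ j, (f (Sum.inl (Sum.inl j))).val + ∑ j, (f (Sum.inl (Sum.inr j))).val +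
      (f (Sum.inr 0)).val + (f (Sum.inr 1)).val := by
  unfold wt
  simp only [Fintype.sum_sum_type, Fin.sum_univ_two]
  ring

theorem val_ite (P : Prop) [Decidable P] : ((if P then (1 : ZMod 2) else 0)).val = if P then 1 else 0 := by
  split_ifs <;> rfl

theorem wt_p (i : Fin m) : wt (p m i) = 2 := by
  classical
  rw [wt_sumX]
  simp only [p, val_ite, Finset.sum_ite_eq', Finset.mem_univ, if_true]
  rfl

theorem wt_q (i : Fin m) : wt (q m i) = 2 * (i : ℕ) + 2 := by
  classical
  rw [wt_sumX]
  simp only [q, val_ite, Finset.sum_boole]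
  have h1 : (Finset.univ.filter (fun j : Fin m => j < i)).card = (i : ℕ) := by
    have : Finset.univ.filter (fun j : Fin m => j < i) = Finset.Iio i := by
      ext j; simp
    rw [this, Fin.card_Iio]
  have h2 : (Finset.univ.filter (fun j : Fin m => j ≤ i)).card = (i : ℕ) + 1 := by
    have : Finset.univ.filter (fun j : Fin m => j ≤ i) = Finset.Iic i := by
      ext j; simp
    rw [this, Fin.card_Iic]
  simp only [h1, h2]
  simp
  ring

theorem halfWt_p (i : Fin m) : halfWt (p m i) = 1 := by
  unfold halfWt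
  rw [wt_p]
  rfl

theorem halfWt_q (i : Fin m) : halfWt (q m i) = (((i : ℕ) + 1 : ℕ) : ZMod 2) := by
  unfold halfWt
  rw [wt_q]
  congr 1
  omega

theorem quadFormPlus_single (c : I m) : Cfsg.quadFormPlus m (ZMod 2) (Pi.single c 1) = 0 := by
  classical
  unfold Cfsg.quadFormPlus
  apply Finset.sum_eq_zero
  intro i _
  cases c with
  | inl j => simp
  | inr j => simp

theorem polarPlus_single (c : I m) (w : I m → ZMod 2) :
    polarPlus m (Pi.single c 1) w = w (Sum.swap c) := by
  classical
  rw [polarPlus_eq]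
  cases c with
  | inl j => simp [Pi.single_apply]
  | inr j => simp [Pi.single_apply]

/-- the shift vector of the half-weight form -/
theorem exists_shift_halfForm (m : ℕ) : ∃ w : I m → ZMod 2, plusShift m w = halfForm m ∧
    (∀ i, w (Sum.inl i) = (((i : ℕ) + 1 : ℕ) : ZMod 2)) ∧ ∀ i, w (Sum.inr i) = 1 := by
  obtain ⟨w, hw⟩ := exists_plusShift_eq m (halfForm m) halfForm_polar
  have key : ∀ c, w (Sum.swap c) = halfWt (b m c) := by
    intro c
    have h1 := congrFun hw (Pi.single c 1)
    unfold plusShift at h1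
    rw [quadFormPlus_single, zero_add, polarPlus_single] at h1
    rw [h1]
    unfold halfForm
    rw [comb_single]
  refine ⟨w, hw, fun i => ?_, fun i => ?_⟩
  · have := key (Sum.inr i)
    simp only [Sum.swap_inr, b] at this
    rw [this, halfWt_q]
  · have := key (Sum.inl i)
    simp only [Sum.swap_inl, b] at this
    rw [this, halfWt_p]

theorem sum_succ_cast (k : ℕ) :
    ∑ i : Fin (2 * k + 1), (((i : ℕ) + 1 : ℕ) : ZMod 2) = ((k + 1 : ℕ) : ZMod 2) := by
  rw [Fin.sum_univ_eq_sum_range (fun i => (((i + 1 : ℕ)) : ZMod 2)) (2 * k + 1)]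
  induction k with
  | zero => simp
  | succ k ih =>
    have h1 : 2 * (k + 1) + 1 = (2 * k + 1) + 1 + 1 := by ring
    rw [h1, Finset.sum_range_succ, Finset.sum_range_succ, ih]
    push_cast
    have h2 : (2 : ZMod 2) = 0 := by decide
    linear_combination (2 * (k : ZMod 2) + 2) * h2

/-- the value of the plus form on the shift vector -/
theorem quadFormPlus_shift (k : ℕ) (w : I (2 * k + 1) → ZMod 2)
    (h1 : ∀ i, w (Sum.inl i) = (((i : ℕ) + 1 : ℕ) : ZMod 2)) (h2 : ∀ i, w (Sum.inr i) = 1) :
    Cfsg.quadFormPlus (2 * k + 1) (ZMod 2) w = ((k + 1 : ℕ) : ZMod 2) := by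
  unfold Cfsg.quadFormPlus
  simp only [h1, h2, mul_one]
  exact sum_succ_cast k

/-! ### Transporting a matrix representation into an isometry group -/

/-- a faithful matrix representation preserving `Q`, transported along a linear equivalence carrying
`Q` to `Q'`, gives an embedding into the isometry group of `Q'` -/
theorem exists_hom_isometryGroup {G : Type*} [Group G] {ι ι' : Type} [Fintype ι] [DecidableEq ι]
    [Fintype ι'] [DecidableEq ι'] {F : Type*} [Field F]
    (ρ : G →* Matrix ι ι F) (hinj : Function.Injective ρ)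
    (Q : (ι → F) → F) (hρ : ∀ σ v, Q (ρ σ *ᵥ v) = Q v)
    (Q' : (ι' → F) → F) (g : (ι → F) ≃ₗ[F] (ι' → F)) (hg : ∀ v, Q v = Q' (g v)) :
    ∃ φ : G →* ↥(Cfsg.isometryGroup F Q'), Function.Injective φ := by
  let Θ : Matrix ι ι F ≃+* Matrix ι' ι' F :=
    ((Matrix.toLinAlgEquiv' (R := F) (n := ι)).toRingEquiv.trans g.conjRingEquiv).trans
      (Matrix.toLinAlgEquiv' (R := F) (n := ι')).toRingEquiv.symm
  have hΘ : ∀ (A : Matrix ι ι F) (v' : ι' → F), Θ A *ᵥ v' = g (A *ᵥ g.symm v') := by
    intro A v'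
    have h1 : Matrix.toLinAlgEquiv' (R := F) (n := ι') (Θ A) =
        g.conjRingEquiv (Matrix.toLinAlgEquiv' (R := F) (n := ι) A) := by
      simp only [Θ, RingEquiv.trans_apply]
      exact (Matrix.toLinAlgEquiv' (R := F) (n := ι')).apply_symm_apply _
    have h2 := congrArg (fun f : Module.End F (ι' → F) => f v') h1
    simp only [Matrix.toLinAlgEquiv'_apply, LinearEquiv.conjRingEquiv_apply_apply] at h2
    exact h2
  let ψ : G →* Matrix ι' ι' F := Θ.toMonoidHom.comp ρ
  have hψ : ∀ σ, ψ σ = Θ (ρ σ) := fun σ => rfl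
  have hmem : ∀ σ, ψ.toHomUnits σ ∈ Cfsg.isometryGroup F Q' := by
    intro σ u v
    show Q' ((ψ.toHomUnits σ : Matrix ι' ι' F) *ᵥ u) = Q' u
    rw [MonoidHom.coe_toHomUnits, hψ, hΘ, ← hg, hρ, hg, LinearEquiv.apply_symm_apply]
  refine ⟨ψ.toHomUnits.codRestrict _ hmem, ?_⟩
  intro σ τ h
  apply hinj
  apply Θ.injective
  have h1 := congrArg (fun x : ↥(Cfsg.isometryGroup F Q') => ((x : GL ι' F) : Matrix ι' ι' F)) h
  exact h1

/-- for `k` odd the half-weight form on `F_2^(4k+2)` is of plus type -/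
theorem halfForm_plus_type (k : ℕ) (hk : Odd k) :
    ∃ g : (I (2 * k + 1) → ZMod 2) ≃ₗ[ZMod 2] (I (2 * k + 1) → ZMod 2),
      ∀ v, halfForm (2 * k + 1) v = Cfsg.quadFormPlus (2 * k + 1) (ZMod 2) (g v) := by
  obtain ⟨w, hw, h1, h2⟩ := exists_shift_halfForm (2 * k + 1)
  have hQ : Cfsg.quadFormPlus (2 * k + 1) (ZMod 2) w = 0 := by
    rw [quadFormPlus_shift k w h1 h2]
    have : Even (k + 1) := hk.add_one
    exact (ZMod.natCast_eq_zero_iff_even).mpr this
  obtain ⟨g, hg⟩ := plusShift_plus_type (2 * k + 1) w hQ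
  exact ⟨g, fun v => by rw [← hw]; exact hg v⟩

/-- for `k` even the half-weight form on `F_2^(4k+2)` is of minus type -/
theorem halfForm_minus_type (k : ℕ) (hk : Even k) :
    ∃ g : (I (2 * k + 1) → ZMod 2) ≃ₗ[ZMod 2] ((Fin (2 * k) ⊕ Fin (2 * k)) ⊕ Fin 2 → ZMod 2),
      ∀ v, halfForm (2 * k + 1) v = Cfsg.quadFormMinus (2 * k) (ZMod 2) 1 1 (g v) := by
  obtain ⟨w, hw, h1, h2⟩ := exists_shift_halfForm (2 * k + 1)
  have hQ : Cfsg.quadFormPlus (2 * k + 1) (ZMod 2) w = 1 := by
    rw [quadFormPlus_shift k w h1 h2]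
    have : Odd (k + 1) := hk.add_one
    exact (ZMod.natCast_eq_one_iff_odd).mpr this
  obtain ⟨g, hg⟩ := plusShift_minus_type (2 * k) w hQ
  exact ⟨g, fun v => by rw [← hw]; exact hg v⟩

end Cfsg.Agent.Lib.Helper43
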